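import Mathlib

set_option autoImplicit false
universe u v w

noncomputable section

namespace Groth.Agent.H3.PolyLawRestrict

open scoped TensorProduct
open LinearMap TensorProduct AlgHom MvPolynomial

variable {A : Type u} [CommRing A] {M : Type v} [AddCommGroup M] [Module A M]
  {N : Type w} [AddCommGroup N] [Module A N]
  {T : ∀ n : ℕ, MvPolynomial (Fin n) A ⊗[A] M → MvPolynomial (Fin n) A ⊗[A] N}

theorem compat_apply
    (hT : ∀ (n m : ℕ) (φ : MvPolynomial (Fin n) A →ₐ[A] MvPolynomial (Fin m) A),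
      φ.toLinearMap.rTensor N ∘ T n = T m ∘ φ.toLinearMap.rTensor M)
    {n m : ℕ} (φ : MvPolynomial (Fin n) A →ₐ[A] MvPolynomial (Fin m) A)
    (p : MvPolynomial (Fin n) A ⊗[A] M) :
    φ.toLinearMap.rTensor N (T n p) = T m (φ.toLinearMap.rTensor M p) :=
  congr_fun (hT n m φ) p

theorem roby_one
    (hT : ∀ (n m : ℕ) (φ : MvPolynomial (Fin n) A →ₐ[A] MvPolynomial (Fin m) A),
      φ.toLinearMap.rTensor N ∘ T n = T m ∘ φ.toLinearMap.rTensor M)
    {S : Type*} [CommSemiring S] [Algebra A S] {m : ℕ}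
    (ψ : MvPolynomial (Fin m) A →ₐ[A] S) (q : MvPolynomial (Fin m) A ⊗[A] M)
    (k : MvPolynomial (Fin m) A) (hk : ψ k = 0) (m₀ : M) :
    ψ.toLinearMap.rTensor N (T m (q + k ⊗ₜ m₀)) = ψ.toLinearMap.rTensor N (T m q) := by
  let ι : MvPolynomial (Fin m) A →ₐ[A] MvPolynomial (Fin (m + 1)) A := rename Fin.castSucc
  let α : MvPolynomial (Fin (m + 1)) A →ₐ[A] MvPolynomial (Fin m) A :=
    aeval (Fin.snoc X k : Fin (m + 1) → MvPolynomial (Fin m) A)
  let β : MvPolynomial (Fin (m + 1)) A →ₐ[A] MvPolynomial (Fin m) A :=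
    aeval (Fin.snoc X 0 : Fin (m + 1) → MvPolynomial (Fin m) A)
  have hαι : α.comp ι = AlgHom.id A _ := by
    apply MvPolynomial.algHom_ext; intro i
    simp [ι, α]
  have hβι : β.comp ι = AlgHom.id A _ := by
    apply MvPolynomial.algHom_ext; intro i
    simp [ι, β]
  have hαy : α (X (Fin.last m)) = k := by simp [α]
  have hβy : β (X (Fin.last m)) = 0 := by simp [β]
  have hψ : ψ.comp α = ψ.comp β := by
    apply MvPolynomial.algHom_ext; intro i
    refine Fin.lastCases ?_ (fun j => ?_) i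
    · simp [α, β, hk]
    · simp [α, β]
  have hαw : α.toLinearMap.rTensor M (ι.toLinearMap.rTensor M q + X (Fin.last m) ⊗ₜ m₀) =
      q + k ⊗ₜ m₀ := by
    rw [map_add, ← LinearMap.comp_apply, ← LinearMap.rTensor_comp, ← AlgHom.comp_toLinearMap, hαι,
      LinearMap.rTensor_tmul, AlgHom.toLinearMap_apply, hαy]
    simp
  have hβw : β.toLinearMap.rTensor M (ι.toLinearMap.rTensor M q + X (Fin.last m) ⊗ₜ m₀) = q := by
    rw [map_add, ← LinearMap.comp_apply, ← LinearMap.rTensor_comp, ← AlgHom.comp_toLinearMap, hβι,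
      LinearMap.rTensor_tmul, AlgHom.toLinearMap_apply, hβy]
    simp
  calc ψ.toLinearMap.rTensor N (T m (q + k ⊗ₜ m₀))
      = ψ.toLinearMap.rTensor N (T m (α.toLinearMap.rTensor M
          (ι.toLinearMap.rTensor M q + X (Fin.last m) ⊗ₜ m₀))) := by rw [hαw]
    _ = ψ.toLinearMap.rTensor N (α.toLinearMap.rTensor N (T (m + 1)
          (ι.toLinearMap.rTensor M q + X (Fin.last m) ⊗ₜ m₀))) := by rw [compat_apply hT]
    _ = (ψ.comp α).toLinearMap.rTensor N (T (m + 1)
          (ι.toLinearMap.rTensor M q + X (Fin.last m) ⊗ₜ m₀)) := by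
        rw [AlgHom.comp_toLinearMap, LinearMap.rTensor_comp, LinearMap.comp_apply]
    _ = (ψ.comp β).toLinearMap.rTensor N (T (m + 1)
          (ι.toLinearMap.rTensor M q + X (Fin.last m) ⊗ₜ m₀)) := by rw [hψ]
    _ = ψ.toLinearMap.rTensor N (β.toLinearMap.rTensor N (T (m + 1)
          (ι.toLinearMap.rTensor M q + X (Fin.last m) ⊗ₜ m₀))) := by
        rw [AlgHom.comp_toLinearMap, LinearMap.rTensor_comp, LinearMap.comp_apply]
    _ = ψ.toLinearMap.rTensor N (T m (β.toLinearMap.rTensor M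
          (ι.toLinearMap.rTensor M q + X (Fin.last m) ⊗ₜ m₀))) := by rw [compat_apply hT]
    _ = ψ.toLinearMap.rTensor N (T m q) := by rw [hβw]

theorem roby
    (hT : ∀ (n m : ℕ) (φ : MvPolynomial (Fin n) A →ₐ[A] MvPolynomial (Fin m) A),
      φ.toLinearMap.rTensor N ∘ T n = T m ∘ φ.toLinearMap.rTensor M)
    {S : Type*} [CommSemiring S] [Algebra A S] {m : ℕ}
    (ψ : MvPolynomial (Fin m) A →ₐ[A] S) (K : Submodule A (MvPolynomial (Fin m) A))
    (hK : ∀ k ∈ K, ψ k = 0) (z : K ⊗[A] M) :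
    ∀ q, ψ.toLinearMap.rTensor N (T m (q + K.subtype.rTensor M z)) =
      ψ.toLinearMap.rTensor N (T m q) := by
  induction z using TensorProduct.induction_on with
  | zero => intro q; rw [map_zero, add_zero]
  | tmul k m₀ =>
    intro q
    rw [LinearMap.rTensor_tmul]
    exact roby_one hT ψ q k (hK k k.2) m₀
  | add z₁ z₂ h₁ h₂ =>
    intro q
    rw [map_add, ← add_assoc, h₂, h₁]

theorem inc
    (hT : ∀ (n m : ℕ) (φ : MvPolynomial (Fin n) A →ₐ[A] MvPolynomial (Fin m) A),
      φ.toLinearMap.rTensor N ∘ T n = T m ∘ φ.toLinearMap.rTensor M)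
    {S : Type*} [CommSemiring S] [Algebra A S] {n m : ℕ}
    (φ : MvPolynomial (Fin n) A →ₐ[A] S) (ψ : MvPolynomial (Fin m) A →ₐ[A] S)
    (h : φ.range ≤ ψ.range) (p : MvPolynomial (Fin n) A ⊗[A] M)
    (q : MvPolynomial (Fin m) A ⊗[A] M)
    (hpq : ((Subalgebra.inclusion h).comp φ.rangeRestrict).toLinearMap.rTensor M p =
      ψ.rangeRestrict.toLinearMap.rTensor M q) :
    φ.toLinearMap.rTensor N (T n p) = ψ.toLinearMap.rTensor N (T m q) := by
  classical
  have hg : ∀ i : Fin n, ∃ g : MvPolynomial (Fin m) A, ψ g = φ (X i) :=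
    fun i => (AlgHom.mem_range ψ).mp (h (AlgHom.mem_range_self φ (X i)))
  choose g hg using hg
  let γ : MvPolynomial (Fin n) A →ₐ[A] MvPolynomial (Fin m) A := aeval g
  have hψγ : ψ.comp γ = φ := by
    apply MvPolynomial.algHom_ext; intro i
    simp [γ, hg]
  have h1 : φ.toLinearMap.rTensor N (T n p) =
      ψ.toLinearMap.rTensor N (T m (γ.toLinearMap.rTensor M p)) := by
    rw [← compat_apply hT, ← LinearMap.comp_apply, ← LinearMap.rTensor_comp,
      ← AlgHom.comp_toLinearMap, hψγ]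
  rw [h1]
  letI : AddCommGroup ψ.range := Module.addCommMonoidToAddCommGroup A
  let G : MvPolynomial (Fin m) A →ₗ[A] ψ.range := ψ.rangeRestrict.toLinearMap
  have hGs : Function.Surjective G := ψ.rangeRestrict_surjective
  have hex : Function.Exact (LinearMap.ker G).subtype G := LinearMap.exact_subtype_ker_map G
  have hex' := rTensor_exact M hex hGs
  have hG : G ∘ₗ γ.toLinearMap =
      ((Subalgebra.inclusion h).comp φ.rangeRestrict).toLinearMap := by
    apply LinearMap.ext; intro x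
    apply Subtype.ext
    show ψ (γ x) = φ x
    rw [← hψγ]; rfl
  have h2 : G.rTensor M (γ.toLinearMap.rTensor M p - q) = 0 := by
    rw [map_sub, sub_eq_zero, ← LinearMap.comp_apply, ← LinearMap.rTensor_comp, hG]
    exact hpq
  obtain ⟨z, hz⟩ := (hex' _).mp h2
  have h3 : γ.toLinearMap.rTensor M p = q + (LinearMap.ker G).subtype.rTensor M z := by
    rw [hz]; abel
  rw [h3]
  refine roby hT ψ (LinearMap.ker G) (fun k hk => ?_) z q
  exact congrArg Subtype.val (LinearMap.mem_ker.mp hk)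

theorem wd
    (hT : ∀ (n m : ℕ) (φ : MvPolynomial (Fin n) A →ₐ[A] MvPolynomial (Fin m) A),
      φ.toLinearMap.rTensor N ∘ T n = T m ∘ φ.toLinearMap.rTensor M)
    {S : Type*} [CommSemiring S] [Algebra A S] {n n' : ℕ}
    (ψ : MvPolynomial (Fin n) A →ₐ[A] S) (ψ' : MvPolynomial (Fin n') A →ₐ[A] S)
    (p : MvPolynomial (Fin n) A ⊗[A] M) (p' : MvPolynomial (Fin n') A ⊗[A] M)
    (h : ψ.toLinearMap.rTensor M p = ψ'.toLinearMap.rTensor M p') :
    ψ.toLinearMap.rTensor N (T n p) = ψ'.toLinearMap.rTensor N (T n' p') := by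
  have uFG : Subalgebra.FG (R := A) ψ.range := by
    rw [← Algebra.map_top]
    exact Subalgebra.FG.map _ Algebra.FiniteType.out
  have u'FG : Subalgebra.FG (R := A) ψ'.range := by
    rw [← Algebra.map_top]
    exact Subalgebra.FG.map _ Algebra.FiniteType.out
  have huu' : rTensor M (Subalgebra.val _).toLinearMap
        (rTensor M ψ.rangeRestrict.toLinearMap p) =
      rTensor M (Subalgebra.val _).toLinearMap (rTensor M ψ'.rangeRestrict.toLinearMap p') := by
    rw [← LinearMap.comp_apply, ← LinearMap.rTensor_comp, ← AlgHom.comp_toLinearMap,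
      AlgHom.val_comp_rangeRestrict, ← LinearMap.comp_apply, ← LinearMap.rTensor_comp,
      ← AlgHom.comp_toLinearMap, AlgHom.val_comp_rangeRestrict, h]
  obtain ⟨B, hAB, hA'B, ⟨t, hB⟩, hh⟩ :=
    TensorProduct.Algebra.eq_of_fg_of_subtype_eq' (R := A) uFG u'FG huu'
  rw [← PolynomialLaw.range_φ A t, eq_comm] at hB
  have hAB' : ψ.range ≤ (PolynomialLaw.φ A t).range := le_trans hAB (le_of_eq hB)
  have hA'B' : ψ'.range ≤ (PolynomialLaw.φ A t).range := le_trans hA'B (le_of_eq hB)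
  obtain ⟨q, hq⟩ : ∃ q : MvPolynomial (Fin t.card) A ⊗[A] M,
      rTensor M (AlgHom.toLinearMap (PolynomialLaw.φ A t).rangeRestrict) q =
      rTensor M ((Subalgebra.inclusion (le_of_eq hB)).comp
        (Subalgebra.inclusion hAB)).toLinearMap (rTensor M ψ.rangeRestrict.toLinearMap p) :=
    rTensor_surjective _ (AlgHom.rangeRestrict_surjective _) _
  have e1 : ((Subalgebra.inclusion hAB').comp ψ.rangeRestrict).toLinearMap.rTensor M p =
      (PolynomialLaw.φ A t).rangeRestrict.toLinearMap.rTensor M q := by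
    rw [hq, ← LinearMap.comp_apply, ← LinearMap.rTensor_comp, ← AlgHom.comp_toLinearMap]
    rfl
  have e2 : ((Subalgebra.inclusion hA'B').comp ψ'.rangeRestrict).toLinearMap.rTensor M p' =
      (PolynomialLaw.φ A t).rangeRestrict.toLinearMap.rTensor M q := by
    rw [hq, AlgHom.comp_toLinearMap (Subalgebra.inclusion hAB) (Subalgebra.inclusion (le_of_eq hB)),
      LinearMap.rTensor_comp,
      LinearMap.comp_apply, hh, ← LinearMap.comp_apply, ← LinearMap.rTensor_comp,
      ← AlgHom.comp_toLinearMap, ← LinearMap.comp_apply, ← LinearMap.rTensor_comp,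
      ← AlgHom.comp_toLinearMap]
    rfl
  rw [inc hT ψ _ hAB' p q e1, inc hT ψ' _ hA'B' p' q e2]

/-- The value of the law built from `T`. -/
def lawFun (T : ∀ n : ℕ, MvPolynomial (Fin n) A ⊗[A] M → MvPolynomial (Fin n) A ⊗[A] N)
    (S : Type u) [CommSemiring S] [Algebra A S] (t : S ⊗[A] M) : S ⊗[A] N :=
  ((PolynomialLaw.exists_lift (R := A) t).choose_spec.choose).toLinearMap.rTensor N
    (T (PolynomialLaw.exists_lift (R := A) t).choose
      (PolynomialLaw.exists_lift (R := A) t).choose_spec.choose_spec.choose)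

theorem lawFun_apply
    (hT : ∀ (n m : ℕ) (φ : MvPolynomial (Fin n) A →ₐ[A] MvPolynomial (Fin m) A),
      φ.toLinearMap.rTensor N ∘ T n = T m ∘ φ.toLinearMap.rTensor M)
    (S : Type u) [CommSemiring S] [Algebra A S] {n : ℕ}
    (ψ : MvPolynomial (Fin n) A →ₐ[A] S) (p : MvPolynomial (Fin n) A ⊗[A] M) :
    lawFun T S (ψ.toLinearMap.rTensor M p) = ψ.toLinearMap.rTensor N (T n p) :=
  wd hT _ ψ _ p
    (PolynomialLaw.exists_lift (R := A)
      (ψ.toLinearMap.rTensor M p)).choose_spec.choose_spec.choose_spec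

end Groth.Agent.H3.PolyLawRestrict
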