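import Mathlib

/-! Krull dimension of `MvPowerSeries (Fin d) k` over a field.
`mem_span_X` and `maximalIdeal_eq_span_X` are copied from the team's `Groth/Agent/S9443.lean`. -/

set_option autoImplicit false
set_option linter.style.haveILetI false
universe u

namespace Groth.Agent.H3.MvPSDim


open MvPowerSeries in
/-- power series with zero constant coefficient lie in the ideal generated by the variables -/
lemma mem_span_X {k : Type*} [CommRing k] {n : ℕ} (f : MvPowerSeries (Fin n) k)
    (hf : constantCoeff f = 0) :
    f ∈ Ideal.span (Set.range (X : Fin n → MvPowerSeries (Fin n) k)) := by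
  classical
  let F : Fin n → MvPowerSeries (Fin n) k := fun i d => if (∀ j, j < i → d j = 0) then
      coeff (d + Finsupp.single i 1) f else 0
  have key : f = ∑ i, X i * F i := by
    ext e
    rw [map_sum]
    by_cases he : e = 0
    · subst he
      rw [coeff_zero_eq_constantCoeff_apply, hf]
      symm
      refine Finset.sum_eq_zero fun i _ => ?_
      exact coeff_zero_X_mul _ _
    · have hne : e.support.Nonempty := Finsupp.support_nonempty_iff.mpr he
      obtain ⟨i₀, hi₀⟩ : ∃ i₀, i₀ = e.support.min' hne := ⟨_, rfl⟩
      have hi₀mem : e i₀ ≠ 0 := by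
        rw [hi₀]; exact Finsupp.mem_support_iff.mp (Finset.min'_mem _ hne)
      have hmin : ∀ j, e j ≠ 0 → i₀ ≤ j := by
        intro j hj
        rw [hi₀]; exact Finset.min'_le e.support j (Finsupp.mem_support_iff.mpr hj)
      have hlt : ∀ j, j < i₀ → e j = 0 := by
        intro j hj
        by_contra hc
        exact absurd hj (not_lt.mpr (hmin j hc))
      rw [Finset.sum_eq_single i₀]
      · have hle : Finsupp.single i₀ 1 ≤ e := by
          rw [Finsupp.single_le_iff]; omega
        show coeff e f = coeff e (monomial (Finsupp.single i₀ 1) 1 * _)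
        rw [coeff_monomial_mul, if_pos hle, one_mul]
        show coeff e f = if (∀ j, j < i₀ → (e - Finsupp.single i₀ 1 : Fin n →₀ ℕ) j = 0) then
          coeff (e - Finsupp.single i₀ 1 + Finsupp.single i₀ 1) f else 0
        rw [if_pos, tsub_add_cancel_of_le hle]
        intro j hj
        rw [Finsupp.tsub_apply, hlt j hj, zero_tsub]
      · intro i _ hi
        show coeff e (monomial (Finsupp.single i 1) 1 * _) = 0
        rw [coeff_monomial_mul]
        split_ifs with hle
        · rw [one_mul]
          show (if (∀ j, j < i → (e - Finsupp.single i 1 : Fin n →₀ ℕ) j = 0) then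
            coeff (e - Finsupp.single i 1 + Finsupp.single i 1) f else 0) = 0
          rw [if_neg]
          intro hall
          have hei : e i ≠ 0 := by
            rw [Finsupp.single_le_iff] at hle; omega
          have hlt' : i₀ < i := lt_of_le_of_ne (hmin i hei) (Ne.symm hi)
          have := hall i₀ hlt'
          rw [Finsupp.tsub_apply, Finsupp.single_apply, if_neg (ne_of_gt hlt'), tsub_zero] at this
          exact hi₀mem this
        · rfl
      · intro h; exact absurd (Finset.mem_univ _) h
  rw [key]
  exact Ideal.sum_mem _ fun i _ => Ideal.mul_mem_right _ _ (Ideal.subset_span ⟨i, rfl⟩)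

open MvPowerSeries IsLocalRing in
lemma maximalIdeal_eq_span_X {k : Type*} [Field k] {n : ℕ} :
    maximalIdeal (MvPowerSeries (Fin n) k) =
      Ideal.span (Set.range (X : Fin n → MvPowerSeries (Fin n) k)) := by
  apply le_antisymm
  · intro f hf
    apply mem_span_X
    rw [mem_maximalIdeal, mem_nonunits_iff, MvPowerSeries.isUnit_iff_constantCoeff,
      isUnit_iff_ne_zero, not_not] at hf
    exact hf
  · rw [Ideal.span_le]
    rintro _ ⟨i, rfl⟩
    rw [SetLike.mem_coe, mem_maximalIdeal, mem_nonunits_iff,
      MvPowerSeries.isUnit_iff_constantCoeff, constantCoeff_X]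
    exact not_isUnit_zero

theorem dim_le (k : Type u) [Field k] (d : ℕ) :
    ringKrullDim (MvPowerSeries (Fin d) k) ≤ (d : WithBot ℕ∞) := by
  refine (ringKrullDim_le_spanFinrank_maximalIdeal _).trans ?_
  rw [maximalIdeal_eq_span_X]
  have h4 := Submodule.spanFinrank_span_le_ncard_of_finite (R := MvPowerSeries (Fin d) k)
    (Set.finite_range (MvPowerSeries.X : Fin d → MvPowerSeries (Fin d) k))
  have h5 : (Set.range (MvPowerSeries.X : Fin d → MvPowerSeries (Fin d) k)).ncard ≤ d := by
    calc _ ≤ Nat.card (Fin d) := by
          rw [← Set.image_univ]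
          refine (Set.ncard_image_le Set.finite_univ).trans ?_
          rw [Set.ncard_univ]
      _ = d := by simp
  exact_mod_cast h4.trans h5

theorem le_dim (k : Type u) [Field k] : ∀ d : ℕ,
    ((d : ℕ) : WithBot ℕ∞) ≤ ringKrullDim (MvPowerSeries (Fin d) k)
  | 0 => by
    rw [Nat.cast_zero]
    exact ringKrullDim_nonneg_of_nontrivial
  | d + 1 => by
    rw [ringKrullDim_eq_of_ringEquiv (MvPowerSeries.finSuccEquiv k d).toRingEquiv]
    refine le_trans ?_ ringKrullDim_succ_le_ringKrullDim_powerseries
    rw [Nat.cast_add, Nat.cast_one]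
    gcongr
    exact le_dim k d

end Groth.Agent.H3.MvPSDim
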