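import Groth.Agent.H3.DecayingLift

/-! Completed base change of adically free modules. -/

set_option autoImplicit false
universe u

namespace Groth.Agent.H3.AdicFreeBC

open W4c5adicflatcompl TensorProduct Groth.Agent.H3.Decaying Groth.Agent.H3.DecayingLift

variable {A B : Type u} [CommRing A] [CommRing B] [Algebra A B] (I : Ideal A) (J : Ideal B)
  (hIJ : I.map (algebraMap A B) ≤ J)

include hIJ in
lemma pow_le_comap (n : ℕ) : I ^ n ≤ (J ^ n).comap (algebraMap A B) := by
  rw [← Ideal.map_le_iff_le_comap, Ideal.map_pow]; exact Ideal.pow_right_mono hIJ n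

/-- level maps -/
noncomputable def iotaLevel (n : ℕ) : AdicCompletion I A →ₐ[A] B ⧸ J ^ n :=
  (Ideal.quotientMapₐ (J ^ n) (Algebra.ofId A B) (pow_le_comap I J hIJ n)).comp
    (AdicCompletion.evalₐ I n)

/-- the map of completions -/
noncomputable def iota : AdicCompletion I A →ₐ[A] AdicCompletion J B :=
  AdicCompletion.liftAlgHom J (iotaLevel I J hIJ) (by
    intro m n hle
    apply AlgHom.ext
    intro x
    obtain ⟨a, rfl⟩ := AdicCompletion.mk_surjective I A x
    simp only [iotaLevel, AlgHom.comp_apply, AdicCompletion.evalₐ_mk]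
    have h := AdicCompletion.Ideal.mk_eq_mk (I := I) hle a
    rw [← h]
    rfl)

lemma iota_mem (n : ℕ) (x : AdicCompletion I A)
    (hx : x ∈ (I ^ n • ⊤ : Submodule A (AdicCompletion I A))) :
    iota I J hIJ x ∈ (J ^ n • ⊤ : Submodule B (AdicCompletion J B)) := by
  refine Submodule.smul_induction_on hx ?_ ?_
  · intro r hr y _
    have h1 : iota I J hIJ (r • y) = (algebraMap A B r) • iota I J hIJ y := by
      rw [map_smul, algebraMap_smul]
    rw [h1]
    exact Submodule.smul_mem_smul (pow_le_comap I J hIJ n hr) Submodule.mem_top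
  · intro x y hx hy
    rw [map_add]; exact add_mem hx hy

variable (Z : Type u)

/-- the comparison map on decaying functions -/
noncomputable def kappa :
    decaying I Z (AdicCompletion I A) →ₗ[A] decaying J Z (AdicCompletion J B) where
  toFun f := ⟨fun z => iota I J hIJ ((f : Z → AdicCompletion I A) z), fun n =>
    (f.2 n).subset (fun z hz => by
      by_contra hcon
      simp only [Set.mem_ofPred_eq, not_not] at hcon
      exact hz (iota_mem I J hIJ n _ hcon))⟩
  map_add' f g := by
    apply Subtype.ext
    funext z
    simp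
  map_smul' a f := by
    apply Subtype.ext
    funext z
    simp

lemma kappa_single [DecidableEq Z] (z : Z) :
    kappa I J hIJ Z (single I z (1 : AdicCompletion I A)) =
      single J z (1 : AdicCompletion J B) := by
  apply Subtype.ext
  funext z'
  show iota I J hIJ ((Pi.single z (1 : AdicCompletion I A) : Z → AdicCompletion I A) z') =
    (Pi.single z (1 : AdicCompletion J B) : Z → AdicCompletion J B) z'
  by_cases h : z' = z
  · subst h; simp
  · rw [Pi.single_eq_of_ne h, Pi.single_eq_of_ne h, map_zero]

section Main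

variable [IsNoetherianRing A] [IsNoetherianRing B]
  (P : Type u) [AddCommGroup P] [Module A P]
  (e : P ≃ₗ[A] decaying I Z (AdicCompletion I A))

include hIJ e in
theorem main :
    Nonempty (AdicCompletion J (B ⊗[A] P) ≃ₗ[B] decaying J Z (AdicCompletion J B)) := by
  classical
  have hJ : J.FG := IsNoetherian.noetherian J
  have hI : I.FG := IsNoetherian.noetherian I
  haveI : IsAdicComplete J (AdicCompletion J (B ⊗[A] P)) := AdicCompletion.isAdicComplete hJ
  haveI : IsAdicComplete J (AdicCompletion J B) := AdicCompletion.isAdicComplete hJ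
  haveI : IsAdicComplete J (decaying J Z (AdicCompletion J B)) := isAdicComplete_decaying hJ
  let C := AdicCompletion J (B ⊗[A] P)
  let DB := decaying J Z (AdicCompletion J B)
  let ofC : B ⊗[A] P →ₗ[B] C := AdicCompletion.of J (B ⊗[A] P)
  let gen : Z → C := fun z => ofC ((1 : B) ⊗ₜ[A] e.symm (single I z 1))
  let α : DB →ₗ[B] C := DecayingLift.lift J gen
  have hα : ∀ z, α (single J z 1) = gen z := fun z => lift_single J gen z
  let β₀ : B ⊗[A] P →ₗ[B] DB :=
    LinearMap.liftBaseChange B ((kappa I J hIJ Z) ∘ₗ e.toLinearMap)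
  have hβ₀ : ∀ (b : B) (p : P), β₀ (b ⊗ₜ p) = b • kappa I J hIJ Z (e p) := fun b p => by
    simp [β₀]
  let β : C →ₗ[B] DB := (AdicCompletion.ofLinearEquiv J DB).symm.toLinearMap ∘ₗ
      ((AdicCompletion.map J β₀).restrictScalars B)
  have hβ : ∀ x, β (ofC x) = β₀ x := by
    intro x
    show (AdicCompletion.ofLinearEquiv J DB).symm
      ((AdicCompletion.map J β₀) ((AdicCompletion.of J (B ⊗[A] P)) x)) = β₀ x
    rw [AdicCompletion.map_of, AdicCompletion.ofLinearEquiv_symm_of]
  -- β ∘ α = id
  have h1 : β ∘ₗ α = LinearMap.id := by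
    have h0 : β ∘ₗ α - LinearMap.id = 0 := by
      apply eq_zero_of_single J hJ
      intro z
      simp only [LinearMap.sub_apply, LinearMap.comp_apply, LinearMap.id_apply, hα, gen, hβ, hβ₀,
        one_smul, LinearEquiv.apply_symm_apply, kappa_single, sub_self]
    exact sub_eq_zero.mp h0
  -- α ∘ β = id
  have h2 : α ∘ₗ β = LinearMap.id := by
    let χ : C →ₗ[B] C := α ∘ₗ β - LinearMap.id
    have hχof : ∀ x, χ (ofC x) = 0 := by
      haveI : IsHausdorff I C := by
        refine ⟨fun c hc => ?_⟩
        apply IsHausdorff.haus (I := J) inferInstance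
        intro n
        have h5 := hc n
        rw [SModEq.zero] at h5 ⊢
        have hle : (I ^ n • ⊤ : Submodule A C) ≤
            (J ^ n • ⊤ : Submodule B C).restrictScalars A := by
          rw [Submodule.smul_le]
          intro r hr c' _
          rw [Submodule.restrictScalars_mem, ← algebraMap_smul B r c']
          exact Submodule.smul_mem_smul (pow_le_comap I J hIJ n hr) Submodule.mem_top
        exact hle h5
      let θ : decaying I Z (AdicCompletion I A) →ₗ[A] C :=
        (χ.restrictScalars A) ∘ₗ (ofC.restrictScalars A) ∘ₗ (TensorProduct.mk A B P 1) ∘ₗ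
          e.symm.toLinearMap
      have hθ : θ = 0 := by
        apply eq_zero_of_single I hI
        intro z
        show χ (ofC ((1 : B) ⊗ₜ e.symm (single I z 1))) = 0
        simp only [χ, LinearMap.sub_apply, LinearMap.comp_apply, LinearMap.id_apply, hβ, hβ₀,
          one_smul, LinearEquiv.apply_symm_apply, kappa_single, hα, gen, sub_self]
      intro x
      induction x using TensorProduct.induction_on with
      | zero => simp
      | tmul b p =>
        have hbp : b ⊗ₜ[A] p = b • ((1 : B) ⊗ₜ[A] p) := by
          rw [TensorProduct.smul_tmul', smul_eq_mul, mul_one]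
        rw [hbp, map_smul, map_smul]
        have h3 : χ (ofC ((1 : B) ⊗ₜ p)) = θ (e p) := by simp [θ]
        rw [h3, hθ]; simp
      | add x y hx hy => rw [map_add, map_add, hx, hy, add_zero]
    have hχ : χ = 0 := by
      apply LinearMap.ext
      intro c
      rw [LinearMap.zero_apply]
      apply IsHausdorff.haus (I := J) inferInstance
      intro n
      rw [SModEq.zero]
      obtain ⟨x, hx⟩ := Submodule.mkQ_surjective _ (AdicCompletion.eval J (B ⊗[A] P) n c)
      have hmem : c - ofC x ∈ (J ^ n • ⊤ : Submodule B C) := by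
        rw [AdicCompletion.pow_smul_top_eq_ker_eval hJ, LinearMap.mem_ker, map_sub,
          AdicCompletion.eval_of, hx, sub_self]
      have hmap : (J ^ n • ⊤ : Submodule B C).map χ ≤ (J ^ n • ⊤ : Submodule B C) := by
        rw [Submodule.map_smul'']; exact Submodule.smul_mono le_rfl le_top
      have h4 : χ c = χ (c - ofC x) := by rw [map_sub, hχof, sub_zero]
      rw [h4]
      exact hmap (Submodule.mem_map_of_mem hmem)
    exact sub_eq_zero.mp hχ
  exact ⟨LinearEquiv.ofLinearMap β α h1 h2⟩

end Main

end Groth.Agent.H3.AdicFreeBC
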