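import Mathlib

/-! Helper: in an affine scheme, a finite set of points contained in an open `W` lies in a
basic open contained in `W` (prime avoidance). -/

set_option autoImplicit false
universe u

namespace Groth.Agent.H3.AffineAvoid

open AlgebraicGeometry CategoryTheory TopologicalSpace

theorem exists_basicOpen_of_finite (Y : Scheme.{u}) [IsAffine Y] (W : Y.Opens) (F : Set Y)
    (hF : F.Finite) (hFW : F ⊆ (W : Set Y)) :
    ∃ f : Γ(Y, ⊤), F ⊆ (Y.basicOpen f : Set Y) ∧ Y.basicOpen f ≤ W := by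
  classical
  rcases F.eq_empty_or_nonempty with rfl | ⟨y₀, hy₀⟩
  · refine ⟨0, Set.empty_subset _, ?_⟩
    rw [Scheme.basicOpen_zero]
    exact bot_le
  let φ := Y.toSpecΓ
  let ψ := inv φ
  let W' : (Spec Γ(Y, ⊤)).Opens := ψ ⁻¹ᵁ W
  have hψφ : ∀ y : Y, ψ.base (φ.base y) = y := by
    intro y
    change (φ ≫ ψ).base y = y
    rw [IsIso.hom_inv_id]
    rfl
  have hW' : ∀ y : Y, y ∈ W ↔ φ.base y ∈ W' := by
    intro y
    show y ∈ W ↔ ψ.base (φ.base y) ∈ W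
    rw [hψφ]
  obtain ⟨a, ha⟩ := (PrimeSpectrum.isClosed_iff_zeroLocus_ideal _).mp
    (W'.isOpen.isClosed_compl)
  have havoid : ¬ ((a : Set Γ(Y, ⊤)) ⊆
      ⋃ y ∈ (hF.toFinset : Set Y), ((φ.base y).asIdeal : Set Γ(Y, ⊤))) := by
    rw [Ideal.subset_union_prime (f := fun y : Y => (φ.base y).asIdeal) y₀ y₀
      (fun y _ _ _ => (φ.base y).isPrime)]
    rintro ⟨y, hy, hle⟩
    have hyW : y ∈ W := hFW (hF.mem_toFinset.mp hy)
    have h1 : φ.base y ∈ PrimeSpectrum.zeroLocus (a : Set Γ(Y, ⊤)) :=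
      (PrimeSpectrum.mem_zeroLocus _ _).mpr hle
    rw [← ha] at h1
    exact h1 ((hW' y).mp hyW)
  obtain ⟨f, hfa, hf⟩ := Set.not_subset.mp havoid
  have hbasic : ∀ y : Y, y ∈ Y.basicOpen f ↔ f ∉ (φ.base y).asIdeal := by
    intro y
    rw [← Scheme.toSpecΓ_preimage_basicOpen]
    rfl
  refine ⟨f, ?_, ?_⟩
  · intro y hy
    rw [SetLike.mem_coe, hbasic]
    intro hcon
    apply hf
    exact Set.mem_iUnion₂.mpr ⟨y, hF.mem_toFinset.mpr hy, hcon⟩
  · intro y hy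
    rw [hW']
    by_contra hcon
    have h1 : φ.base y ∈ ((W' : Set (Spec Γ(Y, ⊤))))ᶜ := hcon
    rw [ha] at h1
    exact (hbasic y).mp hy ((PrimeSpectrum.mem_zeroLocus _ _).mp h1 hfa)

end Groth.Agent.H3.AffineAvoid
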