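import Mathlib

set_option autoImplicit false
universe u

namespace Groth.Agent.H3.BBDec

section Filtration
variable {P : Type*} [CommRing P]

theorem endo_sub_mem (m : Ideal P) (Θ : P →+* P)
    (h0 : ∀ p, Θ p - p ∈ m) (h1 : ∀ p ∈ m, Θ p - p ∈ m ^ 2) :
    ∀ j : ℕ, ∀ p ∈ m ^ j, Θ p - p ∈ m ^ (j + 1) := by
  intro j
  induction j with
  | zero => intro p _; simpa using h0 p
  | succ j ih =>
    intro p hp
    rw [pow_succ] at hp
    refine Submodule.mul_induction_on hp ?_ ?_
    · intro a ha b hb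
      have e : Θ (a * b) - a * b = Θ a * (Θ b - b) + (Θ a - a) * b := by
        rw [map_mul]; ring
      rw [e]
      have hΘa : Θ a ∈ m ^ j := by
        have h3 := ih a ha
        have h2 : Θ a = a + (Θ a - a) := by ring
        rw [h2]
        exact add_mem ha (Ideal.pow_le_pow_right (Nat.le_succ j) h3)
      refine add_mem ?_ ?_
      · have h4 : Θ a * (Θ b - b) ∈ m ^ (j + 2) := by
          rw [pow_add]; exact Ideal.mul_mem_mul hΘa (h1 b hb)
        exact h4
      · have h4 : (Θ a - a) * b ∈ m ^ (j + 1 + 1) := by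
          rw [pow_succ (m) (j + 1)]; exact Ideal.mul_mem_mul (ih a ha) hb
        exact h4
    · intro x y hx hy
      have e : Θ (x + y) - (x + y) = (Θ x - x) + (Θ y - y) := by rw [map_add]; ring
      rw [e]; exact add_mem hx hy

theorem mem_pow_of_endo_mem (m : Ideal P) (Θ : P →+* P)
    (h0 : ∀ p, Θ p - p ∈ m) (h1 : ∀ p ∈ m, Θ p - p ∈ m ^ 2) (n : ℕ) (p : P)
    (hp : Θ p ∈ m ^ n) : p ∈ m ^ n := by
  have key : ∀ j, j ≤ n → p ∈ m ^ j := by
    intro j
    induction j with
    | zero => intro _; simp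
    | succ j ih =>
      intro hj
      have h2 := endo_sub_mem m Θ h0 h1 j p (ih (Nat.le_of_succ_le hj))
      have h3 : Θ p ∈ m ^ (j + 1) := Ideal.pow_le_pow_right hj hp
      have e : p = Θ p - (Θ p - p) := by ring
      rw [e]; exact sub_mem h3 h2
  exact key n le_rfl

end Filtration

section MvPoly
variable {σ : Type*} {A : Type*} [CommRing A]
open MvPolynomial

theorem X_mem_vars (i : σ) : (X i : MvPolynomial σ A) ∈ idealOfVars σ A :=
  Ideal.subset_span ⟨i, rfl⟩

theorem aeval_sub_mem (δ : σ → MvPolynomial σ A) (hδ : ∀ i, δ i ∈ idealOfVars σ A ^ 2)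
    (p : MvPolynomial σ A) :
    aeval (fun i => X i + δ i) p - p ∈ idealOfVars σ A := by
  have hδ' : ∀ i, δ i ∈ idealOfVars σ A := fun i => Ideal.pow_le_self two_ne_zero (hδ i)
  induction p using MvPolynomial.induction_on with
  | C a => simp [MvPolynomial.algebraMap_eq]
  | add p q hp hq =>
    have e : aeval (fun i => X i + δ i) (p + q) - (p + q) =
        (aeval (fun i => X i + δ i) p - p) + (aeval (fun i => X i + δ i) q - q) := by
      rw [map_add]; ring
    rw [e]; exact add_mem hp hq
  | mul_X p i hp =>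
    rw [map_mul, aeval_X]
    exact sub_mem (Ideal.mul_mem_left _ _ (add_mem (X_mem_vars i) (hδ' i)))
      (Ideal.mul_mem_left _ _ (X_mem_vars i))

theorem aeval_sub_mem_sq (δ : σ → MvPolynomial σ A) (hδ : ∀ i, δ i ∈ idealOfVars σ A ^ 2)
    (p : MvPolynomial σ A) (hp : p ∈ idealOfVars σ A) :
    aeval (fun i => X i + δ i) p - p ∈ idealOfVars σ A ^ 2 := by
  have hp' : p ∈ Submodule.span (MvPolynomial σ A) (Set.range (X : σ → MvPolynomial σ A)) := hp
  refine Submodule.span_induction (p := fun p _ =>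
    aeval (fun i => X i + δ i) p - p ∈ idealOfVars σ A ^ 2) ?_ ?_ ?_ ?_ hp'
  · rintro x ⟨i, rfl⟩
    simpa using hδ i
  · simp
  · intro x y _ _ hx hy
    have e : aeval (fun i => X i + δ i) (x + y) - (x + y) =
        (aeval (fun i => X i + δ i) x - x) + (aeval (fun i => X i + δ i) y - y) := by
      rw [map_add]; ring
    rw [e]; exact add_mem hx hy
  · intro a x hx ih
    have e : aeval (fun i => X i + δ i) (a • x) - a • x =
        aeval (fun i => X i + δ i) a * (aeval (fun i => X i + δ i) x - x) +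
          (aeval (fun i => X i + δ i) a - a) * x := by
      rw [smul_eq_mul, map_mul]; ring
    rw [e]
    refine add_mem (Ideal.mul_mem_left _ _ ih) ?_
    rw [pow_two]; exact Ideal.mul_mem_mul (aeval_sub_mem δ hδ a) hx

theorem eq_zero_of_forall_mem_pow (p : MvPolynomial σ A)
    (h : ∀ n, p ∈ idealOfVars σ A ^ n) : p = 0 := by
  by_contra hne
  obtain ⟨d, hd⟩ := MvPolynomial.ne_zero_iff.mp hne
  exact hd ((mem_pow_idealOfVars_iff' (Finsupp.degree d + 1) p).mp (h _) d (Nat.lt_succ_self _))

theorem exists_decomp [Fintype σ] (p : MvPolynomial σ A) :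
    ∃ (c₀ : A) (c : σ → A), p - C c₀ - ∑ i, C (c i) * X i ∈ idealOfVars σ A ^ 2 := by
  classical
  induction p using MvPolynomial.induction_on with
  | C a => exact ⟨a, 0, by simp⟩
  | add p q hp hq =>
    obtain ⟨a, c, h⟩ := hp
    obtain ⟨a', c', h'⟩ := hq
    refine ⟨a + a', c + c', ?_⟩
    have e : p + q - C (a + a') - ∑ i, C ((c + c') i) * X i =
        (p - C a - ∑ i, C (c i) * X i) + (q - C a' - ∑ i, C (c' i) * X i) := by
      simp only [Pi.add_apply, map_add, add_mul, Finset.sum_add_distrib]; ring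
    rw [e]; exact add_mem h h'
  | mul_X p j hp =>
    obtain ⟨a, c, h⟩ := hp
    refine ⟨0, (Pi.single j a : σ → A), ?_⟩
    have hs : ∑ i, C ((Pi.single j a : σ → A) i) * (X i : MvPolynomial σ A) = C a * X j := by
      rw [Finset.sum_eq_single j]
      · rw [Pi.single_eq_same]
      · intro i _ hij
        rw [Pi.single_eq_of_ne hij]; simp
      · intro hj; exact absurd (Finset.mem_univ j) hj
    have e : p * X j - C 0 - ∑ i, C ((Pi.single j a : σ → A) i) * X i = (p - C a) * X j := by
      rw [hs]; simp; ring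
    rw [e, pow_two]
    refine Ideal.mul_mem_mul ?_ (X_mem_vars j)
    have e2 : p - C a = (p - C a - ∑ i, C (c i) * X i) + ∑ i, C (c i) * X i := by ring
    rw [e2]
    refine add_mem (Ideal.pow_le_self two_ne_zero h) ?_
    exact Submodule.sum_mem _ fun i _ => Ideal.mul_mem_left _ _ (X_mem_vars i)

end MvPoly

end Groth.Agent.H3.BBDec
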