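import Mathlib
import Groth.Agent.H3.BBDecA

set_option autoImplicit false
universe u

namespace Groth.Agent.H3.BBDec

open DirectSum

section Graded
variable {A B : Type u} [CommRing A] [CommRing B] [Algebra A B]
  (𝒜 : ℕ → Submodule A B) [GradedAlgebra 𝒜]

/-- the irrelevant ideal -/
abbrev Irr : Ideal B := (HomogeneousIdeal.irrelevant 𝒜).toIdeal

theorem proj_mem_irr {b : B} (hb : b ∈ Irr 𝒜) (d : ℕ) : GradedAlgebra.proj 𝒜 d b ∈ Irr 𝒜 :=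
  (HomogeneousIdeal.irrelevant 𝒜).isHomogeneous d hb

theorem proj_mem_irr_sq {b : B} (hb : b ∈ Irr 𝒜 ^ 2) (d : ℕ) :
    GradedAlgebra.proj 𝒜 d b ∈ Irr 𝒜 ^ 2 := by
  have h : (Irr 𝒜 ^ 2).IsHomogeneous 𝒜 := by
    rw [pow_two]
    exact (HomogeneousIdeal.irrelevant 𝒜).isHomogeneous.mul
      (HomogeneousIdeal.irrelevant 𝒜).isHomogeneous
  exact h d hb

theorem mem_irr_iff (b : B) : b ∈ Irr 𝒜 ↔ GradedAlgebra.proj 𝒜 0 b = 0 := Iff.rfl

theorem proj_zero_eq_zero {b : B} (hb : b ∈ Irr 𝒜) : GradedAlgebra.proj 𝒜 0 b = 0 := hb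

theorem proj_of_mem {c : B} {d : ℕ} (hc : c ∈ 𝒜 d) : GradedAlgebra.proj 𝒜 d c = c := by
  rw [GradedAlgebra.proj_apply, DirectSum.decompose_of_mem_same 𝒜 hc]

theorem proj_of_mem_ne {c : B} {d e : ℕ} (hc : c ∈ 𝒜 d) (h : d ≠ e) :
    GradedAlgebra.proj 𝒜 e c = 0 := by
  rw [GradedAlgebra.proj_apply, DirectSum.decompose_of_mem_ne 𝒜 hc h]

theorem proj_mem (d : ℕ) (b : B) : GradedAlgebra.proj 𝒜 d b ∈ 𝒜 d := by
  rw [GradedAlgebra.proj_apply]; exact SetLike.coe_mem _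

theorem sub_proj_zero_mem (b : B) : b - GradedAlgebra.proj 𝒜 0 b ∈ Irr 𝒜 := by
  rw [mem_irr_iff, map_sub, proj_of_mem 𝒜 (proj_mem 𝒜 0 b), sub_self]

open Classical in
theorem sum_proj (b : B) :
    ∑ d ∈ (decompose 𝒜 b).support, GradedAlgebra.proj 𝒜 d b = b :=
  DirectSum.sum_support_decompose 𝒜 b

theorem mem_of_proj_mem {S : Type*} [SetLike S B] [AddSubmonoidClass S B] (s : S) (b : B)
    (h : ∀ d, GradedAlgebra.proj 𝒜 d b ∈ s) : b ∈ s := by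
  classical
  rw [← sum_proj 𝒜 b]; exact sum_mem fun d _ => h d

/-- degree-preserving part of an endomorphism -/
noncomputable def T (E : B →ₗ[A] B) : B →ₗ[A] B :=
  (DirectSum.toModule A ℕ B (fun d => (GradedAlgebra.proj 𝒜 d) ∘ₗ E ∘ₗ (𝒜 d).subtype)) ∘ₗ
    (DirectSum.decomposeLinearEquiv 𝒜).toLinearMap

theorem T_of_mem (E : B →ₗ[A] B) {c : B} {d : ℕ} (hc : c ∈ 𝒜 d) :
    T 𝒜 E c = GradedAlgebra.proj 𝒜 d (E c) := by
  simp only [T, LinearMap.comp_apply, LinearEquiv.coe_coe, DirectSum.decomposeLinearEquiv_apply]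
  rw [DirectSum.decompose_of_mem 𝒜 hc, ← DirectSum.lof_eq_of A, DirectSum.toModule_lof]
  rfl

theorem T_sub_mem_of_mem (E : B →ₗ[A] B) (hE1 : ∀ b ∈ Irr 𝒜, b - E b ∈ Irr 𝒜 ^ 2)
    {c : B} {d : ℕ} (hc : c ∈ 𝒜 d) (hcI : c ∈ Irr 𝒜) : c - T 𝒜 E c ∈ Irr 𝒜 ^ 2 := by
  rw [T_of_mem 𝒜 E hc]
  have e : c - GradedAlgebra.proj 𝒜 d (E c) = GradedAlgebra.proj 𝒜 d (c - E c) := by
    rw [map_sub, proj_of_mem 𝒜 hc]
  rw [e]; exact proj_mem_irr_sq 𝒜 (hE1 c hcI) d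

theorem T_sub_mem (E : B →ₗ[A] B) (hE1 : ∀ b ∈ Irr 𝒜, b - E b ∈ Irr 𝒜 ^ 2)
    {b : B} (hb : b ∈ Irr 𝒜) : b - T 𝒜 E b ∈ Irr 𝒜 ^ 2 := by
  classical
  have e : b - T 𝒜 E b = ∑ d ∈ (decompose 𝒜 b).support,
      (GradedAlgebra.proj 𝒜 d b - T 𝒜 E (GradedAlgebra.proj 𝒜 d b)) := by
    rw [Finset.sum_sub_distrib, ← map_sum, sum_proj]
  rw [e]
  exact sum_mem fun d _ => T_sub_mem_of_mem 𝒜 E hE1 (proj_mem 𝒜 d b) (proj_mem_irr 𝒜 hb d)

theorem T_eq_zero (E : B →ₗ[A] B) (hE2 : ∀ w ∈ Irr 𝒜 ^ 2, E w = 0)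
    {w : B} (hw : w ∈ Irr 𝒜 ^ 2) : T 𝒜 E w = 0 := by
  classical
  rw [← sum_proj 𝒜 w, map_sum]
  refine Finset.sum_eq_zero fun d _ => ?_
  rw [T_of_mem 𝒜 E (proj_mem 𝒜 d w), hE2 _ (proj_mem_irr_sq 𝒜 hw d), map_zero]

theorem subalgebra_eq_top (S : Subalgebra A B)
    (h0 : ∀ b ∈ 𝒜 0, b ∈ S)
    (h : ∀ d, 0 < d → ∀ c ∈ 𝒜 d, ∃ m ∈ S, m ∈ 𝒜 d ∧ c - m ∈ Irr 𝒜 ^ 2) : S = ⊤ := by
  classical
  have key : ∀ d, ∀ c ∈ 𝒜 d, c ∈ S := by
    intro d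
    induction d using Nat.strong_induction_on with
    | _ d ih =>
      intro c hc
      rcases Nat.eq_zero_or_pos d with rfl | hd
      · exact h0 c hc
      · obtain ⟨m, hmS, hmd, hw⟩ := h d hd c hc
        have claim : ∀ w ∈ Irr 𝒜 ^ 2, GradedAlgebra.proj 𝒜 d w ∈ S := by
          intro w hw
          rw [pow_two] at hw
          refine Submodule.mul_induction_on hw ?_ ?_
          · intro b1 hb1 b2 hb2
            rw [← sum_proj 𝒜 b1, ← sum_proj 𝒜 b2, Finset.sum_mul_sum, map_sum]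
            refine Subalgebra.sum_mem _ fun i _ => ?_
            rw [map_sum]
            refine Subalgebra.sum_mem _ fun j _ => ?_
            have hmem : GradedAlgebra.proj 𝒜 i b1 * GradedAlgebra.proj 𝒜 j b2 ∈ 𝒜 (i + j) :=
              SetLike.mul_mem_graded (proj_mem 𝒜 i b1) (proj_mem 𝒜 j b2)
            by_cases hij : i + j = d
            · rw [proj_of_mem 𝒜 (hij ▸ hmem)]
              rcases Nat.eq_zero_or_pos i with rfl | hi
              · rw [proj_zero_eq_zero 𝒜 hb1, zero_mul]; exact S.zero_mem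
              rcases Nat.eq_zero_or_pos j with rfl | hj
              · rw [proj_zero_eq_zero 𝒜 hb2, mul_zero]; exact S.zero_mem
              exact S.mul_mem (ih i (by omega) _ (proj_mem 𝒜 i b1))
                (ih j (by omega) _ (proj_mem 𝒜 j b2))
            · rw [proj_of_mem_ne 𝒜 hmem hij]; exact S.zero_mem
          · intro x y hx hy
            rw [map_add]; exact S.add_mem hx hy
        have e : c = m + GradedAlgebra.proj 𝒜 d (c - m) := by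
          rw [proj_of_mem 𝒜 (Submodule.sub_mem _ hc hmd)]; ring
        rw [e]; exact S.add_mem hmS (claim _ hw)
  rw [eq_top_iff]
  intro b _
  exact mem_of_proj_mem 𝒜 S b (fun d => key d _ (proj_mem 𝒜 d b))

/-- projection to the conormal module -/
noncomputable def piMap : B →ₗ[A] (Irr 𝒜).Cotangent where
  toFun b := (Irr 𝒜).toCotangent ⟨b - GradedAlgebra.proj 𝒜 0 b, sub_proj_zero_mem 𝒜 b⟩
  map_add' b c := by
    rw [← map_add]; congr 1; apply Subtype.ext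
    simp only [Submodule.coe_add, map_add]
    ring
  map_smul' a b := by
    rw [RingHom.id_apply, ← LinearMap.map_smul_of_tower]; congr 1; apply Subtype.ext
    simp only [map_smul]
    rw [Submodule.coe_smul_of_tower, smul_sub]

theorem piMap_of_mem {b : B} (hb : b ∈ Irr 𝒜) : piMap 𝒜 b = (Irr 𝒜).toCotangent ⟨b, hb⟩ := by
  show (Irr 𝒜).toCotangent ⟨b - GradedAlgebra.proj 𝒜 0 b, sub_proj_zero_mem 𝒜 b⟩ = _
  congr 1; apply Subtype.ext
  simp [proj_zero_eq_zero 𝒜 hb]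

theorem piMap_eq_zero_iff {b : B} (hb : b ∈ Irr 𝒜) : piMap 𝒜 b = 0 ↔ b ∈ Irr 𝒜 ^ 2 := by
  rw [piMap_of_mem 𝒜 hb]; exact (Irr 𝒜).toCotangent_eq_zero ⟨b, hb⟩

end Graded

end Groth.Agent.H3.BBDec
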