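import Mathlib
import Groth.Agent.H3.BBDecB

set_option autoImplicit false
universe u

namespace Groth.Agent.H3.BBDec

open DirectSum

section Lifts
variable {A B : Type u} [CommRing A] [CommRing B] [Algebra A B]
  (𝒜 : ℕ → Submodule A B) [GradedAlgebra 𝒜]

theorem smul_mem_irr (a : A) {b : B} (hb : b ∈ Irr 𝒜) : a • b ∈ Irr 𝒜 := by
  rw [Algebra.smul_def]; exact Ideal.mul_mem_left _ _ hb

theorem exists_good_lifts {ι : Type*} [Fintype ι] (e : Module.Basis ι A (Irr 𝒜).Cotangent) :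
    ∃ x : ι → B, (∀ i, x i ∈ Irr 𝒜) ∧ (∀ i, piMap 𝒜 (x i) = e i) ∧
      (∀ d, 0 < d → ∀ c ∈ 𝒜 d, ∃ m ∈ Submodule.span A (Set.range x),
        m ∈ 𝒜 d ∧ c - m ∈ Irr 𝒜 ^ 2) := by
  classical
  have hy : ∀ i, ∃ y : B, y ∈ Irr 𝒜 ∧ piMap 𝒜 y = e i := by
    intro i
    obtain ⟨⟨y, hy⟩, h⟩ := (Irr 𝒜).toCotangent_surjective (e i)
    exact ⟨y, hy, by rw [piMap_of_mem 𝒜 hy, h]⟩
  choose y hyI hye using hy
  let s : (Irr 𝒜).Cotangent →ₗ[A] B := e.constr A y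
  have hs_apply : ∀ n, s n = ∑ i, e.equivFun n i • y i := fun n => e.constr_apply_fintype A y n
  have hs_mem : ∀ n, s n ∈ Irr 𝒜 := by
    intro n
    rw [hs_apply]
    exact Submodule.sum_mem _ fun i _ => smul_mem_irr 𝒜 _ (hyI i)
  have hpis : ∀ n, piMap 𝒜 (s n) = n := by
    intro n
    have h1 : (piMap 𝒜) ∘ₗ s = LinearMap.id := by
      apply e.ext
      intro i
      simp only [LinearMap.comp_apply, LinearMap.id_apply, s, Module.Basis.constr_basis, hye]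
    exact LinearMap.congr_fun h1 n
  let E : B →ₗ[A] B := s ∘ₗ piMap 𝒜
  have hE1 : ∀ b ∈ Irr 𝒜, b - E b ∈ Irr 𝒜 ^ 2 := by
    intro b hb
    have hmem : b - E b ∈ Irr 𝒜 := sub_mem hb (hs_mem _)
    rw [← piMap_eq_zero_iff 𝒜 hmem, map_sub]
    show piMap 𝒜 b - piMap 𝒜 (s (piMap 𝒜 b)) = 0
    rw [hpis, sub_self]
  have hE2 : ∀ w ∈ Irr 𝒜 ^ 2, E w = 0 := by
    intro w hw
    have : piMap 𝒜 w = 0 := (piMap_eq_zero_iff 𝒜 (Ideal.pow_le_self two_ne_zero hw)).mpr hw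
    simp only [E, LinearMap.comp_apply, this, map_zero]
  have hTy : ∀ i, y i - T 𝒜 E (y i) ∈ Irr 𝒜 ^ 2 := fun i => T_sub_mem 𝒜 E hE1 (hyI i)
  refine ⟨fun i => T 𝒜 E (y i), ?_, ?_, ?_⟩
  · intro i
    show T 𝒜 E (y i) ∈ Irr 𝒜
    have e1 : T 𝒜 E (y i) = y i - (y i - T 𝒜 E (y i)) := by ring
    rw [e1]
    exact sub_mem (hyI i) (Ideal.pow_le_self two_ne_zero (hTy i))
  · intro i
    show piMap 𝒜 (T 𝒜 E (y i)) = e i
    have e1 : T 𝒜 E (y i) = y i - (y i - T 𝒜 E (y i)) := by ring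
    have h2 : piMap 𝒜 (y i - T 𝒜 E (y i)) = 0 :=
      (piMap_eq_zero_iff 𝒜 (Ideal.pow_le_self two_ne_zero (hTy i))).mpr (hTy i)
    rw [e1, map_sub, h2, sub_zero, hye]
  · intro d hd c hc
    have hcI : c ∈ Irr 𝒜 := HomogeneousIdeal.mem_irrelevant_of_mem 𝒜 hd hc
    refine ⟨T 𝒜 E c, ?_, ?_, T_sub_mem_of_mem 𝒜 E hE1 hc hcI⟩
    · have h1 : T 𝒜 E c = T 𝒜 E (E c) := by
        have h2 : T 𝒜 E (c - E c) = 0 := T_eq_zero 𝒜 E hE2 (hE1 c hcI)
        rw [map_sub, sub_eq_zero] at h2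
        exact h2
      rw [h1]
      have h3 : E c = ∑ i, e.equivFun (piMap 𝒜 c) i • y i := hs_apply _
      rw [h3, map_sum]
      refine Submodule.sum_mem _ fun i _ => ?_
      rw [map_smul]
      exact Submodule.smul_mem _ _ (Submodule.subset_span ⟨i, rfl⟩)
    · rw [T_of_mem 𝒜 E hc]; exact proj_mem 𝒜 d _

end Lifts

section Smooth

theorem exists_smooth_away {A B : Type u} [CommRing A] [CommRing B] [Algebra A B]
    [Algebra.FinitePresentation A B] (I : Ideal B)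
    (h : ∀ (P : Ideal B) [P.IsPrime], I ≤ P → Algebra.IsSmoothAt A P) :
    ∃ g b : B, b ∈ I ∧ g + b = 1 ∧ Algebra.FormallySmooth A (Localization.Away g) := by
  have hopen : IsOpen (Algebra.smoothLocus A B) := Algebra.isOpen_smoothLocus
  obtain ⟨J, hJ⟩ := (PrimeSpectrum.isClosed_iff_zeroLocus_ideal _).mp hopen.isClosed_compl
  have htop : J ⊔ I = ⊤ := by
    rw [← PrimeSpectrum.zeroLocus_empty_iff_eq_top, PrimeSpectrum.zeroLocus_sup, ← hJ]
    ext P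
    simp only [Set.mem_inter_iff, Set.mem_compl_iff, Set.mem_empty_iff_false, iff_false, not_and]
    intro hP hIP
    exact hP (h P.asIdeal hIP)
  obtain ⟨g, hg, b, hb, hgb⟩ := Submodule.mem_sup.mp (htop ▸ Submodule.mem_top : (1 : B) ∈ J ⊔ I)
  refine ⟨g, b, hb, hgb, ?_⟩
  rw [← Algebra.basicOpen_subset_smoothLocus_iff]
  intro P hP
  by_contra hns
  have h2 : P ∈ PrimeSpectrum.zeroLocus (J : Set B) := by rw [← hJ]; exact hns
  exact hP (h2 hg)

theorem exists_lift_to {A B : Type u} [CommRing A] [CommRing B] [Algebra A B] (I : Ideal B)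
    (g b : B) (hb : b ∈ I) (hgb : g + b = 1)
    [Algebra.FormallySmooth A (Localization.Away g)] (n : ℕ)
    {R' : Type u} [CommRing R'] [Algebra A R']
    (q : R' →ₐ[A] B ⧸ I ^ n) (hq : Function.Surjective q)
    (hnil : IsNilpotent (RingHom.ker (q : R' →+* B ⧸ I ^ n))) :
    ∃ ψ : B →ₐ[A] R', ∀ z, q (ψ z) = Ideal.Quotient.mk (I ^ n) z := by
  have hunit : ∀ y : Submonoid.powers g, IsUnit ((Ideal.Quotient.mkₐ A (I ^ n)) y) := by
    rintro ⟨_, k, rfl⟩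
    rw [map_pow]
    refine IsUnit.pow k ?_
    have h1 : (Ideal.Quotient.mkₐ A (I ^ n)) g = 1 - Ideal.Quotient.mk (I ^ n) b := by
      rw [Ideal.Quotient.mkₐ_eq_mk, ← map_one (Ideal.Quotient.mk (I ^ n)), ← map_sub, ← hgb]
      congr 1; ring
    rw [h1]
    apply IsNilpotent.isUnit_one_sub
    exact ⟨n, by rw [← map_pow]; exact Ideal.Quotient.eq_zero_iff_mem.mpr (Ideal.pow_mem_pow hb n)⟩
  let f : Localization.Away g →ₐ[A] B ⧸ I ^ n :=
    IsLocalization.liftAlgHom (M := Submonoid.powers g) hunit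
  let σ := Algebra.FormallySmooth.liftOfSurjective f q hq hnil
  refine ⟨σ.comp (IsScalarTower.toAlgHom A B (Localization.Away g)), fun z => ?_⟩
  simp only [AlgHom.comp_apply, IsScalarTower.coe_toAlgHom']
  rw [Algebra.FormallySmooth.liftOfSurjective_apply]
  exact IsLocalization.lift_eq _ _

end Smooth

end Groth.Agent.H3.BBDec
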