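import Mathlib
import Groth.Agent.H3.BBDecC

set_option autoImplicit false
universe u

namespace Groth.Agent.H3.BBDec

open DirectSum

theorem main {A B : Type u} [CommRing A] [CommRing B] [Algebra A B] [IsNoetherianRing A]
    [Algebra.FiniteType A B] (𝒜 : ℕ → Submodule A B) [GradedAlgebra 𝒜]
    (h0 : ∀ b : B, b ∈ 𝒜 0 ↔ b ∈ Set.range (algebraMap A B))
    (hinj : Function.Injective (algebraMap A B))
    (hsm : ∀ (P : Ideal B) [P.IsPrime], Irr 𝒜 ≤ P → Algebra.IsSmoothAt A P)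
    [Module.Free A (Irr 𝒜).Cotangent] [Module.Finite A (Irr 𝒜).Cotangent] :
    Nonempty (B ≃ₐ[A] MvPolynomial (Fin (Module.finrank A (Irr 𝒜).Cotangent)) A) := by
  classical
  rcases subsingleton_or_nontrivial A with hA | hA
  · haveI : Subsingleton B := Module.subsingleton A B
    haveI : Subsingleton (MvPolynomial (Fin (Module.finrank A (Irr 𝒜).Cotangent)) A) :=
      Module.subsingleton A _
    exact ⟨(AlgEquiv.ofBijective (MvPolynomial.aeval (fun _ => (0 : B)))
      ⟨Function.injective_of_subsingleton _, fun b => ⟨0, Subsingleton.elim _ _⟩⟩).symm⟩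
  haveI : Algebra.FinitePresentation A B :=
    Algebra.FinitePresentation.of_finiteType.mp inferInstance
  generalize hr : Module.finrank A (Irr 𝒜).Cotangent = r
  let e : Module.Basis (Fin r) A (Irr 𝒜).Cotangent :=
    (Module.finBasis A (Irr 𝒜).Cotangent).reindex (finCongr hr)
  obtain ⟨x, hxI, hxe, hxgen⟩ := exists_good_lifts 𝒜 e
  let P := MvPolynomial (Fin r) A
  let 𝔪 : Ideal P := MvPolynomial.idealOfVars (Fin r) A
  let φ : P →ₐ[A] B := MvPolynomial.aeval x
  have hφX : ∀ i, φ (MvPolynomial.X i) = x i := fun i => MvPolynomial.aeval_X x i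
  have hφC : ∀ a, φ (MvPolynomial.C a) = algebraMap A B a := fun a => MvPolynomial.aeval_C x a
  -- surjectivity
  have hsurj : Function.Surjective φ := by
    have htop : φ.range = ⊤ := by
      apply subalgebra_eq_top 𝒜
      · intro b hb
        obtain ⟨a, rfl⟩ := (h0 b).mp hb
        exact Subalgebra.algebraMap_mem _ a
      · intro d hd c hc
        obtain ⟨m, hm, hmd, hcm⟩ := hxgen d hd c hc
        refine ⟨m, ?_, hmd, hcm⟩
        have hle : Submodule.span A (Set.range x) ≤ Subalgebra.toSubmodule φ.range := by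
          rw [Submodule.span_le]
          rintro _ ⟨i, rfl⟩
          exact ⟨MvPolynomial.X i, hφX i⟩
        exact hle hm
    intro b
    have hb : b ∈ φ.range := htop ▸ Algebra.mem_top
    exact hb
  -- φ maps 𝔪 into Irr
  have hφm : 𝔪.map φ ≤ Irr 𝒜 := by
    rw [Ideal.map_le_iff_le_comap, Ideal.span_le]
    rintro _ ⟨i, rfl⟩
    show φ (MvPolynomial.X i) ∈ Irr 𝒜
    rw [hφX]; exact hxI i
  have hφmn : ∀ n, ∀ p ∈ 𝔪 ^ n, φ p ∈ Irr 𝒜 ^ n := by
    intro n p hp
    have h2 : φ p ∈ (𝔪 ^ n).map φ := Ideal.mem_map_of_mem φ hp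
    rw [Ideal.map_pow] at h2
    exact Ideal.pow_right_mono hφm n h2
  -- key: φ p ∈ Irr^2 → p ∈ 𝔪^2
  have hkey : ∀ p : P, φ p ∈ Irr 𝒜 ^ 2 → p ∈ 𝔪 ^ 2 := by
    intro p hp
    obtain ⟨c₀, c, hdec⟩ := exists_decomp p
    have h1 : φ (p - MvPolynomial.C c₀ - ∑ i, MvPolynomial.C (c i) * MvPolynomial.X i)
        ∈ Irr 𝒜 ^ 2 := hφmn 2 _ hdec
    have h2 : algebraMap A B c₀ + ∑ i, c i • x i ∈ Irr 𝒜 ^ 2 := by
      have e1 : algebraMap A B c₀ + ∑ i, c i • x i =
          φ p - φ (p - MvPolynomial.C c₀ - ∑ i, MvPolynomial.C (c i) * MvPolynomial.X i) := by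
        simp only [map_sub, map_sum, map_mul, hφX, hφC, Algebra.smul_def]
        ring
      rw [e1]; exact sub_mem hp h1
    have hsumI : ∑ i, c i • x i ∈ Irr 𝒜 :=
      Submodule.sum_mem _ fun i _ => smul_mem_irr 𝒜 _ (hxI i)
    have hc₀ : c₀ = 0 := by
      apply hinj
      rw [map_zero]
      have h3 := proj_zero_eq_zero 𝒜 (Ideal.pow_le_self two_ne_zero h2)
      rw [map_add, proj_zero_eq_zero 𝒜 hsumI, add_zero,
        proj_of_mem 𝒜 ((h0 _).mpr ⟨c₀, rfl⟩)] at h3
      exact h3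
    have hc : c = 0 := by
      rw [hc₀, map_zero, zero_add] at h2
      have h4 : piMap 𝒜 (∑ i, c i • x i) = 0 := (piMap_eq_zero_iff 𝒜 hsumI).mpr h2
      rw [map_sum] at h4
      simp only [map_smul, hxe] at h4
      funext i
      exact Fintype.linearIndependent_iff.mp e.linearIndependent c h4 i
    rw [hc₀, hc] at hdec
    simpa using hdec
  -- smooth
  obtain ⟨g, b, hb, hgb, hfs⟩ := exists_smooth_away (A := A) (Irr 𝒜) hsm
  haveI := hfs
  -- injectivity
  have hinjφ : Function.Injective φ := by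
    rw [injective_iff_map_eq_zero]
    intro p hp
    apply eq_zero_of_forall_mem_pow
    have hn2 : ∀ n, 2 ≤ n → p ∈ 𝔪 ^ n := by
      intro n hn
      let q : P ⧸ 𝔪 ^ n →ₐ[A] B ⧸ Irr 𝒜 ^ n :=
        Ideal.Quotient.liftₐ (𝔪 ^ n) ((Ideal.Quotient.mkₐ A (Irr 𝒜 ^ n)).comp φ)
          (fun a ha => by
            simp only [AlgHom.comp_apply, Ideal.Quotient.mkₐ_eq_mk]
            exact Ideal.Quotient.eq_zero_iff_mem.mpr (hφmn n a ha))
      have hq_mk : ∀ a : P, q (Ideal.Quotient.mk (𝔪 ^ n) a) =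
          Ideal.Quotient.mk (Irr 𝒜 ^ n) (φ a) := by
        intro a; rfl
      have hqsurj : Function.Surjective q := by
        intro z
        obtain ⟨z, rfl⟩ := Ideal.Quotient.mk_surjective z
        obtain ⟨a, rfl⟩ := hsurj z
        exact ⟨Ideal.Quotient.mk _ a, hq_mk a⟩
      have hker : ∀ a : P, q (Ideal.Quotient.mk (𝔪 ^ n) a) = 0 → a ∈ 𝔪 ^ 2 := by
        intro a ha
        rw [hq_mk, Ideal.Quotient.eq_zero_iff_mem] at ha
        exact hkey a (Ideal.pow_le_pow_right hn ha)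
      have hnil : IsNilpotent (RingHom.ker (q : P ⧸ 𝔪 ^ n →+* B ⧸ Irr 𝒜 ^ n)) := by
        refine ⟨n, ?_⟩
        rw [Ideal.zero_eq_bot, ← le_bot_iff]
        have hle : RingHom.ker (q : P ⧸ 𝔪 ^ n →+* B ⧸ Irr 𝒜 ^ n) ≤
            𝔪.map (Ideal.Quotient.mk (𝔪 ^ n)) := by
          intro z hz
          obtain ⟨a, rfl⟩ := Ideal.Quotient.mk_surjective z
          exact Ideal.mem_map_of_mem _ (Ideal.pow_le_self two_ne_zero (hker a hz))
        refine (Ideal.pow_right_mono hle n).trans ?_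
        rw [← Ideal.map_pow, Ideal.map_quotient_self]
      obtain ⟨ψ, hψ⟩ := exists_lift_to (A := A) (Irr 𝒜) g b hb hgb n q hqsurj hnil
      have hδ : ∀ i, ∃ δ : P, δ ∈ 𝔪 ^ 2 ∧
          ψ (x i) = Ideal.Quotient.mk (𝔪 ^ n) (MvPolynomial.X i + δ) := by
        intro i
        obtain ⟨z, hz⟩ := Ideal.Quotient.mk_surjective (ψ (x i))
        refine ⟨z - MvPolynomial.X i, ?_, ?_⟩
        · apply hker
          rw [map_sub, map_sub, hz, hψ, hq_mk, hφX, sub_self]
        · rw [← hz]; congr 1; ring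
      choose δ hδ2 hδψ using hδ
      let Θ : P →ₐ[A] P := MvPolynomial.aeval (fun i => MvPolynomial.X i + δ i)
      have hΘ : ∀ a : P, Ideal.Quotient.mk (𝔪 ^ n) (Θ a) = ψ (φ a) := by
        intro a
        have hcomp : (Ideal.Quotient.mkₐ A (𝔪 ^ n)).comp Θ = ψ.comp φ := by
          apply MvPolynomial.algHom_ext
          intro i
          simp only [AlgHom.comp_apply, Ideal.Quotient.mkₐ_eq_mk, Θ, MvPolynomial.aeval_X, hφX]
          exact (hδψ i).symm
        exact AlgHom.congr_fun hcomp a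
      have h3 : Θ p ∈ 𝔪 ^ n := by
        rw [← Ideal.Quotient.eq_zero_iff_mem, hΘ, hp, map_zero]
      exact mem_pow_of_endo_mem 𝔪 (Θ : P →+* P) (fun a => aeval_sub_mem δ hδ2 a)
        (fun a ha => aeval_sub_mem_sq δ hδ2 a ha) n p h3
    intro n
    rcases le_or_gt 2 n with h | h
    · exact hn2 n h
    · exact Ideal.pow_le_pow_right (by omega) (hn2 2 le_rfl)
  exact ⟨(AlgEquiv.ofBijective φ ⟨hinjφ, hsurj⟩).symm⟩

end Groth.Agent.H3.BBDec
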