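import Mathlib
import Groth.Prelude.Def_W4c3irrattreebunCvg

/-! Covering gonality is insensitive to replacing the base field by its algebraic closure in `K`. -/

set_option autoImplicit false
universe u

namespace Groth.Agent.H3.Cvg

open W4c3irrattreebun

theorem sInf_eq_of {S T : Set ℕ} (hTS : T ⊆ S) (h : ∀ e ∈ S, ∃ e' ∈ T, e' ≤ e) :
    sInf S = sInf T := by
  by_cases hS : S.Nonempty
  · have hT : T.Nonempty := by
      obtain ⟨e, he⟩ := hS
      obtain ⟨e', he', _⟩ := h e he
      exact ⟨e', he'⟩
    apply le_antisymm
    · exact Nat.sInf_le (hTS (Nat.sInf_mem hT))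
    · obtain ⟨e', he', hle⟩ := h _ (Nat.sInf_mem hS)
      exact (Nat.sInf_le he').trans hle
  · have hS' : S = ∅ := Set.not_nonempty_iff_eq_empty.mp hS
    have hT' : T = ∅ := by
      rw [← Set.subset_empty_iff, ← hS']
      exact hTS
    rw [hS', hT']

theorem tower_eq (k' K KB KC : Type*) [CommSemiring k'] [CommSemiring K] [CommSemiring KB]
    [Semiring KC] [Algebra k' K] [Algebra k' KB] [Algebra k' KC] [Algebra K KC] [Algebra KB KC]
    [IsScalarTower k' K KC] [IsScalarTower k' KB KC] (y : k') :
    algebraMap KB KC (algebraMap k' KB y) = algebraMap K KC (algebraMap k' K y) := by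
  rw [← IsScalarTower.algebraMap_apply k' KB KC, ← IsScalarTower.algebraMap_apply k' K KC]

theorem down {k K : Type u} [Field k] [Field K] [Algebra k K] {e : ℕ}
    (D : CovDiag (algebraicClosure k K) K e) :
    ∃ D' : CovDiag k K e, (Algebra.IsSeparable K D.KC → Algebra.IsSeparable K D'.KC) := by
  letI algkC : Algebra k D.KC := ((algebraMap K D.KC).comp (algebraMap k K)).toAlgebra
  letI algkB : Algebra k D.KB :=
    ((@algebraMap (algebraicClosure k K) D.KB _ _ D.algkB).comp
      (algebraMap k (algebraicClosure k K))).toAlgebra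
  have towerK : IsScalarTower k K D.KC := IsScalarTower.of_algebraMap_eq (fun x => rfl)
  have towerB : IsScalarTower k D.KB D.KC := IsScalarTower.of_algebraMap_eq (fun x => by
    have h := @tower_eq (algebraicClosure k K) K D.KB D.KC _ _ _ _ _ D.algkB D.algkC D.algKC
      D.algBC D.towerK D.towerB (algebraMap k (algebraicClosure k K) x)
    exact h.symm)
  exact ⟨{ KC := D.KC, KB := D.KB, instFieldC := D.instFieldC, instFieldB := D.instFieldB,
           algKC := D.algKC, algkC := algkC, towerK := towerK, algkB := algkB, algBC := D.algBC,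
           towerB := towerB, finiteK := D.finiteK, t := D.t, transc := D.transc,
           finiteT := D.finiteT, finrank_eq := D.finrank_eq }, fun h => h⟩

theorem up {k K : Type u} [Field k] [Field K] [Algebra k K] {e : ℕ} (D : CovDiag k K e) :
    ∃ (e' : ℕ) (D' : CovDiag (algebraicClosure k K) K e'), e' ≤ e ∧
      (Algebra.IsSeparable K D.KC → Algebra.IsSeparable K D'.KC) := by
  classical
  let KB' : IntermediateField D.KB D.KC :=
    IntermediateField.adjoin D.KB (Set.range (algebraMap (algebraicClosure k K) D.KC))
  have hmem : ∀ x : algebraicClosure k K, algebraMap (algebraicClosure k K) D.KC x ∈ KB' :=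
    fun x => IntermediateField.subset_adjoin _ _ ⟨x, rfl⟩
  letI algk'B : Algebra (algebraicClosure k K) KB' :=
    (RingHom.codRestrict (algebraMap (algebraicClosure k K) D.KC) KB' hmem).toAlgebra
  have towerB' : IsScalarTower (algebraicClosure k K) KB' D.KC :=
    IsScalarTower.of_algebraMap_eq (fun x => rfl)
  haveI halg : Algebra.IsAlgebraic D.KB KB' := by
    apply IntermediateField.isAlgebraic_adjoin
    rintro _ ⟨x, rfl⟩
    have hx : IsIntegral k (x : K) := x.2
    have h2 : IsIntegral k (algebraMap K D.KC (x : K)) := hx.algebraMap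
    exact h2.tower_top
  have htr : Transcendental KB' D.t := fun h => D.transc (IsAlgebraic.restrictScalars D.KB h)
  let L1 : IntermediateField D.KB D.KC := IntermediateField.adjoin D.KB {D.t}
  let L2 : IntermediateField KB' D.KC := IntermediateField.adjoin KB' {D.t}
  have hle : ∀ x : D.KC, x ∈ L1 → x ∈ L2 := by
    have h1 : L1 ≤ L2.restrictScalars D.KB := by
      rw [IntermediateField.adjoin_le_iff]
      intro y hy
      rw [Set.mem_singleton_iff] at hy
      rw [hy]
      exact IntermediateField.mem_adjoin_simple_self KB' D.t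
    exact fun x hx => h1 hx
  letI alg12 : Algebra L1 L2 :=
    (RingHom.codRestrict (algebraMap L1 D.KC) L2 (fun x => hle _ x.2)).toAlgebra
  haveI tower12 : IsScalarTower L1 L2 D.KC := IsScalarTower.of_algebraMap_eq (fun x => rfl)
  haveI finL1 : Module.Finite L1 D.KC := D.finiteT
  haveI finL2 : Module.Finite L2 D.KC := Module.Finite.of_restrictScalars_finite L1 L2 D.KC
  have hdvd : Module.finrank L2 D.KC ∣ Module.finrank L1 D.KC :=
    Module.finrank_dvd_finrank_left L1 L2 D.KC
  have hpos : 0 < Module.finrank L1 D.KC := Module.finrank_pos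
  have hle' : Module.finrank L2 D.KC ≤ e :=
    (Nat.le_of_dvd hpos hdvd).trans (le_of_eq D.finrank_eq)
  exact ⟨Module.finrank L2 D.KC,
    { KC := D.KC, KB := KB', instFieldC := D.instFieldC, instFieldB := inferInstance,
      algKC := D.algKC, algkC := inferInstance, towerK := inferInstance, algkB := algk'B,
      algBC := inferInstance, towerB := towerB', finiteK := D.finiteK, t := D.t, transc := htr,
      finiteT := finL2, finrank_eq := rfl }, hle', fun h => h⟩

end Groth.Agent.H3.Cvg
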