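import Groth.Prelude.Def_W4c5adicflatcomplDec
import Mathlib

/-! Helper lemmas on adically decaying functions. -/

set_option autoImplicit false
universe u v w

namespace Groth.Agent.H3.Decaying

open W4c5adicflatcompl

variable {A : Type u} [CommRing A] (I : Ideal A) (Z : Type v) (M : Type w)
  [AddCommGroup M] [Module A M]

/-- evaluation at a point -/
def evalMap (z : Z) : decaying I Z M →ₗ[A] M :=
  (LinearMap.proj z).comp (decaying I Z M).subtype

@[simp] lemma evalMap_apply (z : Z) (f : decaying I Z M) : evalMap I Z M z f = (f : Z → M) z := rfl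

variable {I Z M}

lemma eval_mem_of_mem_smul_top {J : Ideal A} (f : decaying I Z M)
    (hf : f ∈ (J • ⊤ : Submodule A (decaying I Z M))) (z : Z) :
    (f : Z → M) z ∈ (J • ⊤ : Submodule A M) := by
  have h1 : (J • ⊤ : Submodule A (decaying I Z M)).map (evalMap I Z M z) ≤
      (J • ⊤ : Submodule A M) := by
    rw [Submodule.map_smul'']
    exact Submodule.smul_mono le_rfl le_top
  exact h1 (Submodule.mem_map_of_mem hf)

variable (I Z M) in
theorem isHausdorff_decaying [IsHausdorff I M] : IsHausdorff I (decaying I Z M) := by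
  refine ⟨fun x hx => ?_⟩
  apply Subtype.ext
  funext z
  apply IsHausdorff.haus (I := I) ‹_›
  intro n
  have h := hx n
  rw [SModEq.zero] at h ⊢
  exact eval_mem_of_mem_smul_top x h z

/-- elements of `J • N` for `J` spanned by a finite family. -/
lemma exists_sum_of_mem_span_smul {r : ℕ} (a : Fin r → A) (N : Submodule A M) (x : M)
    (hx : x ∈ (Ideal.span (Set.range a)) • N) :
    ∃ y : Fin r → M, (∀ j, y j ∈ N) ∧ x = ∑ j, a j • y j := by
  refine Submodule.smul_induction_on hx ?_ ?_
  · intro c hc m hm
    obtain ⟨d, rfl⟩ := (Submodule.mem_span_range_iff_exists_fun A).mp hc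
    refine ⟨fun j => d j • m, fun j => N.smul_mem _ hm, ?_⟩
    rw [Finset.sum_smul]
    refine Finset.sum_congr rfl fun j _ => ?_
    rw [smul_eq_mul, mul_smul, smul_comm]
  · rintro x y ⟨y1, h1, rfl⟩ ⟨y2, h2, rfl⟩
    refine ⟨fun j => y1 j + y2 j, fun j => N.add_mem (h1 j) (h2 j), ?_⟩
    simp [smul_add, Finset.sum_add_distrib]

lemma pow_smul_top_antitone {m n : ℕ} (h : m ≤ n) :
    (I ^ n • ⊤ : Submodule A M) ≤ I ^ m • ⊤ :=
  Submodule.smul_mono_left (Ideal.pow_le_pow_right h)

/-- A decaying function with all values in `I^n M` lies in `I^n • decaying`, provided `I^n` is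
finitely generated and `M` is Hausdorff. -/
theorem mem_smul_top_of_forall_mem [IsHausdorff I M] (n : ℕ) (hfg : (I ^ n).FG)
    (f : decaying I Z M) (hf : ∀ z, (f : Z → M) z ∈ (I ^ n • ⊤ : Submodule A M)) :
    f ∈ (I ^ n • ⊤ : Submodule A (decaying I Z M)) := by
  classical
  obtain ⟨r, a, ha⟩ := Submodule.fg_iff_exists_fin_generating_family.mp hfg
  have haI : ∀ j, a j ∈ I ^ n := fun j => ha ▸ Submodule.subset_span ⟨j, rfl⟩
  -- pointwise decomposition
  have hpt : ∀ z, ∃ y : Fin r → M, (f : Z → M) z = ∑ j, a j • y j ∧
      ∀ m, (f : Z → M) z ∈ (I ^ (n + m) • ⊤ : Submodule A M) →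
        ∀ j, y j ∈ (I ^ m • ⊤ : Submodule A M) := by
    intro z
    by_cases h0 : (f : Z → M) z = 0
    · exact ⟨0, by simp [h0], fun m _ j => Submodule.zero_mem _⟩
    · have hex : ∃ k, (f : Z → M) z ∉ (I ^ (n + k) • ⊤ : Submodule A M) := by
        by_contra hcon
        push Not at hcon
        apply h0
        apply IsHausdorff.haus (I := I) ‹_›
        intro m
        rw [SModEq.zero]
        exact pow_smul_top_antitone (Nat.le_add_left m n) (hcon m)
      have hk0 := Nat.find_spec hex
      have hkpos : 0 < Nat.find hex := by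
        rcases Nat.eq_zero_or_pos (Nat.find hex) with h | h
        · exfalso
          rw [h, add_zero] at hk0
          exact hk0 (hf z)
        · exact h
      have hmem : (f : Z → M) z ∈ (I ^ (n + (Nat.find hex - 1)) • ⊤ : Submodule A M) := by
        have := Nat.find_min hex (m := Nat.find hex - 1) (by omega)
        push Not at this
        exact this
      have hmem' : (f : Z → M) z ∈
          (Ideal.span (Set.range a)) • (I ^ (Nat.find hex - 1) • ⊤ : Submodule A M) := by
        have ha' : Ideal.span (Set.range a) = I ^ n := ha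
        rw [ha', ← mul_smul, ← pow_add]
        exact hmem
      obtain ⟨y, hy, hsum⟩ := exists_sum_of_mem_span_smul a _ _ hmem'
      refine ⟨y, hsum, fun m hm j => ?_⟩
      have hlt : m < Nat.find hex := by
        by_contra hge
        push Not at hge
        exact hk0 (pow_smul_top_antitone (Nat.add_le_add_left hge n) hm)
      exact pow_smul_top_antitone (by omega) (hy j)
  choose y hsum hdec using hpt
  -- the components are decaying
  have hydec : ∀ j, (fun z => y z j) ∈ decaying I Z M := by
    intro j m
    refine (f.2 (n + m)).subset ?_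
    intro z hz
    by_contra hcon
    simp only [Set.mem_ofPred_eq, not_not] at hcon
    exact hz (hdec z m hcon j)
  have hfeq : f = ∑ j, a j • (⟨fun z => y z j, hydec j⟩ : decaying I Z M) := by
    apply Subtype.ext
    funext z
    rw [hsum z]
    simp only [Submodule.coe_sum, Submodule.coe_smul, Finset.sum_apply, Pi.smul_apply]
  rw [hfeq]
  exact Submodule.sum_mem _ fun j _ => Submodule.smul_mem_smul (haI j) Submodule.mem_top

/-- the module of decaying functions is complete when the target is and `I` is finitely generated -/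
theorem isAdicComplete_decaying (hI : I.FG) [IsAdicComplete I M] :
    IsAdicComplete I (decaying I Z M) := by
  haveI := isHausdorff_decaying I Z M
  refine { toIsHausdorff := inferInstance, toIsPrecomplete := ⟨fun F hF => ?_⟩ }
  have hpt : ∀ z, ∃ L : M, ∀ n, (F n : Z → M) z ≡ L [SMOD (I ^ n • ⊤ : Submodule A M)] := by
    intro z
    apply IsPrecomplete.prec (I := I) inferInstance
    intro m n hmn
    have := hF hmn
    rw [SModEq.sub_mem] at this ⊢
    exact eval_mem_of_mem_smul_top _ this z
  choose L hL using hpt
  have hLdec : L ∈ decaying I Z M := by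
    intro n
    refine ((F n).2 n).subset ?_
    intro z hz
    by_contra hcon
    simp only [Set.mem_ofPred_eq, not_not] at hcon
    apply hz
    have := hL z n
    rw [SModEq.sub_mem] at this
    have h2 := (I ^ n • ⊤ : Submodule A M).sub_mem hcon this
    simpa using h2
  refine ⟨⟨L, hLdec⟩, fun n => ?_⟩
  rw [SModEq.sub_mem]
  apply mem_smul_top_of_forall_mem n (hI.pow (n := n))
  intro z
  have := hL z n
  rw [SModEq.sub_mem] at this
  exact this

end Groth.Agent.H3.Decaying
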