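import Groth.Agent.H3.Decaying

/-! Decaying functions into finite modules over a complete Noetherian ring:
universe-general versions of S17541/S17542, tensor description and flatness. -/

set_option autoImplicit false
universe u v w w'

namespace Groth.Agent.H3.DecayingFinite

open W4c5adicflatcompl
open scoped TensorProduct

theorem exists_decaying_lift {A : Type u} [CommRing A] [IsNoetherianRing A] (I : Ideal A)
    [IsAdicComplete I A] (Z : Type v) {M : Type w} {M'' : Type w'} [AddCommGroup M] [Module A M]
    [Module.Finite A M] [AddCommGroup M''] [Module A M''] (φ : M →ₗ[A] M'')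
    (hφ : Function.Surjective φ) (g : Z → M'') (hg : g ∈ decaying I Z M'') :
    ∃ f : Z → M, f ∈ decaying I Z M ∧ ∀ z, φ (f z) = g z := by
  classical
  haveI : Module.Finite A M'' := Module.Finite.of_surjective φ hφ
  have hkrull : (⨅ i : ℕ, I ^ i • ⊤ : Submodule A M'') = ⊥ :=
    Ideal.iInf_pow_smul_eq_bot_of_le_jacobson I (IsAdicComplete.le_jacobson_bot I)
  have hmap : ∀ n : ℕ, (I ^ n • ⊤ : Submodule A M).map φ = (I ^ n • ⊤ : Submodule A M'') := by
    intro n
    rw [Submodule.map_smul'', Submodule.map_top, LinearMap.range_eq_top.mpr hφ]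
  have hanti : ∀ {m n : ℕ}, m ≤ n → (I ^ n • ⊤ : Submodule A M'') ≤ I ^ m • ⊤ := fun h =>
    Submodule.smul_mono_left (Ideal.pow_le_pow_right h)
  have hanti' : ∀ {m n : ℕ}, m ≤ n → (I ^ n • ⊤ : Submodule A M) ≤ I ^ m • ⊤ := fun h =>
    Submodule.smul_mono_left (Ideal.pow_le_pow_right h)
  have hpt : ∀ z, ∃ x : M, φ x = g z ∧
      ∀ n, g z ∈ (I ^ n • ⊤ : Submodule A M'') → x ∈ (I ^ n • ⊤ : Submodule A M) := by
    intro z
    by_cases h0 : g z = 0
    · exact ⟨0, by simp [h0], fun n _ => Submodule.zero_mem _⟩
    · have hex : ∃ k, g z ∉ (I ^ k • ⊤ : Submodule A M'') := by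
        by_contra hcon
        push Not at hcon
        apply h0
        have : g z ∈ (⨅ i : ℕ, I ^ i • ⊤ : Submodule A M'') := by
          rw [Submodule.mem_iInf]
          exact hcon
        rw [hkrull] at this
        exact this
      have hk0 := Nat.find_spec hex
      have hkpos : 0 < Nat.find hex := by
        rcases Nat.eq_zero_or_pos (Nat.find hex) with h | h
        · exfalso
          rw [h, pow_zero, Ideal.one_eq_top, Submodule.top_smul] at hk0
          exact hk0 Submodule.mem_top
        · exact h
      have hmem : g z ∈ (I ^ (Nat.find hex - 1) • ⊤ : Submodule A M'') := by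
        have := Nat.find_min hex (m := Nat.find hex - 1) (by omega)
        push Not at this
        exact this
      rw [← hmap] at hmem
      obtain ⟨x, hx, hxz⟩ := hmem
      refine ⟨x, hxz, fun n hn => ?_⟩
      have hlt : n < Nat.find hex := by
        by_contra hge
        push Not at hge
        exact hk0 (hanti hge hn)
      exact hanti' (by omega) hx
  choose f hf hfdec using hpt
  refine ⟨f, fun n => ?_, hf⟩
  refine (hg n).subset ?_
  intro z hz
  by_contra hcon
  simp only [Set.mem_ofPred_eq, not_not] at hcon
  exact hz (hfdec z n hcon)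


theorem mem_decaying_submodule_iff {A : Type u} [CommRing A] [IsNoetherianRing A] (I : Ideal A)
    (Z : Type v) (M : Type w) [AddCommGroup M] [Module A M]
    [Module.Finite A M] (N : Submodule A M) (f : Z → N) :
    f ∈ decaying I Z N ↔ (fun z => (f z : M)) ∈ decaying I Z M := by
  constructor
  · intro hf n
    refine (hf n).subset ?_
    intro z hz
    by_contra hcon
    simp only [Set.mem_ofPred_eq, not_not] at hcon
    apply hz
    have h1 : (I ^ n • ⊤ : Submodule A N).map N.subtype ≤ (I ^ n • ⊤ : Submodule A M) := by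
      rw [Submodule.map_smul'']
      exact Submodule.smul_mono le_rfl le_top
    exact h1 (Submodule.mem_map_of_mem hcon)
  · intro hf n
    obtain ⟨k, hk⟩ := Ideal.exists_pow_inf_eq_pow_smul I N
    refine (hf (n + k)).subset ?_
    intro z hz
    by_contra hcon
    simp only [Set.mem_ofPred_eq, not_not] at hcon
    apply hz
    have h1 : ((f z : N) : M) ∈ (I ^ (n + k) • ⊤ ⊓ N : Submodule A M) := ⟨hcon, (f z).2⟩
    rw [hk (n + k) (Nat.le_add_left k n), Nat.add_sub_cancel] at h1
    have h2 : (I ^ n • (I ^ k • ⊤ ⊓ N) : Submodule A M) ≤ (I ^ n • ⊤ : Submodule A N).map N.subtype := by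
      rw [Submodule.map_smul'', Submodule.map_top, Submodule.range_subtype]
      exact Submodule.smul_mono le_rfl inf_le_right
    obtain ⟨y, hy, hyz⟩ := h2 h1
    have : y = f z := Subtype.ext hyz
    rw [← this]
    exact hy



section tensor

variable {A : Type u} [CommRing A] (I : Ideal A) (Z : Type v) (M : Type w)
  [AddCommGroup M] [Module A M]

/-- the canonical map `M ⊗ dec(Z, A) → (Z → M)` -/
noncomputable def Psi : M ⊗[A] decaying I Z A →ₗ[A] (Z → M) :=
  (TensorProduct.piScalarRightHom A A M Z) ∘ₗ ((decaying I Z A).subtype.lTensor M)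

variable {I Z M}

lemma Psi_tmul (m : M) (g : decaying I Z A) :
    Psi I Z M (m ⊗ₜ g) = fun z => (g : Z → A) z • m := by
  rw [Psi, LinearMap.comp_apply, LinearMap.lTensor_tmul, TensorProduct.piScalarRightHom_tmul]
  rfl

lemma exists_fin_sum {N : Type w'} [AddCommGroup N] [Module A N] (x : M ⊗[A] N) :
    ∃ (r : ℕ) (m : Fin r → M) (g : Fin r → N), x = ∑ j, m j ⊗ₜ[A] g j := by
  induction x using TensorProduct.induction_on with
  | zero => exact ⟨0, Fin.elim0, Fin.elim0, by simp⟩
  | tmul m g => exact ⟨1, fun _ => m, fun _ => g, by simp⟩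
  | add x y hx hy =>
    obtain ⟨r, m, g, rfl⟩ := hx
    obtain ⟨r', m', g', rfl⟩ := hy
    refine ⟨r + r', Fin.append m m', Fin.append g g', ?_⟩
    rw [Fin.sum_univ_add]
    simp only [Fin.append_left, Fin.append_right]

lemma Psi_sum {r : ℕ} (m : Fin r → M) (g : Fin r → decaying I Z A) (z : Z) :
    Psi I Z M (∑ j, m j ⊗ₜ[A] g j) z = ∑ j, (g j : Z → A) z • m j := by
  rw [map_sum, Finset.sum_apply]
  refine Finset.sum_congr rfl fun j _ => ?_
  rw [Psi_tmul]

lemma coord_decaying {r : ℕ} (f : Z → (Fin r → A)) (hf : f ∈ decaying I Z (Fin r → A))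
    (j : Fin r) : (fun z => f z j) ∈ decaying I Z A := by
  intro n
  refine (hf n).subset ?_
  intro z hz
  by_contra hcon
  simp only [Set.mem_ofPred_eq, not_not] at hcon
  apply hz
  have h1 : (I ^ n • ⊤ : Submodule A (Fin r → A)).map (LinearMap.proj (R := A) j) ≤
      (I ^ n • ⊤ : Submodule A A) := by
    rw [Submodule.map_smul'']
    exact Submodule.smul_mono le_rfl le_top
  exact h1 (Submodule.mem_map_of_mem hcon)

lemma pi_decaying {r : ℕ} (g : Fin r → decaying I Z A) :
    (fun z j => (g j : Z → A) z) ∈ decaying I Z (Fin r → A) := by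
  classical
  intro n
  refine (Set.finite_iUnion fun j => (g j).2 n).subset ?_
  intro z hz
  by_contra hcon
  simp only [Set.mem_iUnion, Set.mem_ofPred_eq, not_exists, not_not] at hcon
  apply hz
  have : (fun j => (g j : Z → A) z) = ∑ j, (g j : Z → A) z • (Pi.single j (1 : A) : Fin r → A) := by
    funext i
    simp [Finset.sum_apply, Pi.single_apply]
  show (fun j => (g j : Z → A) z) ∈ _
  rw [this]
  refine Submodule.sum_mem _ fun j _ => ?_
  have hj := hcon j
  rw [smul_eq_mul, Ideal.mul_top] at hj
  exact Submodule.smul_mem_smul hj Submodule.mem_top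

variable (I Z M)

theorem Psi_injective [IsNoetherianRing A] [IsAdicComplete I A] :
    Function.Injective (Psi I Z M) := by
  classical
  rw [← LinearMap.ker_eq_bot, Submodule.eq_bot_iff]
  intro t ht
  rw [LinearMap.mem_ker] at ht
  obtain ⟨r, m, g, rfl⟩ := exists_fin_sum t
  let e : (Fin r → A) →ₗ[A] M := Fintype.linearCombination A m
  have he : ∀ c : Fin r → A, e c = ∑ j, c j • m j := fun c =>
    Fintype.linearCombination_apply A m c
  let K : Submodule A (Fin r → A) := LinearMap.ker e
  have hKfg : K.FG := IsNoetherian.noetherian K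
  obtain ⟨s, k, hk⟩ := Submodule.fg_iff_exists_fin_generating_family.mp hKfg
  have hkK : ∀ l, k l ∈ K := fun l => hk ▸ Submodule.subset_span ⟨l, rfl⟩
  -- the function z ↦ (g_j z)_j with values in K
  let h : Z → K := fun z => ⟨fun j => (g j : Z → A) z, by
    show e _ = 0
    rw [he, ← Psi_sum, ht]
    rfl⟩
  have hdec : h ∈ decaying I Z K := by
    rw [mem_decaying_submodule_iff]
    exact pi_decaying g
  -- surjection onto K
  let k' : Fin s → K := fun l => ⟨k l, hkK l⟩
  let π : (Fin s → A) →ₗ[A] K := Fintype.linearCombination A k'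
  have hπ : Function.Surjective π := by
    rw [← LinearMap.range_eq_top, Fintype.range_linearCombination]
    apply Submodule.map_injective_of_injective K.injective_subtype
    rw [Submodule.map_span, Submodule.map_top, Submodule.range_subtype, ← Set.range_comp]
    exact hk
  obtain ⟨c, hc, hcz⟩ := exists_decaying_lift I Z π hπ h hdec
  let cl : Fin s → decaying I Z A := fun l => ⟨fun z => c z l, coord_decaying c hc l⟩
  have hg : ∀ j, g j = ∑ l, k l j • cl l := by
    intro j
    apply Subtype.ext
    funext z
    have h1 : ((π (c z) : K) : Fin r → A) j = ((h z : K) : Fin r → A) j := by rw [hcz z]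
    have h2 : ((π (c z) : K) : Fin r → A) = ∑ l, c z l • k l := by
      show ((Fintype.linearCombination A k' (c z) : K) : Fin r → A) = _
      rw [Fintype.linearCombination_apply, Submodule.coe_sum]
      rfl
    rw [h2] at h1
    simp only [Finset.sum_apply, Pi.smul_apply, smul_eq_mul] at h1
    show (g j : Z → A) z = ((∑ l, k l j • cl l : decaying I Z A) : Z → A) z
    rw [Submodule.coe_sum, Finset.sum_apply]
    simp only [Submodule.coe_smul, Pi.smul_apply, smul_eq_mul, cl]
    rw [← h1]
    exact Finset.sum_congr rfl fun l _ => mul_comm _ _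
  have hkm : ∀ l, ∑ j, k l j • m j = 0 := fun l => by
    rw [← he]
    exact hkK l
  calc ∑ j, m j ⊗ₜ[A] g j = ∑ j, ∑ l, (k l j • m j) ⊗ₜ[A] cl l := by
        refine Finset.sum_congr rfl fun j _ => ?_
        rw [hg j, TensorProduct.tmul_sum]
        refine Finset.sum_congr rfl fun l _ => ?_
        rw [TensorProduct.tmul_smul, TensorProduct.smul_tmul']
    _ = ∑ l, (∑ j, k l j • m j) ⊗ₜ[A] cl l := by
        rw [Finset.sum_comm]
        refine Finset.sum_congr rfl fun l _ => ?_
        rw [TensorProduct.sum_tmul]
    _ = 0 := by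
        simp only [hkm, TensorProduct.zero_tmul, Finset.sum_const_zero]

theorem range_Psi [IsNoetherianRing A] [IsAdicComplete I A] [Module.Finite A M] :
    LinearMap.range (Psi I Z M) = decaying I Z M := by
  classical
  apply le_antisymm
  · rintro _ ⟨t, rfl⟩
    induction t using TensorProduct.induction_on with
    | zero => rw [map_zero]; exact Submodule.zero_mem _
    | tmul m g =>
      rw [Psi_tmul]
      intro n
      refine (g.2 n).subset ?_
      intro z hz
      by_contra hcon
      simp only [Set.mem_ofPred_eq, not_not] at hcon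
      apply hz
      rw [smul_eq_mul, Ideal.mul_top] at hcon
      exact Submodule.smul_mem_smul hcon Submodule.mem_top
    | add x y hx hy => rw [map_add]; exact Submodule.add_mem _ hx hy
  · intro h hh
    obtain ⟨r, m, hm⟩ := Submodule.fg_iff_exists_fin_generating_family.mp
      (Module.Finite.fg_top (R := A) (M := M))
    let e : (Fin r → A) →ₗ[A] M := Fintype.linearCombination A m
    have he : ∀ c : Fin r → A, e c = ∑ j, c j • m j := fun c =>
      Fintype.linearCombination_apply A m c
    have hes : Function.Surjective e := by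
      rw [← LinearMap.range_eq_top, Fintype.range_linearCombination, hm]
    obtain ⟨f, hf, hfz⟩ := exists_decaying_lift I Z e hes h hh
    let g : Fin r → decaying I Z A := fun j => ⟨fun z => f z j, coord_decaying f hf j⟩
    refine ⟨∑ j, m j ⊗ₜ[A] g j, ?_⟩
    funext z
    rw [Psi_sum, ← hfz z, he]

/-- naturality of `Psi` -/
lemma Psi_naturality {N : Type w} {N' : Type w'} [AddCommGroup N] [Module A N] [AddCommGroup N']
    [Module A N'] (f : N →ₗ[A] N') (t : N ⊗[A] decaying I Z A) :
    Psi I Z N' (f.rTensor (decaying I Z A) t) = fun z => f (Psi I Z N t z) := by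
  induction t using TensorProduct.induction_on with
  | zero =>
    rw [map_zero, map_zero]
    funext z
    simp
  | tmul m g =>
    rw [LinearMap.rTensor_tmul, Psi_tmul, Psi_tmul]
    funext z
    rw [map_smul]
  | add x y hx hy =>
    rw [map_add, map_add, hx, hy, map_add]
    funext z
    simp

theorem flat_decaying {A : Type u} [CommRing A] [IsNoetherianRing A] (I : Ideal A)
    [IsAdicComplete I A] (Z : Type v) : Module.Flat A (decaying I Z A) := by
  rw [Module.Flat.iff_rTensor_preserves_injective_linearMap'.{u, u, max u v}]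
  intro N N' _ _ _ _ f hf
  intro t t' htt
  apply Psi_injective I Z N
  funext z
  apply hf
  have h1 := Psi_naturality I Z f t
  have h2 := Psi_naturality I Z f t'
  rw [htt] at h1
  have := h1.symm.trans h2
  exact congrFun this z

end tensor

end Groth.Agent.H3.DecayingFinite
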