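import Groth.Agent.H3.Decaying

/-! Universal property of decaying functions into the completion of the ring. -/

set_option autoImplicit false
universe u v w

namespace Groth.Agent.H3.DecayingLift

open W4c5adicflatcompl Groth.Agent.H3.Decaying

variable {A : Type u} [CommRing A] (I : Ideal A) {Z : Type v} {M : Type w}
  [AddCommGroup M] [Module A M] (f : Z → M)

/-- `a ↦ eval_n (a • of (f z))`. -/
noncomputable def rho (n : ℕ) (z : Z) :
    AdicCompletion I A →ₗ[A] M ⧸ (I ^ n • ⊤ : Submodule A M) :=
  (AdicCompletion.eval I M n) ∘ₗ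
    ((LinearMap.toSpanSingleton (AdicCompletion I A) (AdicCompletion I M)
      (AdicCompletion.of I M (f z))).restrictScalars A)

lemma rho_apply (n : ℕ) (z : Z) (a : AdicCompletion I A) :
    rho I f n z a = AdicCompletion.eval I M n (a • AdicCompletion.of I M (f z)) := rfl

lemma rho_eq_zero (n : ℕ) (z : Z) (a : AdicCompletion I A)
    (ha : a ∈ (I ^ n • ⊤ : Submodule A (AdicCompletion I A))) : rho I f n z a = 0 := by
  let L : AdicCompletion I A →ₗ[A] AdicCompletion I M :=
    (LinearMap.toSpanSingleton (AdicCompletion I A) (AdicCompletion I M)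
      (AdicCompletion.of I M (f z))).restrictScalars A
  have h1 : (I ^ n • ⊤ : Submodule A (AdicCompletion I A)).map L ≤
      (I ^ n • ⊤ : Submodule A (AdicCompletion I M)) := by
    rw [Submodule.map_smul'']
    exact Submodule.smul_mono le_rfl le_top
  have h2 : L a ∈ (I ^ n • ⊤ : Submodule A (AdicCompletion I M)) :=
    h1 (Submodule.mem_map_of_mem ha)
  have h3 := AdicCompletion.pow_smul_top_le_ker_eval I n h2
  exact h3

lemma rho_one (n : ℕ) (z : Z) :
    rho I f n z 1 = Submodule.mkQ (I ^ n • ⊤ : Submodule A M) (f z) := by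
  rw [rho_apply, one_smul, AdicCompletion.eval_of]

lemma factorPow_rho {m n : ℕ} (hle : m ≤ n) (z : Z) (a : AdicCompletion I A) :
    Submodule.factorPow I M hle (rho I f n z a) = rho I f m z a := by
  rw [rho_apply, rho_apply, AdicCompletion.eval_apply, AdicCompletion.eval_apply]
  exact AdicCompletion.transitionMap_comp_eval_apply I M hle _

lemma hasFiniteSupport_rho (n : ℕ) (g : decaying I Z (AdicCompletion I A)) :
    Function.HasFiniteSupport fun z => rho I f n z ((g : Z → AdicCompletion I A) z) := by
  refine (g.2 n).subset ?_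
  intro z hz
  by_contra hcon
  simp only [Set.mem_ofPred_eq, not_not] at hcon
  exact hz (rho_eq_zero I f n z _ hcon)

/-- the `n`-th level of the lift -/
noncomputable def fn (n : ℕ) :
    decaying I Z (AdicCompletion I A) →ₗ[A] M ⧸ (I ^ n • ⊤ : Submodule A M) where
  toFun g := ∑ᶠ z, rho I f n z ((g : Z → AdicCompletion I A) z)
  map_add' g g' := by
    rw [← finsum_add_distrib (hasFiniteSupport_rho I f n g) (hasFiniteSupport_rho I f n g')]
    refine finsum_congr fun z => ?_
    simp
  map_smul' a g := by
    rw [RingHom.id_apply, smul_finsum' a (hasFiniteSupport_rho I f n g)]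
    refine finsum_congr fun z => ?_
    simp

lemma fn_apply (n : ℕ) (g : decaying I Z (AdicCompletion I A)) :
    fn I f n g = ∑ᶠ z, rho I f n z ((g : Z → AdicCompletion I A) z) := rfl

lemma factorPow_comp_fn {m n : ℕ} (hle : m ≤ n) :
    Submodule.factorPow I M hle ∘ₗ fn I f n = fn I f m := by
  ext g
  rw [LinearMap.comp_apply, fn_apply, fn_apply]
  have := AddMonoidHom.map_finsum (Submodule.factorPow I M hle).toAddMonoidHom
    (hasFiniteSupport_rho I f n g)
  rw [LinearMap.toAddMonoidHom_coe] at this
  rw [this]
  refine finsum_congr fun z => ?_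
  exact factorPow_rho I f hle z _

/-- the lift -/
noncomputable def lift [IsAdicComplete I M] : decaying I Z (AdicCompletion I A) →ₗ[A] M :=
  IsAdicComplete.lift I (fn I f) (fun hle => factorPow_comp_fn I f hle)

lemma lift_single [IsAdicComplete I M] [DecidableEq Z] (z : Z) :
    lift I f (single I z (1 : AdicCompletion I A)) = f z := by
  have key : ∀ n, Submodule.Quotient.mk (p := (I ^ n • ⊤ : Submodule A M))
      (lift I f (single I z (1 : AdicCompletion I A))) = Submodule.Quotient.mk (f z) := by
    intro n
    rw [lift, IsAdicComplete.mk_lift, fn_apply, finsum_eq_single _ z]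
    · rw [coe_single, Pi.single_eq_same, rho_one]
      rfl
    · intro z' hz'
      rw [coe_single, Pi.single_eq_of_ne hz', map_zero]
  rw [← sub_eq_zero]
  apply IsHausdorff.haus (I := I) inferInstance
  intro n
  rw [SModEq.zero, ← Submodule.Quotient.mk_eq_zero, Submodule.Quotient.mk_sub, key n, sub_self]

/-- approximating elements of the completion -/
lemma exists_approx (hI : I.FG) (n : ℕ) (a : AdicCompletion I A) :
    ∃ c : A, a - AdicCompletion.of I A c ∈ (I ^ n • ⊤ : Submodule A (AdicCompletion I A)) := by
  obtain ⟨c, hc⟩ := Submodule.mkQ_surjective _ (AdicCompletion.eval I A n a)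
  refine ⟨c, ?_⟩
  rw [AdicCompletion.pow_smul_top_eq_ker_eval hI, LinearMap.mem_ker, map_sub,
    AdicCompletion.eval_of, hc, sub_self]

/-- a linear map on decaying functions vanishing on all `single z 1` vanishes. -/
theorem eq_zero_of_single (hI : I.FG) [IsHausdorff I M] [DecidableEq Z]
    (ψ : decaying I Z (AdicCompletion I A) →ₗ[A] M)
    (hψ : ∀ z, ψ (single I z (1 : AdicCompletion I A)) = 0) : ψ = 0 := by
  ext g
  rw [LinearMap.zero_apply]
  apply IsHausdorff.haus (I := I) inferInstance
  intro n
  rw [SModEq.zero]
  let T : Finset Z := (g.2 n).toFinset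
  choose c hc using fun z => exists_approx I hI n ((g : Z → AdicCompletion I A) z)
  let g0 : decaying I Z (AdicCompletion I A) := ∑ z ∈ T, c z • single I z (1 : AdicCompletion I A)
  have hg0 : ψ g0 = 0 := by
    simp only [g0, map_sum, map_smul, hψ, smul_zero, Finset.sum_const_zero]
  have hg0val : ∀ z, (g0 : Z → AdicCompletion I A) z =
      if z ∈ T then AdicCompletion.of I A (c z) else 0 := by
    intro z
    simp only [g0, Submodule.coe_sum, Submodule.coe_smul, Finset.sum_apply, Pi.smul_apply,
      coe_single]
    split_ifs with hz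
    · rw [Finset.sum_eq_single z]
      · rw [Pi.single_eq_same, Algebra.smul_def, mul_one]
        rfl
      · intro z' _ hz'
        rw [Pi.single_eq_of_ne hz'.symm, smul_zero]
      · intro h; exact absurd hz h
    · apply Finset.sum_eq_zero
      intro z' hz'
      have : z ≠ z' := fun h => hz (h ▸ hz')
      rw [Pi.single_eq_of_ne this, smul_zero]
  have hdiff : g - g0 ∈ (I ^ n • ⊤ : Submodule A (decaying I Z (AdicCompletion I A))) := by
    apply mem_smul_top_of_forall_mem n (hI.pow (n := n))
    intro z
    rw [Submodule.coe_sub, Pi.sub_apply, hg0val]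
    split_ifs with hz
    · exact hc z
    · rw [sub_zero]
      by_contra hcon
      apply hz
      exact (Set.Finite.mem_toFinset _).mpr hcon
  have hmap : (I ^ n • ⊤ : Submodule A (decaying I Z (AdicCompletion I A))).map ψ ≤
      (I ^ n • ⊤ : Submodule A M) := by
    rw [Submodule.map_smul'']
    exact Submodule.smul_mono le_rfl le_top
  have := hmap (Submodule.mem_map_of_mem hdiff)
  rwa [map_sub, hg0, sub_zero] at this

end Groth.Agent.H3.DecayingLift
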