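import Groth.Prelude.Def_Algz
import Mathlib

set_option autoImplicit false
universe u

namespace Groth.Agent.H3.DeltaZ

open Algz

variable {Y : Type u} [TopologicalSpace Y]

theorem codimPt_congr {w w' v v' : Y} (hw : w = w') (hv : v = v') (h : w ⤳ v) (h' : w' ⤳ v') :
    codimPt w v h = codimPt w' v' h' := by
  subst hw hv; rfl

theorem codimPt_eq_zero {w v : Y} (h : w ⤳ v) (h' : v ⤳ w) : codimPt w v h = 0 := by
  unfold codimPt
  rw [Order.height_eq_zero]
  intro b _
  exact (show Specialization.toEquiv w ≤ b.1 from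
    le_trans (Specialization.toEquiv_le_toEquiv.mpr h') b.2)

theorem codimPt_self (v : Y) (h : v ⤳ v) : codimPt v v h = 0 := codimPt_eq_zero h h

theorem specializes_of_codimPt_eq_zero {w v : Y} (h : w ⤳ v) (h0 : codimPt w v h = 0) :
    v ⤳ w := by
  unfold codimPt at h0
  rw [Order.height_eq_zero] at h0
  have := @h0 ⟨Specialization.toEquiv v, Set.mem_Ici.mpr le_rfl⟩ (Specialization.toEquiv_le_toEquiv.mpr h)
  exact Specialization.toEquiv_le_toEquiv.mp this

theorem one_le_codimPt {w v : Y} (h : w ⤳ v) (hne : ¬ v ⤳ w) : 1 ≤ codimPt w v h := by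
  rw [Order.one_le_iff_ne_zero]
  exact fun h0 => hne (specializes_of_codimPt_eq_zero h h0)

theorem codimPt_le_one {w v : Y} (h : w ⤳ v)
    (himm : ∀ z : Y, w ⤳ z → z ⤳ v → z = w ∨ z = v) : codimPt w v h ≤ 1 := by
  unfold codimPt
  have h1 : ((1 : ℕ) : ℕ∞) = 1 := rfl
  rw [← h1, Order.height_le_coe_iff]
  intro b hb
  rw [Nat.cast_one, Order.lt_one_iff, Order.height_eq_zero]
  rcases b with ⟨b1, hb1⟩
  obtain ⟨z, rfl⟩ : ∃ z, Specialization.toEquiv z = b1 :=
    ⟨Specialization.ofEquiv b1, Equiv.apply_symm_apply _ _⟩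
  have hzv : z ⤳ v := Specialization.toEquiv_le_toEquiv.mp hb1
  have hwz : w ⤳ z := Specialization.toEquiv_le_toEquiv.mp (le_of_lt hb)
  have hnzw : ¬ z ⤳ w := fun hzw =>
    (not_le_of_gt hb) (Specialization.toEquiv_le_toEquiv.mpr hzw)
  rcases himm z hwz hzv with hzw | hzv'
  · exact absurd (by subst hzw; exact specializes_rfl) hnzw
  · intro c _
    show Specialization.toEquiv z ≤ c.1
    rw [hzv']
    exact c.2

theorem codimPt_mono {w v v' : Y} (h : w ⤳ v) (h' : v ⤳ v') (h'' : w ⤳ v') :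
    codimPt w v h ≤ codimPt w v' h'' := by
  unfold codimPt
  let f : Set.Ici (Specialization.toEquiv v) → Set.Ici (Specialization.toEquiv v') :=
    fun a => ⟨a.1, le_trans (Specialization.toEquiv_le_toEquiv.mpr h') a.2⟩
  have hf : StrictMono f := fun a b hab => hab
  exact Order.height_le_height_apply_of_strictMono f hf _

theorem deltaZ_le_delta {Z : Set Y} {y : Y} {k : ℕ} (S : DSystem Z y k) :
    deltaZ Z y ≤ S.delta := by
  unfold deltaZ
  exact iInf₂_le k S

omit [TopologicalSpace Y] in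
/-- non-dependent snoc -/
def snocY {k : ℕ} (p : Fin k → Y) (x : Y) (i : Fin (k + 1)) : Y :=
  if h : i.val < k then p ⟨i.val, h⟩ else x

omit [TopologicalSpace Y] in
theorem snocY_castSucc {k : ℕ} (p : Fin k → Y) (x : Y) (i : Fin k) :
    snocY p x i.castSucc = p i := by
  simp [snocY]

omit [TopologicalSpace Y] in
theorem snocY_last {k : ℕ} (p : Fin k → Y) (x : Y) : snocY p x (Fin.last k) = x := by
  simp [snocY]

theorem delta_le_of_sum_le {Z : Set Y} {y : Y} {k : ℕ} (S : DSystem Z y k)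
    (h : ∀ i : Fin (k + 1), (∑ j : Fin (k + 1), if i ≤ j then S.c j else 0) ≤
      ∑ j : Fin k, if i.val ≤ j.val then S.b j else 0) : S.delta ≤ k := by
  unfold DSystem.delta
  have hsup : (Finset.univ.sup fun i : Fin (k + 1) =>
      (∑ j ∈ Finset.univ.filter (fun j : Fin (k + 1) => i ≤ j), S.c j) -
        ∑ j ∈ Finset.univ.filter (fun j : Fin k => i.val ≤ j.val), S.b j) ≤ 0 := by
    refine Finset.sup_le (fun i _ => ?_)
    rw [Finset.sum_filter, Finset.sum_filter, tsub_eq_zero_of_le (h i)]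
  calc _ ≤ (k : ℕ∞) + 0 := by gcongr
    _ = k := add_zero _

/-- the zigzag system -/
def zz (Z : Set Y) (k : ℕ) (y : Fin (k + 1) → Y) (y' : Fin k → Y) (h0 : y 0 ∈ Z)
    (hd : ∀ i : Fin k, y' i ⤳ y i.castSucc) (hu : ∀ i : Fin k, y' i ⤳ y i.succ) :
    DSystem Z (y (Fin.last k)) k where
  v := y
  w := snocY y' (y (Fin.last k))
  spec := by
    intro i
    refine Fin.lastCases ?_ (fun j => ?_) i
    · rw [snocY_last]
    · rw [snocY_castSucc]; exact hd j
  spec_succ := by intro i; rw [snocY_castSucc]; exact hu i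
  start_mem := h0
  last_eq := snocY_last _ _

theorem zz_delta_le (Z : Set Y) (k : ℕ) (y : Fin (k + 1) → Y) (y' : Fin k → Y) (h0 : y 0 ∈ Z)
    (hd : ∀ i : Fin k, y' i ⤳ y i.castSucc) (hu : ∀ i : Fin k, y' i ⤳ y i.succ)
    (himm : ∀ i : Fin k, ∀ z : Y, y' i ⤳ z → z ⤳ y i.castSucc → z = y' i ∨ z = y i.castSucc)
    (hne : ∀ i : Fin k, ¬ y i.succ ⤳ y' i) :
    (zz Z k y y' h0 hd hu).delta ≤ k := by
  have hc1 : ∀ j : Fin k, (zz Z k y y' h0 hd hu).c j.castSucc ≤ 1 := by
    intro j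
    unfold DSystem.c
    exact (codimPt_congr (snocY_castSucc y' (y (Fin.last k)) j) rfl _ (hd j)).trans_le
      (codimPt_le_one (hd j) (himm j))
  have hcl : (zz Z k y y' h0 hd hu).c (Fin.last k) = 0 := by
    unfold DSystem.c
    exact (codimPt_congr (snocY_last y' (y (Fin.last k))) rfl _ specializes_rfl).trans
      (codimPt_self _ _)
  have hb1 : ∀ j : Fin k, 1 ≤ (zz Z k y y' h0 hd hu).b j := by
    intro j
    unfold DSystem.b
    exact le_of_le_of_eq (one_le_codimPt (hu j) (hne j))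
      (codimPt_congr (snocY_castSucc y' (y (Fin.last k)) j) rfl _ (hu j)).symm
  refine delta_le_of_sum_le _ (fun i => ?_)
  rw [Fin.sum_univ_castSucc, hcl]
  simp only [ite_self, add_zero]
  refine Finset.sum_le_sum (fun j _ => ?_)
  by_cases hij : i ≤ j.castSucc
  · have hij' : i.val ≤ j.val := hij
    rw [if_pos hij, if_pos hij']
    exact (hc1 j).trans (hb1 j)
  · have hij' : ¬ i.val ≤ j.val := hij
    rw [if_neg hij, if_neg hij']

end Groth.Agent.H3.DeltaZ
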