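import Groth.Agent.H3.DeltaZ

set_option autoImplicit false
universe u

namespace Groth.Agent.H3.DeltaZ

open Algz

variable {Y : Type u} [TopologicalSpace Y] {Z : Set Y} {y : Y} {k : ℕ}

noncomputable def CC (S : DSystem Z y k) (i : Fin (k + 1)) : ℕ∞ :=
  ∑ j : Fin (k + 1), if i ≤ j then S.c j else 0

noncomputable def BB (S : DSystem Z y k) (i : Fin (k + 1)) : ℕ∞ :=
  ∑ j : Fin k, if i.val ≤ j.val then S.b j else 0

theorem delta_eq (S : DSystem Z y k) :
    S.delta = (k : ℕ∞) + Finset.univ.sup (fun i => CC S i - BB S i) := by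
  unfold DSystem.delta CC BB
  simp only [Finset.sum_filter]

theorem CC_last (S : DSystem Z y k) : CC S (Fin.last k) = S.c (Fin.last k) := by
  unfold CC
  rw [Fin.sum_univ_castSucc, if_pos le_rfl, Finset.sum_eq_zero, zero_add]
  intro j _
  exact if_neg (not_le.mpr (Fin.castSucc_lt_last j))

theorem BB_last (S : DSystem Z y k) : BB S (Fin.last k) = 0 := by
  unfold BB
  refine Finset.sum_eq_zero (fun j _ => ?_)
  exact if_neg (not_le.mpr j.isLt)

theorem delta_mono {y' : Y} (S : DSystem Z y k) (S' : DSystem Z y' k)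
    (hc : ∀ j, S'.c j ≤ S.c j) (hb : ∀ j, S.b j ≤ S'.b j) : S'.delta ≤ S.delta := by
  rw [delta_eq, delta_eq]
  refine add_le_add le_rfl (Finset.sup_mono_fun (fun i _ => ?_))
  unfold CC BB
  refine tsub_le_tsub (Finset.sum_le_sum (fun j _ => ?_)) (Finset.sum_le_sum (fun j _ => ?_))
  · by_cases hij : i ≤ j
    · rw [if_pos hij, if_pos hij]; exact hc j
    · rw [if_neg hij, if_neg hij]
  · by_cases hij : i.val ≤ j.val
    · rw [if_pos hij, if_pos hij]; exact hb j
    · rw [if_neg hij, if_neg hij]

/-- replace the last pair by `y'` (used when `V_k = W_k`). -/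
def updSys (S : DSystem Z y k) (y' : Y) (hyy' : y ⤳ y')
    (hvw : S.v (Fin.last k) ⤳ S.w (Fin.last k)) (hZ : IsClosed Z) : DSystem Z y' k where
  v := Function.update S.v (Fin.last k) y'
  w := Function.update S.w (Fin.last k) y'
  spec := by
    intro i
    by_cases hi : i = Fin.last k
    · rw [hi, Function.update_self, Function.update_self]
    · rw [Function.update_of_ne hi, Function.update_of_ne hi]; exact S.spec i
  spec_succ := by
    intro i
    have hwy' : S.w (Fin.last k) ⤳ y' := by rw [S.last_eq]; exact hyy'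
    rw [Function.update_of_ne (Fin.castSucc_lt_last i).ne]
    by_cases hi : i.succ = Fin.last k
    · rw [hi, Function.update_self]
      have h1 := S.spec_succ i
      rw [hi] at h1
      exact (h1.trans hvw).trans hwy'
    · rw [Function.update_of_ne hi]; exact S.spec_succ i
  start_mem := by
    have hwy' : S.w (Fin.last k) ⤳ y' := by rw [S.last_eq]; exact hyy'
    by_cases h0 : (0 : Fin (k + 1)) = Fin.last k
    · rw [h0, Function.update_self]
      have hv0 : S.v 0 ⤳ y' := by rw [h0]; exact hvw.trans hwy'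
      exact hv0.mem_closed hZ S.start_mem
    · rw [Function.update_of_ne h0]; exact S.start_mem
  last_eq := Function.update_self _ _ _

theorem upd_delta_le (S : DSystem Z y k) (y' : Y) (hyy' : y ⤳ y')
    (hvw : S.v (Fin.last k) ⤳ S.w (Fin.last k)) (hZ : IsClosed Z) :
    (updSys S y' hyy' hvw hZ).delta ≤ S.delta := by
  have hwy' : S.w (Fin.last k) ⤳ y' := by rw [S.last_eq]; exact hyy'
  refine delta_mono S _ (fun j => ?_) (fun j => ?_)
  · unfold DSystem.c
    by_cases hj : j = Fin.last k
    · refine le_of_eq_of_le ?_ zero_le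
      exact (codimPt_congr (by rw [hj]; exact Function.update_self _ _ _)
        (by rw [hj]; exact Function.update_self _ _ _) _
        (specializes_rfl : y' ⤳ y')).trans (codimPt_self _ _)
    · exact le_of_eq (codimPt_congr (Function.update_of_ne hj _ _)
        (Function.update_of_ne hj _ _) _ _)
  · unfold DSystem.b
    have hw : (updSys S y' hyy' hvw hZ).w j.castSucc = S.w j.castSucc :=
      Function.update_of_ne (Fin.castSucc_lt_last j).ne _ _
    by_cases hj : j.succ = Fin.last k
    · have hv : (updSys S y' hyy' hvw hZ).v j.succ = y' := by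
        rw [hj]; exact Function.update_self _ _ _
      have hvy' : S.v j.succ ⤳ y' := by rw [hj]; exact hvw.trans hwy'
      refine (codimPt_mono (S.spec_succ j) hvy' ((S.spec_succ j).trans hvy')).trans
        (le_of_eq ?_)
      exact (codimPt_congr hw hv _ _).symm
    · have hv : (updSys S y' hyy' hvw hZ).v j.succ = S.v j.succ :=
        Function.update_of_ne hj _ _
      exact le_of_eq (codimPt_congr hw hv _ _).symm

/-- append the pair `(y', y')` (used when `V_k ≠ W_k`). -/
def extSys (S : DSystem Z y k) (y' : Y) (hyy' : y ⤳ y') : DSystem Z y' (k + 1) where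
  v := snocY S.v y'
  w := snocY S.w y'
  spec := by
    intro i
    refine Fin.lastCases ?_ (fun j => ?_) i
    · rw [snocY_last, snocY_last]
    · rw [snocY_castSucc, snocY_castSucc]; exact S.spec j
  spec_succ := by
    intro i
    rw [snocY_castSucc]
    refine Fin.lastCases ?_ (fun j => ?_) i
    · show S.w (Fin.last k) ⤳ snocY S.v y' (Fin.last (k + 1))
      rw [snocY_last, S.last_eq]; exact hyy'
    · show S.w j.castSucc ⤳ snocY S.v y' j.succ.castSucc
      rw [snocY_castSucc]; exact S.spec_succ j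
  start_mem := by
    show snocY S.v y' (Fin.castSucc 0) ∈ Z
    rw [snocY_castSucc]; exact S.start_mem
  last_eq := snocY_last _ _

theorem ext_c_castSucc (S : DSystem Z y k) (y' : Y) (hyy' : y ⤳ y') (j : Fin (k + 1)) :
    (extSys S y' hyy').c j.castSucc = S.c j := by
  unfold DSystem.c
  exact codimPt_congr (snocY_castSucc _ _ j) (snocY_castSucc _ _ j) _ _

theorem ext_c_last (S : DSystem Z y k) (y' : Y) (hyy' : y ⤳ y') :
    (extSys S y' hyy').c (Fin.last (k + 1)) = 0 := by
  unfold DSystem.c
  exact (codimPt_congr (snocY_last _ _) (snocY_last _ _) _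
    (specializes_rfl : y' ⤳ y')).trans (codimPt_self _ _)

theorem ext_b_castSucc (S : DSystem Z y k) (y' : Y) (hyy' : y ⤳ y') (j : Fin k) :
    (extSys S y' hyy').b j.castSucc = S.b j := by
  unfold DSystem.b
  exact codimPt_congr (snocY_castSucc S.w y' j.castSucc) (snocY_castSucc S.v y' j.succ) _ _

theorem ext_b_last (S : DSystem Z y k) (y' : Y) (hyy' : y ⤳ y') (hn : ¬ y' ⤳ y) :
    1 ≤ (extSys S y' hyy').b (Fin.last k) := by
  unfold DSystem.b
  have hw : (extSys S y' hyy').w (Fin.last k).castSucc = y :=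
    (snocY_castSucc S.w y' (Fin.last k)).trans S.last_eq
  have hv : (extSys S y' hyy').v (Fin.last k).succ = y' := snocY_last S.v y'
  exact le_of_le_of_eq (one_le_codimPt hyy' hn) (codimPt_congr hw hv _ _).symm

theorem ext_CC_castSucc (S : DSystem Z y k) (y' : Y) (hyy' : y ⤳ y') (i₀ : Fin (k + 1)) :
    CC (extSys S y' hyy') i₀.castSucc = CC S i₀ := by
  unfold CC
  rw [Fin.sum_univ_castSucc, ext_c_last, ite_self, add_zero]
  refine Finset.sum_congr rfl (fun j _ => ?_)
  simp only [ext_c_castSucc, Fin.castSucc_le_castSucc_iff]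

theorem ext_CC_last (S : DSystem Z y k) (y' : Y) (hyy' : y ⤳ y') :
    CC (extSys S y' hyy') (Fin.last (k + 1)) = 0 := by
  rw [CC_last, ext_c_last]

theorem ext_BB_castSucc (S : DSystem Z y k) (y' : Y) (hyy' : y ⤳ y') (i₀ : Fin (k + 1)) :
    BB (extSys S y' hyy') i₀.castSucc = BB S i₀ + (extSys S y' hyy').b (Fin.last k) := by
  unfold BB
  rw [Fin.sum_univ_castSucc]
  congr 1
  · refine Finset.sum_congr rfl (fun j _ => ?_)
    rw [ext_b_castSucc]; rfl
  · exact if_pos (Nat.lt_succ_iff.mp i₀.isLt)

theorem ext_delta_le (S : DSystem Z y k) (y' : Y) (hyy' : y ⤳ y') (hn : ¬ y' ⤳ y)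
    (hck : 1 ≤ S.c (Fin.last k)) : (extSys S y' hyy').delta ≤ S.delta := by
  rw [delta_eq, delta_eq]
  have hM1 : 1 ≤ Finset.univ.sup (fun i => CC S i - BB S i) := by
    refine le_trans ?_ (Finset.le_sup (f := fun i => CC S i - BB S i)
      (Finset.mem_univ (Fin.last k)))
    show 1 ≤ CC S (Fin.last k) - BB S (Fin.last k)
    rw [CC_last, BB_last, tsub_zero]; exact hck
  have hsup : Finset.univ.sup
      (fun i => CC (extSys S y' hyy') i - BB (extSys S y' hyy') i) ≤
      Finset.univ.sup (fun i => CC S i - BB S i) - 1 := by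
    refine Finset.sup_le (fun i _ => ?_)
    refine Fin.lastCases ?_ (fun i₀ => ?_) i
    · rw [ext_CC_last, zero_tsub]; exact zero_le
    · rw [ext_CC_castSucc, ext_BB_castSucc, tsub_add_eq_tsub_tsub]
      refine le_trans (tsub_le_tsub_left (ext_b_last S y' hyy' hn) _)
        (tsub_le_tsub_right ?_ 1)
      exact Finset.le_sup (f := fun i => CC S i - BB S i) (Finset.mem_univ i₀)
  calc ((k + 1 : ℕ) : ℕ∞) + Finset.univ.sup
        (fun i => CC (extSys S y' hyy') i - BB (extSys S y' hyy') i)
      ≤ ((k + 1 : ℕ) : ℕ∞) + (Finset.univ.sup (fun i => CC S i - BB S i) - 1) :=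
        add_le_add le_rfl hsup
    _ = (k : ℕ∞) + (1 + (Finset.univ.sup (fun i => CC S i - BB S i) - 1)) := by
        rw [Nat.cast_add, Nat.cast_one, add_assoc]
    _ = (k : ℕ∞) + Finset.univ.sup (fun i => CC S i - BB S i) := by
        rw [add_tsub_cancel_of_le hM1]

theorem deltaZ_le_of_specializes [T0Space Y] (hZ : IsClosed Z) (y y' : Y) (h : y ⤳ y') :
    deltaZ Z y' ≤ deltaZ Z y := by
  by_cases hy : y' ⤳ y
  · have : y = y' := (h.antisymm hy).eq
    rw [this]
  · have key : ∀ (k : ℕ) (S : DSystem Z y k), deltaZ Z y' ≤ S.delta := by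
      intro k S
      by_cases hck : S.c (Fin.last k) = 0
      · have hvw : S.v (Fin.last k) ⤳ S.w (Fin.last k) :=
          specializes_of_codimPt_eq_zero (S.spec _) hck
        exact (deltaZ_le_delta (updSys S y' h hvw hZ)).trans (upd_delta_le S y' h hvw hZ)
      · have hck' : 1 ≤ S.c (Fin.last k) := Order.one_le_iff_ne_zero.mpr hck
        exact (deltaZ_le_delta (extSys S y' h)).trans (ext_delta_le S y' h hy hck')
    exact le_iInf₂ key

end Groth.Agent.H3.DeltaZ
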