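import Groth.Agent.H3.DeltaZ2

set_option autoImplicit false
universe u

namespace Groth.Agent.H3.DeltaZ

open Algz

variable {Y : Type u} [TopologicalSpace Y]

/-- abstract dimension function -/
def DimFun (δ : Y → ℤ) : Prop :=
  ∀ x y : Y, x ⤳ y → x ≠ y →
    δ y < δ x ∧ ((∀ z : Y, x ⤳ z → z ⤳ y → z = x ∨ z = y) → δ x = δ y + 1)

theorem DimFun.mono {δ : Y → ℤ} (hδ : DimFun δ) {a b : Y} (h : a ⤳ b) : δ b ≤ δ a := by
  by_cases hab : a = b
  · rw [hab]
  · exact le_of_lt (hδ a b h hab).1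

theorem codimPt_le_dim {δ : Y → ℤ} (hδ : DimFun δ) {w v : Y} (h : w ⤳ v) :
    codimPt w v h ≤ ((δ w - δ v).toNat : ℕ∞) := by
  unfold codimPt
  rw [Order.height_le_iff']
  intro p hp
  let g : Set.Ici (Specialization.toEquiv v) → ℤ := fun a => δ (Specialization.ofEquiv a.1)
  have hg : ∀ a b : Set.Ici (Specialization.toEquiv v), a < b → g a < g b := by
    intro a b hab
    have h1 : Specialization.ofEquiv b.1 ⤳ Specialization.ofEquiv a.1 :=
      Specialization.ofEquiv_specializes_ofEquiv.mpr (le_of_lt hab)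
    have h2 : Specialization.ofEquiv b.1 ≠ Specialization.ofEquiv a.1 := by
      intro heq
      have : b.1 = a.1 := Specialization.ofEquiv.injective heq
      exact (ne_of_lt hab) (Subtype.ext this.symm)
    exact (hδ _ _ h1 h2).1
  have hmono : ∀ i : Fin (p.length + 1), g (p 0) + (i.val : ℤ) ≤ g (p i) := by
    intro i
    induction i using Fin.induction with
    | zero => simp
    | succ i ih =>
      have h3 := hg _ _ (p.strictMono (Fin.castSucc_lt_succ (i := i)))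
      have ih' : g (p 0) + (i.val : ℤ) ≤ g (p i.castSucc) := ih
      have h4 : ((i.succ.val : ℕ) : ℤ) = (i.val : ℤ) + 1 := by simp
      rw [h4]
      linarith
  have hlast := hmono (Fin.last _)
  have hgl : g (p (Fin.last _)) = δ w := by
    have h5 : p (Fin.last _) = ⟨Specialization.toEquiv w, _⟩ := hp
    show δ (Specialization.ofEquiv (p (Fin.last _)).1) = δ w
    rw [h5]; rfl
  have hg0 : δ v ≤ g (p 0) := by
    have h1 : Specialization.ofEquiv (p 0).1 ⤳ v := (p 0).2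
    exact hδ.mono h1
  have hlen : (p.length : ℤ) ≤ δ w - δ v := by
    simp only [Fin.val_last] at hlast
    linarith
  have : p.length ≤ (δ w - δ v).toNat := by omega
  exact_mod_cast this

theorem dim_le_codimPt [T0Space Y] {δ : Y → ℤ} (hδ : DimFun δ) :
    ∀ (n : ℕ) (w v : Y) (h : w ⤳ v), (δ w - δ v).toNat = n → (n : ℕ∞) ≤ codimPt w v h := by
  intro n
  induction n with
  | zero => intro w v h _; exact zero_le
  | succ n ih =>
    intro w v h hn
    have hwv : w ≠ v := by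
      rintro rfl
      simp at hn
    obtain ⟨d, ⟨z, hwz, hzv, hzw, rfl⟩, hmax⟩ := Int.exists_greatest_of_bdd
      (P := fun d => ∃ z, w ⤳ z ∧ z ⤳ v ∧ z ≠ w ∧ δ z = d)
      ⟨δ w, by
        rintro d ⟨z, hwz, -, hzw, rfl⟩
        exact le_of_lt (hδ w z hwz hzw.symm).1⟩
      ⟨δ v, v, h, specializes_rfl, hwv.symm, rfl⟩
    have himm : ∀ z' : Y, w ⤳ z' → z' ⤳ z → z' = w ∨ z' = z := by
      intro z' hwz' hz'z
      by_cases hz'w : z' = w
      · exact Or.inl hz'w
      · right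
        by_contra hne
        have h1 : δ z' ≤ δ z := hmax _ ⟨z', hwz', hz'z.trans hzv, hz'w, rfl⟩
        have h2 := (hδ z' z hz'z hne).1
        linarith
    have hstep : δ w = δ z + 1 := (hδ w z hwz hzw.symm).2 himm
    have hn' : (δ z - δ v).toNat = n := by omega
    have ih' := ih z v hzv hn'
    have hlt : (⟨Specialization.toEquiv z, Specialization.toEquiv_le_toEquiv.mpr hzv⟩ :
        Set.Ici (Specialization.toEquiv v)) <
        ⟨Specialization.toEquiv w, Specialization.toEquiv_le_toEquiv.mpr h⟩ :=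
      lt_of_le_not_ge (Specialization.toEquiv_le_toEquiv.mpr hwz)
        (fun hle => hzw ((hwz.antisymm (Specialization.toEquiv_le_toEquiv.mp hle)).eq).symm)
    calc ((n + 1 : ℕ) : ℕ∞) = (n : ℕ∞) + 1 := Nat.cast_succ n
      _ ≤ codimPt z v hzv + 1 := add_le_add ih' le_rfl
      _ ≤ codimPt w v h := Order.height_add_one_le hlt

theorem codimPt_eq_dim [T0Space Y] {δ : Y → ℤ} (hδ : DimFun δ) {w v : Y} (h : w ⤳ v) :
    codimPt w v h = ((δ w - δ v).toNat : ℕ∞) :=
  le_antisymm (codimPt_le_dim hδ h) (dim_le_codimPt hδ _ w v h rfl)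

theorem exists_le_of_deltaZ_eq [T0Space Y] {δ : Y → ℤ} (hδ : DimFun δ) (Z : Set Y) (y : Y)
    (n : ℕ) (hn : deltaZ Z y = n) : ∃ z ∈ Z, δ y ≤ n + δ z := by
  have hlt : deltaZ Z y < ((n + 1 : ℕ) : ℕ∞) := by
    rw [hn]; exact_mod_cast Nat.lt_succ_self n
  unfold deltaZ at hlt
  rw [iInf_lt_iff] at hlt
  obtain ⟨k, hk⟩ := hlt
  rw [iInf_lt_iff] at hk
  obtain ⟨S, hS⟩ := hk
  refine ⟨S.v 0, S.start_mem, ?_⟩
  let cn : Fin (k + 1) → ℕ := fun j => (δ (S.w j) - δ (S.v j)).toNat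
  let bn : Fin k → ℕ := fun j => (δ (S.w j.castSucc) - δ (S.v j.succ)).toNat
  have hc : ∀ j, S.c j = (cn j : ℕ∞) := fun j => codimPt_eq_dim hδ (S.spec j)
  have hb : ∀ j, S.b j = (bn j : ℕ∞) := fun j => codimPt_eq_dim hδ (S.spec_succ j)
  have hCC : CC S 0 = ((∑ j, cn j : ℕ) : ℕ∞) := by
    unfold CC
    rw [Nat.cast_sum]
    refine Finset.sum_congr rfl (fun j _ => ?_)
    rw [if_pos (Fin.zero_le j), hc j]
  have hBB : BB S 0 = ((∑ j, bn j : ℕ) : ℕ∞) := by
    unfold BB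
    rw [Nat.cast_sum]
    refine Finset.sum_congr rfl (fun j _ => ?_)
    rw [if_pos (show ((0 : Fin (k + 1)) : ℕ) ≤ (j : ℕ) from Nat.zero_le _), hb j]
  have h0 : CC S 0 - BB S 0 < ((n + 1 : ℕ) : ℕ∞) := by
    refine lt_of_le_of_lt ?_ hS
    rw [delta_eq]
    exact le_trans (Finset.le_sup (f := fun i => CC S i - BB S i) (Finset.mem_univ 0))
      le_add_self
  rw [hCC, hBB, ← ENat.natCast_sub, Nat.cast_lt] at h0
  have hcz : ∀ j, ((cn j : ℕ) : ℤ) = δ (S.w j) - δ (S.v j) := fun j =>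
    Int.toNat_of_nonneg (sub_nonneg.mpr (hδ.mono (S.spec j)))
  have hbz : ∀ j, ((bn j : ℕ) : ℤ) = δ (S.w j.castSucc) - δ (S.v j.succ) := fun j =>
    Int.toNat_of_nonneg (sub_nonneg.mpr (hδ.mono (S.spec_succ j)))
  have htel : (∑ j, (δ (S.w j) - δ (S.v j))) - ∑ j : Fin k, (δ (S.w j.castSucc) - δ (S.v j.succ))
      = δ (S.w (Fin.last k)) - δ (S.v 0) := by
    rw [Finset.sum_sub_distrib, Finset.sum_sub_distrib,
      Fin.sum_univ_castSucc (fun j => δ (S.w j)), Fin.sum_univ_succ (fun j => δ (S.v j))]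
    ring
  have hsumc : ((∑ j, cn j : ℕ) : ℤ) = ∑ j, (δ (S.w j) - δ (S.v j)) := by
    rw [Nat.cast_sum]; exact Finset.sum_congr rfl (fun j _ => hcz j)
  have hsumb : ((∑ j, bn j : ℕ) : ℤ) = ∑ j : Fin k, (δ (S.w j.castSucc) - δ (S.v j.succ)) := by
    rw [Nat.cast_sum]; exact Finset.sum_congr rfl (fun j _ => hbz j)
  have hy : δ y = δ (S.w (Fin.last k)) := by rw [S.last_eq]
  have h1 : ((∑ j, cn j : ℕ) : ℤ) ≤ n + ((∑ j, bn j : ℕ) : ℤ) := by omega
  rw [hsumc, hsumb] at h1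
  linarith

end Groth.Agent.H3.DeltaZ
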