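import Groth.Agent.H3.DeltaZ3
import Groth.Prelude.Def_Found

set_option autoImplicit false
universe u

namespace Groth.Agent.H3.DeltaZ

open Algz

section order

variable {α : Type*} [PartialOrder α]

/-- prepend an element to a strictly increasing series -/
def consS (t : LTSeries α) (a : α) (h : a < t.head) : LTSeries α :=
  LTSeries.mk (t.length + 1) (Fin.cons (α := fun _ => α) a t.toFun) (by
    rw [Fin.strictMono_iff_lt_succ]
    intro i
    refine Fin.cases ?_ (fun j => ?_) i
    · simp only [Fin.castSucc_zero, Fin.cons_zero, Fin.cons_succ]; exact h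
    · simp only [Fin.castSucc_succ, Fin.cons_succ]
      exact t.strictMono Fin.castSucc_lt_succ)

theorem consS_head (t : LTSeries α) (a : α) (h : a < t.head) : (consS t a h).head = a := by
  show Fin.cons (α := fun _ => α) a t.toFun 0 = a
  simp only [Fin.cons_zero]

theorem consS_last (t : LTSeries α) (a : α) (h : a < t.head) :
    (consS t a h).last = t.last := by
  show Fin.cons (α := fun _ => α) a t.toFun (Fin.succ (Fin.last t.length)) =
    t.toFun (Fin.last t.length)
  simp only [Fin.cons_succ]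

theorem consS_sat (t : LTSeries α) (a : α) (h : a < t.head) (hat : a ⋖ t.head)
    (ht : ∀ i : Fin t.length, t i.castSucc ⋖ t i.succ) :
    ∀ i : Fin (consS t a h).length, (consS t a h) i.castSucc ⋖ (consS t a h) i.succ := by
  have key : ∀ i : Fin (t.length + 1),
      Fin.cons (α := fun _ => α) a t.toFun i.castSucc ⋖
        Fin.cons (α := fun _ => α) a t.toFun i.succ := by
    intro i
    refine Fin.cases ?_ (fun j => ?_) i
    · simp only [Fin.castSucc_zero, Fin.cons_zero, Fin.cons_succ]; exact hat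
    · simp only [Fin.castSucc_succ, Fin.cons_succ]; exact ht j
  exact key

theorem exists_covBy_coheight (hfin : ∀ a : α, Order.coheight a ≠ ⊤) {a : α} {n : ℕ}
    (h : Order.coheight a = ((n + 1 : ℕ) : ℕ∞)) : ∃ y, a ⋖ y ∧ Order.coheight y = n := by
  have hex : ∃ y, a < y ∧ Order.coheight y = n := by
    by_contra hno
    push_neg at hno
    have hle : Order.coheight a ≤ n := by
      rw [Order.coheight_eq_iSup_gt_coheight]
      refine iSup₂_le (fun y hy => ?_)
      obtain ⟨m, hm⟩ := ENat.ne_top_iff_exists.mp (hfin y)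
      have h1 : Order.coheight y + 1 ≤ Order.coheight a := Order.coheight_add_one_le hy
      rw [h, ← hm] at h1
      have h2 : m + 1 ≤ n + 1 := by exact_mod_cast h1
      have h3 : m ≠ n := fun e => hno y hy (by rw [← hm, e])
      rw [← hm]
      have : m + 1 ≤ n := by omega
      exact_mod_cast this
    rw [h] at hle
    have : n + 1 ≤ n := by exact_mod_cast hle
    omega
  obtain ⟨y, hay, hy⟩ := hex
  refine ⟨y, ⟨hay, fun z haz hzy => ?_⟩, hy⟩
  have h1 : Order.coheight y + 1 ≤ Order.coheight z := Order.coheight_add_one_le hzy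
  have h2 : Order.coheight z + 1 ≤ Order.coheight a := Order.coheight_add_one_le haz
  obtain ⟨m, hm⟩ := ENat.ne_top_iff_exists.mp (hfin z)
  rw [hy, ← hm] at h1
  rw [h, ← hm] at h2
  have h1' : n + 1 ≤ m := by exact_mod_cast h1
  have h2' : m + 1 ≤ n + 1 := by exact_mod_cast h2
  omega

theorem exists_sat_series (hfin : ∀ a : α, Order.coheight a ≠ ⊤) (m : α) (hm : ∀ a, a ≤ m) :
    ∀ (n : ℕ) (a : α), Order.coheight a = n → ∃ s : LTSeries α, s.head = a ∧ s.last = m ∧
      s.length = n ∧ ∀ i : Fin s.length, s i.castSucc ⋖ s i.succ := by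
  intro n
  induction n with
  | zero =>
    intro a ha
    rw [Nat.cast_zero, Order.coheight_eq_zero] at ha
    have : a = m := le_antisymm (hm a) (ha (hm a))
    exact ⟨RelSeries.singleton _ a, rfl, this, rfl, fun i => i.elim0⟩
  | succ n ih =>
    intro a ha
    obtain ⟨y, hay, hy⟩ := exists_covBy_coheight hfin ha
    obtain ⟨t, ht1, ht2, ht3, ht4⟩ := ih y hy
    have h : a < t.head := by rw [ht1]; exact hay.lt
    refine ⟨consS t a h, consS_head t a h, (consS_last t a h).trans ht2, ?_,
      consS_sat t a h (by rw [ht1]; exact hay) ht4⟩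
    show t.length + 1 = n + 1
    rw [ht3]

theorem coheight_covBy (hfin : ∀ a : α, Order.coheight a ≠ ⊤) (m : α) (hm : ∀ a, a ≤ m)
    (hcat : ∀ s t : LTSeries α, s.head = t.head → s.last = t.last →
      (∀ i : Fin s.length, s (Fin.castSucc i) ⋖ s (Fin.succ i)) →
      (∀ i : Fin t.length, t (Fin.castSucc i) ⋖ t (Fin.succ i)) → s.length = t.length)
    {x y : α} (hxy : x ⋖ y) : Order.coheight x = Order.coheight y + 1 := by
  obtain ⟨k, hk⟩ := ENat.ne_top_iff_exists.mp (hfin x)
  obtain ⟨n, hn⟩ := ENat.ne_top_iff_exists.mp (hfin y)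
  obtain ⟨s, hs1, hs2, hs3, hs4⟩ := exists_sat_series hfin m hm k x hk.symm
  obtain ⟨t, ht1, ht2, ht3, ht4⟩ := exists_sat_series hfin m hm n y hn.symm
  have h : x < t.head := by rw [ht1]; exact hxy.lt
  have hlen := hcat s (consS t x h) (hs1.trans (consS_head t x h).symm)
    (hs2.trans ((consS_last t x h).trans ht2).symm) hs4
    (consS_sat t x h (by rw [ht1]; exact hxy) ht4)
  have hlen' : k = n + 1 := by
    rw [← hs3, hlen]
    show t.length + 1 = n + 1
    rw [ht3]
  rw [← hk, ← hn, hlen']
  push_cast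
  rfl

end order

section sys0

variable {Y : Type u} [TopologicalSpace Y]

/-- the system `{z} ⊆ closure y` of length `0` -/
def sys0 (Z : Set Y) (z y : Y) (hz : z ∈ Z) (h : y ⤳ z) : DSystem Z y 0 where
  v := fun _ => z
  w := fun _ => y
  spec := fun _ => h
  spec_succ := fun i => i.elim0
  start_mem := hz
  last_eq := rfl

theorem sys0_delta_le (Z : Set Y) (z y : Y) (hz : z ∈ Z) (h : y ⤳ z) :
    (sys0 Z z y hz h).delta ≤ codimPt y z h := by
  rw [delta_eq, Nat.cast_zero, zero_add]
  refine Finset.sup_le (fun i _ => ?_)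
  refine le_trans tsub_le_self ?_
  unfold CC
  rw [Fin.sum_univ_one]
  split_ifs
  · exact le_of_eq rfl
  · exact zero_le

end sys0

section spec

variable (A : Type u) [CommRing A] [IsNoetherianRing A] [IsLocalRing A]

theorem coheight_ne_top (a : PrimeSpectrum A) : Order.coheight a ≠ ⊤ := by
  intro htop
  have h1 := Order.coheight_le_krullDim a
  rw [htop] at h1
  have h2 : ringKrullDim A < ⊤ := ringKrullDim_lt_top
  exact lt_irrefl (⊤ : WithBot ℕ∞) (lt_of_le_of_lt h1 h2)

theorem le_closedPoint (a : PrimeSpectrum A) : a ≤ IsLocalRing.closedPoint A :=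
  IsLocalRing.le_maximalIdeal a.2.ne_top

/-- dimension of the closure, as an integer -/
noncomputable def dimδ (x : PrimeSpectrum A) : ℤ := ((Order.coheight x).toNat : ℤ)

theorem dimFun_dimδ (hA : CAlg.IsCatenary A) : DimFun (Y := PrimeSpectrum A) (dimδ A) := by
  intro x y hxy hne
  have hle : x ≤ y := (PrimeSpectrum.le_iff_specializes x y).mpr hxy
  have hlt : x < y := lt_of_le_of_ne hle hne
  obtain ⟨a, ha⟩ := ENat.ne_top_iff_exists.mp (coheight_ne_top A x)
  obtain ⟨b, hb⟩ := ENat.ne_top_iff_exists.mp (coheight_ne_top A y)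
  have h1 : Order.coheight y + 1 ≤ Order.coheight x := Order.coheight_add_one_le hlt
  rw [← ha, ← hb] at h1
  have h1' : b + 1 ≤ a := by exact_mod_cast h1
  have hδx : dimδ A x = a := by unfold dimδ; rw [← ha, ENat.toNat_natCast]
  have hδy : dimδ A y = b := by unfold dimδ; rw [← hb, ENat.toNat_natCast]
  refine ⟨by rw [hδx, hδy]; exact_mod_cast h1', fun himm => ?_⟩
  have hcov : x ⋖ y := by
    refine ⟨hlt, fun c hxc hcy => ?_⟩
    rcases himm c ((PrimeSpectrum.le_iff_specializes x c).mp hxc.le)
      ((PrimeSpectrum.le_iff_specializes c y).mp hcy.le) with h | h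
    · exact hxc.ne' h
    · exact hcy.ne h
  have h2 := coheight_covBy (coheight_ne_top A) (IsLocalRing.closedPoint A) (le_closedPoint A)
    hA.2 hcov
  rw [← ha, ← hb] at h2
  have : a = b + 1 := by exact_mod_cast h2
  rw [hδx, hδy, this]
  push_cast
  ring

theorem deltaZ_closedPoint (hA : CAlg.IsCatenary A) (y : PrimeSpectrum A) :
    deltaZ ({IsLocalRing.closedPoint A} : Set (PrimeSpectrum A)) y = Order.coheight y := by
  have hδ := dimFun_dimδ A hA
  have hym : y ⤳ IsLocalRing.closedPoint A :=
    (PrimeSpectrum.le_iff_specializes _ _).mp (le_closedPoint A y)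
  have hm0 : dimδ A (IsLocalRing.closedPoint A) = 0 := by
    unfold dimδ
    have : Order.coheight (IsLocalRing.closedPoint A) = 0 := by
      rw [Order.coheight_eq_zero]; intro b _; exact le_closedPoint A b
    rw [this]; simp
  obtain ⟨a, ha⟩ := ENat.ne_top_iff_exists.mp (coheight_ne_top A y)
  have hδy : dimδ A y = a := by unfold dimδ; rw [← ha, ENat.toNat_natCast]
  apply le_antisymm
  · refine (deltaZ_le_delta (sys0 _ _ y (Set.mem_singleton _) hym)).trans ?_
    refine (sys0_delta_le _ _ _ _ _).trans ?_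
    rw [codimPt_eq_dim hδ hym, hm0, sub_zero, hδy, Int.toNat_natCast, ha]
  · rw [← ha]
    by_cases htop : deltaZ ({IsLocalRing.closedPoint A} : Set (PrimeSpectrum A)) y = ⊤
    · rw [htop]; exact le_top
    · obtain ⟨n, hn⟩ := ENat.ne_top_iff_exists.mp htop
      obtain ⟨z, hz, hle⟩ := exists_le_of_deltaZ_eq hδ _ y n hn.symm
      rw [Set.mem_singleton_iff] at hz
      rw [hz, hm0, hδy, add_zero] at hle
      rw [← hn]
      exact_mod_cast hle

theorem deltaZ_closedPoint_eq_dim (hA : CAlg.IsCatenary A) (y : PrimeSpectrum A) :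
    ((deltaZ ({IsLocalRing.closedPoint A} : Set (PrimeSpectrum A)) y : ℕ∞) : WithBot ℕ∞) =
      ringKrullDim (A ⧸ y.asIdeal) := by
  rw [deltaZ_closedPoint A hA y, ringKrullDim_quotient, Order.coheight_eq_krullDim_Ici]
  have h2 : (PrimeSpectrum.zeroLocus (y.asIdeal : Set A)) = Set.Ici y := by
    ext x
    rw [PrimeSpectrum.mem_zeroLocus, Set.mem_Ici, SetLike.coe_subset_coe]
    rfl
  rw [h2]

end spec

end Groth.Agent.H3.DeltaZ
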