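import Groth.Agent.H3.DeltaZ2

set_option autoImplicit false
universe u

namespace Groth.Agent.H3.DeltaZ

open Algz

variable {Y' Y : Type u} [TopologicalSpace Y'] [TopologicalSpace Y]

theorem codimPt_map_ge {f : Y' → Y} (hf : Topology.IsInducing f) {w v : Y'} (h : w ⤳ v)
    (h' : f w ⤳ f v) : codimPt w v h ≤ codimPt (f w) (f v) h' := by
  unfold codimPt
  let F : Set.Ici (Specialization.toEquiv v) → Set.Ici (Specialization.toEquiv (f v)) :=
    fun a => ⟨Specialization.toEquiv (f (Specialization.ofEquiv a.1)),
      Specialization.toEquiv_le_toEquiv.mpr ((hf.specializes_iff).mpr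
        (Specialization.toEquiv_le_toEquiv.mp
          (show Specialization.toEquiv v ≤
            Specialization.toEquiv (Specialization.ofEquiv a.1) from a.2)))⟩
  have hF : StrictMono F := by
    intro a b hab
    have h1 : Specialization.ofEquiv b.1 ⤳ Specialization.ofEquiv a.1 :=
      Specialization.ofEquiv_specializes_ofEquiv.mpr hab.le
    have h2 : ¬ Specialization.ofEquiv a.1 ⤳ Specialization.ofEquiv b.1 := fun h =>
      (not_le_of_gt hab) (Specialization.ofEquiv_specializes_ofEquiv.mp h)
    exact lt_of_le_not_ge (Specialization.toEquiv_le_toEquiv.mpr (hf.specializes_iff.mpr h1))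
      (fun hle => h2 (hf.specializes_iff.mp (Specialization.toEquiv_le_toEquiv.mp hle)))
  exact Order.height_le_height_apply_of_strictMono F hF _

theorem codimPt_map_le {f : Y' → Y} (hf : Topology.IsOpenEmbedding f) {w v : Y'} (h : w ⤳ v)
    (h' : f w ⤳ f v) : codimPt (f w) (f v) h' ≤ codimPt w v h := by
  unfold codimPt
  have hmem : ∀ a : Set.Ici (Specialization.toEquiv (f v)),
      Specialization.ofEquiv a.1 ∈ Set.range f := by
    intro a
    have h1 : Specialization.ofEquiv a.1 ⤳ f v := a.2
    exact h1.mem_open hf.isOpen_range (Set.mem_range_self v)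
  choose g hg using hmem
  let G : Set.Ici (Specialization.toEquiv (f v)) → Set.Ici (Specialization.toEquiv v) :=
    fun a => ⟨Specialization.toEquiv (g a), Specialization.toEquiv_le_toEquiv.mpr
      (hf.isInducing.specializes_iff.mp (by rw [hg a]; exact a.2))⟩
  have hG : StrictMono G := by
    intro a b hab
    have h1 : f (g b) ⤳ f (g a) := by
      rw [hg a, hg b]; exact Specialization.ofEquiv_specializes_ofEquiv.mpr hab.le
    have h2 : ¬ f (g a) ⤳ f (g b) := by
      rw [hg a, hg b]
      exact fun h => (not_le_of_gt hab) (Specialization.ofEquiv_specializes_ofEquiv.mp h)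
    exact lt_of_le_not_ge
      (Specialization.toEquiv_le_toEquiv.mpr (hf.isInducing.specializes_iff.mp h1))
      (fun hle => h2 (hf.isInducing.specializes_iff.mpr
        (Specialization.toEquiv_le_toEquiv.mp hle)))
  have hGw : G ⟨Specialization.toEquiv (f w), Specialization.toEquiv_le_toEquiv.mpr h'⟩ =
      ⟨Specialization.toEquiv w, Specialization.toEquiv_le_toEquiv.mpr h⟩ := by
    apply Subtype.ext
    show Specialization.toEquiv (g _) = Specialization.toEquiv w
    congr 1
    exact hf.injective (hg _)
  have key := Order.height_le_height_apply_of_strictMono G hG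
    ⟨Specialization.toEquiv (f w), Specialization.toEquiv_le_toEquiv.mpr h'⟩
  rw [hGw] at key
  exact key

/-- push a system forward along a continuous map -/
def mapSys {f : Y' → Y} (hf : Continuous f) {Z : Set Y} {y' : Y'} {k : ℕ}
    (S' : DSystem (f ⁻¹' Z) y' k) : DSystem Z (f y') k where
  v := fun i => f (S'.v i)
  w := fun i => f (S'.w i)
  spec := fun i => (S'.spec i).map hf
  spec_succ := fun i => (S'.spec_succ i).map hf
  start_mem := S'.start_mem
  last_eq := congrArg f S'.last_eq

theorem delta_mono₂ {Z : Set Y} {y : Y} {Z' : Set Y'} {y' : Y'} {k : ℕ} (S : DSystem Z y k)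
    (S' : DSystem Z' y' k) (hc : ∀ j, S.c j ≤ S'.c j) (hb : ∀ j, S'.b j ≤ S.b j) :
    S.delta ≤ S'.delta := by
  rw [delta_eq, delta_eq]
  refine add_le_add le_rfl (Finset.sup_mono_fun (fun i _ => ?_))
  unfold CC BB
  refine tsub_le_tsub (Finset.sum_le_sum (fun j _ => ?_)) (Finset.sum_le_sum (fun j _ => ?_))
  · by_cases hij : i ≤ j
    · rw [if_pos hij, if_pos hij]; exact hc j
    · rw [if_neg hij, if_neg hij]
  · by_cases hij : i.val ≤ j.val
    · rw [if_pos hij, if_pos hij]; exact hb j
    · rw [if_neg hij, if_neg hij]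

theorem deltaZ_map_le {f : Y' → Y} (hf : Topology.IsOpenEmbedding f) (Z : Set Y) (y' : Y') :
    deltaZ Z (f y') ≤ deltaZ (f ⁻¹' Z) y' := by
  have key : ∀ (k : ℕ) (S' : DSystem (f ⁻¹' Z) y' k), deltaZ Z (f y') ≤ S'.delta := by
    intro k S'
    refine (deltaZ_le_delta (mapSys hf.continuous S')).trans ?_
    refine delta_mono₂ _ _ (fun j => ?_) (fun j => ?_)
    · exact codimPt_map_le hf (S'.spec j) _
    · exact codimPt_map_ge hf.isInducing (S'.spec_succ j) _
  exact le_iInf₂ key

end Groth.Agent.H3.DeltaZ
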