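import Groth.Agent.H3.DeltaZ4

set_option autoImplicit false
universe u

namespace Groth.Agent.H3.DeltaZ

open Algz

theorem codimPt_le_coheight {Y : Type u} [TopologicalSpace Y] {R : Type u} [CommRing R]
    (φ : PrimeSpectrum R → Y) (hφ : Topology.IsEmbedding φ) {z y : Y}
    (hrange : Set.range φ = {x | x ⤳ z}) (h : y ⤳ z) (P : PrimeSpectrum R) (hP : φ P = y) :
    codimPt y z h ≤ Order.coheight P := by
  unfold codimPt
  have hmem : ∀ a : Set.Ici (Specialization.toEquiv z),
      Specialization.ofEquiv a.1 ∈ Set.range φ := by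
    intro a; rw [hrange]; exact (a.2 : Specialization.ofEquiv a.1 ⤳ z)
  choose g hg using hmem
  let G : Set.Ici (Specialization.toEquiv z) → (PrimeSpectrum R)ᵒᵈ :=
    fun a => OrderDual.toDual (g a)
  have hG : StrictMono G := by
    intro a b hab
    have h1 : φ (g b) ⤳ φ (g a) := by
      rw [hg a, hg b]; exact Specialization.ofEquiv_specializes_ofEquiv.mpr hab.le
    have h2 : ¬ φ (g a) ⤳ φ (g b) := by
      rw [hg a, hg b]
      exact fun h => (not_le_of_gt hab) (Specialization.ofEquiv_specializes_ofEquiv.mp h)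
    have h1' : g b ≤ g a :=
      (PrimeSpectrum.le_iff_specializes _ _).mpr (hφ.isInducing.specializes_iff.mp h1)
    have h2' : ¬ g a ≤ g b := fun hle =>
      h2 (hφ.isInducing.specializes_iff.mpr ((PrimeSpectrum.le_iff_specializes _ _).mp hle))
    exact OrderDual.toDual_lt_toDual.mpr (lt_of_le_not_ge h1' h2')
  have hGy : G ⟨Specialization.toEquiv y, Specialization.toEquiv_le_toEquiv.mpr h⟩ =
      OrderDual.toDual P := by
    show OrderDual.toDual (g _) = OrderDual.toDual P
    congr 1
    apply hφ.injective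
    rw [hg]; exact hP.symm
  have key := Order.height_le_height_apply_of_strictMono G hG
    ⟨Specialization.toEquiv y, Specialization.toEquiv_le_toEquiv.mpr h⟩
  rw [hGy, Order.height_toDual] at key
  exact key

theorem deltaZ_le_dim_quotient {Y : Type u} [TopologicalSpace Y] {R : Type u} [CommRing R]
    (φ : PrimeSpectrum R → Y) (hφ : Topology.IsEmbedding φ) (Z : Set Y) {z y : Y}
    (hrange : Set.range φ = {x | x ⤳ z}) (h : y ⤳ z) (hz : z ∈ Z) (P : PrimeSpectrum R)
    (hP : φ P = y) :
    ((deltaZ Z y : ℕ∞) : WithBot ℕ∞) ≤ ringKrullDim (R ⧸ P.asIdeal) := by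
  have h1 : deltaZ Z y ≤ Order.coheight P :=
    ((deltaZ_le_delta (sys0 Z z y hz h)).trans (sys0_delta_le Z z y hz h)).trans
      (codimPt_le_coheight φ hφ hrange h P hP)
  rw [ringKrullDim_quotient]
  have h2 : (PrimeSpectrum.zeroLocus (P.asIdeal : Set R)) = Set.Ici P := by
    ext x
    rw [PrimeSpectrum.mem_zeroLocus, Set.mem_Ici, SetLike.coe_subset_coe]
    rfl
  rw [h2, ← Order.coheight_eq_krullDim_Ici]
  exact WithBot.coe_le_coe.mpr h1

end Groth.Agent.H3.DeltaZ
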