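import Mathlib

set_option autoImplicit false
universe u
open CategoryTheory CategoryTheory.Limits AlgebraicGeometry TopologicalSpace

namespace Groth.Agent.H3

open scoped Function in
/-- A finite disjoint union of opens, each contained in an affine open, is a separated scheme. -/
theorem isSeparated_iSup_of_disjoint {X : Scheme.{u}} {σ : Type} [Finite σ]
    (U V : σ → X.Opens) (hU : ∀ k, IsAffineOpen (U k)) (hVU : ∀ k, V k ≤ U k)
    (hdisj : Pairwise (Disjoint on V)) :
    ((⨆ k, V k : X.Opens) : Scheme.{u}).IsSeparated := by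
  classical
  set W : X.Opens := ⨆ k, V k with hW
  let f : ∀ k, ((V k : X.Opens) : Scheme.{u}) ⟶ (W : Scheme.{u}) := fun k => X.homOfLE (le_iSup V k)
  have hcov : ⨆ k, (f k).opensRange = ⊤ := by
    rw [eq_top_iff]
    rintro ⟨x, hx⟩ -
    obtain ⟨k, hk⟩ := Opens.mem_iSup.mp hx
    refine Opens.mem_iSup.mpr ⟨k, ?_⟩
    simp only [f, Scheme.opensRange_homOfLE]
    exact hk
  have hdisj' : Pairwise (Disjoint on fun k => (f k).opensRange) := by
    intro i j hij
    simp only [Function.onFun, f, Scheme.opensRange_homOfLE]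
    rw [disjoint_iff]
    ext ⟨x, hx⟩
    simp only [Opens.coe_inf, Set.mem_inter_iff, SetLike.mem_coe, Opens.coe_bot,
      Set.mem_empty_iff_false, iff_false, not_and]
    intro h1 h2
    have h1' : x ∈ V i := h1
    have h2' : x ∈ V j := h2
    have := (hdisj hij).le_bot (show x ∈ V i ⊓ V j from ⟨h1', h2'⟩)
    exact this
  obtain ⟨hc⟩ := nonempty_isColimit_cofanMk_of f hcov hdisj'
  haveI : ∀ k, IsAffine ((U k : X.Opens) : Scheme.{u}) := hU
  let Y : Scheme.{u} := ∐ fun k => ((U k : X.Opens) : Scheme.{u})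
  haveI : IsAffine Y := by dsimp only [Y]; infer_instance
  let g : ∀ k, ((V k : X.Opens) : Scheme.{u}) ⟶ Y := fun k =>
    X.homOfLE (hVU k) ≫ Sigma.ι (fun k => ((U k : X.Opens) : Scheme.{u})) k
  have hg : Pairwise (Disjoint on (Set.range <| g ·)) := by
    intro i j hij
    have h := disjoint_opensRange_sigmaι (fun k => ((U k : X.Opens) : Scheme.{u})) i j hij
    rw [Function.onFun]
    rw [Set.disjoint_iff_forall_ne]
    rintro _ ⟨a, rfl⟩ _ ⟨b, rfl⟩ hab
    have h1 : g i a ∈ (Sigma.ι (fun k => ((U k : X.Opens) : Scheme.{u})) i).opensRange :=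
      ⟨X.homOfLE (hVU i) a, rfl⟩
    have h2 : g i a ∈ (Sigma.ι (fun k => ((U k : X.Opens) : Scheme.{u})) j).opensRange := by
      rw [hab]; exact ⟨X.homOfLE (hVU j) b, rfl⟩
    exact h.le_bot ⟨h1, h2⟩
  haveI : IsOpenImmersion (Sigma.desc g) := isOpenImmersion_sigmaDesc _ g hg
  let e : (W : Scheme.{u}) ≅ ∐ fun k => ((V k : X.Opens) : Scheme.{u}) :=
    hc.coconePointUniqueUpToIso (colimit.isColimit _)
  let φ : (W : Scheme.{u}) ⟶ Y := e.hom ≫ Sigma.desc g
  refine ⟨?_⟩
  rw [← terminal.comp_from φ]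
  infer_instance

/-- A scheme with a finite affine open cover has a dense separated open subscheme. -/
theorem exists_dense_isSeparated_of_fin {X : Scheme.{u}} {n : ℕ} (U : Fin n → X.Opens)
    (hU : ∀ k, IsAffineOpen (U k)) (hcov : ∀ x : X, ∃ k, x ∈ U k) :
    ∃ V : X.Opens, Dense (V : Set X) ∧ (V : Scheme.{u}).IsSeparated := by
  classical
  let C : Fin n → Set X := fun k => closure (⋃ i ∈ {i | i < k}, (U i : Set X))
  let V : Fin n → X.Opens := fun k => U k ⊓ ⟨(C k)ᶜ, isClosed_closure.isOpen_compl⟩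
  have hVU : ∀ k, V k ≤ U k := fun k => inf_le_left
  have hdisj : Pairwise (Function.onFun Disjoint V) := by
    have aux : ∀ i j, i < j → Disjoint (V i) (V j) := by
      intro i j hij
      rw [disjoint_iff]
      ext x
      simp only [Opens.coe_inf, Set.mem_inter_iff, SetLike.mem_coe, Opens.coe_bot,
        Set.mem_empty_iff_false, iff_false, not_and]
      intro h1 h2
      have hx : x ∈ U i := h1.1
      have : x ∈ C j := subset_closure (Set.mem_iUnion₂.mpr ⟨i, hij, hx⟩)
      exact h2.2 this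
    intro i j hij
    rcases lt_or_gt_of_ne hij with h | h
    · exact aux i j h
    · exact (aux j i h).symm
  refine ⟨⨆ k, V k, ?_, isSeparated_iSup_of_disjoint U V hU hVU hdisj⟩
  have key : ∀ k, (U k : Set X) ⊆ closure ((⨆ k, V k : X.Opens) : Set X) := by
    intro k
    induction k using WellFoundedLT.induction with
    | ind k ih =>
      intro x hx
      by_cases hxc : x ∈ C k
      · refine closure_minimal ?_ isClosed_closure hxc
        exact Set.iUnion₂_subset fun i hi => ih i hi
      · refine subset_closure ?_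
        exact Opens.mem_iSup.mpr ⟨k, hx, hxc⟩
  intro x
  obtain ⟨k, hk⟩ := hcov x
  exact key k hk

end Groth.Agent.H3
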