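import Mathlib

set_option autoImplicit false
universe u

namespace Groth.Agent.H3.EtSec

open TensorProduct KaehlerDifferential

section LemmaG

variable {A B₁ B₂ : Type*} [CommRing A] [CommRing B₁] [CommRing B₂] [Algebra A B₁] [Algebra A B₂]
  [Algebra B₂ B₁] [IsScalarTower A B₂ B₁]

theorem sub_mem_ker {B : Type*} [CommRing B] [Algebra A B] (σ : B →ₐ[A] A) (x : B) :
    x - algebraMap A B (σ x) ∈ RingHom.ker σ := by
  rw [RingHom.mem_ker, map_sub, AlgHom.commutes]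
  simp

theorem D_mem_smul_top {R S : Type*} [CommRing R] [CommRing S] [Algebra R S] (J : Ideal S) {w : S}
    (hw : w ∈ J ^ 2) : KaehlerDifferential.D R S w ∈ J • (⊤ : Submodule S Ω[S⁄R]) := by
  rw [pow_two] at hw
  refine Submodule.smul_induction_on
    (p := fun w => KaehlerDifferential.D R S w ∈ J • (⊤ : Submodule S Ω[S⁄R])) hw ?_ ?_
  · intro a ha b hb
    show KaehlerDifferential.D R S (a * b) ∈ J • (⊤ : Submodule S Ω[S⁄R])
    rw [Derivation.leibniz]
    exact add_mem (Submodule.smul_mem_smul ha Submodule.mem_top)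
      (Submodule.smul_mem_smul hb Submodule.mem_top)
  · intro a b ha hb
    show KaehlerDifferential.D R S (a + b) ∈ J • (⊤ : Submodule S Ω[S⁄R])
    rw [map_add]; exact add_mem ha hb

theorem exists_derivation (σ₁ : B₁ →ₐ[A] A) (σ₂ : B₂ →ₐ[A] A)
    {Q : Type*} [AddCommGroup Q] [Module A Q] [Module B₁ Q] [Module B₂ Q]
    [IsScalarTower A B₁ Q] [IsScalarTower A B₂ Q] [IsScalarTower B₂ B₁ Q]
    (hσ : ∀ y : B₂, σ₁ (algebraMap B₂ B₁ y) = σ₂ y)
    (Hsurj : ∀ x ∈ RingHom.ker σ₁, ∃ y ∈ RingHom.ker σ₂,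
      x - algebraMap B₂ B₁ y ∈ RingHom.ker σ₁ ^ 2)
    (Hinj : ∀ y ∈ RingHom.ker σ₂, algebraMap B₂ B₁ y ∈ RingHom.ker σ₁ ^ 2 →
      y ∈ RingHom.ker σ₂ ^ 2)
    (hQ : ∀ x ∈ RingHom.ker σ₁, ∀ q : Q, x • q = 0)
    (d₂ : Derivation A B₂ Q) :
    ∃ D' : Derivation A B₁ Q, ∀ y : B₂, D' (algebraMap B₂ B₁ y) = d₂ y := by
  classical
  have hφmem : ∀ y ∈ RingHom.ker σ₂, algebraMap B₂ B₁ y ∈ RingHom.ker σ₁ := fun y hy => by
    rw [RingHom.mem_ker, hσ]; exact (RingHom.mem_ker).mp hy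
  have hQ₂ : ∀ y ∈ RingHom.ker σ₂, ∀ q : Q, y • q = 0 := fun y hy q => by
    rw [← algebraMap_smul B₁ y q]; exact hQ _ (hφmem y hy) q
  have hd₂ : ∀ y ∈ RingHom.ker σ₂ ^ 2, d₂ y = 0 := by
    intro y hy
    rw [pow_two] at hy
    refine Submodule.smul_induction_on (p := fun y => d₂ y = 0) hy ?_ ?_
    · intro u hu v hv
      show d₂ (u * v) = 0
      rw [Derivation.leibniz, hQ₂ u hu, hQ₂ v hv, add_zero]
    · intro u v hu hv
      show d₂ (u + v) = 0
      rw [map_add, hu, hv, add_zero]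
  have hsq : ∀ x : B₁, ∀ q : Q, x • q = σ₁ x • q := by
    intro x q
    have h := hQ _ (sub_mem_ker σ₁ x) q
    rw [sub_smul, sub_eq_zero, algebraMap_smul] at h
    exact h
  choose! Y hYmem hY using Hsurj
  have key : ∀ (x : B₁) (y : B₂), y ∈ RingHom.ker σ₂ →
      (x - algebraMap A B₁ (σ₁ x)) - algebraMap B₂ B₁ y ∈ RingHom.ker σ₁ ^ 2 →
      d₂ (Y (x - algebraMap A B₁ (σ₁ x))) = d₂ y := by
    intro x y hy h
    have hr := sub_mem_ker σ₁ x
    have h1 := hY _ hr
    have h2 : algebraMap B₂ B₁ (Y (x - algebraMap A B₁ (σ₁ x)) - y) ∈ RingHom.ker σ₁ ^ 2 := by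
      have e : algebraMap B₂ B₁ (Y (x - algebraMap A B₁ (σ₁ x)) - y) =
          ((x - algebraMap A B₁ (σ₁ x)) - algebraMap B₂ B₁ y) -
          ((x - algebraMap A B₁ (σ₁ x)) -
            algebraMap B₂ B₁ (Y (x - algebraMap A B₁ (σ₁ x)))) := by
        rw [map_sub]; ring
      rw [e]; exact Ideal.sub_mem _ h h1
    have h3 := hd₂ _ (Hinj _ (Ideal.sub_mem _ (hYmem _ hr) hy) h2)
    rw [map_sub, sub_eq_zero] at h3
    exact h3
  have f_add : ∀ x x' : B₁, d₂ (Y ((x + x') - algebraMap A B₁ (σ₁ (x + x')))) =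
      d₂ (Y (x - algebraMap A B₁ (σ₁ x))) + d₂ (Y (x' - algebraMap A B₁ (σ₁ x'))) := by
    intro x x'
    have hr := sub_mem_ker σ₁ x
    have hr' := sub_mem_ker σ₁ x'
    have hmem : ((x + x') - algebraMap A B₁ (σ₁ (x + x'))) -
        algebraMap B₂ B₁ (Y (x - algebraMap A B₁ (σ₁ x)) + Y (x' - algebraMap A B₁ (σ₁ x')))
        ∈ RingHom.ker σ₁ ^ 2 := by
      have e : ((x + x') - algebraMap A B₁ (σ₁ (x + x'))) -
          algebraMap B₂ B₁ (Y (x - algebraMap A B₁ (σ₁ x)) + Y (x' - algebraMap A B₁ (σ₁ x')))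
          = ((x - algebraMap A B₁ (σ₁ x)) -
              algebraMap B₂ B₁ (Y (x - algebraMap A B₁ (σ₁ x)))) +
            ((x' - algebraMap A B₁ (σ₁ x')) -
              algebraMap B₂ B₁ (Y (x' - algebraMap A B₁ (σ₁ x')))) := by
        rw [map_add σ₁, map_add (algebraMap A B₁), map_add (algebraMap B₂ B₁)]; ring
      rw [e]; exact Ideal.add_mem _ (hY _ hr) (hY _ hr')
    rw [key _ _ (Ideal.add_mem _ (hYmem _ hr) (hYmem _ hr')) hmem, map_add]
  have f_smul : ∀ (a : A) (x : B₁), d₂ (Y ((a • x) - algebraMap A B₁ (σ₁ (a • x)))) =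
      a • d₂ (Y (x - algebraMap A B₁ (σ₁ x))) := by
    intro a x
    have hr := sub_mem_ker σ₁ x
    have hmem : ((a • x) - algebraMap A B₁ (σ₁ (a • x))) -
        algebraMap B₂ B₁ (a • Y (x - algebraMap A B₁ (σ₁ x))) ∈ RingHom.ker σ₁ ^ 2 := by
      have e : ((a • x) - algebraMap A B₁ (σ₁ (a • x))) -
          algebraMap B₂ B₁ (a • Y (x - algebraMap A B₁ (σ₁ x))) =
          algebraMap A B₁ a * ((x - algebraMap A B₁ (σ₁ x)) -
            algebraMap B₂ B₁ (Y (x - algebraMap A B₁ (σ₁ x)))) := by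
        rw [map_smul σ₁, smul_eq_mul, map_mul (algebraMap A B₁), Algebra.smul_def a x,
          Algebra.smul_def a (Y _), map_mul (algebraMap B₂ B₁),
          ← IsScalarTower.algebraMap_apply A B₂ B₁]
        ring
      rw [e]; exact Ideal.mul_mem_left _ _ (hY _ hr)
    have hmem₂ : a • Y (x - algebraMap A B₁ (σ₁ x)) ∈ RingHom.ker σ₂ := by
      rw [Algebra.smul_def]; exact Ideal.mul_mem_left _ _ (hYmem _ hr)
    rw [key _ _ hmem₂ hmem, Derivation.map_smul]
  have f_mul : ∀ x x' : B₁, d₂ (Y ((x * x') - algebraMap A B₁ (σ₁ (x * x')))) =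
      x • d₂ (Y (x' - algebraMap A B₁ (σ₁ x'))) + x' • d₂ (Y (x - algebraMap A B₁ (σ₁ x))) := by
    intro x x'
    have hr := sub_mem_ker σ₁ x
    have hr' := sub_mem_ker σ₁ x'
    have hmem₂ : σ₁ x • Y (x' - algebraMap A B₁ (σ₁ x')) +
        σ₁ x' • Y (x - algebraMap A B₁ (σ₁ x)) ∈ RingHom.ker σ₂ := by
      rw [Algebra.smul_def, Algebra.smul_def]
      exact Ideal.add_mem _ (Ideal.mul_mem_left _ _ (hYmem _ hr'))
        (Ideal.mul_mem_left _ _ (hYmem _ hr))
    have hmem : ((x * x') - algebraMap A B₁ (σ₁ (x * x'))) -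
        algebraMap B₂ B₁ (σ₁ x • Y (x' - algebraMap A B₁ (σ₁ x')) +
          σ₁ x' • Y (x - algebraMap A B₁ (σ₁ x))) ∈ RingHom.ker σ₁ ^ 2 := by
      have e : ((x * x') - algebraMap A B₁ (σ₁ (x * x'))) -
          algebraMap B₂ B₁ (σ₁ x • Y (x' - algebraMap A B₁ (σ₁ x')) +
            σ₁ x' • Y (x - algebraMap A B₁ (σ₁ x)))
          = algebraMap A B₁ (σ₁ x) * ((x' - algebraMap A B₁ (σ₁ x')) -
              algebraMap B₂ B₁ (Y (x' - algebraMap A B₁ (σ₁ x'))))
            + algebraMap A B₁ (σ₁ x') * ((x - algebraMap A B₁ (σ₁ x)) -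
              algebraMap B₂ B₁ (Y (x - algebraMap A B₁ (σ₁ x))))
            + (x - algebraMap A B₁ (σ₁ x)) * (x' - algebraMap A B₁ (σ₁ x')) := by
        rw [map_mul σ₁, map_mul (algebraMap A B₁), map_add (algebraMap B₂ B₁),
          Algebra.smul_def (σ₁ x), Algebra.smul_def (σ₁ x'), map_mul (algebraMap B₂ B₁),
          map_mul (algebraMap B₂ B₁), ← IsScalarTower.algebraMap_apply A B₂ B₁,
          ← IsScalarTower.algebraMap_apply A B₂ B₁]
        ring
      rw [e]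
      refine Ideal.add_mem _ (Ideal.add_mem _ (Ideal.mul_mem_left _ _ (hY _ hr'))
        (Ideal.mul_mem_left _ _ (hY _ hr))) ?_
      rw [pow_two]; exact Ideal.mul_mem_mul hr hr'
    rw [key _ _ hmem₂ hmem, map_add, Derivation.map_smul, Derivation.map_smul, hsq x, hsq x']
  refine ⟨Derivation.mk' { toFun := fun x => d₂ (Y (x - algebraMap A B₁ (σ₁ x)))
                           map_add' := f_add
                           map_smul' := f_smul } f_mul, ?_⟩
  intro y
  show d₂ (Y (algebraMap B₂ B₁ y - algebraMap A B₁ (σ₁ (algebraMap B₂ B₁ y)))) = d₂ y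
  have hmem₂ := sub_mem_ker σ₂ y
  have hmem : (algebraMap B₂ B₁ y - algebraMap A B₁ (σ₁ (algebraMap B₂ B₁ y))) -
      algebraMap B₂ B₁ (y - algebraMap A B₂ (σ₂ y)) ∈ RingHom.ker σ₁ ^ 2 := by
    have e : (algebraMap B₂ B₁ y - algebraMap A B₁ (σ₁ (algebraMap B₂ B₁ y))) -
        algebraMap B₂ B₁ (y - algebraMap A B₂ (σ₂ y)) = 0 := by
      rw [hσ, map_sub, ← IsScalarTower.algebraMap_apply A B₂ B₁]; ring
    rw [e]; exact Ideal.zero_mem _
  rw [key _ _ hmem₂ hmem, map_sub, Derivation.map_algebraMap, sub_zero]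

end LemmaG

section Main

variable (A B₁ B₂ : Type u) [CommRing A] [CommRing B₁] [CommRing B₂] [Algebra A B₁] [Algebra A B₂]
  [Algebra B₂ B₁] [IsScalarTower A B₂ B₁] [Algebra.FinitePresentation A B₁]
  [Algebra.FiniteType A B₂]

theorem main {T : Type u} [CommRing T] [Algebra B₁ T] [Algebra B₂ T] [Algebra A T]
    [IsScalarTower A B₁ T] [IsScalarTower A B₂ T] [IsScalarTower B₂ B₁ T]
    (σ₁ : B₁ →ₐ[A] A) (σ₂ : B₂ →ₐ[A] A)
    (hσ : ∀ y : B₂, σ₁ (algebraMap B₂ B₁ y) = σ₂ y)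
    (Hsurj : ∀ x ∈ RingHom.ker σ₁, ∃ y ∈ RingHom.ker σ₂,
      x - algebraMap B₂ B₁ y ∈ RingHom.ker σ₁ ^ 2)
    (Hinj : ∀ y ∈ RingHom.ker σ₂, algebraMap B₂ B₁ y ∈ RingHom.ker σ₁ ^ 2 →
      y ∈ RingHom.ker σ₂ ^ 2)
    (P : Ideal B₁) [P.IsPrime] (hP : RingHom.ker σ₁ ≤ P) [IsLocalization.AtPrime T P]
    [Algebra.FormallySmooth A T] : Algebra.FormallyEtale B₂ T := by
  haveI : IsLocalRing T := IsLocalization.AtPrime.isLocalRing T P
  haveI : Algebra.EssFiniteType B₁ T := Algebra.EssFiniteType.of_isLocalization T P.primeCompl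
  haveI : Algebra.EssFiniteType A T := Algebra.EssFiniteType.comp A B₁ T
  haveI : Algebra.FormallyEtale B₁ T :=
    Algebra.FormallyEtale.of_isLocalization (Rₘ := T) P.primeCompl
  let J : Ideal T := Ideal.map (algebraMap B₁ T) (RingHom.ker σ₁)
  have hJmax : J ≤ Ideal.jacobson ⊥ := by
    rw [IsLocalRing.jacobson_eq_maximalIdeal ⊥ bot_ne_top]
    show Ideal.map (algebraMap B₁ T) (RingHom.ker σ₁) ≤ _
    rw [Ideal.map_le_iff_le_comap]
    intro x hx
    rw [Ideal.mem_comap]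
    exact (IsLocalization.AtPrime.to_map_mem_maximal_iff T P x).mpr (hP hx)
  have hJmem : ∀ x ∈ RingHom.ker σ₁, algebraMap B₁ T x ∈ J :=
    fun x hx => Ideal.mem_map_of_mem _ hx
  have hJsq : ∀ z ∈ RingHom.ker σ₁ ^ 2, algebraMap B₁ T z ∈ J ^ 2 := fun z hz => by
    show algebraMap B₁ T z ∈ (Ideal.map (algebraMap B₁ T) (RingHom.ker σ₁)) ^ 2
    rw [← Ideal.map_pow]; exact Ideal.mem_map_of_mem _ hz
  let α : T ⊗[B₂] Ω[B₂⁄A] →ₗ[T] Ω[T⁄A] := KaehlerDifferential.mapBaseChange A B₂ T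
  have hαD : ∀ y : B₂, α (1 ⊗ₜ KaehlerDifferential.D A B₂ y) =
      KaehlerDifferential.D A T (algebraMap B₂ T y) := by
    intro y
    show KaehlerDifferential.mapBaseChange A B₂ T _ = _
    rw [KaehlerDifferential.mapBaseChange_tmul, one_smul, KaehlerDifferential.map_D]
  -- surjectivity of α
  have hsurj : Function.Surjective α := by
    rw [← LinearMap.range_eq_top, eq_top_iff]
    refine Submodule.le_of_le_smul_of_le_jacobson_bot (Module.Finite.fg_top) hJmax ?_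
    have htop : (⊤ : Submodule T Ω[T⁄A]) = Submodule.span T
        (Set.range (KaehlerDifferential.map A A B₁ T ∘ KaehlerDifferential.D A B₁)) :=
      (KaehlerDifferential.span_range_map_derivation_of_isLocalization A B₁ T P.primeCompl).symm
    refine le_trans (le_of_eq htop) (Submodule.span_le.mpr ?_)
    rintro _ ⟨x, rfl⟩
    show KaehlerDifferential.map A A B₁ T (KaehlerDifferential.D A B₁ x) ∈
      LinearMap.range α ⊔ J • (⊤ : Submodule T Ω[T⁄A])
    rw [KaehlerDifferential.map_D]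
    obtain ⟨y, hy, hz⟩ := Hsurj _ (sub_mem_ker σ₁ x)
    have hx : algebraMap B₁ T x = algebraMap A T (σ₁ x) + (algebraMap B₂ T y +
        algebraMap B₁ T ((x - algebraMap A B₁ (σ₁ x)) - algebraMap B₂ B₁ y)) := by
      rw [map_sub, map_sub, ← IsScalarTower.algebraMap_apply A B₁ T,
        ← IsScalarTower.algebraMap_apply B₂ B₁ T]
      ring
    rw [hx, map_add, map_add, Derivation.map_algebraMap, zero_add]
    refine Submodule.add_mem_sup ?_ ?_
    · exact ⟨_, hαD y⟩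
    · exact D_mem_smul_top J (hJsq _ hz)
  -- the quotient module
  let S : Submodule T (T ⊗[B₂] Ω[B₂⁄A]) := J • ⊤
  have hQ : ∀ x ∈ RingHom.ker σ₁, ∀ q : (T ⊗[B₂] Ω[B₂⁄A]) ⧸ S, x • q = 0 := by
    intro x hx q
    obtain ⟨m, rfl⟩ := Submodule.Quotient.mk_surjective S q
    rw [← algebraMap_smul T x (Submodule.Quotient.mk m), ← Submodule.Quotient.mk_smul,
      Submodule.Quotient.mk_eq_zero]
    exact Submodule.smul_mem_smul (hJmem x hx) Submodule.mem_top
  let g : Ω[B₂⁄A] →ₗ[B₂] (T ⊗[B₂] Ω[B₂⁄A]) ⧸ S :=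
    (S.mkQ.restrictScalars B₂) ∘ₗ (TensorProduct.mk B₂ T Ω[B₂⁄A] 1)
  obtain ⟨D', hD'⟩ := exists_derivation σ₁ σ₂ hσ Hsurj Hinj hQ
    (g.compDer (KaehlerDifferential.D A B₂))
  let γ : Ω[T⁄A] →ₗ[T] (T ⊗[B₂] Ω[B₂⁄A]) ⧸ S :=
    (LinearMap.liftBaseChange T D'.liftKaehlerDifferential) ∘ₗ
      (KaehlerDifferential.tensorKaehlerEquivOfFormallyEtale A B₁ T).symm.toLinearMap
  have hγD : ∀ x : B₁, γ (KaehlerDifferential.D A T (algebraMap B₁ T x)) = D' x := by
    intro x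
    show LinearMap.liftBaseChange T D'.liftKaehlerDifferential
      ((KaehlerDifferential.tensorKaehlerEquivOfFormallyEtale A B₁ T).symm
        (KaehlerDifferential.D A T (algebraMap B₁ T x))) = D' x
    rw [KaehlerDifferential.tensorKaehlerEquivOfFormallyEtale_symm_D_algebraMap,
      LinearMap.liftBaseChange_tmul, one_smul, Derivation.liftKaehlerDifferential_comp_D]
  have hγα : ∀ m, γ (α m) = S.mkQ m := by
    have h1 : (γ.restrictScalars B₂) ∘ₗ (KaehlerDifferential.map A A B₂ T) = g := by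
      apply Derivation.liftKaehlerDifferential_unique
      ext y
      show γ (KaehlerDifferential.map A A B₂ T (KaehlerDifferential.D A B₂ y)) =
        g (KaehlerDifferential.D A B₂ y)
      rw [KaehlerDifferential.map_D, IsScalarTower.algebraMap_apply B₂ B₁ T, hγD, hD']
      rfl
    intro m
    induction m using TensorProduct.induction_on with
    | zero => rw [map_zero, map_zero, map_zero]
    | tmul t ω =>
      have h3 : γ (KaehlerDifferential.map A A B₂ T ω) = S.mkQ ((1 : T) ⊗ₜ ω) :=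
        LinearMap.congr_fun h1 ω
      have h4 : t • ((1 : T) ⊗ₜ[B₂] ω) = t ⊗ₜ ω := by
        rw [TensorProduct.smul_tmul', smul_eq_mul, mul_one]
      show γ (KaehlerDifferential.mapBaseChange A B₂ T (t ⊗ₜ ω)) = S.mkQ (t ⊗ₜ ω)
      rw [KaehlerDifferential.mapBaseChange_tmul, map_smul, h3, ← h4, map_smul]
    | add x y hx hy => rw [map_add, map_add, hx, hy, map_add]
  have hγJ : ∀ w ∈ J • (⊤ : Submodule T Ω[T⁄A]), γ w = 0 := by
    intro w hw
    refine Submodule.smul_induction_on (p := fun w => γ w = 0) hw ?_ ?_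
    · intro j hj n _
      show γ (j • n) = 0
      rw [map_smul]
      obtain ⟨m, hm⟩ := S.mkQ_surjective (γ n)
      rw [← hm, ← map_smul, Submodule.mkQ_apply, Submodule.Quotient.mk_eq_zero]
      exact Submodule.smul_mem_smul hj Submodule.mem_top
    · intro a b ha hb
      show γ (a + b) = 0
      rw [map_add, ha, hb, add_zero]
  have hI : ∀ m, α m ∈ J • (⊤ : Submodule T Ω[T⁄A]) → m ∈ S := by
    intro m hm
    have h := hγJ _ hm
    rw [hγα, Submodule.mkQ_apply, Submodule.Quotient.mk_eq_zero] at h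
    exact h
  -- injectivity of α
  obtain ⟨s, hs⟩ := Module.projective_lifting_property α LinearMap.id hsurj
  have hs' : ∀ w, α (s w) = w := fun w => LinearMap.congr_fun hs w
  let π : T ⊗[B₂] Ω[B₂⁄A] →ₗ[T] T ⊗[B₂] Ω[B₂⁄A] := LinearMap.id - s ∘ₗ α
  have hπα : ∀ m, α (π m) = 0 := by
    intro m
    show α (m - s (α m)) = 0
    rw [map_sub, hs', sub_self]
  have hπ0 : LinearMap.range π = ⊥ := by
    refine Submodule.eq_bot_of_le_smul_of_le_jacobson_bot J _ ?_ ?_ hJmax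
    · rw [LinearMap.range_eq_map]; exact (Module.Finite.fg_top).map π
    · rintro _ ⟨m, rfl⟩
      have h1 : π m ∈ S := hI _ (by rw [hπα]; exact Submodule.zero_mem _)
      have h2 : π (π m) = π m := by
        show π m - s (α (π m)) = π m
        rw [hπα, map_zero, sub_zero]
      rw [← h2]
      have h3 : π (π m) ∈ Submodule.map π (J • (⊤ : Submodule T (T ⊗[B₂] Ω[B₂⁄A]))) :=
        Submodule.mem_map_of_mem h1
      rw [Submodule.map_smul'', Submodule.map_top] at h3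
      exact h3
  have hinj : Function.Injective α := by
    rw [injective_iff_map_eq_zero]
    intro m hm
    have h1 : π m = 0 := by
      have : π m ∈ LinearMap.range π := ⟨m, rfl⟩
      rw [hπ0] at this
      exact (Submodule.mem_bot T).mp this
    have h2 : π m = m := by
      show m - s (α m) = m
      rw [hm, map_zero, sub_zero]
    rw [← h2, h1]
  refine ⟨?_, ?_⟩
  · refine ⟨fun a b => ?_⟩
    have h0 : ∀ w : Ω[T⁄B₂], w = 0 := by
      intro w
      obtain ⟨v, rfl⟩ := KaehlerDifferential.map_surjective A B₂ T w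
      obtain ⟨m, rfl⟩ := hsurj v
      exact (KaehlerDifferential.exact_mapBaseChange_map A B₂ T _).mpr ⟨m, rfl⟩
    rw [h0 a, h0 b]
  · refine ⟨fun a b => ?_⟩
    have h0 : ∀ w : Algebra.H1Cotangent B₂ T, w = 0 := by
      intro w
      have h1 : Algebra.H1Cotangent.δ A B₂ T w = 0 := by
        apply hinj
        rw [map_zero]
        exact (Algebra.H1Cotangent.exact_δ_mapBaseChange A B₂ T _).mpr ⟨w, rfl⟩
      obtain ⟨z, rfl⟩ := (Algebra.H1Cotangent.exact_map_δ A B₂ T w).mp h1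
      rw [Subsingleton.elim z 0, map_zero]
    rw [h0 a, h0 b]

end Main

end Groth.Agent.H3.EtSec
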