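import Groth.Agent.H3.NumGen

set_option autoImplicit false
set_option linter.unusedSimpArgs false

namespace Groth.Agent.H3.Gen
open Groth.Agent.H3 Groth.Agent.H2

theorem excl_D4t {n : ℕ} (T : Models.NumericalType n) (h2 : ∀ i, T.IsMinusTwo i)
    (y : Fin n → Fin n) (hy : Function.Injective y) (v : Fin 5 → Fin n) (hv : Function.Injective v)
    (hn : 5 < n) (e_0_1 : T.a (y (v 0)) (y (v 1)) ≠ 0) (e_0_2 : T.a (y (v 0)) (y (v 2)) ≠ 0) (e_0_3 : T.a (y (v 0)) (y (v 3)) ≠ 0) (e_0_4 : T.a (y (v 0)) (y (v 4)) ≠ 0) : False := by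
  classical
  refine marks_excl T h2 y hy 5 v hv hn (by norm_num) ![2, 1, 1, 1, 1] (by decide)
    ![{1, 2, 3, 4}, {0}, {0}, {0}, {0}] (by decide) ?_ (by decide)
  intro i j hj
  fin_cases i
  · have hj' : j ∈ ({1, 2, 3, 4} : Finset (Fin 5)) := hj
    simp only [Finset.mem_insert, Finset.mem_singleton] at hj'
    rcases hj' with rfl | rfl | rfl | rfl
    · exact e_0_1
    · exact e_0_2
    · exact e_0_3
    · exact e_0_4
  · have hj' : j ∈ ({0} : Finset (Fin 5)) := hj
    simp only [Finset.mem_insert, Finset.mem_singleton] at hj'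
    rcases hj' with rfl
    · exact nsymm T e_0_1
  · have hj' : j ∈ ({0} : Finset (Fin 5)) := hj
    simp only [Finset.mem_insert, Finset.mem_singleton] at hj'
    rcases hj' with rfl
    · exact nsymm T e_0_2
  · have hj' : j ∈ ({0} : Finset (Fin 5)) := hj
    simp only [Finset.mem_insert, Finset.mem_singleton] at hj'
    rcases hj' with rfl
    · exact nsymm T e_0_3
  · have hj' : j ∈ ({0} : Finset (Fin 5)) := hj
    simp only [Finset.mem_insert, Finset.mem_singleton] at hj'
    rcases hj' with rfl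
    · exact nsymm T e_0_4

theorem excl_D5t {n : ℕ} (T : Models.NumericalType n) (h2 : ∀ i, T.IsMinusTwo i)
    (y : Fin n → Fin n) (hy : Function.Injective y) (v : Fin 6 → Fin n) (hv : Function.Injective v)
    (hn : 6 < n) (e_0_2 : T.a (y (v 0)) (y (v 2)) ≠ 0) (e_1_2 : T.a (y (v 1)) (y (v 2)) ≠ 0) (e_2_3 : T.a (y (v 2)) (y (v 3)) ≠ 0) (e_3_4 : T.a (y (v 3)) (y (v 4)) ≠ 0) (e_3_5 : T.a (y (v 3)) (y (v 5)) ≠ 0) : False := by
  classical
  refine marks_excl T h2 y hy 6 v hv hn (by norm_num) ![1, 1, 2, 2, 1, 1] (by decide)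
    ![{2}, {2}, {0, 1, 3}, {2, 4, 5}, {3}, {3}] (by decide) ?_ (by decide)
  intro i j hj
  fin_cases i
  · have hj' : j ∈ ({2} : Finset (Fin 6)) := hj
    simp only [Finset.mem_insert, Finset.mem_singleton] at hj'
    rcases hj' with rfl
    · exact e_0_2
  · have hj' : j ∈ ({2} : Finset (Fin 6)) := hj
    simp only [Finset.mem_insert, Finset.mem_singleton] at hj'
    rcases hj' with rfl
    · exact e_1_2
  · have hj' : j ∈ ({0, 1, 3} : Finset (Fin 6)) := hj
    simp only [Finset.mem_insert, Finset.mem_singleton] at hj'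
    rcases hj' with rfl | rfl | rfl
    · exact nsymm T e_0_2
    · exact nsymm T e_1_2
    · exact e_2_3
  · have hj' : j ∈ ({2, 4, 5} : Finset (Fin 6)) := hj
    simp only [Finset.mem_insert, Finset.mem_singleton] at hj'
    rcases hj' with rfl | rfl | rfl
    · exact nsymm T e_2_3
    · exact e_3_4
    · exact e_3_5
  · have hj' : j ∈ ({3} : Finset (Fin 6)) := hj
    simp only [Finset.mem_insert, Finset.mem_singleton] at hj'
    rcases hj' with rfl
    · exact nsymm T e_3_4
  · have hj' : j ∈ ({3} : Finset (Fin 6)) := hj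
    simp only [Finset.mem_insert, Finset.mem_singleton] at hj'
    rcases hj' with rfl
    · exact nsymm T e_3_5

theorem excl_D6t {n : ℕ} (T : Models.NumericalType n) (h2 : ∀ i, T.IsMinusTwo i)
    (y : Fin n → Fin n) (hy : Function.Injective y) (v : Fin 7 → Fin n) (hv : Function.Injective v)
    (hn : 7 < n) (e_0_2 : T.a (y (v 0)) (y (v 2)) ≠ 0) (e_1_2 : T.a (y (v 1)) (y (v 2)) ≠ 0) (e_2_3 : T.a (y (v 2)) (y (v 3)) ≠ 0) (e_3_4 : T.a (y (v 3)) (y (v 4)) ≠ 0) (e_4_5 : T.a (y (v 4)) (y (v 5)) ≠ 0) (e_4_6 : T.a (y (v 4)) (y (v 6)) ≠ 0) : False := by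
  classical
  refine marks_excl T h2 y hy 7 v hv hn (by norm_num) ![1, 1, 2, 2, 2, 1, 1] (by decide)
    ![{2}, {2}, {0, 1, 3}, {2, 4}, {3, 5, 6}, {4}, {4}] (by decide) ?_ (by decide)
  intro i j hj
  fin_cases i
  · have hj' : j ∈ ({2} : Finset (Fin 7)) := hj
    simp only [Finset.mem_insert, Finset.mem_singleton] at hj'
    rcases hj' with rfl
    · exact e_0_2
  · have hj' : j ∈ ({2} : Finset (Fin 7)) := hj
    simp only [Finset.mem_insert, Finset.mem_singleton] at hj'
    rcases hj' with rfl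
    · exact e_1_2
  · have hj' : j ∈ ({0, 1, 3} : Finset (Fin 7)) := hj
    simp only [Finset.mem_insert, Finset.mem_singleton] at hj'
    rcases hj' with rfl | rfl | rfl
    · exact nsymm T e_0_2
    · exact nsymm T e_1_2
    · exact e_2_3
  · have hj' : j ∈ ({2, 4} : Finset (Fin 7)) := hj
    simp only [Finset.mem_insert, Finset.mem_singleton] at hj'
    rcases hj' with rfl | rfl
    · exact nsymm T e_2_3
    · exact e_3_4
  · have hj' : j ∈ ({3, 5, 6} : Finset (Fin 7)) := hj
    simp only [Finset.mem_insert, Finset.mem_singleton] at hj'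
    rcases hj' with rfl | rfl | rfl
    · exact nsymm T e_3_4
    · exact e_4_5
    · exact e_4_6
  · have hj' : j ∈ ({4} : Finset (Fin 7)) := hj
    simp only [Finset.mem_insert, Finset.mem_singleton] at hj'
    rcases hj' with rfl
    · exact nsymm T e_4_5
  · have hj' : j ∈ ({4} : Finset (Fin 7)) := hj
    simp only [Finset.mem_insert, Finset.mem_singleton] at hj'
    rcases hj' with rfl
    · exact nsymm T e_4_6

theorem excl_D7t {n : ℕ} (T : Models.NumericalType n) (h2 : ∀ i, T.IsMinusTwo i)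
    (y : Fin n → Fin n) (hy : Function.Injective y) (v : Fin 8 → Fin n) (hv : Function.Injective v)
    (hn : 8 < n) (e_0_2 : T.a (y (v 0)) (y (v 2)) ≠ 0) (e_1_2 : T.a (y (v 1)) (y (v 2)) ≠ 0) (e_2_3 : T.a (y (v 2)) (y (v 3)) ≠ 0) (e_3_4 : T.a (y (v 3)) (y (v 4)) ≠ 0) (e_4_5 : T.a (y (v 4)) (y (v 5)) ≠ 0) (e_5_6 : T.a (y (v 5)) (y (v 6)) ≠ 0) (e_5_7 : T.a (y (v 5)) (y (v 7)) ≠ 0) : False := by
  classical
  refine marks_excl T h2 y hy 8 v hv hn (by norm_num) ![1, 1, 2, 2, 2, 2, 1, 1] (by decide)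
    ![{2}, {2}, {0, 1, 3}, {2, 4}, {3, 5}, {4, 6, 7}, {5}, {5}] (by decide) ?_ (by decide)
  intro i j hj
  fin_cases i
  · have hj' : j ∈ ({2} : Finset (Fin 8)) := hj
    simp only [Finset.mem_insert, Finset.mem_singleton] at hj'
    rcases hj' with rfl
    · exact e_0_2
  · have hj' : j ∈ ({2} : Finset (Fin 8)) := hj
    simp only [Finset.mem_insert, Finset.mem_singleton] at hj'
    rcases hj' with rfl
    · exact e_1_2
  · have hj' : j ∈ ({0, 1, 3} : Finset (Fin 8)) := hj
    simp only [Finset.mem_insert, Finset.mem_singleton] at hj'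
    rcases hj' with rfl | rfl | rfl
    · exact nsymm T e_0_2
    · exact nsymm T e_1_2
    · exact e_2_3
  · have hj' : j ∈ ({2, 4} : Finset (Fin 8)) := hj
    simp only [Finset.mem_insert, Finset.mem_singleton] at hj'
    rcases hj' with rfl | rfl
    · exact nsymm T e_2_3
    · exact e_3_4
  · have hj' : j ∈ ({3, 5} : Finset (Fin 8)) := hj
    simp only [Finset.mem_insert, Finset.mem_singleton] at hj'
    rcases hj' with rfl | rfl
    · exact nsymm T e_3_4
    · exact e_4_5
  · have hj' : j ∈ ({4, 6, 7} : Finset (Fin 8)) := hj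
    simp only [Finset.mem_insert, Finset.mem_singleton] at hj'
    rcases hj' with rfl | rfl | rfl
    · exact nsymm T e_4_5
    · exact e_5_6
    · exact e_5_7
  · have hj' : j ∈ ({5} : Finset (Fin 8)) := hj
    simp only [Finset.mem_insert, Finset.mem_singleton] at hj'
    rcases hj' with rfl
    · exact nsymm T e_5_6
  · have hj' : j ∈ ({5} : Finset (Fin 8)) := hj
    simp only [Finset.mem_insert, Finset.mem_singleton] at hj'
    rcases hj' with rfl
    · exact nsymm T e_5_7

theorem excl_E6t {n : ℕ} (T : Models.NumericalType n) (h2 : ∀ i, T.IsMinusTwo i)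
    (y : Fin n → Fin n) (hy : Function.Injective y) (v : Fin 7 → Fin n) (hv : Function.Injective v)
    (hn : 7 < n) (e_0_1 : T.a (y (v 0)) (y (v 1)) ≠ 0) (e_1_2 : T.a (y (v 1)) (y (v 2)) ≠ 0) (e_0_3 : T.a (y (v 0)) (y (v 3)) ≠ 0) (e_3_4 : T.a (y (v 3)) (y (v 4)) ≠ 0) (e_0_5 : T.a (y (v 0)) (y (v 5)) ≠ 0) (e_5_6 : T.a (y (v 5)) (y (v 6)) ≠ 0) : False := by
  classical
  refine marks_excl T h2 y hy 7 v hv hn (by norm_num) ![3, 2, 1, 2, 1, 2, 1] (by decide)
    ![{1, 3, 5}, {0, 2}, {1}, {0, 4}, {3}, {0, 6}, {5}] (by decide) ?_ (by decide)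
  intro i j hj
  fin_cases i
  · have hj' : j ∈ ({1, 3, 5} : Finset (Fin 7)) := hj
    simp only [Finset.mem_insert, Finset.mem_singleton] at hj'
    rcases hj' with rfl | rfl | rfl
    · exact e_0_1
    · exact e_0_3
    · exact e_0_5
  · have hj' : j ∈ ({0, 2} : Finset (Fin 7)) := hj
    simp only [Finset.mem_insert, Finset.mem_singleton] at hj'
    rcases hj' with rfl | rfl
    · exact nsymm T e_0_1
    · exact e_1_2
  · have hj' : j ∈ ({1} : Finset (Fin 7)) := hj
    simp only [Finset.mem_insert, Finset.mem_singleton] at hj'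
    rcases hj' with rfl
    · exact nsymm T e_1_2
  · have hj' : j ∈ ({0, 4} : Finset (Fin 7)) := hj
    simp only [Finset.mem_insert, Finset.mem_singleton] at hj'
    rcases hj' with rfl | rfl
    · exact nsymm T e_0_3
    · exact e_3_4
  · have hj' : j ∈ ({3} : Finset (Fin 7)) := hj
    simp only [Finset.mem_insert, Finset.mem_singleton] at hj'
    rcases hj' with rfl
    · exact nsymm T e_3_4
  · have hj' : j ∈ ({0, 6} : Finset (Fin 7)) := hj
    simp only [Finset.mem_insert, Finset.mem_singleton] at hj'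
    rcases hj' with rfl | rfl
    · exact nsymm T e_0_5
    · exact e_5_6
  · have hj' : j ∈ ({5} : Finset (Fin 7)) := hj
    simp only [Finset.mem_insert, Finset.mem_singleton] at hj'
    rcases hj' with rfl
    · exact nsymm T e_5_6

theorem excl_E7t {n : ℕ} (T : Models.NumericalType n) (h2 : ∀ i, T.IsMinusTwo i)
    (y : Fin n → Fin n) (hy : Function.Injective y) (v : Fin 8 → Fin n) (hv : Function.Injective v)
    (hn : 8 < n) (e_0_1 : T.a (y (v 0)) (y (v 1)) ≠ 0) (e_0_2 : T.a (y (v 0)) (y (v 2)) ≠ 0) (e_2_3 : T.a (y (v 2)) (y (v 3)) ≠ 0) (e_3_4 : T.a (y (v 3)) (y (v 4)) ≠ 0) (e_0_5 : T.a (y (v 0)) (y (v 5)) ≠ 0) (e_5_6 : T.a (y (v 5)) (y (v 6)) ≠ 0) (e_6_7 : T.a (y (v 6)) (y (v 7)) ≠ 0) : False := by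
  classical
  refine marks_excl T h2 y hy 8 v hv hn (by norm_num) ![4, 2, 3, 2, 1, 3, 2, 1] (by decide)
    ![{1, 2, 5}, {0}, {0, 3}, {2, 4}, {3}, {0, 6}, {5, 7}, {6}] (by decide) ?_ (by decide)
  intro i j hj
  fin_cases i
  · have hj' : j ∈ ({1, 2, 5} : Finset (Fin 8)) := hj
    simp only [Finset.mem_insert, Finset.mem_singleton] at hj'
    rcases hj' with rfl | rfl | rfl
    · exact e_0_1
    · exact e_0_2
    · exact e_0_5
  · have hj' : j ∈ ({0} : Finset (Fin 8)) := hj
    simp only [Finset.mem_insert, Finset.mem_singleton] at hj'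
    rcases hj' with rfl
    · exact nsymm T e_0_1
  · have hj' : j ∈ ({0, 3} : Finset (Fin 8)) := hj
    simp only [Finset.mem_insert, Finset.mem_singleton] at hj'
    rcases hj' with rfl | rfl
    · exact nsymm T e_0_2
    · exact e_2_3
  · have hj' : j ∈ ({2, 4} : Finset (Fin 8)) := hj
    simp only [Finset.mem_insert, Finset.mem_singleton] at hj'
    rcases hj' with rfl | rfl
    · exact nsymm T e_2_3
    · exact e_3_4
  · have hj' : j ∈ ({3} : Finset (Fin 8)) := hj
    simp only [Finset.mem_insert, Finset.mem_singleton] at hj'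
    rcases hj' with rfl
    · exact nsymm T e_3_4
  · have hj' : j ∈ ({0, 6} : Finset (Fin 8)) := hj
    simp only [Finset.mem_insert, Finset.mem_singleton] at hj'
    rcases hj' with rfl | rfl
    · exact nsymm T e_0_5
    · exact e_5_6
  · have hj' : j ∈ ({5, 7} : Finset (Fin 8)) := hj
    simp only [Finset.mem_insert, Finset.mem_singleton] at hj'
    rcases hj' with rfl | rfl
    · exact nsymm T e_5_6
    · exact e_6_7
  · have hj' : j ∈ ({6} : Finset (Fin 8)) := hj
    simp only [Finset.mem_insert, Finset.mem_singleton] at hj'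
    rcases hj' with rfl
    · exact nsymm T e_6_7

end Groth.Agent.H3.Gen
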