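import Groth.Agent.H3.NumGen

set_option autoImplicit false
set_option linter.unusedVariables false
set_option linter.unusedTactic false
set_option linter.unreachableTactic false
set_option linter.unnecessarySeqFocus false

namespace Groth.Agent.H3.Gen
open Groth.Agent.H3 Groth.Agent.H2

def Goal7 (T : Models.NumericalType 7) : Prop :=
  ∃ (σ : Equiv.Perm (Fin 7)) (m w : ℤ),
      ((T.m (σ 0) = m ∧ T.m (σ 1) = m ∧ T.m (σ 2) = m ∧ T.m (σ 3) = m ∧ T.m (σ 4) = m ∧ T.m (σ 5) = m ∧ T.m (σ 6) = m ∧ T.w (σ 0) = w ∧ T.w (σ 1) = w ∧ T.w (σ 2) = w ∧ T.w (σ 3) = w ∧ T.w (σ 4) = w ∧ T.w (σ 5) = w ∧ T.w (σ 6) = w ∧ T.a (σ 0) (σ 0) = -2 * w ∧ T.a (σ 0) (σ 1) = w ∧ T.a (σ 0) (σ 2) = 0 ∧ T.a (σ 0) (σ 3) = 0 ∧ T.a (σ 0) (σ 4) = 0 ∧ T.a (σ 0) (σ 5) = 0 ∧ T.a (σ 0) (σ 6) = w ∧ T.a (σ 1) (σ 1) = -2 * w ∧ T.a (σ 1) (σ 2) = w ∧ T.a (σ 1) (σ 3) = 0 ∧ T.a (σ 1) (σ 4) = 0 ∧ T.a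 (σ 1) (σ 5) = 0 ∧ T.a (σ 1) (σ 6) = 0 ∧ T.a (σ 2) (σ 2) = -2 * w ∧ T.a (σ 2) (σ 3) = w ∧ T.a (σ 2) (σ 4) = 0 ∧ T.a (σ 2) (σ 5) = 0 ∧ T.a (σ 2) (σ 6) = 0 ∧ T.a (σ 3) (σ 3) = -2 * w ∧ T.a (σ 3) (σ 4) = w ∧ T.a (σ 3) (σ 5) = 0 ∧ T.a (σ 3) (σ 6) = 0 ∧ T.a (σ 4) (σ 4) = -2 * w ∧ T.a (σ 4) (σ 5) = w ∧ T.a (σ 4) (σ 6) = 0 ∧ T.a (σ 5) (σ 5) = -2 * w ∧ T.a (σ 5) (σ 6) = w ∧ T.a (σ 6) (σ 6) = -2 * w) ∨
      (T.m (σ 0) = 2 * m ∧ T.m (σ 1) = 2 * m ∧ T.m (σ 2) = 2 * m ∧ T.m (σ 3) = 2 * m ∧ T.m (σ 4) = 2 * m ∧ T.m (σ 5) = 2 * m ∧ T.m (σ 6) = m ∧ T.w (σ 0) = w ∧ T.w (σ 1) = 2 * w ∧ T.w (σ 2) = 2 * w ∧ T.w (σ 3) = 2 * w ∧ T.w (σ 4) = 2 * w ∧ T.w (σ 5) = 2 * w ∧ T.w (σ 6) = 4 * w ∧ T.a (σ 0) (σ 0) = -2 * w ∧ T.a (σ 0) (σ 1) = 2 * w ∧ T.a (σ 0) (σ 2) = 0 ∧ T.a (σ 0) (σ 3) = 0 ∧ T.a (σ 0) (σ 4) = 0 ∧ T.a (σ 0) (σ 5) = 0 ∧ T.a (σ 0) (σ 6) = 0 ∧ T.a (σ 1) (σ 1) = -4 * w ∧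 T.a (σ 1) (σ 2) = 2 * w ∧ T.a (σ 1) (σ 3) = 0 ∧ T.a (σ 1) (σ 4) = 0 ∧ T.a (σ 1) (σ 5) = 0 ∧ T.a (σ 1) (σ 6) = 0 ∧ T.a (σ 2) (σ 2) = -4 * w ∧ T.a (σ 2) (σ 3) = 2 * w ∧ T.a (σ 2) (σ 4) = 0 ∧ T.a (σ 2) (σ 5) = 0 ∧ T.a (σ 2) (σ 6) = 0 ∧ T.a (σ 3) (σ 3) = -4 * w ∧ T.a (σ 3) (σ 4) = 2 * w ∧ T.a (σ 3) (σ 5) = 0 ∧ T.a (σ 3) (σ 6) = 0 ∧ T.a (σ 4) (σ 4) = -4 * w ∧ T.a (σ 4) (σ 5) = 2 * w ∧ T.a (σ 4) (σ 6) = 0 ∧ T.a (σ 5) (σ 5) = -4 * w ∧ T.a (σ 5) (σ 6) = 4 * w ∧ T.a (σ 6) (σ 6) = -8 * w) ∨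
      (T.m (σ 0) = m ∧ T.m (σ 1) = m ∧ T.m (σ 2) = m ∧ T.m (σ 3) = m ∧ T.m (σ 4) = m ∧ T.m (σ 5) = m ∧ T.m (σ 6) = m ∧ T.w (σ 0) = w ∧ T.w (σ 1) = 2 * w ∧ T.w (σ 2) = 2 * w ∧ T.w (σ 3) = 2 * w ∧ T.w (σ 4) = 2 * w ∧ T.w (σ 5) = 2 * w ∧ T.w (σ 6) = w ∧ T.a (σ 0) (σ 0) = -2 * w ∧ T.a (σ 0) (σ 1) = 2 * w ∧ T.a (σ 0) (σ 2) = 0 ∧ T.a (σ 0) (σ 3) = 0 ∧ T.a (σ 0) (σ 4) = 0 ∧ T.a (σ 0) (σ 5) = 0 ∧ T.a (σ 0) (σ 6) = 0 ∧ T.a (σ 1) (σ 1) = -4 * w ∧ T.a (σ 1) (σ 2) = 2 * w ∧ T.a (σ 1) (σ 3) = 0 ∧ T.a (σ 1) (σ 4) = 0 ∧ T.a (σ 1) (σ 5) = 0 ∧ T.a (σ 1) (σ 6) = 0 ∧ T.a (σ 2) (σ 2) = -4 * w ∧ T.a (σ 2) (σ 3) = 2 * w ∧ T.a (σ 2) (σ 4) = 0 ∧ T.a (σ 2) (σ 5) = 0 ∧ T.a (σ 2) (σ 6) = 0 ∧ T.a (σ 3) (σ 3) = -4 * w ∧ T.a (σ 3) (σ 4) = 2 * w ∧ T.a (σ 3) (σ 5) = 0 ∧ T.a (σ 3) (σ 6) = 0 ∧ T.a (σ 4) (σ 4) = -4 * w ∧ T.a (σ 4) (σ 5) = 2 * w ∧ T.a (σ 4) (σ 6) = 0 ∧ T.a (σ 5) (σ 5) =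 -4 * w ∧ T.a (σ 5) (σ 6) = 2 * w ∧ T.a (σ 6) (σ 6) = -2 * w) ∨
      (T.m (σ 0) = m ∧ T.m (σ 1) = 2 * m ∧ T.m (σ 2) = 2 * m ∧ T.m (σ 3) = 2 * m ∧ T.m (σ 4) = 2 * m ∧ T.m (σ 5) = 2 * m ∧ T.m (σ 6) = m ∧ T.w (σ 0) = 2 * w ∧ T.w (σ 1) = w ∧ T.w (σ 2) = w ∧ T.w (σ 3) = w ∧ T.w (σ 4) = w ∧ T.w (σ 5) = w ∧ T.w (σ 6) = 2 * w ∧ T.a (σ 0) (σ 0) = -4 * w ∧ T.a (σ 0) (σ 1) = 2 * w ∧ T.a (σ 0) (σ 2) = 0 ∧ T.a (σ 0) (σ 3) = 0 ∧ T.a (σ 0) (σ 4) = 0 ∧ T.a (σ 0) (σ 5) = 0 ∧ T.a (σ 0) (σ 6) = 0 ∧ T.a (σ 1) (σ 1) = -2 * w ∧ T.a (σ 1) (σ 2) = w ∧ T.a (σ 1) (σ 3) = 0 ∧ T.a (σ 1) (σ 4) = 0 ∧ T.a (σ 1) (σ 5) = 0 ∧ T.a (σ 1) (σ 6) = 0 ∧ T.a (σ 2) (σ 2) = -2 * w ∧ T.a (σ 2) (σ 3) = w ∧ T.a (σ 2) (σ 4) = 0 ∧ T.a (σ 2) (σ 5) = 0 ∧ T.a (σ 2) (σ 6) = 0 ∧ T.a (σ 3) (σ 3) = -2 * w ∧ T.a (σ 3) (σ 4) = w ∧ T.a (σ 3) (σ 5) = 0 ∧ T.a (σ 3) (σ 6) = 0 ∧ T.a (σ 4) (σ 4) = -2 * w ∧ T.a (σ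 4) (σ 5) = w ∧ T.a (σ 4) (σ 6) = 0 ∧ T.a (σ 5) (σ 5) = -2 * w ∧ T.a (σ 5) (σ 6) = 2 * w ∧ T.a (σ 6) (σ 6) = -4 * w) ∨
      (T.m (σ 0) = m ∧ T.m (σ 1) = 2 * m ∧ T.m (σ 2) = 2 * m ∧ T.m (σ 3) = 2 * m ∧ T.m (σ 4) = 2 * m ∧ T.m (σ 5) = m ∧ T.m (σ 6) = m ∧ T.w (σ 0) = 2 * w ∧ T.w (σ 1) = w ∧ T.w (σ 2) = w ∧ T.w (σ 3) = w ∧ T.w (σ 4) = w ∧ T.w (σ 5) = w ∧ T.w (σ 6) = w ∧ T.a (σ 0) (σ 0) = -4 * w ∧ T.a (σ 0) (σ 1) = 2 * w ∧ T.a (σ 0) (σ 2) = 0 ∧ T.a (σ 0) (σ 3) = 0 ∧ T.a (σ 0) (σ 4) = 0 ∧ T.a (σ 0) (σ 5) = 0 ∧ T.a (σ 0) (σ 6) = 0 ∧ T.a (σ 1) (σ 1) = -2 * w ∧ T.a (σ 1) (σ 2) = w ∧ T.a (σ 1) (σ 3) = 0 ∧ T.a (σ 1) (σ 4) = 0 ∧ T.a (σ 1) (σ 5) = 0 ∧ T.a (σ 1) (σ 6) = 0 ∧ T.a (σ 2) (σ 2) = -2 * w ∧ T.a (σ 2) (σ 3) = w ∧ T.a (σ 2) (σ 4) = 0 ∧ T.a (σ 2) (σ 5) = 0 ∧ T.a (σ 2) (σ 6) = 0 ∧ T.a (σ 3) (σ 3) = -2 * w ∧ T.a (σ 3) (σ 4) = w ∧ T.a (σ 3) (σ 5) = 0 ∧ T.a (σ 3)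 (σ 6) = 0 ∧ T.a (σ 4) (σ 4) = -2 * w ∧ T.a (σ 4) (σ 5) = w ∧ T.a (σ 4) (σ 6) = w ∧ T.a (σ 5) (σ 5) = -2 * w ∧ T.a (σ 5) (σ 6) = 0 ∧ T.a (σ 6) (σ 6) = -2 * w) ∨
      (T.m (σ 0) = 2 * m ∧ T.m (σ 1) = 2 * m ∧ T.m (σ 2) = 2 * m ∧ T.m (σ 3) = 2 * m ∧ T.m (σ 4) = 2 * m ∧ T.m (σ 5) = m ∧ T.m (σ 6) = m ∧ T.w (σ 0) = w ∧ T.w (σ 1) = 2 * w ∧ T.w (σ 2) = 2 * w ∧ T.w (σ 3) = 2 * w ∧ T.w (σ 4) = 2 * w ∧ T.w (σ 5) = 2 * w ∧ T.w (σ 6) = 2 * w ∧ T.a (σ 0) (σ 0) = -2 * w ∧ T.a (σ 0) (σ 1) = 2 * w ∧ T.a (σ 0) (σ 2) = 0 ∧ T.a (σ 0) (σ 3) = 0 ∧ T.a (σ 0) (σ 4) = 0 ∧ T.a (σ 0) (σ 5) = 0 ∧ T.a (σ 0) (σ 6) = 0 ∧ T.a (σ 1) (σ 1) = -4 * w ∧ T.a (σ 1) (σ 2) = 2 * w ∧ T.a (σ 1) (σ 3) = 0 ∧ T.a (σ 1) (σ 4) = 0 ∧ T.a (σ 1) (σ 5) = 0 ∧ T.a (σ 1) (σ 6) = 0 ∧ T.a (σ 2) (σ 2) = -4 * w ∧ T.a (σ 2) (σ 3) = 2 * w ∧ T.a (σ 2) (σ 4) = 0 ∧ T.a (σ 2) (σ 5) = 0 ∧ T.a (σ 2) (σ 6) = 0 ∧ T.a (σ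 3) (σ 3) = -4 * w ∧ T.a (σ 3) (σ 4) = 2 * w ∧ T.a (σ 3) (σ 5) = 0 ∧ T.a (σ 3) (σ 6) = 0 ∧ T.a (σ 4) (σ 4) = -4 * w ∧ T.a (σ 4) (σ 5) = 2 * w ∧ T.a (σ 4) (σ 6) = 2 * w ∧ T.a (σ 5) (σ 5) = -4 * w ∧ T.a (σ 5) (σ 6) = 0 ∧ T.a (σ 6) (σ 6) = -4 * w) ∨
      (T.m (σ 0) = m ∧ T.m (σ 1) = m ∧ T.m (σ 2) = 2 * m ∧ T.m (σ 3) = 2 * m ∧ T.m (σ 4) = 2 * m ∧ T.m (σ 5) = m ∧ T.m (σ 6) = m ∧ T.w (σ 0) = w ∧ T.w (σ 1) = w ∧ T.w (σ 2) = w ∧ T.w (σ 3) = w ∧ T.w (σ 4) = w ∧ T.w (σ 5) = w ∧ T.w (σ 6) = w ∧ T.a (σ 0) (σ 0) = -2 * w ∧ T.a (σ 0) (σ 1) = 0 ∧ T.a (σ 0) (σ 2) = w ∧ T.a (σ 0) (σ 3) = 0 ∧ T.a (σ 0) (σ 4) = 0 ∧ T.a (σ 0) (σ 5) = 0 ∧ T.a (σ 0) (σ 6) = 0 ∧ T.a (σ 1) (σ 1) = -2 * w ∧ T.a (σ 1) (σ 2) = w ∧ T.a (σ 1) (σ 3) = 0 ∧ T.a (σ 1) (σ 4) = 0 ∧ T.a (σ 1) (σ 5) = 0 ∧ T.a (σ 1) (σ 6) = 0 ∧ T.a (σ 2) (σ 2) = -2 * w ∧ T.a (σ 2) (σ 3) = w ∧ T.a (σ 2) (σ 4) = 0 ∧ T.a (σ 2)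 (σ 5) = 0 ∧ T.a (σ 2) (σ 6) = 0 ∧ T.a (σ 3) (σ 3) = -2 * w ∧ T.a (σ 3) (σ 4) = w ∧ T.a (σ 3) (σ 5) = 0 ∧ T.a (σ 3) (σ 6) = 0 ∧ T.a (σ 4) (σ 4) = -2 * w ∧ T.a (σ 4) (σ 5) = w ∧ T.a (σ 4) (σ 6) = w ∧ T.a (σ 5) (σ 5) = -2 * w ∧ T.a (σ 5) (σ 6) = 0 ∧ T.a (σ 6) (σ 6) = -2 * w) ∨
      (T.m (σ 0) = m ∧ T.m (σ 1) = 2 * m ∧ T.m (σ 2) = 3 * m ∧ T.m (σ 3) = m ∧ T.m (σ 4) = 2 * m ∧ T.m (σ 5) = m ∧ T.m (σ 6) = 2 * m ∧ T.w (σ 0) = w ∧ T.w (σ 1) = w ∧ T.w (σ 2) = w ∧ T.w (σ 3) = w ∧ T.w (σ 4) = w ∧ T.w (σ 5) = w ∧ T.w (σ 6) = w ∧ T.a (σ 0) (σ 0) = -2 * w ∧ T.a (σ 0) (σ 1) = w ∧ T.a (σ 0) (σ 2) = 0 ∧ T.a (σ 0) (σ 3) = 0 ∧ T.a (σ 0) (σ 4) = 0 ∧ T.a (σ 0) (σ 5) = 0 ∧ T.a (σ 0) (σ 6) = 0 ∧ T.a (σ 1) (σ 1) = -2 * w ∧ T.a (σ 1) (σ 2) = w ∧ T.a (σ 1) (σ 3) = 0 ∧ T.a (σ 1) (σ 4) = 0 ∧ T.a (σ 1) (σ 5) = 0 ∧ T.a (σ 1) (σ 6) = 0 ∧ T.a (σ 2) (σ 2) = -2 * w ∧ T.a (σ 2) (σ 3) = 0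 ∧ T.a (σ 2) (σ 4) = w ∧ T.a (σ 2) (σ 5) = 0 ∧ T.a (σ 2) (σ 6) = w ∧ T.a (σ 3) (σ 3) = -2 * w ∧ T.a (σ 3) (σ 4) = w ∧ T.a (σ 3) (σ 5) = 0 ∧ T.a (σ 3) (σ 6) = 0 ∧ T.a (σ 4) (σ 4) = -2 * w ∧ T.a (σ 4) (σ 5) = 0 ∧ T.a (σ 4) (σ 6) = 0 ∧ T.a (σ 5) (σ 5) = -2 * w ∧ T.a (σ 5) (σ 6) = w ∧ T.a (σ 6) (σ 6) = -2 * w))

theorem row7 (T : Models.NumericalType 7) (z : Fin 7 → Fin 7) (hz : Function.Injective z) (x : Fin 7) :
    T.a x (z 0) * T.m (z 0) + T.a x (z 1) * T.m (z 1) + T.a x (z 2) * T.m (z 2) + T.a x (z 3) * T.m (z 3) + T.a x (z 4) * T.m (z 4) + T.a x (z 5) * T.m (z 5) + T.a x (z 6) * T.m (z 6) = 0 := by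
  have h := congrFun T.mulVec_m x
  simp only [Matrix.mulVec, dotProduct, Pi.zero_apply] at h
  have hb : Function.Bijective z := Finite.injective_iff_bijective.mp hz
  have e1 := (Equiv.ofBijective z hb).sum_comp (fun j => T.a x j * T.m j)
  simp only [Equiv.ofBijective_apply] at e1
  rw [Fin.sum_univ_seven] at e1
  rw [e1]
  exact h

theorem shape7_cycle (T : Models.NumericalType 7) (h2 : ∀ i, T.IsMinusTwo i)
    (z : Fin 7 → Fin 7) (hz : Function.Injective z)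
    (e_0_1 : T.a (z 0) (z 1) ≠ 0) (e_1_2 : T.a (z 1) (z 2) ≠ 0) (e_2_3 : T.a (z 2) (z 3) ≠ 0) (e_3_4 : T.a (z 3) (z 4) ≠ 0) (e_4_5 : T.a (z 4) (z 5) ≠ 0) (e_5_6 : T.a (z 5) (z 6) ≠ 0) (e_0_6 : T.a (z 0) (z 6) ≠ 0) : Goal7 T := by
  have e_1_0 : T.a (z 1) (z 0) ≠ 0 := nsymm T e_0_1
  have e_2_1 : T.a (z 2) (z 1) ≠ 0 := nsymm T e_1_2
  have e_3_2 : T.a (z 3) (z 2) ≠ 0 := nsymm T e_2_3
  have e_4_3 : T.a (z 4) (z 3) ≠ 0 := nsymm T e_3_4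
  have e_5_4 : T.a (z 5) (z 4) ≠ 0 := nsymm T e_4_5
  have e_6_5 : T.a (z 6) (z 5) ≠ 0 := nsymm T e_5_6
  have e_6_0 : T.a (z 6) (z 0) ≠ 0 := nsymm T e_0_6
  have z_0_2 : T.a (z 0) (z 2) = 0 := nocycList T h2 z hz [0, 1, 2] (by decide) (by decide) (by decide)
    (List.IsChain.cons_cons e_0_1 (List.IsChain.cons_cons e_1_2 (List.IsChain.singleton _))) 0 2 rfl rfl
  have z_2_0 : T.a (z 2) (z 0) = 0 := zsymm T z_0_2
  have z_0_3 : T.a (z 0) (z 3) = 0 := nocycList T h2 z hz [0, 1, 2, 3] (by decide) (by decide) (by decide)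
    (List.IsChain.cons_cons e_0_1 (List.IsChain.cons_cons e_1_2 (List.IsChain.cons_cons e_2_3 (List.IsChain.singleton _)))) 0 3 rfl rfl
  have z_3_0 : T.a (z 3) (z 0) = 0 := zsymm T z_0_3
  have z_0_4 : T.a (z 0) (z 4) = 0 := nocycList T h2 z hz [0, 6, 5, 4] (by decide) (by decide) (by decide)
    (List.IsChain.cons_cons e_0_6 (List.IsChain.cons_cons e_6_5 (List.IsChain.cons_cons e_5_4 (List.IsChain.singleton _)))) 0 4 rfl rfl
  have z_4_0 : T.a (z 4) (z 0) = 0 := zsymm T z_0_4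
  have z_0_5 : T.a (z 0) (z 5) = 0 := nocycList T h2 z hz [0, 6, 5] (by decide) (by decide) (by decide)
    (List.IsChain.cons_cons e_0_6 (List.IsChain.cons_cons e_6_5 (List.IsChain.singleton _))) 0 5 rfl rfl
  have z_5_0 : T.a (z 5) (z 0) = 0 := zsymm T z_0_5
  have z_1_3 : T.a (z 1) (z 3) = 0 := nocycList T h2 z hz [1, 2, 3] (by decide) (by decide) (by decide)
    (List.IsChain.cons_cons e_1_2 (List.IsChain.cons_cons e_2_3 (List.IsChain.singleton _))) 1 3 rfl rfl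
  have z_3_1 : T.a (z 3) (z 1) = 0 := zsymm T z_1_3
  have z_1_4 : T.a (z 1) (z 4) = 0 := nocycList T h2 z hz [1, 2, 3, 4] (by decide) (by decide) (by decide)
    (List.IsChain.cons_cons e_1_2 (List.IsChain.cons_cons e_2_3 (List.IsChain.cons_cons e_3_4 (List.IsChain.singleton _)))) 1 4 rfl rfl
  have z_4_1 : T.a (z 4) (z 1) = 0 := zsymm T z_1_4
  have z_1_5 : T.a (z 1) (z 5) = 0 := nocycList T h2 z hz [1, 0, 6, 5] (by decide) (by decide) (by decide)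
    (List.IsChain.cons_cons e_1_0 (List.IsChain.cons_cons e_0_6 (List.IsChain.cons_cons e_6_5 (List.IsChain.singleton _)))) 1 5 rfl rfl
  have z_5_1 : T.a (z 5) (z 1) = 0 := zsymm T z_1_5
  have z_1_6 : T.a (z 1) (z 6) = 0 := nocycList T h2 z hz [1, 0, 6] (by decide) (by decide) (by decide)
    (List.IsChain.cons_cons e_1_0 (List.IsChain.cons_cons e_0_6 (List.IsChain.singleton _))) 1 6 rfl rfl
  have z_6_1 : T.a (z 6) (z 1) = 0 := zsymm T z_1_6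
  have z_2_4 : T.a (z 2) (z 4) = 0 := nocycList T h2 z hz [2, 3, 4] (by decide) (by decide) (by decide)
    (List.IsChain.cons_cons e_2_3 (List.IsChain.cons_cons e_3_4 (List.IsChain.singleton _))) 2 4 rfl rfl
  have z_4_2 : T.a (z 4) (z 2) = 0 := zsymm T z_2_4
  have z_2_5 : T.a (z 2) (z 5) = 0 := nocycList T h2 z hz [2, 3, 4, 5] (by decide) (by decide) (by decide)
    (List.IsChain.cons_cons e_2_3 (List.IsChain.cons_cons e_3_4 (List.IsChain.cons_cons e_4_5 (List.IsChain.singleton _)))) 2 5 rfl rfl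
  have z_5_2 : T.a (z 5) (z 2) = 0 := zsymm T z_2_5
  have z_2_6 : T.a (z 2) (z 6) = 0 := nocycList T h2 z hz [2, 1, 0, 6] (by decide) (by decide) (by decide)
    (List.IsChain.cons_cons e_2_1 (List.IsChain.cons_cons e_1_0 (List.IsChain.cons_cons e_0_6 (List.IsChain.singleton _)))) 2 6 rfl rfl
  have z_6_2 : T.a (z 6) (z 2) = 0 := zsymm T z_2_6
  have z_3_5 : T.a (z 3) (z 5) = 0 := nocycList T h2 z hz [3, 4, 5] (by decide) (by decide) (by decide)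
    (List.IsChain.cons_cons e_3_4 (List.IsChain.cons_cons e_4_5 (List.IsChain.singleton _))) 3 5 rfl rfl
  have z_5_3 : T.a (z 5) (z 3) = 0 := zsymm T z_3_5
  have z_3_6 : T.a (z 3) (z 6) = 0 := nocycList T h2 z hz [3, 4, 5, 6] (by decide) (by decide) (by decide)
    (List.IsChain.cons_cons e_3_4 (List.IsChain.cons_cons e_4_5 (List.IsChain.cons_cons e_5_6 (List.IsChain.singleton _)))) 3 6 rfl rfl
  have z_6_3 : T.a (z 6) (z 3) = 0 := zsymm T z_3_6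
  have z_4_6 : T.a (z 4) (z 6) = 0 := nocycList T h2 z hz [4, 5, 6] (by decide) (by decide) (by decide)
    (List.IsChain.cons_cons e_4_5 (List.IsChain.cons_cons e_5_6 (List.IsChain.singleton _))) 4 6 rfl rfl
  have z_6_4 : T.a (z 6) (z 4) = 0 := zsymm T z_4_6
  obtain ⟨hp_0_1, hp_1_0⟩ := mid_edge_one T h2 z hz [4, 5, 6, 0, 1, 2] (by decide) (by decide) (by decide)
    (List.IsChain.cons_cons e_4_5 (List.IsChain.cons_cons e_5_6 (List.IsChain.cons_cons e_6_0 (List.IsChain.cons_cons e_0_1 (List.IsChain.cons_cons e_1_2 (List.IsChain.singleton _)))))) 3 (by decide) (by decide) 0 1 rfl rfl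
  obtain ⟨hp_1_2, hp_2_1⟩ := mid_edge_one T h2 z hz [0, 1, 2, 3, 4] (by decide) (by decide) (by decide)
    (List.IsChain.cons_cons e_0_1 (List.IsChain.cons_cons e_1_2 (List.IsChain.cons_cons e_2_3 (List.IsChain.cons_cons e_3_4 (List.IsChain.singleton _))))) 1 (by decide) (by decide) 1 2 rfl rfl
  obtain ⟨hp_2_3, hp_3_2⟩ := mid_edge_one T h2 z hz [0, 1, 2, 3, 4] (by decide) (by decide) (by decide)
    (List.IsChain.cons_cons e_0_1 (List.IsChain.cons_cons e_1_2 (List.IsChain.cons_cons e_2_3 (List.IsChain.cons_cons e_3_4 (List.IsChain.singleton _))))) 2 (by decide) (by decide) 2 3 rfl rfl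
  obtain ⟨hp_3_4, hp_4_3⟩ := mid_edge_one T h2 z hz [0, 1, 2, 3, 4, 5] (by decide) (by decide) (by decide)
    (List.IsChain.cons_cons e_0_1 (List.IsChain.cons_cons e_1_2 (List.IsChain.cons_cons e_2_3 (List.IsChain.cons_cons e_3_4 (List.IsChain.cons_cons e_4_5 (List.IsChain.singleton _)))))) 3 (by decide) (by decide) 3 4 rfl rfl
  obtain ⟨hp_4_5, hp_5_4⟩ := mid_edge_one T h2 z hz [1, 2, 3, 4, 5, 6] (by decide) (by decide) (by decide)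
    (List.IsChain.cons_cons e_1_2 (List.IsChain.cons_cons e_2_3 (List.IsChain.cons_cons e_3_4 (List.IsChain.cons_cons e_4_5 (List.IsChain.cons_cons e_5_6 (List.IsChain.singleton _)))))) 3 (by decide) (by decide) 4 5 rfl rfl
  obtain ⟨hp_5_6, hp_6_5⟩ := mid_edge_one T h2 z hz [2, 3, 4, 5, 6, 0] (by decide) (by decide) (by decide)
    (List.IsChain.cons_cons e_2_3 (List.IsChain.cons_cons e_3_4 (List.IsChain.cons_cons e_4_5 (List.IsChain.cons_cons e_5_6 (List.IsChain.cons_cons e_6_0 (List.IsChain.singleton _)))))) 3 (by decide) (by decide) 5 6 rfl rfl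
  obtain ⟨hp_0_6, hp_6_0⟩ := mid_edge_one T h2 z hz [1, 0, 6, 5, 4] (by decide) (by decide) (by decide)
    (List.IsChain.cons_cons e_1_0 (List.IsChain.cons_cons e_0_6 (List.IsChain.cons_cons e_6_5 (List.IsChain.cons_cons e_5_4 (List.IsChain.singleton _))))) 1 (by decide) (by decide) 0 6 rfl rfl
  have we_0_1 := w_pp T (z 0) (z 1)
  have we_1_2 := w_pp T (z 1) (z 2)
  have we_2_3 := w_pp T (z 2) (z 3)
  have we_3_4 := w_pp T (z 3) (z 4)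
  have we_4_5 := w_pp T (z 4) (z 5)
  have we_5_6 := w_pp T (z 5) (z 6)
  have we_0_6 := w_pp T (z 0) (z 6)
  have r_0 := row7 T z hz (z 0)
  rw [(h2 (z 0)).2, a_eq_pp T (z 0) (z 1), z_0_2, z_0_3, z_0_4, z_0_5, a_eq_pp T (z 0) (z 6)] at r_0
  have q_0 : pp T (z 0) (z 1) * T.m (z 1) + pp T (z 0) (z 6) * T.m (z 6) = 2 * T.m (z 0) :=
    mul_left_cancel₀ (T.w_pos (z 0)).ne' (by linear_combination r_0)
  clear r_0
  have r_1 := row7 T z hz (z 1)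
  rw [a_eq_pp T (z 1) (z 0), (h2 (z 1)).2, a_eq_pp T (z 1) (z 2), z_1_3, z_1_4, z_1_5, z_1_6] at r_1
  have q_1 : pp T (z 1) (z 0) * T.m (z 0) + pp T (z 1) (z 2) * T.m (z 2) = 2 * T.m (z 1) :=
    mul_left_cancel₀ (T.w_pos (z 1)).ne' (by linear_combination r_1)
  clear r_1
  have r_2 := row7 T z hz (z 2)
  rw [z_2_0, a_eq_pp T (z 2) (z 1), (h2 (z 2)).2, a_eq_pp T (z 2) (z 3), z_2_4, z_2_5, z_2_6] at r_2
  have q_2 : pp T (z 2) (z 1) * T.m (z 1) + pp T (z 2) (z 3) * T.m (z 3) = 2 * T.m (z 2) :=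
    mul_left_cancel₀ (T.w_pos (z 2)).ne' (by linear_combination r_2)
  clear r_2
  have r_3 := row7 T z hz (z 3)
  rw [z_3_0, z_3_1, a_eq_pp T (z 3) (z 2), (h2 (z 3)).2, a_eq_pp T (z 3) (z 4), z_3_5, z_3_6] at r_3
  have q_3 : pp T (z 3) (z 2) * T.m (z 2) + pp T (z 3) (z 4) * T.m (z 4) = 2 * T.m (z 3) :=
    mul_left_cancel₀ (T.w_pos (z 3)).ne' (by linear_combination r_3)
  clear r_3
  have r_4 := row7 T z hz (z 4)
  rw [z_4_0, z_4_1, z_4_2, a_eq_pp T (z 4) (z 3), (h2 (z 4)).2, a_eq_pp T (z 4) (z 5), z_4_6] at r_4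
  have q_4 : pp T (z 4) (z 3) * T.m (z 3) + pp T (z 4) (z 5) * T.m (z 5) = 2 * T.m (z 4) :=
    mul_left_cancel₀ (T.w_pos (z 4)).ne' (by linear_combination r_4)
  clear r_4
  have r_5 := row7 T z hz (z 5)
  rw [z_5_0, z_5_1, z_5_2, z_5_3, a_eq_pp T (z 5) (z 4), (h2 (z 5)).2, a_eq_pp T (z 5) (z 6)] at r_5
  have q_5 : pp T (z 5) (z 4) * T.m (z 4) + pp T (z 5) (z 6) * T.m (z 6) = 2 * T.m (z 5) :=
    mul_left_cancel₀ (T.w_pos (z 5)).ne' (by linear_combination r_5)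
  clear r_5
  have r_6 := row7 T z hz (z 6)
  rw [a_eq_pp T (z 6) (z 0), z_6_1, z_6_2, z_6_3, z_6_4, a_eq_pp T (z 6) (z 5), (h2 (z 6)).2] at r_6
  have q_6 : pp T (z 6) (z 0) * T.m (z 0) + pp T (z 6) (z 5) * T.m (z 5) = 2 * T.m (z 6) :=
    mul_left_cancel₀ (T.w_pos (z 6)).ne' (by linear_combination r_6)
  clear r_6
  rw [hp_0_1, hp_0_6] at q_0
  rw [hp_1_0, hp_1_2] at q_1
  rw [hp_2_1, hp_2_3] at q_2
  rw [hp_3_2, hp_3_4] at q_3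
  rw [hp_4_3, hp_4_5] at q_4
  rw [hp_5_4, hp_5_6] at q_5
  rw [hp_6_0, hp_6_5] at q_6
  rw [hp_0_1, hp_1_0] at we_0_1
  rw [hp_1_2, hp_2_1] at we_1_2
  rw [hp_2_3, hp_3_2] at we_2_3
  rw [hp_3_4, hp_4_3] at we_3_4
  rw [hp_4_5, hp_5_4] at we_4_5
  rw [hp_5_6, hp_6_5] at we_5_6
  rw [hp_0_6, hp_6_0] at we_0_6
  obtain ⟨σ, hσ⟩ := permOf (fun i => z (![0, 1, 2, 3, 4, 5, 6] i)) (hz.comp (by decide))
  have s0 : σ 0 = z 0 := hσ 0
  have s1 : σ 1 = z 1 := hσ 1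
  have s2 : σ 2 = z 2 := hσ 2
  have s3 : σ 3 = z 3 := hσ 3
  have s4 : σ 4 = z 4 := hσ 4
  have s5 : σ 5 = z 5 := hσ 5
  have s6 : σ 6 = z 6 := hσ 6
  unfold Goal7
  refine ⟨σ, T.m (z 0), T.w (z 0), Or.inl ⟨?_, ?_, ?_, ?_, ?_, ?_, ?_, ?_, ?_, ?_, ?_, ?_, ?_, ?_, ?_, ?_, ?_, ?_, ?_, ?_, ?_, ?_, ?_, ?_, ?_, ?_, ?_, ?_, ?_, ?_, ?_, ?_, ?_, ?_, ?_, ?_, ?_, ?_, ?_, ?_, ?_, ?_⟩⟩
  · rw [s0] <;> linarith only [q_0, q_1, q_2, q_3, q_4, q_5, q_6]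
  · rw [s1] <;> linarith only [q_0, q_1, q_2, q_3, q_4, q_5, q_6]
  · rw [s2] <;> linarith only [q_0, q_1, q_2, q_3, q_4, q_5, q_6]
  · rw [s3] <;> linarith only [q_0, q_1, q_2, q_3, q_4, q_5, q_6]
  · rw [s4] <;> linarith only [q_0, q_1, q_2, q_3, q_4, q_5, q_6]
  · rw [s5] <;> linarith only [q_0, q_1, q_2, q_3, q_4, q_5, q_6]
  · rw [s6] <;> linarith only [q_0, q_1, q_2, q_3, q_4, q_5, q_6]
  · rw [s0] <;> linarith only [we_0_1, we_1_2, we_2_3, we_3_4, we_4_5, we_5_6, we_0_6]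
  · rw [s1] <;> linarith only [we_0_1, we_1_2, we_2_3, we_3_4, we_4_5, we_5_6, we_0_6]
  · rw [s2] <;> linarith only [we_0_1, we_1_2, we_2_3, we_3_4, we_4_5, we_5_6, we_0_6]
  · rw [s3] <;> linarith only [we_0_1, we_1_2, we_2_3, we_3_4, we_4_5, we_5_6, we_0_6]
  · rw [s4] <;> linarith only [we_0_1, we_1_2, we_2_3, we_3_4, we_4_5, we_5_6, we_0_6]
  · rw [s5] <;> linarith only [we_0_1, we_1_2, we_2_3, we_3_4, we_4_5, we_5_6, we_0_6]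
  · rw [s6] <;> linarith only [we_0_1, we_1_2, we_2_3, we_3_4, we_4_5, we_5_6, we_0_6]
  · rw [s0, (h2 (z 0)).2] <;> linarith only [we_0_1, we_1_2, we_2_3, we_3_4, we_4_5, we_5_6, we_0_6]
  · rw [s0, s1, a_eq_pp T (z 0) (z 1), hp_0_1] <;> linarith only [we_0_1, we_1_2, we_2_3, we_3_4, we_4_5, we_5_6, we_0_6]
  · rw [s0, s2, z_0_2]
  · rw [s0, s3, z_0_3]
  · rw [s0, s4, z_0_4]
  · rw [s0, s5, z_0_5]
  · rw [s0, s6, a_eq_pp T (z 0) (z 6), hp_0_6] <;> linarith only [we_0_1, we_1_2, we_2_3, we_3_4, we_4_5, we_5_6, we_0_6]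
  · rw [s1, (h2 (z 1)).2] <;> linarith only [we_0_1, we_1_2, we_2_3, we_3_4, we_4_5, we_5_6, we_0_6]
  · rw [s1, s2, a_eq_pp T (z 1) (z 2), hp_1_2] <;> linarith only [we_0_1, we_1_2, we_2_3, we_3_4, we_4_5, we_5_6, we_0_6]
  · rw [s1, s3, z_1_3]
  · rw [s1, s4, z_1_4]
  · rw [s1, s5, z_1_5]
  · rw [s1, s6, z_1_6]
  · rw [s2, (h2 (z 2)).2] <;> linarith only [we_0_1, we_1_2, we_2_3, we_3_4, we_4_5, we_5_6, we_0_6]
  · rw [s2, s3, a_eq_pp T (z 2) (z 3), hp_2_3] <;> linarith only [we_0_1, we_1_2, we_2_3, we_3_4, we_4_5, we_5_6, we_0_6]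
  · rw [s2, s4, z_2_4]
  · rw [s2, s5, z_2_5]
  · rw [s2, s6, z_2_6]
  · rw [s3, (h2 (z 3)).2] <;> linarith only [we_0_1, we_1_2, we_2_3, we_3_4, we_4_5, we_5_6, we_0_6]
  · rw [s3, s4, a_eq_pp T (z 3) (z 4), hp_3_4] <;> linarith only [we_0_1, we_1_2, we_2_3, we_3_4, we_4_5, we_5_6, we_0_6]
  · rw [s3, s5, z_3_5]
  · rw [s3, s6, z_3_6]
  · rw [s4, (h2 (z 4)).2] <;> linarith only [we_0_1, we_1_2, we_2_3, we_3_4, we_4_5, we_5_6, we_0_6]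
  · rw [s4, s5, a_eq_pp T (z 4) (z 5), hp_4_5] <;> linarith only [we_0_1, we_1_2, we_2_3, we_3_4, we_4_5, we_5_6, we_0_6]
  · rw [s4, s6, z_4_6]
  · rw [s5, (h2 (z 5)).2] <;> linarith only [we_0_1, we_1_2, we_2_3, we_3_4, we_4_5, we_5_6, we_0_6]
  · rw [s5, s6, a_eq_pp T (z 5) (z 6), hp_5_6] <;> linarith only [we_0_1, we_1_2, we_2_3, we_3_4, we_4_5, we_5_6, we_0_6]
  · rw [s6, (h2 (z 6)).2] <;> linarith only [we_0_1, we_1_2, we_2_3, we_3_4, we_4_5, we_5_6, we_0_6]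

theorem shape7_D (T : Models.NumericalType 7) (h2 : ∀ i, T.IsMinusTwo i)
    (z : Fin 7 → Fin 7) (hz : Function.Injective z)
    (e_0_1 : T.a (z 0) (z 1) ≠ 0) (e_0_2 : T.a (z 0) (z 2) ≠ 0) (e_0_3 : T.a (z 0) (z 3) ≠ 0) (e_3_4 : T.a (z 3) (z 4) ≠ 0) (e_4_5 : T.a (z 4) (z 5) ≠ 0) (e_5_6 : T.a (z 5) (z 6) ≠ 0) : Goal7 T := by
  have e_1_0 : T.a (z 1) (z 0) ≠ 0 := nsymm T e_0_1
  have e_2_0 : T.a (z 2) (z 0) ≠ 0 := nsymm T e_0_2
  have e_3_0 : T.a (z 3) (z 0) ≠ 0 := nsymm T e_0_3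
  have e_4_3 : T.a (z 4) (z 3) ≠ 0 := nsymm T e_3_4
  have e_5_4 : T.a (z 5) (z 4) ≠ 0 := nsymm T e_4_5
  have e_6_5 : T.a (z 6) (z 5) ≠ 0 := nsymm T e_5_6
  have z_0_4 : T.a (z 0) (z 4) = 0 := nocycList T h2 z hz [0, 3, 4] (by decide) (by decide) (by decide)
    (List.IsChain.cons_cons e_0_3 (List.IsChain.cons_cons e_3_4 (List.IsChain.singleton _))) 0 4 rfl rfl
  have z_4_0 : T.a (z 4) (z 0) = 0 := zsymm T z_0_4
  have z_0_5 : T.a (z 0) (z 5) = 0 := nocycList T h2 z hz [0, 3, 4, 5] (by decide) (by decide) (by decide)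
    (List.IsChain.cons_cons e_0_3 (List.IsChain.cons_cons e_3_4 (List.IsChain.cons_cons e_4_5 (List.IsChain.singleton _)))) 0 5 rfl rfl
  have z_5_0 : T.a (z 5) (z 0) = 0 := zsymm T z_0_5
  have z_0_6 : T.a (z 0) (z 6) = 0 := nocycList T h2 z hz [0, 3, 4, 5, 6] (by decide) (by decide) (by decide)
    (List.IsChain.cons_cons e_0_3 (List.IsChain.cons_cons e_3_4 (List.IsChain.cons_cons e_4_5 (List.IsChain.cons_cons e_5_6 (List.IsChain.singleton _))))) 0 6 rfl rfl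
  have z_6_0 : T.a (z 6) (z 0) = 0 := zsymm T z_0_6
  have z_1_2 : T.a (z 1) (z 2) = 0 := nocycList T h2 z hz [1, 0, 2] (by decide) (by decide) (by decide)
    (List.IsChain.cons_cons e_1_0 (List.IsChain.cons_cons e_0_2 (List.IsChain.singleton _))) 1 2 rfl rfl
  have z_2_1 : T.a (z 2) (z 1) = 0 := zsymm T z_1_2
  have z_1_3 : T.a (z 1) (z 3) = 0 := nocycList T h2 z hz [1, 0, 3] (by decide) (by decide) (by decide)
    (List.IsChain.cons_cons e_1_0 (List.IsChain.cons_cons e_0_3 (List.IsChain.singleton _))) 1 3 rfl rfl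
  have z_3_1 : T.a (z 3) (z 1) = 0 := zsymm T z_1_3
  have z_1_4 : T.a (z 1) (z 4) = 0 := nocycList T h2 z hz [1, 0, 3, 4] (by decide) (by decide) (by decide)
    (List.IsChain.cons_cons e_1_0 (List.IsChain.cons_cons e_0_3 (List.IsChain.cons_cons e_3_4 (List.IsChain.singleton _)))) 1 4 rfl rfl
  have z_4_1 : T.a (z 4) (z 1) = 0 := zsymm T z_1_4
  have z_1_5 : T.a (z 1) (z 5) = 0 := nocycList T h2 z hz [1, 0, 3, 4, 5] (by decide) (by decide) (by decide)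
    (List.IsChain.cons_cons e_1_0 (List.IsChain.cons_cons e_0_3 (List.IsChain.cons_cons e_3_4 (List.IsChain.cons_cons e_4_5 (List.IsChain.singleton _))))) 1 5 rfl rfl
  have z_5_1 : T.a (z 5) (z 1) = 0 := zsymm T z_1_5
  have z_1_6 : T.a (z 1) (z 6) = 0 := nocycList T h2 z hz [1, 0, 3, 4, 5, 6] (by decide) (by decide) (by decide)
    (List.IsChain.cons_cons e_1_0 (List.IsChain.cons_cons e_0_3 (List.IsChain.cons_cons e_3_4 (List.IsChain.cons_cons e_4_5 (List.IsChain.cons_cons e_5_6 (List.IsChain.singleton _)))))) 1 6 rfl rfl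
  have z_6_1 : T.a (z 6) (z 1) = 0 := zsymm T z_1_6
  have z_2_3 : T.a (z 2) (z 3) = 0 := nocycList T h2 z hz [2, 0, 3] (by decide) (by decide) (by decide)
    (List.IsChain.cons_cons e_2_0 (List.IsChain.cons_cons e_0_3 (List.IsChain.singleton _))) 2 3 rfl rfl
  have z_3_2 : T.a (z 3) (z 2) = 0 := zsymm T z_2_3
  have z_2_4 : T.a (z 2) (z 4) = 0 := nocycList T h2 z hz [2, 0, 3, 4] (by decide) (by decide) (by decide)
    (List.IsChain.cons_cons e_2_0 (List.IsChain.cons_cons e_0_3 (List.IsChain.cons_cons e_3_4 (List.IsChain.singleton _)))) 2 4 rfl rfl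
  have z_4_2 : T.a (z 4) (z 2) = 0 := zsymm T z_2_4
  have z_2_5 : T.a (z 2) (z 5) = 0 := nocycList T h2 z hz [2, 0, 3, 4, 5] (by decide) (by decide) (by decide)
    (List.IsChain.cons_cons e_2_0 (List.IsChain.cons_cons e_0_3 (List.IsChain.cons_cons e_3_4 (List.IsChain.cons_cons e_4_5 (List.IsChain.singleton _))))) 2 5 rfl rfl
  have z_5_2 : T.a (z 5) (z 2) = 0 := zsymm T z_2_5
  have z_2_6 : T.a (z 2) (z 6) = 0 := nocycList T h2 z hz [2, 0, 3, 4, 5, 6] (by decide) (by decide) (by decide)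
    (List.IsChain.cons_cons e_2_0 (List.IsChain.cons_cons e_0_3 (List.IsChain.cons_cons e_3_4 (List.IsChain.cons_cons e_4_5 (List.IsChain.cons_cons e_5_6 (List.IsChain.singleton _)))))) 2 6 rfl rfl
  have z_6_2 : T.a (z 6) (z 2) = 0 := zsymm T z_2_6
  have z_3_5 : T.a (z 3) (z 5) = 0 := nocycList T h2 z hz [3, 4, 5] (by decide) (by decide) (by decide)
    (List.IsChain.cons_cons e_3_4 (List.IsChain.cons_cons e_4_5 (List.IsChain.singleton _))) 3 5 rfl rfl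
  have z_5_3 : T.a (z 5) (z 3) = 0 := zsymm T z_3_5
  have z_3_6 : T.a (z 3) (z 6) = 0 := nocycList T h2 z hz [3, 4, 5, 6] (by decide) (by decide) (by decide)
    (List.IsChain.cons_cons e_3_4 (List.IsChain.cons_cons e_4_5 (List.IsChain.cons_cons e_5_6 (List.IsChain.singleton _)))) 3 6 rfl rfl
  have z_6_3 : T.a (z 6) (z 3) = 0 := zsymm T z_3_6
  have z_4_6 : T.a (z 4) (z 6) = 0 := nocycList T h2 z hz [4, 5, 6] (by decide) (by decide) (by decide)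
    (List.IsChain.cons_cons e_4_5 (List.IsChain.cons_cons e_5_6 (List.IsChain.singleton _))) 4 6 rfl rfl
  have z_6_4 : T.a (z 6) (z 4) = 0 := zsymm T z_4_6
  obtain ⟨hp_0_1, hp_1_0, hp_0_2, hp_2_0, hp_0_3, hp_3_0⟩ := branch_one T h2 z hz (by norm_num) 0 1 2 3 (by decide) e_0_1 e_0_2 e_0_3
  obtain ⟨hp_3_4, hp_4_3⟩ := mid_edge_one T h2 z hz [0, 3, 4, 5, 6] (by decide) (by decide) (by decide)
    (List.IsChain.cons_cons e_0_3 (List.IsChain.cons_cons e_3_4 (List.IsChain.cons_cons e_4_5 (List.IsChain.cons_cons e_5_6 (List.IsChain.singleton _))))) 1 (by decide) (by decide) 3 4 rfl rfl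
  obtain ⟨hp_4_5, hp_5_4⟩ := mid_edge_one T h2 z hz [0, 3, 4, 5, 6] (by decide) (by decide) (by decide)
    (List.IsChain.cons_cons e_0_3 (List.IsChain.cons_cons e_3_4 (List.IsChain.cons_cons e_4_5 (List.IsChain.cons_cons e_5_6 (List.IsChain.singleton _))))) 2 (by decide) (by decide) 4 5 rfl rfl
  have we_0_1 := w_pp T (z 0) (z 1)
  have we_0_2 := w_pp T (z 0) (z 2)
  have we_0_3 := w_pp T (z 0) (z 3)
  have we_3_4 := w_pp T (z 3) (z 4)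
  have we_4_5 := w_pp T (z 4) (z 5)
  have we_5_6 := w_pp T (z 5) (z 6)
  have r_0 := row7 T z hz (z 0)
  rw [(h2 (z 0)).2, a_eq_pp T (z 0) (z 1), a_eq_pp T (z 0) (z 2), a_eq_pp T (z 0) (z 3), z_0_4, z_0_5, z_0_6] at r_0
  have q_0 : pp T (z 0) (z 1) * T.m (z 1) + pp T (z 0) (z 2) * T.m (z 2) + pp T (z 0) (z 3) * T.m (z 3) = 2 * T.m (z 0) :=
    mul_left_cancel₀ (T.w_pos (z 0)).ne' (by linear_combination r_0)
  clear r_0
  have r_1 := row7 T z hz (z 1)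
  rw [a_eq_pp T (z 1) (z 0), (h2 (z 1)).2, z_1_2, z_1_3, z_1_4, z_1_5, z_1_6] at r_1
  have q_1 : pp T (z 1) (z 0) * T.m (z 0) = 2 * T.m (z 1) :=
    mul_left_cancel₀ (T.w_pos (z 1)).ne' (by linear_combination r_1)
  clear r_1
  have r_2 := row7 T z hz (z 2)
  rw [a_eq_pp T (z 2) (z 0), z_2_1, (h2 (z 2)).2, z_2_3, z_2_4, z_2_5, z_2_6] at r_2
  have q_2 : pp T (z 2) (z 0) * T.m (z 0) = 2 * T.m (z 2) :=
    mul_left_cancel₀ (T.w_pos (z 2)).ne' (by linear_combination r_2)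
  clear r_2
  have r_3 := row7 T z hz (z 3)
  rw [a_eq_pp T (z 3) (z 0), z_3_1, z_3_2, (h2 (z 3)).2, a_eq_pp T (z 3) (z 4), z_3_5, z_3_6] at r_3
  have q_3 : pp T (z 3) (z 0) * T.m (z 0) + pp T (z 3) (z 4) * T.m (z 4) = 2 * T.m (z 3) :=
    mul_left_cancel₀ (T.w_pos (z 3)).ne' (by linear_combination r_3)
  clear r_3
  have r_4 := row7 T z hz (z 4)
  rw [z_4_0, z_4_1, z_4_2, a_eq_pp T (z 4) (z 3), (h2 (z 4)).2, a_eq_pp T (z 4) (z 5), z_4_6] at r_4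
  have q_4 : pp T (z 4) (z 3) * T.m (z 3) + pp T (z 4) (z 5) * T.m (z 5) = 2 * T.m (z 4) :=
    mul_left_cancel₀ (T.w_pos (z 4)).ne' (by linear_combination r_4)
  clear r_4
  have r_5 := row7 T z hz (z 5)
  rw [z_5_0, z_5_1, z_5_2, z_5_3, a_eq_pp T (z 5) (z 4), (h2 (z 5)).2, a_eq_pp T (z 5) (z 6)] at r_5
  have q_5 : pp T (z 5) (z 4) * T.m (z 4) + pp T (z 5) (z 6) * T.m (z 6) = 2 * T.m (z 5) :=
    mul_left_cancel₀ (T.w_pos (z 5)).ne' (by linear_combination r_5)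
  clear r_5
  have r_6 := row7 T z hz (z 6)
  rw [z_6_0, z_6_1, z_6_2, z_6_3, z_6_4, a_eq_pp T (z 6) (z 5), (h2 (z 6)).2] at r_6
  have q_6 : pp T (z 6) (z 5) * T.m (z 5) = 2 * T.m (z 6) :=
    mul_left_cancel₀ (T.w_pos (z 6)).ne' (by linear_combination r_6)
  clear r_6
  rcases edge_cases T h2 z hz [0, 3, 4, 5, 6] (by decide) (by decide) (by decide)
    (List.IsChain.cons_cons e_0_3 (List.IsChain.cons_cons e_3_4 (List.IsChain.cons_cons e_4_5 (List.IsChain.cons_cons e_5_6 (List.IsChain.singleton _))))) 3 (by decide) 5 6 rfl rfl with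
    ⟨hp_5_6, hp_6_5⟩ | ⟨hp_5_6, hp_6_5⟩ | ⟨hp_5_6, hp_6_5⟩
  · skip
    rw [hp_0_1, hp_0_2, hp_0_3] at q_0
    rw [hp_1_0] at q_1
    rw [hp_2_0] at q_2
    rw [hp_3_0, hp_3_4] at q_3
    rw [hp_4_3, hp_4_5] at q_4
    rw [hp_5_4, hp_5_6] at q_5
    rw [hp_6_5] at q_6
    rw [hp_0_1, hp_1_0] at we_0_1
    rw [hp_0_2, hp_2_0] at we_0_2
    rw [hp_0_3, hp_3_0] at we_0_3
    rw [hp_3_4, hp_4_3] at we_3_4
    rw [hp_4_5, hp_5_4] at we_4_5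
    rw [hp_5_6, hp_6_5] at we_5_6
    exfalso; linarith only [q_0, q_1, q_2, q_3, q_4, q_5, q_6, T.m_pos (z 0), T.m_pos (z 1), T.m_pos (z 2), T.m_pos (z 3), T.m_pos (z 4), T.m_pos (z 5), T.m_pos (z 6)]
  · skip
    rw [hp_0_1, hp_0_2, hp_0_3] at q_0
    rw [hp_1_0] at q_1
    rw [hp_2_0] at q_2
    rw [hp_3_0, hp_3_4] at q_3
    rw [hp_4_3, hp_4_5] at q_4
    rw [hp_5_4, hp_5_6] at q_5
    rw [hp_6_5] at q_6
    rw [hp_0_1, hp_1_0] at we_0_1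
    rw [hp_0_2, hp_2_0] at we_0_2
    rw [hp_0_3, hp_3_0] at we_0_3
    rw [hp_3_4, hp_4_3] at we_3_4
    rw [hp_4_5, hp_5_4] at we_4_5
    rw [hp_5_6, hp_6_5] at we_5_6
    obtain ⟨σ, hσ⟩ := permOf (fun i => z (![6, 5, 4, 3, 0, 1, 2] i)) (hz.comp (by decide))
    have s0 : σ 0 = z 6 := hσ 0
    have s1 : σ 1 = z 5 := hσ 1
    have s2 : σ 2 = z 4 := hσ 2
    have s3 : σ 3 = z 3 := hσ 3
    have s4 : σ 4 = z 0 := hσ 4
    have s5 : σ 5 = z 1 := hσ 5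
    have s6 : σ 6 = z 2 := hσ 6
    unfold Goal7
    refine ⟨σ, T.m (z 6), T.w (z 5), Or.inr (Or.inr (Or.inr (Or.inr (Or.inl ⟨?_, ?_, ?_, ?_, ?_, ?_, ?_, ?_, ?_, ?_, ?_, ?_, ?_, ?_, ?_, ?_, ?_, ?_, ?_, ?_, ?_, ?_, ?_, ?_, ?_, ?_, ?_, ?_, ?_, ?_, ?_, ?_, ?_, ?_, ?_, ?_, ?_, ?_, ?_, ?_, ?_, ?_⟩))))⟩
    · rw [s0] <;> linarith only [q_0, q_1, q_2, q_3, q_4, q_5, q_6]
    · rw [s1] <;> linarith only [q_0, q_1, q_2, q_3, q_4, q_5, q_6]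
    · rw [s2] <;> linarith only [q_0, q_1, q_2, q_3, q_4, q_5, q_6]
    · rw [s3] <;> linarith only [q_0, q_1, q_2, q_3, q_4, q_5, q_6]
    · rw [s4] <;> linarith only [q_0, q_1, q_2, q_3, q_4, q_5, q_6]
    · rw [s5] <;> linarith only [q_0, q_1, q_2, q_3, q_4, q_5, q_6]
    · rw [s6] <;> linarith only [q_0, q_1, q_2, q_3, q_4, q_5, q_6]
    · rw [s0] <;> linarith only [we_0_1, we_0_2, we_0_3, we_3_4, we_4_5, we_5_6]
    · rw [s1] <;> linarith only [we_0_1, we_0_2, we_0_3, we_3_4, we_4_5, we_5_6]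
    · rw [s2] <;> linarith only [we_0_1, we_0_2, we_0_3, we_3_4, we_4_5, we_5_6]
    · rw [s3] <;> linarith only [we_0_1, we_0_2, we_0_3, we_3_4, we_4_5, we_5_6]
    · rw [s4] <;> linarith only [we_0_1, we_0_2, we_0_3, we_3_4, we_4_5, we_5_6]
    · rw [s5] <;> linarith only [we_0_1, we_0_2, we_0_3, we_3_4, we_4_5, we_5_6]
    · rw [s6] <;> linarith only [we_0_1, we_0_2, we_0_3, we_3_4, we_4_5, we_5_6]
    · rw [s0, (h2 (z 6)).2] <;> linarith only [we_0_1, we_0_2, we_0_3, we_3_4, we_4_5, we_5_6]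
    · rw [s0, s1, a_eq_pp T (z 6) (z 5), hp_6_5] <;> linarith only [we_0_1, we_0_2, we_0_3, we_3_4, we_4_5, we_5_6]
    · rw [s0, s2, z_6_4]
    · rw [s0, s3, z_6_3]
    · rw [s0, s4, z_6_0]
    · rw [s0, s5, z_6_1]
    · rw [s0, s6, z_6_2]
    · rw [s1, (h2 (z 5)).2] <;> linarith only [we_0_1, we_0_2, we_0_3, we_3_4, we_4_5, we_5_6]
    · rw [s1, s2, a_eq_pp T (z 5) (z 4), hp_5_4] <;> linarith only [we_0_1, we_0_2, we_0_3, we_3_4, we_4_5, we_5_6]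
    · rw [s1, s3, z_5_3]
    · rw [s1, s4, z_5_0]
    · rw [s1, s5, z_5_1]
    · rw [s1, s6, z_5_2]
    · rw [s2, (h2 (z 4)).2] <;> linarith only [we_0_1, we_0_2, we_0_3, we_3_4, we_4_5, we_5_6]
    · rw [s2, s3, a_eq_pp T (z 4) (z 3), hp_4_3] <;> linarith only [we_0_1, we_0_2, we_0_3, we_3_4, we_4_5, we_5_6]
    · rw [s2, s4, z_4_0]
    · rw [s2, s5, z_4_1]
    · rw [s2, s6, z_4_2]
    · rw [s3, (h2 (z 3)).2] <;> linarith only [we_0_1, we_0_2, we_0_3, we_3_4, we_4_5, we_5_6]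
    · rw [s3, s4, a_eq_pp T (z 3) (z 0), hp_3_0] <;> linarith only [we_0_1, we_0_2, we_0_3, we_3_4, we_4_5, we_5_6]
    · rw [s3, s5, z_3_1]
    · rw [s3, s6, z_3_2]
    · rw [s4, (h2 (z 0)).2] <;> linarith only [we_0_1, we_0_2, we_0_3, we_3_4, we_4_5, we_5_6]
    · rw [s4, s5, a_eq_pp T (z 0) (z 1), hp_0_1] <;> linarith only [we_0_1, we_0_2, we_0_3, we_3_4, we_4_5, we_5_6]
    · rw [s4, s6, a_eq_pp T (z 0) (z 2), hp_0_2] <;> linarith only [we_0_1, we_0_2, we_0_3, we_3_4, we_4_5, we_5_6]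
    · rw [s5, (h2 (z 1)).2] <;> linarith only [we_0_1, we_0_2, we_0_3, we_3_4, we_4_5, we_5_6]
    · rw [s5, s6, z_1_2]
    · rw [s6, (h2 (z 2)).2] <;> linarith only [we_0_1, we_0_2, we_0_3, we_3_4, we_4_5, we_5_6]
  · skip
    rw [hp_0_1, hp_0_2, hp_0_3] at q_0
    rw [hp_1_0] at q_1
    rw [hp_2_0] at q_2
    rw [hp_3_0, hp_3_4] at q_3
    rw [hp_4_3, hp_4_5] at q_4
    rw [hp_5_4, hp_5_6] at q_5
    rw [hp_6_5] at q_6
    rw [hp_0_1, hp_1_0] at we_0_1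
    rw [hp_0_2, hp_2_0] at we_0_2
    rw [hp_0_3, hp_3_0] at we_0_3
    rw [hp_3_4, hp_4_3] at we_3_4
    rw [hp_4_5, hp_5_4] at we_4_5
    rw [hp_5_6, hp_6_5] at we_5_6
    obtain ⟨σ, hσ⟩ := permOf (fun i => z (![6, 5, 4, 3, 0, 1, 2] i)) (hz.comp (by decide))
    have s0 : σ 0 = z 6 := hσ 0
    have s1 : σ 1 = z 5 := hσ 1
    have s2 : σ 2 = z 4 := hσ 2
    have s3 : σ 3 = z 3 := hσ 3
    have s4 : σ 4 = z 0 := hσ 4
    have s5 : σ 5 = z 1 := hσ 5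
    have s6 : σ 6 = z 2 := hσ 6
    unfold Goal7
    refine ⟨σ, T.m (z 1), T.w (z 6), Or.inr (Or.inr (Or.inr (Or.inr (Or.inr (Or.inl ⟨?_, ?_, ?_, ?_, ?_, ?_, ?_, ?_, ?_, ?_, ?_, ?_, ?_, ?_, ?_, ?_, ?_, ?_, ?_, ?_, ?_, ?_, ?_, ?_, ?_, ?_, ?_, ?_, ?_, ?_, ?_, ?_, ?_, ?_, ?_, ?_, ?_, ?_, ?_, ?_, ?_, ?_⟩)))))⟩
    · rw [s0] <;> linarith only [q_0, q_1, q_2, q_3, q_4, q_5, q_6]
    · rw [s1] <;> linarith only [q_0, q_1, q_2, q_3, q_4, q_5, q_6]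
    · rw [s2] <;> linarith only [q_0, q_1, q_2, q_3, q_4, q_5, q_6]
    · rw [s3] <;> linarith only [q_0, q_1, q_2, q_3, q_4, q_5, q_6]
    · rw [s4] <;> linarith only [q_0, q_1, q_2, q_3, q_4, q_5, q_6]
    · rw [s5] <;> linarith only [q_0, q_1, q_2, q_3, q_4, q_5, q_6]
    · rw [s6] <;> linarith only [q_0, q_1, q_2, q_3, q_4, q_5, q_6]
    · rw [s0] <;> linarith only [we_0_1, we_0_2, we_0_3, we_3_4, we_4_5, we_5_6]
    · rw [s1] <;> linarith only [we_0_1, we_0_2, we_0_3, we_3_4, we_4_5, we_5_6]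
    · rw [s2] <;> linarith only [we_0_1, we_0_2, we_0_3, we_3_4, we_4_5, we_5_6]
    · rw [s3] <;> linarith only [we_0_1, we_0_2, we_0_3, we_3_4, we_4_5, we_5_6]
    · rw [s4] <;> linarith only [we_0_1, we_0_2, we_0_3, we_3_4, we_4_5, we_5_6]
    · rw [s5] <;> linarith only [we_0_1, we_0_2, we_0_3, we_3_4, we_4_5, we_5_6]
    · rw [s6] <;> linarith only [we_0_1, we_0_2, we_0_3, we_3_4, we_4_5, we_5_6]
    · rw [s0, (h2 (z 6)).2] <;> linarith only [we_0_1, we_0_2, we_0_3, we_3_4, we_4_5, we_5_6]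
    · rw [s0, s1, a_eq_pp T (z 6) (z 5), hp_6_5] <;> linarith only [we_0_1, we_0_2, we_0_3, we_3_4, we_4_5, we_5_6]
    · rw [s0, s2, z_6_4]
    · rw [s0, s3, z_6_3]
    · rw [s0, s4, z_6_0]
    · rw [s0, s5, z_6_1]
    · rw [s0, s6, z_6_2]
    · rw [s1, (h2 (z 5)).2] <;> linarith only [we_0_1, we_0_2, we_0_3, we_3_4, we_4_5, we_5_6]
    · rw [s1, s2, a_eq_pp T (z 5) (z 4), hp_5_4] <;> linarith only [we_0_1, we_0_2, we_0_3, we_3_4, we_4_5, we_5_6]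
    · rw [s1, s3, z_5_3]
    · rw [s1, s4, z_5_0]
    · rw [s1, s5, z_5_1]
    · rw [s1, s6, z_5_2]
    · rw [s2, (h2 (z 4)).2] <;> linarith only [we_0_1, we_0_2, we_0_3, we_3_4, we_4_5, we_5_6]
    · rw [s2, s3, a_eq_pp T (z 4) (z 3), hp_4_3] <;> linarith only [we_0_1, we_0_2, we_0_3, we_3_4, we_4_5, we_5_6]
    · rw [s2, s4, z_4_0]
    · rw [s2, s5, z_4_1]
    · rw [s2, s6, z_4_2]
    · rw [s3, (h2 (z 3)).2] <;> linarith only [we_0_1, we_0_2, we_0_3, we_3_4, we_4_5, we_5_6]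
    · rw [s3, s4, a_eq_pp T (z 3) (z 0), hp_3_0] <;> linarith only [we_0_1, we_0_2, we_0_3, we_3_4, we_4_5, we_5_6]
    · rw [s3, s5, z_3_1]
    · rw [s3, s6, z_3_2]
    · rw [s4, (h2 (z 0)).2] <;> linarith only [we_0_1, we_0_2, we_0_3, we_3_4, we_4_5, we_5_6]
    · rw [s4, s5, a_eq_pp T (z 0) (z 1), hp_0_1] <;> linarith only [we_0_1, we_0_2, we_0_3, we_3_4, we_4_5, we_5_6]
    · rw [s4, s6, a_eq_pp T (z 0) (z 2), hp_0_2] <;> linarith only [we_0_1, we_0_2, we_0_3, we_3_4, we_4_5, we_5_6]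
    · rw [s5, (h2 (z 1)).2] <;> linarith only [we_0_1, we_0_2, we_0_3, we_3_4, we_4_5, we_5_6]
    · rw [s5, s6, z_1_2]
    · rw [s6, (h2 (z 2)).2] <;> linarith only [we_0_1, we_0_2, we_0_3, we_3_4, we_4_5, we_5_6]

theorem shape7_Dt (T : Models.NumericalType 7) (h2 : ∀ i, T.IsMinusTwo i)
    (z : Fin 7 → Fin 7) (hz : Function.Injective z)
    (e_0_2 : T.a (z 0) (z 2) ≠ 0) (e_1_2 : T.a (z 1) (z 2) ≠ 0) (e_2_3 : T.a (z 2) (z 3) ≠ 0) (e_3_4 : T.a (z 3) (z 4) ≠ 0) (e_4_5 : T.a (z 4) (z 5) ≠ 0) (e_4_6 : T.a (z 4) (z 6) ≠ 0) : Goal7 T := by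
  have e_2_0 : T.a (z 2) (z 0) ≠ 0 := nsymm T e_0_2
  have e_2_1 : T.a (z 2) (z 1) ≠ 0 := nsymm T e_1_2
  have e_3_2 : T.a (z 3) (z 2) ≠ 0 := nsymm T e_2_3
  have e_4_3 : T.a (z 4) (z 3) ≠ 0 := nsymm T e_3_4
  have e_5_4 : T.a (z 5) (z 4) ≠ 0 := nsymm T e_4_5
  have e_6_4 : T.a (z 6) (z 4) ≠ 0 := nsymm T e_4_6
  have z_0_1 : T.a (z 0) (z 1) = 0 := nocycList T h2 z hz [0, 2, 1] (by decide) (by decide) (by decide)
    (List.IsChain.cons_cons e_0_2 (List.IsChain.cons_cons e_2_1 (List.IsChain.singleton _))) 0 1 rfl rfl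
  have z_1_0 : T.a (z 1) (z 0) = 0 := zsymm T z_0_1
  have z_0_3 : T.a (z 0) (z 3) = 0 := nocycList T h2 z hz [0, 2, 3] (by decide) (by decide) (by decide)
    (List.IsChain.cons_cons e_0_2 (List.IsChain.cons_cons e_2_3 (List.IsChain.singleton _))) 0 3 rfl rfl
  have z_3_0 : T.a (z 3) (z 0) = 0 := zsymm T z_0_3
  have z_0_4 : T.a (z 0) (z 4) = 0 := nocycList T h2 z hz [0, 2, 3, 4] (by decide) (by decide) (by decide)
    (List.IsChain.cons_cons e_0_2 (List.IsChain.cons_cons e_2_3 (List.IsChain.cons_cons e_3_4 (List.IsChain.singleton _)))) 0 4 rfl rfl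
  have z_4_0 : T.a (z 4) (z 0) = 0 := zsymm T z_0_4
  have z_0_5 : T.a (z 0) (z 5) = 0 := nocycList T h2 z hz [0, 2, 3, 4, 5] (by decide) (by decide) (by decide)
    (List.IsChain.cons_cons e_0_2 (List.IsChain.cons_cons e_2_3 (List.IsChain.cons_cons e_3_4 (List.IsChain.cons_cons e_4_5 (List.IsChain.singleton _))))) 0 5 rfl rfl
  have z_5_0 : T.a (z 5) (z 0) = 0 := zsymm T z_0_5
  have z_0_6 : T.a (z 0) (z 6) = 0 := nocycList T h2 z hz [0, 2, 3, 4, 6] (by decide) (by decide) (by decide)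
    (List.IsChain.cons_cons e_0_2 (List.IsChain.cons_cons e_2_3 (List.IsChain.cons_cons e_3_4 (List.IsChain.cons_cons e_4_6 (List.IsChain.singleton _))))) 0 6 rfl rfl
  have z_6_0 : T.a (z 6) (z 0) = 0 := zsymm T z_0_6
  have z_1_3 : T.a (z 1) (z 3) = 0 := nocycList T h2 z hz [1, 2, 3] (by decide) (by decide) (by decide)
    (List.IsChain.cons_cons e_1_2 (List.IsChain.cons_cons e_2_3 (List.IsChain.singleton _))) 1 3 rfl rfl
  have z_3_1 : T.a (z 3) (z 1) = 0 := zsymm T z_1_3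
  have z_1_4 : T.a (z 1) (z 4) = 0 := nocycList T h2 z hz [1, 2, 3, 4] (by decide) (by decide) (by decide)
    (List.IsChain.cons_cons e_1_2 (List.IsChain.cons_cons e_2_3 (List.IsChain.cons_cons e_3_4 (List.IsChain.singleton _)))) 1 4 rfl rfl
  have z_4_1 : T.a (z 4) (z 1) = 0 := zsymm T z_1_4
  have z_1_5 : T.a (z 1) (z 5) = 0 := nocycList T h2 z hz [1, 2, 3, 4, 5] (by decide) (by decide) (by decide)
    (List.IsChain.cons_cons e_1_2 (List.IsChain.cons_cons e_2_3 (List.IsChain.cons_cons e_3_4 (List.IsChain.cons_cons e_4_5 (List.IsChain.singleton _))))) 1 5 rfl rfl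
  have z_5_1 : T.a (z 5) (z 1) = 0 := zsymm T z_1_5
  have z_1_6 : T.a (z 1) (z 6) = 0 := nocycList T h2 z hz [1, 2, 3, 4, 6] (by decide) (by decide) (by decide)
    (List.IsChain.cons_cons e_1_2 (List.IsChain.cons_cons e_2_3 (List.IsChain.cons_cons e_3_4 (List.IsChain.cons_cons e_4_6 (List.IsChain.singleton _))))) 1 6 rfl rfl
  have z_6_1 : T.a (z 6) (z 1) = 0 := zsymm T z_1_6
  have z_2_4 : T.a (z 2) (z 4) = 0 := nocycList T h2 z hz [2, 3, 4] (by decide) (by decide) (by decide)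
    (List.IsChain.cons_cons e_2_3 (List.IsChain.cons_cons e_3_4 (List.IsChain.singleton _))) 2 4 rfl rfl
  have z_4_2 : T.a (z 4) (z 2) = 0 := zsymm T z_2_4
  have z_2_5 : T.a (z 2) (z 5) = 0 := nocycList T h2 z hz [2, 3, 4, 5] (by decide) (by decide) (by decide)
    (List.IsChain.cons_cons e_2_3 (List.IsChain.cons_cons e_3_4 (List.IsChain.cons_cons e_4_5 (List.IsChain.singleton _)))) 2 5 rfl rfl
  have z_5_2 : T.a (z 5) (z 2) = 0 := zsymm T z_2_5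
  have z_2_6 : T.a (z 2) (z 6) = 0 := nocycList T h2 z hz [2, 3, 4, 6] (by decide) (by decide) (by decide)
    (List.IsChain.cons_cons e_2_3 (List.IsChain.cons_cons e_3_4 (List.IsChain.cons_cons e_4_6 (List.IsChain.singleton _)))) 2 6 rfl rfl
  have z_6_2 : T.a (z 6) (z 2) = 0 := zsymm T z_2_6
  have z_3_5 : T.a (z 3) (z 5) = 0 := nocycList T h2 z hz [3, 4, 5] (by decide) (by decide) (by decide)
    (List.IsChain.cons_cons e_3_4 (List.IsChain.cons_cons e_4_5 (List.IsChain.singleton _))) 3 5 rfl rfl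
  have z_5_3 : T.a (z 5) (z 3) = 0 := zsymm T z_3_5
  have z_3_6 : T.a (z 3) (z 6) = 0 := nocycList T h2 z hz [3, 4, 6] (by decide) (by decide) (by decide)
    (List.IsChain.cons_cons e_3_4 (List.IsChain.cons_cons e_4_6 (List.IsChain.singleton _))) 3 6 rfl rfl
  have z_6_3 : T.a (z 6) (z 3) = 0 := zsymm T z_3_6
  have z_5_6 : T.a (z 5) (z 6) = 0 := nocycList T h2 z hz [5, 4, 6] (by decide) (by decide) (by decide)
    (List.IsChain.cons_cons e_5_4 (List.IsChain.cons_cons e_4_6 (List.IsChain.singleton _))) 5 6 rfl rfl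
  have z_6_5 : T.a (z 6) (z 5) = 0 := zsymm T z_5_6
  obtain ⟨hp_2_0, hp_0_2, hp_2_1, hp_1_2, hp_2_3, hp_3_2⟩ := branch_one T h2 z hz (by norm_num) 2 0 1 3 (by decide) e_2_0 e_2_1 e_2_3
  obtain ⟨hp_4_3, hp_3_4, hp_4_5, hp_5_4, hp_4_6, hp_6_4⟩ := branch_one T h2 z hz (by norm_num) 4 3 5 6 (by decide) e_4_3 e_4_5 e_4_6
  have we_0_2 := w_pp T (z 0) (z 2)
  have we_1_2 := w_pp T (z 1) (z 2)
  have we_2_3 := w_pp T (z 2) (z 3)
  have we_3_4 := w_pp T (z 3) (z 4)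
  have we_4_5 := w_pp T (z 4) (z 5)
  have we_4_6 := w_pp T (z 4) (z 6)
  have r_0 := row7 T z hz (z 0)
  rw [(h2 (z 0)).2, z_0_1, a_eq_pp T (z 0) (z 2), z_0_3, z_0_4, z_0_5, z_0_6] at r_0
  have q_0 : pp T (z 0) (z 2) * T.m (z 2) = 2 * T.m (z 0) :=
    mul_left_cancel₀ (T.w_pos (z 0)).ne' (by linear_combination r_0)
  clear r_0
  have r_1 := row7 T z hz (z 1)
  rw [z_1_0, (h2 (z 1)).2, a_eq_pp T (z 1) (z 2), z_1_3, z_1_4, z_1_5, z_1_6] at r_1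
  have q_1 : pp T (z 1) (z 2) * T.m (z 2) = 2 * T.m (z 1) :=
    mul_left_cancel₀ (T.w_pos (z 1)).ne' (by linear_combination r_1)
  clear r_1
  have r_2 := row7 T z hz (z 2)
  rw [a_eq_pp T (z 2) (z 0), a_eq_pp T (z 2) (z 1), (h2 (z 2)).2, a_eq_pp T (z 2) (z 3), z_2_4, z_2_5, z_2_6] at r_2
  have q_2 : pp T (z 2) (z 0) * T.m (z 0) + pp T (z 2) (z 1) * T.m (z 1) + pp T (z 2) (z 3) * T.m (z 3) = 2 * T.m (z 2) :=
    mul_left_cancel₀ (T.w_pos (z 2)).ne' (by linear_combination r_2)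
  clear r_2
  have r_3 := row7 T z hz (z 3)
  rw [z_3_0, z_3_1, a_eq_pp T (z 3) (z 2), (h2 (z 3)).2, a_eq_pp T (z 3) (z 4), z_3_5, z_3_6] at r_3
  have q_3 : pp T (z 3) (z 2) * T.m (z 2) + pp T (z 3) (z 4) * T.m (z 4) = 2 * T.m (z 3) :=
    mul_left_cancel₀ (T.w_pos (z 3)).ne' (by linear_combination r_3)
  clear r_3
  have r_4 := row7 T z hz (z 4)
  rw [z_4_0, z_4_1, z_4_2, a_eq_pp T (z 4) (z 3), (h2 (z 4)).2, a_eq_pp T (z 4) (z 5), a_eq_pp T (z 4) (z 6)] at r_4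
  have q_4 : pp T (z 4) (z 3) * T.m (z 3) + pp T (z 4) (z 5) * T.m (z 5) + pp T (z 4) (z 6) * T.m (z 6) = 2 * T.m (z 4) :=
    mul_left_cancel₀ (T.w_pos (z 4)).ne' (by linear_combination r_4)
  clear r_4
  have r_5 := row7 T z hz (z 5)
  rw [z_5_0, z_5_1, z_5_2, z_5_3, a_eq_pp T (z 5) (z 4), (h2 (z 5)).2, z_5_6] at r_5
  have q_5 : pp T (z 5) (z 4) * T.m (z 4) = 2 * T.m (z 5) :=
    mul_left_cancel₀ (T.w_pos (z 5)).ne' (by linear_combination r_5)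
  clear r_5
  have r_6 := row7 T z hz (z 6)
  rw [z_6_0, z_6_1, z_6_2, z_6_3, a_eq_pp T (z 6) (z 4), z_6_5, (h2 (z 6)).2] at r_6
  have q_6 : pp T (z 6) (z 4) * T.m (z 4) = 2 * T.m (z 6) :=
    mul_left_cancel₀ (T.w_pos (z 6)).ne' (by linear_combination r_6)
  clear r_6
  rw [hp_0_2] at q_0
  rw [hp_1_2] at q_1
  rw [hp_2_0, hp_2_1, hp_2_3] at q_2
  rw [hp_3_2, hp_3_4] at q_3
  rw [hp_4_3, hp_4_5, hp_4_6] at q_4
  rw [hp_5_4] at q_5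
  rw [hp_6_4] at q_6
  rw [hp_0_2, hp_2_0] at we_0_2
  rw [hp_1_2, hp_2_1] at we_1_2
  rw [hp_2_3, hp_3_2] at we_2_3
  rw [hp_3_4, hp_4_3] at we_3_4
  rw [hp_4_5, hp_5_4] at we_4_5
  rw [hp_4_6, hp_6_4] at we_4_6
  obtain ⟨σ, hσ⟩ := permOf (fun i => z (![0, 1, 2, 3, 4, 5, 6] i)) (hz.comp (by decide))
  have s0 : σ 0 = z 0 := hσ 0
  have s1 : σ 1 = z 1 := hσ 1
  have s2 : σ 2 = z 2 := hσ 2
  have s3 : σ 3 = z 3 := hσ 3
  have s4 : σ 4 = z 4 := hσ 4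
  have s5 : σ 5 = z 5 := hσ 5
  have s6 : σ 6 = z 6 := hσ 6
  unfold Goal7
  refine ⟨σ, T.m (z 0), T.w (z 0), Or.inr (Or.inr (Or.inr (Or.inr (Or.inr (Or.inr (Or.inl ⟨?_, ?_, ?_, ?_, ?_, ?_, ?_, ?_, ?_, ?_, ?_, ?_, ?_, ?_, ?_, ?_, ?_, ?_, ?_, ?_, ?_, ?_, ?_, ?_, ?_, ?_, ?_, ?_, ?_, ?_, ?_, ?_, ?_, ?_, ?_, ?_, ?_, ?_, ?_, ?_, ?_, ?_⟩))))))⟩
  · rw [s0] <;> linarith only [q_0, q_1, q_2, q_3, q_4, q_5, q_6]
  · rw [s1] <;> linarith only [q_0, q_1, q_2, q_3, q_4, q_5, q_6]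
  · rw [s2] <;> linarith only [q_0, q_1, q_2, q_3, q_4, q_5, q_6]
  · rw [s3] <;> linarith only [q_0, q_1, q_2, q_3, q_4, q_5, q_6]
  · rw [s4] <;> linarith only [q_0, q_1, q_2, q_3, q_4, q_5, q_6]
  · rw [s5] <;> linarith only [q_0, q_1, q_2, q_3, q_4, q_5, q_6]
  · rw [s6] <;> linarith only [q_0, q_1, q_2, q_3, q_4, q_5, q_6]
  · rw [s0] <;> linarith only [we_0_2, we_1_2, we_2_3, we_3_4, we_4_5, we_4_6]
  · rw [s1] <;> linarith only [we_0_2, we_1_2, we_2_3, we_3_4, we_4_5, we_4_6]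
  · rw [s2] <;> linarith only [we_0_2, we_1_2, we_2_3, we_3_4, we_4_5, we_4_6]
  · rw [s3] <;> linarith only [we_0_2, we_1_2, we_2_3, we_3_4, we_4_5, we_4_6]
  · rw [s4] <;> linarith only [we_0_2, we_1_2, we_2_3, we_3_4, we_4_5, we_4_6]
  · rw [s5] <;> linarith only [we_0_2, we_1_2, we_2_3, we_3_4, we_4_5, we_4_6]
  · rw [s6] <;> linarith only [we_0_2, we_1_2, we_2_3, we_3_4, we_4_5, we_4_6]
  · rw [s0, (h2 (z 0)).2] <;> linarith only [we_0_2, we_1_2, we_2_3, we_3_4, we_4_5, we_4_6]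
  · rw [s0, s1, z_0_1]
  · rw [s0, s2, a_eq_pp T (z 0) (z 2), hp_0_2] <;> linarith only [we_0_2, we_1_2, we_2_3, we_3_4, we_4_5, we_4_6]
  · rw [s0, s3, z_0_3]
  · rw [s0, s4, z_0_4]
  · rw [s0, s5, z_0_5]
  · rw [s0, s6, z_0_6]
  · rw [s1, (h2 (z 1)).2] <;> linarith only [we_0_2, we_1_2, we_2_3, we_3_4, we_4_5, we_4_6]
  · rw [s1, s2, a_eq_pp T (z 1) (z 2), hp_1_2] <;> linarith only [we_0_2, we_1_2, we_2_3, we_3_4, we_4_5, we_4_6]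
  · rw [s1, s3, z_1_3]
  · rw [s1, s4, z_1_4]
  · rw [s1, s5, z_1_5]
  · rw [s1, s6, z_1_6]
  · rw [s2, (h2 (z 2)).2] <;> linarith only [we_0_2, we_1_2, we_2_3, we_3_4, we_4_5, we_4_6]
  · rw [s2, s3, a_eq_pp T (z 2) (z 3), hp_2_3] <;> linarith only [we_0_2, we_1_2, we_2_3, we_3_4, we_4_5, we_4_6]
  · rw [s2, s4, z_2_4]
  · rw [s2, s5, z_2_5]
  · rw [s2, s6, z_2_6]
  · rw [s3, (h2 (z 3)).2] <;> linarith only [we_0_2, we_1_2, we_2_3, we_3_4, we_4_5, we_4_6]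
  · rw [s3, s4, a_eq_pp T (z 3) (z 4), hp_3_4] <;> linarith only [we_0_2, we_1_2, we_2_3, we_3_4, we_4_5, we_4_6]
  · rw [s3, s5, z_3_5]
  · rw [s3, s6, z_3_6]
  · rw [s4, (h2 (z 4)).2] <;> linarith only [we_0_2, we_1_2, we_2_3, we_3_4, we_4_5, we_4_6]
  · rw [s4, s5, a_eq_pp T (z 4) (z 5), hp_4_5] <;> linarith only [we_0_2, we_1_2, we_2_3, we_3_4, we_4_5, we_4_6]
  · rw [s4, s6, a_eq_pp T (z 4) (z 6), hp_4_6] <;> linarith only [we_0_2, we_1_2, we_2_3, we_3_4, we_4_5, we_4_6]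
  · rw [s5, (h2 (z 5)).2] <;> linarith only [we_0_2, we_1_2, we_2_3, we_3_4, we_4_5, we_4_6]
  · rw [s5, s6, z_5_6]
  · rw [s6, (h2 (z 6)).2] <;> linarith only [we_0_2, we_1_2, we_2_3, we_3_4, we_4_5, we_4_6]

theorem shape7_T123 (T : Models.NumericalType 7) (h2 : ∀ i, T.IsMinusTwo i)
    (z : Fin 7 → Fin 7) (hz : Function.Injective z)
    (e_0_1 : T.a (z 0) (z 1) ≠ 0) (e_0_2 : T.a (z 0) (z 2) ≠ 0) (e_2_3 : T.a (z 2) (z 3) ≠ 0) (e_0_4 : T.a (z 0) (z 4) ≠ 0) (e_4_5 : T.a (z 4) (z 5) ≠ 0) (e_5_6 : T.a (z 5) (z 6) ≠ 0) : Goal7 T := by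
  have e_1_0 : T.a (z 1) (z 0) ≠ 0 := nsymm T e_0_1
  have e_2_0 : T.a (z 2) (z 0) ≠ 0 := nsymm T e_0_2
  have e_3_2 : T.a (z 3) (z 2) ≠ 0 := nsymm T e_2_3
  have e_4_0 : T.a (z 4) (z 0) ≠ 0 := nsymm T e_0_4
  have e_5_4 : T.a (z 5) (z 4) ≠ 0 := nsymm T e_4_5
  have e_6_5 : T.a (z 6) (z 5) ≠ 0 := nsymm T e_5_6
  have z_0_3 : T.a (z 0) (z 3) = 0 := nocycList T h2 z hz [0, 2, 3] (by decide) (by decide) (by decide)
    (List.IsChain.cons_cons e_0_2 (List.IsChain.cons_cons e_2_3 (List.IsChain.singleton _))) 0 3 rfl rfl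
  have z_3_0 : T.a (z 3) (z 0) = 0 := zsymm T z_0_3
  have z_0_5 : T.a (z 0) (z 5) = 0 := nocycList T h2 z hz [0, 4, 5] (by decide) (by decide) (by decide)
    (List.IsChain.cons_cons e_0_4 (List.IsChain.cons_cons e_4_5 (List.IsChain.singleton _))) 0 5 rfl rfl
  have z_5_0 : T.a (z 5) (z 0) = 0 := zsymm T z_0_5
  have z_0_6 : T.a (z 0) (z 6) = 0 := nocycList T h2 z hz [0, 4, 5, 6] (by decide) (by decide) (by decide)
    (List.IsChain.cons_cons e_0_4 (List.IsChain.cons_cons e_4_5 (List.IsChain.cons_cons e_5_6 (List.IsChain.singleton _)))) 0 6 rfl rfl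
  have z_6_0 : T.a (z 6) (z 0) = 0 := zsymm T z_0_6
  have z_1_2 : T.a (z 1) (z 2) = 0 := nocycList T h2 z hz [1, 0, 2] (by decide) (by decide) (by decide)
    (List.IsChain.cons_cons e_1_0 (List.IsChain.cons_cons e_0_2 (List.IsChain.singleton _))) 1 2 rfl rfl
  have z_2_1 : T.a (z 2) (z 1) = 0 := zsymm T z_1_2
  have z_1_3 : T.a (z 1) (z 3) = 0 := nocycList T h2 z hz [1, 0, 2, 3] (by decide) (by decide) (by decide)
    (List.IsChain.cons_cons e_1_0 (List.IsChain.cons_cons e_0_2 (List.IsChain.cons_cons e_2_3 (List.IsChain.singleton _)))) 1 3 rfl rfl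
  have z_3_1 : T.a (z 3) (z 1) = 0 := zsymm T z_1_3
  have z_1_4 : T.a (z 1) (z 4) = 0 := nocycList T h2 z hz [1, 0, 4] (by decide) (by decide) (by decide)
    (List.IsChain.cons_cons e_1_0 (List.IsChain.cons_cons e_0_4 (List.IsChain.singleton _))) 1 4 rfl rfl
  have z_4_1 : T.a (z 4) (z 1) = 0 := zsymm T z_1_4
  have z_1_5 : T.a (z 1) (z 5) = 0 := nocycList T h2 z hz [1, 0, 4, 5] (by decide) (by decide) (by decide)
    (List.IsChain.cons_cons e_1_0 (List.IsChain.cons_cons e_0_4 (List.IsChain.cons_cons e_4_5 (List.IsChain.singleton _)))) 1 5 rfl rfl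
  have z_5_1 : T.a (z 5) (z 1) = 0 := zsymm T z_1_5
  have z_1_6 : T.a (z 1) (z 6) = 0 := nocycList T h2 z hz [1, 0, 4, 5, 6] (by decide) (by decide) (by decide)
    (List.IsChain.cons_cons e_1_0 (List.IsChain.cons_cons e_0_4 (List.IsChain.cons_cons e_4_5 (List.IsChain.cons_cons e_5_6 (List.IsChain.singleton _))))) 1 6 rfl rfl
  have z_6_1 : T.a (z 6) (z 1) = 0 := zsymm T z_1_6
  have z_2_4 : T.a (z 2) (z 4) = 0 := nocycList T h2 z hz [2, 0, 4] (by decide) (by decide) (by decide)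
    (List.IsChain.cons_cons e_2_0 (List.IsChain.cons_cons e_0_4 (List.IsChain.singleton _))) 2 4 rfl rfl
  have z_4_2 : T.a (z 4) (z 2) = 0 := zsymm T z_2_4
  have z_2_5 : T.a (z 2) (z 5) = 0 := nocycList T h2 z hz [2, 0, 4, 5] (by decide) (by decide) (by decide)
    (List.IsChain.cons_cons e_2_0 (List.IsChain.cons_cons e_0_4 (List.IsChain.cons_cons e_4_5 (List.IsChain.singleton _)))) 2 5 rfl rfl
  have z_5_2 : T.a (z 5) (z 2) = 0 := zsymm T z_2_5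
  have z_2_6 : T.a (z 2) (z 6) = 0 := nocycList T h2 z hz [2, 0, 4, 5, 6] (by decide) (by decide) (by decide)
    (List.IsChain.cons_cons e_2_0 (List.IsChain.cons_cons e_0_4 (List.IsChain.cons_cons e_4_5 (List.IsChain.cons_cons e_5_6 (List.IsChain.singleton _))))) 2 6 rfl rfl
  have z_6_2 : T.a (z 6) (z 2) = 0 := zsymm T z_2_6
  have z_3_4 : T.a (z 3) (z 4) = 0 := nocycList T h2 z hz [3, 2, 0, 4] (by decide) (by decide) (by decide)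
    (List.IsChain.cons_cons e_3_2 (List.IsChain.cons_cons e_2_0 (List.IsChain.cons_cons e_0_4 (List.IsChain.singleton _)))) 3 4 rfl rfl
  have z_4_3 : T.a (z 4) (z 3) = 0 := zsymm T z_3_4
  have z_3_5 : T.a (z 3) (z 5) = 0 := nocycList T h2 z hz [3, 2, 0, 4, 5] (by decide) (by decide) (by decide)
    (List.IsChain.cons_cons e_3_2 (List.IsChain.cons_cons e_2_0 (List.IsChain.cons_cons e_0_4 (List.IsChain.cons_cons e_4_5 (List.IsChain.singleton _))))) 3 5 rfl rfl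
  have z_5_3 : T.a (z 5) (z 3) = 0 := zsymm T z_3_5
  have z_3_6 : T.a (z 3) (z 6) = 0 := nocycList T h2 z hz [3, 2, 0, 4, 5, 6] (by decide) (by decide) (by decide)
    (List.IsChain.cons_cons e_3_2 (List.IsChain.cons_cons e_2_0 (List.IsChain.cons_cons e_0_4 (List.IsChain.cons_cons e_4_5 (List.IsChain.cons_cons e_5_6 (List.IsChain.singleton _)))))) 3 6 rfl rfl
  have z_6_3 : T.a (z 6) (z 3) = 0 := zsymm T z_3_6
  have z_4_6 : T.a (z 4) (z 6) = 0 := nocycList T h2 z hz [4, 5, 6] (by decide) (by decide) (by decide)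
    (List.IsChain.cons_cons e_4_5 (List.IsChain.cons_cons e_5_6 (List.IsChain.singleton _))) 4 6 rfl rfl
  have z_6_4 : T.a (z 6) (z 4) = 0 := zsymm T z_4_6
  obtain ⟨hp_0_1, hp_1_0, hp_0_2, hp_2_0, hp_0_4, hp_4_0⟩ := branch_one T h2 z hz (by norm_num) 0 1 2 4 (by decide) e_0_1 e_0_2 e_0_4
  obtain ⟨hp_4_5, hp_5_4⟩ := mid_edge_one T h2 z hz [1, 0, 4, 5, 6] (by decide) (by decide) (by decide)
    (List.IsChain.cons_cons e_1_0 (List.IsChain.cons_cons e_0_4 (List.IsChain.cons_cons e_4_5 (List.IsChain.cons_cons e_5_6 (List.IsChain.singleton _))))) 2 (by decide) (by decide) 4 5 rfl rfl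
  have we_0_1 := w_pp T (z 0) (z 1)
  have we_0_2 := w_pp T (z 0) (z 2)
  have we_2_3 := w_pp T (z 2) (z 3)
  have we_0_4 := w_pp T (z 0) (z 4)
  have we_4_5 := w_pp T (z 4) (z 5)
  have we_5_6 := w_pp T (z 5) (z 6)
  have r_0 := row7 T z hz (z 0)
  rw [(h2 (z 0)).2, a_eq_pp T (z 0) (z 1), a_eq_pp T (z 0) (z 2), z_0_3, a_eq_pp T (z 0) (z 4), z_0_5, z_0_6] at r_0
  have q_0 : pp T (z 0) (z 1) * T.m (z 1) + pp T (z 0) (z 2) * T.m (z 2) + pp T (z 0) (z 4) * T.m (z 4) = 2 * T.m (z 0) :=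
    mul_left_cancel₀ (T.w_pos (z 0)).ne' (by linear_combination r_0)
  clear r_0
  have r_1 := row7 T z hz (z 1)
  rw [a_eq_pp T (z 1) (z 0), (h2 (z 1)).2, z_1_2, z_1_3, z_1_4, z_1_5, z_1_6] at r_1
  have q_1 : pp T (z 1) (z 0) * T.m (z 0) = 2 * T.m (z 1) :=
    mul_left_cancel₀ (T.w_pos (z 1)).ne' (by linear_combination r_1)
  clear r_1
  have r_2 := row7 T z hz (z 2)
  rw [a_eq_pp T (z 2) (z 0), z_2_1, (h2 (z 2)).2, a_eq_pp T (z 2) (z 3), z_2_4, z_2_5, z_2_6] at r_2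
  have q_2 : pp T (z 2) (z 0) * T.m (z 0) + pp T (z 2) (z 3) * T.m (z 3) = 2 * T.m (z 2) :=
    mul_left_cancel₀ (T.w_pos (z 2)).ne' (by linear_combination r_2)
  clear r_2
  have r_3 := row7 T z hz (z 3)
  rw [z_3_0, z_3_1, a_eq_pp T (z 3) (z 2), (h2 (z 3)).2, z_3_4, z_3_5, z_3_6] at r_3
  have q_3 : pp T (z 3) (z 2) * T.m (z 2) = 2 * T.m (z 3) :=
    mul_left_cancel₀ (T.w_pos (z 3)).ne' (by linear_combination r_3)
  clear r_3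
  have r_4 := row7 T z hz (z 4)
  rw [a_eq_pp T (z 4) (z 0), z_4_1, z_4_2, z_4_3, (h2 (z 4)).2, a_eq_pp T (z 4) (z 5), z_4_6] at r_4
  have q_4 : pp T (z 4) (z 0) * T.m (z 0) + pp T (z 4) (z 5) * T.m (z 5) = 2 * T.m (z 4) :=
    mul_left_cancel₀ (T.w_pos (z 4)).ne' (by linear_combination r_4)
  clear r_4
  have r_5 := row7 T z hz (z 5)
  rw [z_5_0, z_5_1, z_5_2, z_5_3, a_eq_pp T (z 5) (z 4), (h2 (z 5)).2, a_eq_pp T (z 5) (z 6)] at r_5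
  have q_5 : pp T (z 5) (z 4) * T.m (z 4) + pp T (z 5) (z 6) * T.m (z 6) = 2 * T.m (z 5) :=
    mul_left_cancel₀ (T.w_pos (z 5)).ne' (by linear_combination r_5)
  clear r_5
  have r_6 := row7 T z hz (z 6)
  rw [z_6_0, z_6_1, z_6_2, z_6_3, z_6_4, a_eq_pp T (z 6) (z 5), (h2 (z 6)).2] at r_6
  have q_6 : pp T (z 6) (z 5) * T.m (z 5) = 2 * T.m (z 6) :=
    mul_left_cancel₀ (T.w_pos (z 6)).ne' (by linear_combination r_6)
  clear r_6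
  rcases edge_cases T h2 z hz [0, 2, 3] (by decide) (by decide) (by decide)
    (List.IsChain.cons_cons e_0_2 (List.IsChain.cons_cons e_2_3 (List.IsChain.singleton _))) 1 (by decide) 2 3 rfl rfl with
    ⟨hp_2_3, hp_3_2⟩ | ⟨hp_2_3, hp_3_2⟩ | ⟨hp_2_3, hp_3_2⟩
  · skip
    rcases edge_cases T h2 z hz [0, 4, 5, 6] (by decide) (by decide) (by decide)
      (List.IsChain.cons_cons e_0_4 (List.IsChain.cons_cons e_4_5 (List.IsChain.cons_cons e_5_6 (List.IsChain.singleton _)))) 2 (by decide) 5 6 rfl rfl with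
      ⟨hp_5_6, hp_6_5⟩ | ⟨hp_5_6, hp_6_5⟩ | ⟨hp_5_6, hp_6_5⟩
    · skip
      rw [hp_0_1, hp_0_2, hp_0_4] at q_0
      rw [hp_1_0] at q_1
      rw [hp_2_0, hp_2_3] at q_2
      rw [hp_3_2] at q_3
      rw [hp_4_0, hp_4_5] at q_4
      rw [hp_5_4, hp_5_6] at q_5
      rw [hp_6_5] at q_6
      rw [hp_0_1, hp_1_0] at we_0_1
      rw [hp_0_2, hp_2_0] at we_0_2
      rw [hp_2_3, hp_3_2] at we_2_3
      rw [hp_0_4, hp_4_0] at we_0_4
      rw [hp_4_5, hp_5_4] at we_4_5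
      rw [hp_5_6, hp_6_5] at we_5_6
      exfalso; linarith only [q_0, q_1, q_2, q_3, q_4, q_5, q_6, T.m_pos (z 0), T.m_pos (z 1), T.m_pos (z 2), T.m_pos (z 3), T.m_pos (z 4), T.m_pos (z 5), T.m_pos (z 6)]
    · skip
      rw [hp_0_1, hp_0_2, hp_0_4] at q_0
      rw [hp_1_0] at q_1
      rw [hp_2_0, hp_2_3] at q_2
      rw [hp_3_2] at q_3
      rw [hp_4_0, hp_4_5] at q_4
      rw [hp_5_4, hp_5_6] at q_5
      rw [hp_6_5] at q_6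
      rw [hp_0_1, hp_1_0] at we_0_1
      rw [hp_0_2, hp_2_0] at we_0_2
      rw [hp_2_3, hp_3_2] at we_2_3
      rw [hp_0_4, hp_4_0] at we_0_4
      rw [hp_4_5, hp_5_4] at we_4_5
      rw [hp_5_6, hp_6_5] at we_5_6
      exfalso; linarith only [q_0, q_1, q_2, q_3, q_4, q_5, q_6, T.m_pos (z 0), T.m_pos (z 1), T.m_pos (z 2), T.m_pos (z 3), T.m_pos (z 4), T.m_pos (z 5), T.m_pos (z 6)]
    · skip
      rw [hp_0_1, hp_0_2, hp_0_4] at q_0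
      rw [hp_1_0] at q_1
      rw [hp_2_0, hp_2_3] at q_2
      rw [hp_3_2] at q_3
      rw [hp_4_0, hp_4_5] at q_4
      rw [hp_5_4, hp_5_6] at q_5
      rw [hp_6_5] at q_6
      rw [hp_0_1, hp_1_0] at we_0_1
      rw [hp_0_2, hp_2_0] at we_0_2
      rw [hp_2_3, hp_3_2] at we_2_3
      rw [hp_0_4, hp_4_0] at we_0_4
      rw [hp_4_5, hp_5_4] at we_4_5
      rw [hp_5_6, hp_6_5] at we_5_6
      exfalso; linarith only [q_0, q_1, q_2, q_3, q_4, q_5, q_6, T.m_pos (z 0), T.m_pos (z 1), T.m_pos (z 2), T.m_pos (z 3), T.m_pos (z 4), T.m_pos (z 5), T.m_pos (z 6)]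
  · skip
    rcases edge_cases T h2 z hz [0, 4, 5, 6] (by decide) (by decide) (by decide)
      (List.IsChain.cons_cons e_0_4 (List.IsChain.cons_cons e_4_5 (List.IsChain.cons_cons e_5_6 (List.IsChain.singleton _)))) 2 (by decide) 5 6 rfl rfl with
      ⟨hp_5_6, hp_6_5⟩ | ⟨hp_5_6, hp_6_5⟩ | ⟨hp_5_6, hp_6_5⟩
    · skip
      rw [hp_0_1, hp_0_2, hp_0_4] at q_0
      rw [hp_1_0] at q_1
      rw [hp_2_0, hp_2_3] at q_2
      rw [hp_3_2] at q_3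
      rw [hp_4_0, hp_4_5] at q_4
      rw [hp_5_4, hp_5_6] at q_5
      rw [hp_6_5] at q_6
      rw [hp_0_1, hp_1_0] at we_0_1
      rw [hp_0_2, hp_2_0] at we_0_2
      rw [hp_2_3, hp_3_2] at we_2_3
      rw [hp_0_4, hp_4_0] at we_0_4
      rw [hp_4_5, hp_5_4] at we_4_5
      rw [hp_5_6, hp_6_5] at we_5_6
      exfalso; linarith only [q_0, q_1, q_2, q_3, q_4, q_5, q_6, T.m_pos (z 0), T.m_pos (z 1), T.m_pos (z 2), T.m_pos (z 3), T.m_pos (z 4), T.m_pos (z 5), T.m_pos (z 6)]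
    · skip
      rw [hp_0_1, hp_0_2, hp_0_4] at q_0
      rw [hp_1_0] at q_1
      rw [hp_2_0, hp_2_3] at q_2
      rw [hp_3_2] at q_3
      rw [hp_4_0, hp_4_5] at q_4
      rw [hp_5_4, hp_5_6] at q_5
      rw [hp_6_5] at q_6
      rw [hp_0_1, hp_1_0] at we_0_1
      rw [hp_0_2, hp_2_0] at we_0_2
      rw [hp_2_3, hp_3_2] at we_2_3
      rw [hp_0_4, hp_4_0] at we_0_4
      rw [hp_4_5, hp_5_4] at we_4_5
      rw [hp_5_6, hp_6_5] at we_5_6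
      exfalso; linarith only [q_0, q_1, q_2, q_3, q_4, q_5, q_6, T.m_pos (z 0), T.m_pos (z 1), T.m_pos (z 2), T.m_pos (z 3), T.m_pos (z 4), T.m_pos (z 5), T.m_pos (z 6)]
    · skip
      rw [hp_0_1, hp_0_2, hp_0_4] at q_0
      rw [hp_1_0] at q_1
      rw [hp_2_0, hp_2_3] at q_2
      rw [hp_3_2] at q_3
      rw [hp_4_0, hp_4_5] at q_4
      rw [hp_5_4, hp_5_6] at q_5
      rw [hp_6_5] at q_6
      rw [hp_0_1, hp_1_0] at we_0_1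
      rw [hp_0_2, hp_2_0] at we_0_2
      rw [hp_2_3, hp_3_2] at we_2_3
      rw [hp_0_4, hp_4_0] at we_0_4
      rw [hp_4_5, hp_5_4] at we_4_5
      rw [hp_5_6, hp_6_5] at we_5_6
      exfalso; linarith only [q_0, q_1, q_2, q_3, q_4, q_5, q_6, T.m_pos (z 0), T.m_pos (z 1), T.m_pos (z 2), T.m_pos (z 3), T.m_pos (z 4), T.m_pos (z 5), T.m_pos (z 6)]
  · skip
    rcases edge_cases T h2 z hz [0, 4, 5, 6] (by decide) (by decide) (by decide)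
      (List.IsChain.cons_cons e_0_4 (List.IsChain.cons_cons e_4_5 (List.IsChain.cons_cons e_5_6 (List.IsChain.singleton _)))) 2 (by decide) 5 6 rfl rfl with
      ⟨hp_5_6, hp_6_5⟩ | ⟨hp_5_6, hp_6_5⟩ | ⟨hp_5_6, hp_6_5⟩
    · skip
      rw [hp_0_1, hp_0_2, hp_0_4] at q_0
      rw [hp_1_0] at q_1
      rw [hp_2_0, hp_2_3] at q_2
      rw [hp_3_2] at q_3
      rw [hp_4_0, hp_4_5] at q_4
      rw [hp_5_4, hp_5_6] at q_5
      rw [hp_6_5] at q_6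
      rw [hp_0_1, hp_1_0] at we_0_1
      rw [hp_0_2, hp_2_0] at we_0_2
      rw [hp_2_3, hp_3_2] at we_2_3
      rw [hp_0_4, hp_4_0] at we_0_4
      rw [hp_4_5, hp_5_4] at we_4_5
      rw [hp_5_6, hp_6_5] at we_5_6
      exfalso; linarith only [q_0, q_1, q_2, q_3, q_4, q_5, q_6, T.m_pos (z 0), T.m_pos (z 1), T.m_pos (z 2), T.m_pos (z 3), T.m_pos (z 4), T.m_pos (z 5), T.m_pos (z 6)]
    · skip
      rw [hp_0_1, hp_0_2, hp_0_4] at q_0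
      rw [hp_1_0] at q_1
      rw [hp_2_0, hp_2_3] at q_2
      rw [hp_3_2] at q_3
      rw [hp_4_0, hp_4_5] at q_4
      rw [hp_5_4, hp_5_6] at q_5
      rw [hp_6_5] at q_6
      rw [hp_0_1, hp_1_0] at we_0_1
      rw [hp_0_2, hp_2_0] at we_0_2
      rw [hp_2_3, hp_3_2] at we_2_3
      rw [hp_0_4, hp_4_0] at we_0_4
      rw [hp_4_5, hp_5_4] at we_4_5
      rw [hp_5_6, hp_6_5] at we_5_6
      exfalso; linarith only [q_0, q_1, q_2, q_3, q_4, q_5, q_6, T.m_pos (z 0), T.m_pos (z 1), T.m_pos (z 2), T.m_pos (z 3), T.m_pos (z 4), T.m_pos (z 5), T.m_pos (z 6)]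
    · skip
      rw [hp_0_1, hp_0_2, hp_0_4] at q_0
      rw [hp_1_0] at q_1
      rw [hp_2_0, hp_2_3] at q_2
      rw [hp_3_2] at q_3
      rw [hp_4_0, hp_4_5] at q_4
      rw [hp_5_4, hp_5_6] at q_5
      rw [hp_6_5] at q_6
      rw [hp_0_1, hp_1_0] at we_0_1
      rw [hp_0_2, hp_2_0] at we_0_2
      rw [hp_2_3, hp_3_2] at we_2_3
      rw [hp_0_4, hp_4_0] at we_0_4
      rw [hp_4_5, hp_5_4] at we_4_5
      rw [hp_5_6, hp_6_5] at we_5_6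
      exfalso; linarith only [q_0, q_1, q_2, q_3, q_4, q_5, q_6, T.m_pos (z 0), T.m_pos (z 1), T.m_pos (z 2), T.m_pos (z 3), T.m_pos (z 4), T.m_pos (z 5), T.m_pos (z 6)]

theorem shape7_T222 (T : Models.NumericalType 7) (h2 : ∀ i, T.IsMinusTwo i)
    (z : Fin 7 → Fin 7) (hz : Function.Injective z)
    (e_0_1 : T.a (z 0) (z 1) ≠ 0) (e_1_2 : T.a (z 1) (z 2) ≠ 0) (e_0_3 : T.a (z 0) (z 3) ≠ 0) (e_3_4 : T.a (z 3) (z 4) ≠ 0) (e_0_5 : T.a (z 0) (z 5) ≠ 0) (e_5_6 : T.a (z 5) (z 6) ≠ 0) : Goal7 T := by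
  have e_1_0 : T.a (z 1) (z 0) ≠ 0 := nsymm T e_0_1
  have e_2_1 : T.a (z 2) (z 1) ≠ 0 := nsymm T e_1_2
  have e_3_0 : T.a (z 3) (z 0) ≠ 0 := nsymm T e_0_3
  have e_4_3 : T.a (z 4) (z 3) ≠ 0 := nsymm T e_3_4
  have e_5_0 : T.a (z 5) (z 0) ≠ 0 := nsymm T e_0_5
  have e_6_5 : T.a (z 6) (z 5) ≠ 0 := nsymm T e_5_6
  have z_0_2 : T.a (z 0) (z 2) = 0 := nocycList T h2 z hz [0, 1, 2] (by decide) (by decide) (by decide)
    (List.IsChain.cons_cons e_0_1 (List.IsChain.cons_cons e_1_2 (List.IsChain.singleton _))) 0 2 rfl rfl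
  have z_2_0 : T.a (z 2) (z 0) = 0 := zsymm T z_0_2
  have z_0_4 : T.a (z 0) (z 4) = 0 := nocycList T h2 z hz [0, 3, 4] (by decide) (by decide) (by decide)
    (List.IsChain.cons_cons e_0_3 (List.IsChain.cons_cons e_3_4 (List.IsChain.singleton _))) 0 4 rfl rfl
  have z_4_0 : T.a (z 4) (z 0) = 0 := zsymm T z_0_4
  have z_0_6 : T.a (z 0) (z 6) = 0 := nocycList T h2 z hz [0, 5, 6] (by decide) (by decide) (by decide)
    (List.IsChain.cons_cons e_0_5 (List.IsChain.cons_cons e_5_6 (List.IsChain.singleton _))) 0 6 rfl rfl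
  have z_6_0 : T.a (z 6) (z 0) = 0 := zsymm T z_0_6
  have z_1_3 : T.a (z 1) (z 3) = 0 := nocycList T h2 z hz [1, 0, 3] (by decide) (by decide) (by decide)
    (List.IsChain.cons_cons e_1_0 (List.IsChain.cons_cons e_0_3 (List.IsChain.singleton _))) 1 3 rfl rfl
  have z_3_1 : T.a (z 3) (z 1) = 0 := zsymm T z_1_3
  have z_1_4 : T.a (z 1) (z 4) = 0 := nocycList T h2 z hz [1, 0, 3, 4] (by decide) (by decide) (by decide)
    (List.IsChain.cons_cons e_1_0 (List.IsChain.cons_cons e_0_3 (List.IsChain.cons_cons e_3_4 (List.IsChain.singleton _)))) 1 4 rfl rfl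
  have z_4_1 : T.a (z 4) (z 1) = 0 := zsymm T z_1_4
  have z_1_5 : T.a (z 1) (z 5) = 0 := nocycList T h2 z hz [1, 0, 5] (by decide) (by decide) (by decide)
    (List.IsChain.cons_cons e_1_0 (List.IsChain.cons_cons e_0_5 (List.IsChain.singleton _))) 1 5 rfl rfl
  have z_5_1 : T.a (z 5) (z 1) = 0 := zsymm T z_1_5
  have z_1_6 : T.a (z 1) (z 6) = 0 := nocycList T h2 z hz [1, 0, 5, 6] (by decide) (by decide) (by decide)
    (List.IsChain.cons_cons e_1_0 (List.IsChain.cons_cons e_0_5 (List.IsChain.cons_cons e_5_6 (List.IsChain.singleton _)))) 1 6 rfl rfl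
  have z_6_1 : T.a (z 6) (z 1) = 0 := zsymm T z_1_6
  have z_2_3 : T.a (z 2) (z 3) = 0 := nocycList T h2 z hz [2, 1, 0, 3] (by decide) (by decide) (by decide)
    (List.IsChain.cons_cons e_2_1 (List.IsChain.cons_cons e_1_0 (List.IsChain.cons_cons e_0_3 (List.IsChain.singleton _)))) 2 3 rfl rfl
  have z_3_2 : T.a (z 3) (z 2) = 0 := zsymm T z_2_3
  have z_2_4 : T.a (z 2) (z 4) = 0 := nocycList T h2 z hz [2, 1, 0, 3, 4] (by decide) (by decide) (by decide)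
    (List.IsChain.cons_cons e_2_1 (List.IsChain.cons_cons e_1_0 (List.IsChain.cons_cons e_0_3 (List.IsChain.cons_cons e_3_4 (List.IsChain.singleton _))))) 2 4 rfl rfl
  have z_4_2 : T.a (z 4) (z 2) = 0 := zsymm T z_2_4
  have z_2_5 : T.a (z 2) (z 5) = 0 := nocycList T h2 z hz [2, 1, 0, 5] (by decide) (by decide) (by decide)
    (List.IsChain.cons_cons e_2_1 (List.IsChain.cons_cons e_1_0 (List.IsChain.cons_cons e_0_5 (List.IsChain.singleton _)))) 2 5 rfl rfl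
  have z_5_2 : T.a (z 5) (z 2) = 0 := zsymm T z_2_5
  have z_2_6 : T.a (z 2) (z 6) = 0 := nocycList T h2 z hz [2, 1, 0, 5, 6] (by decide) (by decide) (by decide)
    (List.IsChain.cons_cons e_2_1 (List.IsChain.cons_cons e_1_0 (List.IsChain.cons_cons e_0_5 (List.IsChain.cons_cons e_5_6 (List.IsChain.singleton _))))) 2 6 rfl rfl
  have z_6_2 : T.a (z 6) (z 2) = 0 := zsymm T z_2_6
  have z_3_5 : T.a (z 3) (z 5) = 0 := nocycList T h2 z hz [3, 0, 5] (by decide) (by decide) (by decide)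
    (List.IsChain.cons_cons e_3_0 (List.IsChain.cons_cons e_0_5 (List.IsChain.singleton _))) 3 5 rfl rfl
  have z_5_3 : T.a (z 5) (z 3) = 0 := zsymm T z_3_5
  have z_3_6 : T.a (z 3) (z 6) = 0 := nocycList T h2 z hz [3, 0, 5, 6] (by decide) (by decide) (by decide)
    (List.IsChain.cons_cons e_3_0 (List.IsChain.cons_cons e_0_5 (List.IsChain.cons_cons e_5_6 (List.IsChain.singleton _)))) 3 6 rfl rfl
  have z_6_3 : T.a (z 6) (z 3) = 0 := zsymm T z_3_6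
  have z_4_5 : T.a (z 4) (z 5) = 0 := nocycList T h2 z hz [4, 3, 0, 5] (by decide) (by decide) (by decide)
    (List.IsChain.cons_cons e_4_3 (List.IsChain.cons_cons e_3_0 (List.IsChain.cons_cons e_0_5 (List.IsChain.singleton _)))) 4 5 rfl rfl
  have z_5_4 : T.a (z 5) (z 4) = 0 := zsymm T z_4_5
  have z_4_6 : T.a (z 4) (z 6) = 0 := nocycList T h2 z hz [4, 3, 0, 5, 6] (by decide) (by decide) (by decide)
    (List.IsChain.cons_cons e_4_3 (List.IsChain.cons_cons e_3_0 (List.IsChain.cons_cons e_0_5 (List.IsChain.cons_cons e_5_6 (List.IsChain.singleton _))))) 4 6 rfl rfl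
  have z_6_4 : T.a (z 6) (z 4) = 0 := zsymm T z_4_6
  obtain ⟨hp_0_1, hp_1_0, hp_0_3, hp_3_0, hp_0_5, hp_5_0⟩ := branch_one T h2 z hz (by norm_num) 0 1 3 5 (by decide) e_0_1 e_0_3 e_0_5
  have we_0_1 := w_pp T (z 0) (z 1)
  have we_1_2 := w_pp T (z 1) (z 2)
  have we_0_3 := w_pp T (z 0) (z 3)
  have we_3_4 := w_pp T (z 3) (z 4)
  have we_0_5 := w_pp T (z 0) (z 5)
  have we_5_6 := w_pp T (z 5) (z 6)
  have r_0 := row7 T z hz (z 0)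
  rw [(h2 (z 0)).2, a_eq_pp T (z 0) (z 1), z_0_2, a_eq_pp T (z 0) (z 3), z_0_4, a_eq_pp T (z 0) (z 5), z_0_6] at r_0
  have q_0 : pp T (z 0) (z 1) * T.m (z 1) + pp T (z 0) (z 3) * T.m (z 3) + pp T (z 0) (z 5) * T.m (z 5) = 2 * T.m (z 0) :=
    mul_left_cancel₀ (T.w_pos (z 0)).ne' (by linear_combination r_0)
  clear r_0
  have r_1 := row7 T z hz (z 1)
  rw [a_eq_pp T (z 1) (z 0), (h2 (z 1)).2, a_eq_pp T (z 1) (z 2), z_1_3, z_1_4, z_1_5, z_1_6] at r_1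
  have q_1 : pp T (z 1) (z 0) * T.m (z 0) + pp T (z 1) (z 2) * T.m (z 2) = 2 * T.m (z 1) :=
    mul_left_cancel₀ (T.w_pos (z 1)).ne' (by linear_combination r_1)
  clear r_1
  have r_2 := row7 T z hz (z 2)
  rw [z_2_0, a_eq_pp T (z 2) (z 1), (h2 (z 2)).2, z_2_3, z_2_4, z_2_5, z_2_6] at r_2
  have q_2 : pp T (z 2) (z 1) * T.m (z 1) = 2 * T.m (z 2) :=
    mul_left_cancel₀ (T.w_pos (z 2)).ne' (by linear_combination r_2)
  clear r_2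
  have r_3 := row7 T z hz (z 3)
  rw [a_eq_pp T (z 3) (z 0), z_3_1, z_3_2, (h2 (z 3)).2, a_eq_pp T (z 3) (z 4), z_3_5, z_3_6] at r_3
  have q_3 : pp T (z 3) (z 0) * T.m (z 0) + pp T (z 3) (z 4) * T.m (z 4) = 2 * T.m (z 3) :=
    mul_left_cancel₀ (T.w_pos (z 3)).ne' (by linear_combination r_3)
  clear r_3
  have r_4 := row7 T z hz (z 4)
  rw [z_4_0, z_4_1, z_4_2, a_eq_pp T (z 4) (z 3), (h2 (z 4)).2, z_4_5, z_4_6] at r_4
  have q_4 : pp T (z 4) (z 3) * T.m (z 3) = 2 * T.m (z 4) :=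
    mul_left_cancel₀ (T.w_pos (z 4)).ne' (by linear_combination r_4)
  clear r_4
  have r_5 := row7 T z hz (z 5)
  rw [a_eq_pp T (z 5) (z 0), z_5_1, z_5_2, z_5_3, z_5_4, (h2 (z 5)).2, a_eq_pp T (z 5) (z 6)] at r_5
  have q_5 : pp T (z 5) (z 0) * T.m (z 0) + pp T (z 5) (z 6) * T.m (z 6) = 2 * T.m (z 5) :=
    mul_left_cancel₀ (T.w_pos (z 5)).ne' (by linear_combination r_5)
  clear r_5
  have r_6 := row7 T z hz (z 6)
  rw [z_6_0, z_6_1, z_6_2, z_6_3, z_6_4, a_eq_pp T (z 6) (z 5), (h2 (z 6)).2] at r_6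
  have q_6 : pp T (z 6) (z 5) * T.m (z 5) = 2 * T.m (z 6) :=
    mul_left_cancel₀ (T.w_pos (z 6)).ne' (by linear_combination r_6)
  clear r_6
  rcases edge_cases T h2 z hz [0, 1, 2] (by decide) (by decide) (by decide)
    (List.IsChain.cons_cons e_0_1 (List.IsChain.cons_cons e_1_2 (List.IsChain.singleton _))) 1 (by decide) 1 2 rfl rfl with
    ⟨hp_1_2, hp_2_1⟩ | ⟨hp_1_2, hp_2_1⟩ | ⟨hp_1_2, hp_2_1⟩
  · skip
    rcases edge_cases T h2 z hz [0, 3, 4] (by decide) (by decide) (by decide)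
      (List.IsChain.cons_cons e_0_3 (List.IsChain.cons_cons e_3_4 (List.IsChain.singleton _))) 1 (by decide) 3 4 rfl rfl with
      ⟨hp_3_4, hp_4_3⟩ | ⟨hp_3_4, hp_4_3⟩ | ⟨hp_3_4, hp_4_3⟩
    · skip
      rcases edge_cases T h2 z hz [0, 5, 6] (by decide) (by decide) (by decide)
        (List.IsChain.cons_cons e_0_5 (List.IsChain.cons_cons e_5_6 (List.IsChain.singleton _))) 1 (by decide) 5 6 rfl rfl with
        ⟨hp_5_6, hp_6_5⟩ | ⟨hp_5_6, hp_6_5⟩ | ⟨hp_5_6, hp_6_5⟩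
      · skip
        rw [hp_0_1, hp_0_3, hp_0_5] at q_0
        rw [hp_1_0, hp_1_2] at q_1
        rw [hp_2_1] at q_2
        rw [hp_3_0, hp_3_4] at q_3
        rw [hp_4_3] at q_4
        rw [hp_5_0, hp_5_6] at q_5
        rw [hp_6_5] at q_6
        rw [hp_0_1, hp_1_0] at we_0_1
        rw [hp_1_2, hp_2_1] at we_1_2
        rw [hp_0_3, hp_3_0] at we_0_3
        rw [hp_3_4, hp_4_3] at we_3_4
        rw [hp_0_5, hp_5_0] at we_0_5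
        rw [hp_5_6, hp_6_5] at we_5_6
        obtain ⟨σ, hσ⟩ := permOf (fun i => z (![2, 1, 0, 4, 3, 6, 5] i)) (hz.comp (by decide))
        have s0 : σ 0 = z 2 := hσ 0
        have s1 : σ 1 = z 1 := hσ 1
        have s2 : σ 2 = z 0 := hσ 2
        have s3 : σ 3 = z 4 := hσ 3
        have s4 : σ 4 = z 3 := hσ 4
        have s5 : σ 5 = z 6 := hσ 5
        have s6 : σ 6 = z 5 := hσ 6
        unfold Goal7
        refine ⟨σ, T.m (z 2), T.w (z 2), Or.inr (Or.inr (Or.inr (Or.inr (Or.inr (Or.inr (Or.inr (⟨?_, ?_, ?_, ?_, ?_, ?_, ?_, ?_, ?_, ?_, ?_, ?_, ?_, ?_, ?_, ?_, ?_, ?_, ?_, ?_, ?_, ?_, ?_, ?_, ?_, ?_, ?_, ?_, ?_, ?_, ?_, ?_, ?_, ?_, ?_, ?_, ?_, ?_, ?_, ?_, ?_, ?_⟩)))))))⟩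
        · rw [s0] <;> linarith only [q_0, q_1, q_2, q_3, q_4, q_5, q_6]
        · rw [s1] <;> linarith only [q_0, q_1, q_2, q_3, q_4, q_5, q_6]
        · rw [s2] <;> linarith only [q_0, q_1, q_2, q_3, q_4, q_5, q_6]
        · rw [s3] <;> linarith only [q_0, q_1, q_2, q_3, q_4, q_5, q_6]
        · rw [s4] <;> linarith only [q_0, q_1, q_2, q_3, q_4, q_5, q_6]
        · rw [s5] <;> linarith only [q_0, q_1, q_2, q_3, q_4, q_5, q_6]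
        · rw [s6] <;> linarith only [q_0, q_1, q_2, q_3, q_4, q_5, q_6]
        · rw [s0] <;> linarith only [we_0_1, we_1_2, we_0_3, we_3_4, we_0_5, we_5_6]
        · rw [s1] <;> linarith only [we_0_1, we_1_2, we_0_3, we_3_4, we_0_5, we_5_6]
        · rw [s2] <;> linarith only [we_0_1, we_1_2, we_0_3, we_3_4, we_0_5, we_5_6]
        · rw [s3] <;> linarith only [we_0_1, we_1_2, we_0_3, we_3_4, we_0_5, we_5_6]
        · rw [s4] <;> linarith only [we_0_1, we_1_2, we_0_3, we_3_4, we_0_5, we_5_6]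
        · rw [s5] <;> linarith only [we_0_1, we_1_2, we_0_3, we_3_4, we_0_5, we_5_6]
        · rw [s6] <;> linarith only [we_0_1, we_1_2, we_0_3, we_3_4, we_0_5, we_5_6]
        · rw [s0, (h2 (z 2)).2] <;> linarith only [we_0_1, we_1_2, we_0_3, we_3_4, we_0_5, we_5_6]
        · rw [s0, s1, a_eq_pp T (z 2) (z 1), hp_2_1] <;> linarith only [we_0_1, we_1_2, we_0_3, we_3_4, we_0_5, we_5_6]
        · rw [s0, s2, z_2_0]
        · rw [s0, s3, z_2_4]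
        · rw [s0, s4, z_2_3]
        · rw [s0, s5, z_2_6]
        · rw [s0, s6, z_2_5]
        · rw [s1, (h2 (z 1)).2] <;> linarith only [we_0_1, we_1_2, we_0_3, we_3_4, we_0_5, we_5_6]
        · rw [s1, s2, a_eq_pp T (z 1) (z 0), hp_1_0] <;> linarith only [we_0_1, we_1_2, we_0_3, we_3_4, we_0_5, we_5_6]
        · rw [s1, s3, z_1_4]
        · rw [s1, s4, z_1_3]
        · rw [s1, s5, z_1_6]
        · rw [s1, s6, z_1_5]
        · rw [s2, (h2 (z 0)).2] <;> linarith only [we_0_1, we_1_2, we_0_3, we_3_4, we_0_5, we_5_6]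
        · rw [s2, s3, z_0_4]
        · rw [s2, s4, a_eq_pp T (z 0) (z 3), hp_0_3] <;> linarith only [we_0_1, we_1_2, we_0_3, we_3_4, we_0_5, we_5_6]
        · rw [s2, s5, z_0_6]
        · rw [s2, s6, a_eq_pp T (z 0) (z 5), hp_0_5] <;> linarith only [we_0_1, we_1_2, we_0_3, we_3_4, we_0_5, we_5_6]
        · rw [s3, (h2 (z 4)).2] <;> linarith only [we_0_1, we_1_2, we_0_3, we_3_4, we_0_5, we_5_6]
        · rw [s3, s4, a_eq_pp T (z 4) (z 3), hp_4_3] <;> linarith only [we_0_1, we_1_2, we_0_3, we_3_4, we_0_5, we_5_6]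
        · rw [s3, s5, z_4_6]
        · rw [s3, s6, z_4_5]
        · rw [s4, (h2 (z 3)).2] <;> linarith only [we_0_1, we_1_2, we_0_3, we_3_4, we_0_5, we_5_6]
        · rw [s4, s5, z_3_6]
        · rw [s4, s6, z_3_5]
        · rw [s5, (h2 (z 6)).2] <;> linarith only [we_0_1, we_1_2, we_0_3, we_3_4, we_0_5, we_5_6]
        · rw [s5, s6, a_eq_pp T (z 6) (z 5), hp_6_5] <;> linarith only [we_0_1, we_1_2, we_0_3, we_3_4, we_0_5, we_5_6]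
        · rw [s6, (h2 (z 5)).2] <;> linarith only [we_0_1, we_1_2, we_0_3, we_3_4, we_0_5, we_5_6]
      · skip
        rw [hp_0_1, hp_0_3, hp_0_5] at q_0
        rw [hp_1_0, hp_1_2] at q_1
        rw [hp_2_1] at q_2
        rw [hp_3_0, hp_3_4] at q_3
        rw [hp_4_3] at q_4
        rw [hp_5_0, hp_5_6] at q_5
        rw [hp_6_5] at q_6
        rw [hp_0_1, hp_1_0] at we_0_1
        rw [hp_1_2, hp_2_1] at we_1_2
        rw [hp_0_3, hp_3_0] at we_0_3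
        rw [hp_3_4, hp_4_3] at we_3_4
        rw [hp_0_5, hp_5_0] at we_0_5
        rw [hp_5_6, hp_6_5] at we_5_6
        exfalso; linarith only [q_0, q_1, q_2, q_3, q_4, q_5, q_6, T.m_pos (z 0), T.m_pos (z 1), T.m_pos (z 2), T.m_pos (z 3), T.m_pos (z 4), T.m_pos (z 5), T.m_pos (z 6)]
      · skip
        rw [hp_0_1, hp_0_3, hp_0_5] at q_0
        rw [hp_1_0, hp_1_2] at q_1
        rw [hp_2_1] at q_2
        rw [hp_3_0, hp_3_4] at q_3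
        rw [hp_4_3] at q_4
        rw [hp_5_0, hp_5_6] at q_5
        rw [hp_6_5] at q_6
        rw [hp_0_1, hp_1_0] at we_0_1
        rw [hp_1_2, hp_2_1] at we_1_2
        rw [hp_0_3, hp_3_0] at we_0_3
        rw [hp_3_4, hp_4_3] at we_3_4
        rw [hp_0_5, hp_5_0] at we_0_5
        rw [hp_5_6, hp_6_5] at we_5_6
        exfalso; linarith only [q_0, q_1, q_2, q_3, q_4, q_5, q_6, T.m_pos (z 0), T.m_pos (z 1), T.m_pos (z 2), T.m_pos (z 3), T.m_pos (z 4), T.m_pos (z 5), T.m_pos (z 6)]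
    · skip
      rcases edge_cases T h2 z hz [0, 5, 6] (by decide) (by decide) (by decide)
        (List.IsChain.cons_cons e_0_5 (List.IsChain.cons_cons e_5_6 (List.IsChain.singleton _))) 1 (by decide) 5 6 rfl rfl with
        ⟨hp_5_6, hp_6_5⟩ | ⟨hp_5_6, hp_6_5⟩ | ⟨hp_5_6, hp_6_5⟩
      · skip
        rw [hp_0_1, hp_0_3, hp_0_5] at q_0
        rw [hp_1_0, hp_1_2] at q_1
        rw [hp_2_1] at q_2
        rw [hp_3_0, hp_3_4] at q_3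
        rw [hp_4_3] at q_4
        rw [hp_5_0, hp_5_6] at q_5
        rw [hp_6_5] at q_6
        rw [hp_0_1, hp_1_0] at we_0_1
        rw [hp_1_2, hp_2_1] at we_1_2
        rw [hp_0_3, hp_3_0] at we_0_3
        rw [hp_3_4, hp_4_3] at we_3_4
        rw [hp_0_5, hp_5_0] at we_0_5
        rw [hp_5_6, hp_6_5] at we_5_6
        exfalso; linarith only [q_0, q_1, q_2, q_3, q_4, q_5, q_6, T.m_pos (z 0), T.m_pos (z 1), T.m_pos (z 2), T.m_pos (z 3), T.m_pos (z 4), T.m_pos (z 5), T.m_pos (z 6)]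
      · skip
        rw [hp_0_1, hp_0_3, hp_0_5] at q_0
        rw [hp_1_0, hp_1_2] at q_1
        rw [hp_2_1] at q_2
        rw [hp_3_0, hp_3_4] at q_3
        rw [hp_4_3] at q_4
        rw [hp_5_0, hp_5_6] at q_5
        rw [hp_6_5] at q_6
        rw [hp_0_1, hp_1_0] at we_0_1
        rw [hp_1_2, hp_2_1] at we_1_2
        rw [hp_0_3, hp_3_0] at we_0_3
        rw [hp_3_4, hp_4_3] at we_3_4
        rw [hp_0_5, hp_5_0] at we_0_5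
        rw [hp_5_6, hp_6_5] at we_5_6
        exfalso; linarith only [q_0, q_1, q_2, q_3, q_4, q_5, q_6, T.m_pos (z 0), T.m_pos (z 1), T.m_pos (z 2), T.m_pos (z 3), T.m_pos (z 4), T.m_pos (z 5), T.m_pos (z 6)]
      · skip
        rw [hp_0_1, hp_0_3, hp_0_5] at q_0
        rw [hp_1_0, hp_1_2] at q_1
        rw [hp_2_1] at q_2
        rw [hp_3_0, hp_3_4] at q_3
        rw [hp_4_3] at q_4
        rw [hp_5_0, hp_5_6] at q_5
        rw [hp_6_5] at q_6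
        rw [hp_0_1, hp_1_0] at we_0_1
        rw [hp_1_2, hp_2_1] at we_1_2
        rw [hp_0_3, hp_3_0] at we_0_3
        rw [hp_3_4, hp_4_3] at we_3_4
        rw [hp_0_5, hp_5_0] at we_0_5
        rw [hp_5_6, hp_6_5] at we_5_6
        exfalso; linarith only [q_0, q_1, q_2, q_3, q_4, q_5, q_6, T.m_pos (z 0), T.m_pos (z 1), T.m_pos (z 2), T.m_pos (z 3), T.m_pos (z 4), T.m_pos (z 5), T.m_pos (z 6)]
    · skip
      rcases edge_cases T h2 z hz [0, 5, 6] (by decide) (by decide) (by decide)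
        (List.IsChain.cons_cons e_0_5 (List.IsChain.cons_cons e_5_6 (List.IsChain.singleton _))) 1 (by decide) 5 6 rfl rfl with
        ⟨hp_5_6, hp_6_5⟩ | ⟨hp_5_6, hp_6_5⟩ | ⟨hp_5_6, hp_6_5⟩
      · skip
        rw [hp_0_1, hp_0_3, hp_0_5] at q_0
        rw [hp_1_0, hp_1_2] at q_1
        rw [hp_2_1] at q_2
        rw [hp_3_0, hp_3_4] at q_3
        rw [hp_4_3] at q_4
        rw [hp_5_0, hp_5_6] at q_5
        rw [hp_6_5] at q_6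
        rw [hp_0_1, hp_1_0] at we_0_1
        rw [hp_1_2, hp_2_1] at we_1_2
        rw [hp_0_3, hp_3_0] at we_0_3
        rw [hp_3_4, hp_4_3] at we_3_4
        rw [hp_0_5, hp_5_0] at we_0_5
        rw [hp_5_6, hp_6_5] at we_5_6
        exfalso; linarith only [q_0, q_1, q_2, q_3, q_4, q_5, q_6, T.m_pos (z 0), T.m_pos (z 1), T.m_pos (z 2), T.m_pos (z 3), T.m_pos (z 4), T.m_pos (z 5), T.m_pos (z 6)]
      · skip
        rw [hp_0_1, hp_0_3, hp_0_5] at q_0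
        rw [hp_1_0, hp_1_2] at q_1
        rw [hp_2_1] at q_2
        rw [hp_3_0, hp_3_4] at q_3
        rw [hp_4_3] at q_4
        rw [hp_5_0, hp_5_6] at q_5
        rw [hp_6_5] at q_6
        rw [hp_0_1, hp_1_0] at we_0_1
        rw [hp_1_2, hp_2_1] at we_1_2
        rw [hp_0_3, hp_3_0] at we_0_3
        rw [hp_3_4, hp_4_3] at we_3_4
        rw [hp_0_5, hp_5_0] at we_0_5
        rw [hp_5_6, hp_6_5] at we_5_6
        exfalso; linarith only [q_0, q_1, q_2, q_3, q_4, q_5, q_6, T.m_pos (z 0), T.m_pos (z 1), T.m_pos (z 2), T.m_pos (z 3), T.m_pos (z 4), T.m_pos (z 5), T.m_pos (z 6)]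
      · skip
        rw [hp_0_1, hp_0_3, hp_0_5] at q_0
        rw [hp_1_0, hp_1_2] at q_1
        rw [hp_2_1] at q_2
        rw [hp_3_0, hp_3_4] at q_3
        rw [hp_4_3] at q_4
        rw [hp_5_0, hp_5_6] at q_5
        rw [hp_6_5] at q_6
        rw [hp_0_1, hp_1_0] at we_0_1
        rw [hp_1_2, hp_2_1] at we_1_2
        rw [hp_0_3, hp_3_0] at we_0_3
        rw [hp_3_4, hp_4_3] at we_3_4
        rw [hp_0_5, hp_5_0] at we_0_5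
        rw [hp_5_6, hp_6_5] at we_5_6
        exfalso; linarith only [q_0, q_1, q_2, q_3, q_4, q_5, q_6, T.m_pos (z 0), T.m_pos (z 1), T.m_pos (z 2), T.m_pos (z 3), T.m_pos (z 4), T.m_pos (z 5), T.m_pos (z 6)]
  · skip
    rcases edge_cases T h2 z hz [0, 3, 4] (by decide) (by decide) (by decide)
      (List.IsChain.cons_cons e_0_3 (List.IsChain.cons_cons e_3_4 (List.IsChain.singleton _))) 1 (by decide) 3 4 rfl rfl with
      ⟨hp_3_4, hp_4_3⟩ | ⟨hp_3_4, hp_4_3⟩ | ⟨hp_3_4, hp_4_3⟩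
    · skip
      rcases edge_cases T h2 z hz [0, 5, 6] (by decide) (by decide) (by decide)
        (List.IsChain.cons_cons e_0_5 (List.IsChain.cons_cons e_5_6 (List.IsChain.singleton _))) 1 (by decide) 5 6 rfl rfl with
        ⟨hp_5_6, hp_6_5⟩ | ⟨hp_5_6, hp_6_5⟩ | ⟨hp_5_6, hp_6_5⟩
      · skip
        rw [hp_0_1, hp_0_3, hp_0_5] at q_0
        rw [hp_1_0, hp_1_2] at q_1
        rw [hp_2_1] at q_2
        rw [hp_3_0, hp_3_4] at q_3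
        rw [hp_4_3] at q_4
        rw [hp_5_0, hp_5_6] at q_5
        rw [hp_6_5] at q_6
        rw [hp_0_1, hp_1_0] at we_0_1
        rw [hp_1_2, hp_2_1] at we_1_2
        rw [hp_0_3, hp_3_0] at we_0_3
        rw [hp_3_4, hp_4_3] at we_3_4
        rw [hp_0_5, hp_5_0] at we_0_5
        rw [hp_5_6, hp_6_5] at we_5_6
        exfalso; linarith only [q_0, q_1, q_2, q_3, q_4, q_5, q_6, T.m_pos (z 0), T.m_pos (z 1), T.m_pos (z 2), T.m_pos (z 3), T.m_pos (z 4), T.m_pos (z 5), T.m_pos (z 6)]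
      · skip
        rw [hp_0_1, hp_0_3, hp_0_5] at q_0
        rw [hp_1_0, hp_1_2] at q_1
        rw [hp_2_1] at q_2
        rw [hp_3_0, hp_3_4] at q_3
        rw [hp_4_3] at q_4
        rw [hp_5_0, hp_5_6] at q_5
        rw [hp_6_5] at q_6
        rw [hp_0_1, hp_1_0] at we_0_1
        rw [hp_1_2, hp_2_1] at we_1_2
        rw [hp_0_3, hp_3_0] at we_0_3
        rw [hp_3_4, hp_4_3] at we_3_4
        rw [hp_0_5, hp_5_0] at we_0_5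
        rw [hp_5_6, hp_6_5] at we_5_6
        exfalso; linarith only [q_0, q_1, q_2, q_3, q_4, q_5, q_6, T.m_pos (z 0), T.m_pos (z 1), T.m_pos (z 2), T.m_pos (z 3), T.m_pos (z 4), T.m_pos (z 5), T.m_pos (z 6)]
      · skip
        rw [hp_0_1, hp_0_3, hp_0_5] at q_0
        rw [hp_1_0, hp_1_2] at q_1
        rw [hp_2_1] at q_2
        rw [hp_3_0, hp_3_4] at q_3
        rw [hp_4_3] at q_4
        rw [hp_5_0, hp_5_6] at q_5
        rw [hp_6_5] at q_6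
        rw [hp_0_1, hp_1_0] at we_0_1
        rw [hp_1_2, hp_2_1] at we_1_2
        rw [hp_0_3, hp_3_0] at we_0_3
        rw [hp_3_4, hp_4_3] at we_3_4
        rw [hp_0_5, hp_5_0] at we_0_5
        rw [hp_5_6, hp_6_5] at we_5_6
        exfalso; linarith only [q_0, q_1, q_2, q_3, q_4, q_5, q_6, T.m_pos (z 0), T.m_pos (z 1), T.m_pos (z 2), T.m_pos (z 3), T.m_pos (z 4), T.m_pos (z 5), T.m_pos (z 6)]
    · skip
      rcases edge_cases T h2 z hz [0, 5, 6] (by decide) (by decide) (by decide)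
        (List.IsChain.cons_cons e_0_5 (List.IsChain.cons_cons e_5_6 (List.IsChain.singleton _))) 1 (by decide) 5 6 rfl rfl with
        ⟨hp_5_6, hp_6_5⟩ | ⟨hp_5_6, hp_6_5⟩ | ⟨hp_5_6, hp_6_5⟩
      · skip
        rw [hp_0_1, hp_0_3, hp_0_5] at q_0
        rw [hp_1_0, hp_1_2] at q_1
        rw [hp_2_1] at q_2
        rw [hp_3_0, hp_3_4] at q_3
        rw [hp_4_3] at q_4
        rw [hp_5_0, hp_5_6] at q_5
        rw [hp_6_5] at q_6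
        rw [hp_0_1, hp_1_0] at we_0_1
        rw [hp_1_2, hp_2_1] at we_1_2
        rw [hp_0_3, hp_3_0] at we_0_3
        rw [hp_3_4, hp_4_3] at we_3_4
        rw [hp_0_5, hp_5_0] at we_0_5
        rw [hp_5_6, hp_6_5] at we_5_6
        exfalso; linarith only [q_0, q_1, q_2, q_3, q_4, q_5, q_6, T.m_pos (z 0), T.m_pos (z 1), T.m_pos (z 2), T.m_pos (z 3), T.m_pos (z 4), T.m_pos (z 5), T.m_pos (z 6)]
      · skip
        rw [hp_0_1, hp_0_3, hp_0_5] at q_0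
        rw [hp_1_0, hp_1_2] at q_1
        rw [hp_2_1] at q_2
        rw [hp_3_0, hp_3_4] at q_3
        rw [hp_4_3] at q_4
        rw [hp_5_0, hp_5_6] at q_5
        rw [hp_6_5] at q_6
        rw [hp_0_1, hp_1_0] at we_0_1
        rw [hp_1_2, hp_2_1] at we_1_2
        rw [hp_0_3, hp_3_0] at we_0_3
        rw [hp_3_4, hp_4_3] at we_3_4
        rw [hp_0_5, hp_5_0] at we_0_5
        rw [hp_5_6, hp_6_5] at we_5_6
        exfalso; linarith only [q_0, q_1, q_2, q_3, q_4, q_5, q_6, T.m_pos (z 0), T.m_pos (z 1), T.m_pos (z 2), T.m_pos (z 3), T.m_pos (z 4), T.m_pos (z 5), T.m_pos (z 6)]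
      · skip
        rw [hp_0_1, hp_0_3, hp_0_5] at q_0
        rw [hp_1_0, hp_1_2] at q_1
        rw [hp_2_1] at q_2
        rw [hp_3_0, hp_3_4] at q_3
        rw [hp_4_3] at q_4
        rw [hp_5_0, hp_5_6] at q_5
        rw [hp_6_5] at q_6
        rw [hp_0_1, hp_1_0] at we_0_1
        rw [hp_1_2, hp_2_1] at we_1_2
        rw [hp_0_3, hp_3_0] at we_0_3
        rw [hp_3_4, hp_4_3] at we_3_4
        rw [hp_0_5, hp_5_0] at we_0_5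
        rw [hp_5_6, hp_6_5] at we_5_6
        exfalso; linarith only [q_0, q_1, q_2, q_3, q_4, q_5, q_6, T.m_pos (z 0), T.m_pos (z 1), T.m_pos (z 2), T.m_pos (z 3), T.m_pos (z 4), T.m_pos (z 5), T.m_pos (z 6)]
    · skip
      rcases edge_cases T h2 z hz [0, 5, 6] (by decide) (by decide) (by decide)
        (List.IsChain.cons_cons e_0_5 (List.IsChain.cons_cons e_5_6 (List.IsChain.singleton _))) 1 (by decide) 5 6 rfl rfl with
        ⟨hp_5_6, hp_6_5⟩ | ⟨hp_5_6, hp_6_5⟩ | ⟨hp_5_6, hp_6_5⟩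
      · skip
        rw [hp_0_1, hp_0_3, hp_0_5] at q_0
        rw [hp_1_0, hp_1_2] at q_1
        rw [hp_2_1] at q_2
        rw [hp_3_0, hp_3_4] at q_3
        rw [hp_4_3] at q_4
        rw [hp_5_0, hp_5_6] at q_5
        rw [hp_6_5] at q_6
        rw [hp_0_1, hp_1_0] at we_0_1
        rw [hp_1_2, hp_2_1] at we_1_2
        rw [hp_0_3, hp_3_0] at we_0_3
        rw [hp_3_4, hp_4_3] at we_3_4
        rw [hp_0_5, hp_5_0] at we_0_5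
        rw [hp_5_6, hp_6_5] at we_5_6
        exfalso; linarith only [q_0, q_1, q_2, q_3, q_4, q_5, q_6, T.m_pos (z 0), T.m_pos (z 1), T.m_pos (z 2), T.m_pos (z 3), T.m_pos (z 4), T.m_pos (z 5), T.m_pos (z 6)]
      · skip
        rw [hp_0_1, hp_0_3, hp_0_5] at q_0
        rw [hp_1_0, hp_1_2] at q_1
        rw [hp_2_1] at q_2
        rw [hp_3_0, hp_3_4] at q_3
        rw [hp_4_3] at q_4
        rw [hp_5_0, hp_5_6] at q_5
        rw [hp_6_5] at q_6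
        rw [hp_0_1, hp_1_0] at we_0_1
        rw [hp_1_2, hp_2_1] at we_1_2
        rw [hp_0_3, hp_3_0] at we_0_3
        rw [hp_3_4, hp_4_3] at we_3_4
        rw [hp_0_5, hp_5_0] at we_0_5
        rw [hp_5_6, hp_6_5] at we_5_6
        exfalso; linarith only [q_0, q_1, q_2, q_3, q_4, q_5, q_6, T.m_pos (z 0), T.m_pos (z 1), T.m_pos (z 2), T.m_pos (z 3), T.m_pos (z 4), T.m_pos (z 5), T.m_pos (z 6)]
      · skip
        rw [hp_0_1, hp_0_3, hp_0_5] at q_0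
        rw [hp_1_0, hp_1_2] at q_1
        rw [hp_2_1] at q_2
        rw [hp_3_0, hp_3_4] at q_3
        rw [hp_4_3] at q_4
        rw [hp_5_0, hp_5_6] at q_5
        rw [hp_6_5] at q_6
        rw [hp_0_1, hp_1_0] at we_0_1
        rw [hp_1_2, hp_2_1] at we_1_2
        rw [hp_0_3, hp_3_0] at we_0_3
        rw [hp_3_4, hp_4_3] at we_3_4
        rw [hp_0_5, hp_5_0] at we_0_5
        rw [hp_5_6, hp_6_5] at we_5_6
        exfalso; linarith only [q_0, q_1, q_2, q_3, q_4, q_5, q_6, T.m_pos (z 0), T.m_pos (z 1), T.m_pos (z 2), T.m_pos (z 3), T.m_pos (z 4), T.m_pos (z 5), T.m_pos (z 6)]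
  · skip
    rcases edge_cases T h2 z hz [0, 3, 4] (by decide) (by decide) (by decide)
      (List.IsChain.cons_cons e_0_3 (List.IsChain.cons_cons e_3_4 (List.IsChain.singleton _))) 1 (by decide) 3 4 rfl rfl with
      ⟨hp_3_4, hp_4_3⟩ | ⟨hp_3_4, hp_4_3⟩ | ⟨hp_3_4, hp_4_3⟩
    · skip
      rcases edge_cases T h2 z hz [0, 5, 6] (by decide) (by decide) (by decide)
        (List.IsChain.cons_cons e_0_5 (List.IsChain.cons_cons e_5_6 (List.IsChain.singleton _))) 1 (by decide) 5 6 rfl rfl with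
        ⟨hp_5_6, hp_6_5⟩ | ⟨hp_5_6, hp_6_5⟩ | ⟨hp_5_6, hp_6_5⟩
      · skip
        rw [hp_0_1, hp_0_3, hp_0_5] at q_0
        rw [hp_1_0, hp_1_2] at q_1
        rw [hp_2_1] at q_2
        rw [hp_3_0, hp_3_4] at q_3
        rw [hp_4_3] at q_4
        rw [hp_5_0, hp_5_6] at q_5
        rw [hp_6_5] at q_6
        rw [hp_0_1, hp_1_0] at we_0_1
        rw [hp_1_2, hp_2_1] at we_1_2
        rw [hp_0_3, hp_3_0] at we_0_3
        rw [hp_3_4, hp_4_3] at we_3_4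
        rw [hp_0_5, hp_5_0] at we_0_5
        rw [hp_5_6, hp_6_5] at we_5_6
        exfalso; linarith only [q_0, q_1, q_2, q_3, q_4, q_5, q_6, T.m_pos (z 0), T.m_pos (z 1), T.m_pos (z 2), T.m_pos (z 3), T.m_pos (z 4), T.m_pos (z 5), T.m_pos (z 6)]
      · skip
        rw [hp_0_1, hp_0_3, hp_0_5] at q_0
        rw [hp_1_0, hp_1_2] at q_1
        rw [hp_2_1] at q_2
        rw [hp_3_0, hp_3_4] at q_3
        rw [hp_4_3] at q_4
        rw [hp_5_0, hp_5_6] at q_5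
        rw [hp_6_5] at q_6
        rw [hp_0_1, hp_1_0] at we_0_1
        rw [hp_1_2, hp_2_1] at we_1_2
        rw [hp_0_3, hp_3_0] at we_0_3
        rw [hp_3_4, hp_4_3] at we_3_4
        rw [hp_0_5, hp_5_0] at we_0_5
        rw [hp_5_6, hp_6_5] at we_5_6
        exfalso; linarith only [q_0, q_1, q_2, q_3, q_4, q_5, q_6, T.m_pos (z 0), T.m_pos (z 1), T.m_pos (z 2), T.m_pos (z 3), T.m_pos (z 4), T.m_pos (z 5), T.m_pos (z 6)]
      · skip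
        rw [hp_0_1, hp_0_3, hp_0_5] at q_0
        rw [hp_1_0, hp_1_2] at q_1
        rw [hp_2_1] at q_2
        rw [hp_3_0, hp_3_4] at q_3
        rw [hp_4_3] at q_4
        rw [hp_5_0, hp_5_6] at q_5
        rw [hp_6_5] at q_6
        rw [hp_0_1, hp_1_0] at we_0_1
        rw [hp_1_2, hp_2_1] at we_1_2
        rw [hp_0_3, hp_3_0] at we_0_3
        rw [hp_3_4, hp_4_3] at we_3_4
        rw [hp_0_5, hp_5_0] at we_0_5
        rw [hp_5_6, hp_6_5] at we_5_6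
        exfalso; linarith only [q_0, q_1, q_2, q_3, q_4, q_5, q_6, T.m_pos (z 0), T.m_pos (z 1), T.m_pos (z 2), T.m_pos (z 3), T.m_pos (z 4), T.m_pos (z 5), T.m_pos (z 6)]
    · skip
      rcases edge_cases T h2 z hz [0, 5, 6] (by decide) (by decide) (by decide)
        (List.IsChain.cons_cons e_0_5 (List.IsChain.cons_cons e_5_6 (List.IsChain.singleton _))) 1 (by decide) 5 6 rfl rfl with
        ⟨hp_5_6, hp_6_5⟩ | ⟨hp_5_6, hp_6_5⟩ | ⟨hp_5_6, hp_6_5⟩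
      · skip
        rw [hp_0_1, hp_0_3, hp_0_5] at q_0
        rw [hp_1_0, hp_1_2] at q_1
        rw [hp_2_1] at q_2
        rw [hp_3_0, hp_3_4] at q_3
        rw [hp_4_3] at q_4
        rw [hp_5_0, hp_5_6] at q_5
        rw [hp_6_5] at q_6
        rw [hp_0_1, hp_1_0] at we_0_1
        rw [hp_1_2, hp_2_1] at we_1_2
        rw [hp_0_3, hp_3_0] at we_0_3
        rw [hp_3_4, hp_4_3] at we_3_4
        rw [hp_0_5, hp_5_0] at we_0_5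
        rw [hp_5_6, hp_6_5] at we_5_6
        exfalso; linarith only [q_0, q_1, q_2, q_3, q_4, q_5, q_6, T.m_pos (z 0), T.m_pos (z 1), T.m_pos (z 2), T.m_pos (z 3), T.m_pos (z 4), T.m_pos (z 5), T.m_pos (z 6)]
      · skip
        rw [hp_0_1, hp_0_3, hp_0_5] at q_0
        rw [hp_1_0, hp_1_2] at q_1
        rw [hp_2_1] at q_2
        rw [hp_3_0, hp_3_4] at q_3
        rw [hp_4_3] at q_4
        rw [hp_5_0, hp_5_6] at q_5
        rw [hp_6_5] at q_6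
        rw [hp_0_1, hp_1_0] at we_0_1
        rw [hp_1_2, hp_2_1] at we_1_2
        rw [hp_0_3, hp_3_0] at we_0_3
        rw [hp_3_4, hp_4_3] at we_3_4
        rw [hp_0_5, hp_5_0] at we_0_5
        rw [hp_5_6, hp_6_5] at we_5_6
        exfalso; linarith only [q_0, q_1, q_2, q_3, q_4, q_5, q_6, T.m_pos (z 0), T.m_pos (z 1), T.m_pos (z 2), T.m_pos (z 3), T.m_pos (z 4), T.m_pos (z 5), T.m_pos (z 6)]
      · skip
        rw [hp_0_1, hp_0_3, hp_0_5] at q_0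
        rw [hp_1_0, hp_1_2] at q_1
        rw [hp_2_1] at q_2
        rw [hp_3_0, hp_3_4] at q_3
        rw [hp_4_3] at q_4
        rw [hp_5_0, hp_5_6] at q_5
        rw [hp_6_5] at q_6
        rw [hp_0_1, hp_1_0] at we_0_1
        rw [hp_1_2, hp_2_1] at we_1_2
        rw [hp_0_3, hp_3_0] at we_0_3
        rw [hp_3_4, hp_4_3] at we_3_4
        rw [hp_0_5, hp_5_0] at we_0_5
        rw [hp_5_6, hp_6_5] at we_5_6
        exfalso; linarith only [q_0, q_1, q_2, q_3, q_4, q_5, q_6, T.m_pos (z 0), T.m_pos (z 1), T.m_pos (z 2), T.m_pos (z 3), T.m_pos (z 4), T.m_pos (z 5), T.m_pos (z 6)]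
    · skip
      rcases edge_cases T h2 z hz [0, 5, 6] (by decide) (by decide) (by decide)
        (List.IsChain.cons_cons e_0_5 (List.IsChain.cons_cons e_5_6 (List.IsChain.singleton _))) 1 (by decide) 5 6 rfl rfl with
        ⟨hp_5_6, hp_6_5⟩ | ⟨hp_5_6, hp_6_5⟩ | ⟨hp_5_6, hp_6_5⟩
      · skip
        rw [hp_0_1, hp_0_3, hp_0_5] at q_0
        rw [hp_1_0, hp_1_2] at q_1
        rw [hp_2_1] at q_2
        rw [hp_3_0, hp_3_4] at q_3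
        rw [hp_4_3] at q_4
        rw [hp_5_0, hp_5_6] at q_5
        rw [hp_6_5] at q_6
        rw [hp_0_1, hp_1_0] at we_0_1
        rw [hp_1_2, hp_2_1] at we_1_2
        rw [hp_0_3, hp_3_0] at we_0_3
        rw [hp_3_4, hp_4_3] at we_3_4
        rw [hp_0_5, hp_5_0] at we_0_5
        rw [hp_5_6, hp_6_5] at we_5_6
        exfalso; linarith only [q_0, q_1, q_2, q_3, q_4, q_5, q_6, T.m_pos (z 0), T.m_pos (z 1), T.m_pos (z 2), T.m_pos (z 3), T.m_pos (z 4), T.m_pos (z 5), T.m_pos (z 6)]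
      · skip
        rw [hp_0_1, hp_0_3, hp_0_5] at q_0
        rw [hp_1_0, hp_1_2] at q_1
        rw [hp_2_1] at q_2
        rw [hp_3_0, hp_3_4] at q_3
        rw [hp_4_3] at q_4
        rw [hp_5_0, hp_5_6] at q_5
        rw [hp_6_5] at q_6
        rw [hp_0_1, hp_1_0] at we_0_1
        rw [hp_1_2, hp_2_1] at we_1_2
        rw [hp_0_3, hp_3_0] at we_0_3
        rw [hp_3_4, hp_4_3] at we_3_4
        rw [hp_0_5, hp_5_0] at we_0_5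
        rw [hp_5_6, hp_6_5] at we_5_6
        exfalso; linarith only [q_0, q_1, q_2, q_3, q_4, q_5, q_6, T.m_pos (z 0), T.m_pos (z 1), T.m_pos (z 2), T.m_pos (z 3), T.m_pos (z 4), T.m_pos (z 5), T.m_pos (z 6)]
      · skip
        rw [hp_0_1, hp_0_3, hp_0_5] at q_0
        rw [hp_1_0, hp_1_2] at q_1
        rw [hp_2_1] at q_2
        rw [hp_3_0, hp_3_4] at q_3
        rw [hp_4_3] at q_4
        rw [hp_5_0, hp_5_6] at q_5
        rw [hp_6_5] at q_6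
        rw [hp_0_1, hp_1_0] at we_0_1
        rw [hp_1_2, hp_2_1] at we_1_2
        rw [hp_0_3, hp_3_0] at we_0_3
        rw [hp_3_4, hp_4_3] at we_3_4
        rw [hp_0_5, hp_5_0] at we_0_5
        rw [hp_5_6, hp_6_5] at we_5_6
        exfalso; linarith only [q_0, q_1, q_2, q_3, q_4, q_5, q_6, T.m_pos (z 0), T.m_pos (z 1), T.m_pos (z 2), T.m_pos (z 3), T.m_pos (z 4), T.m_pos (z 5), T.m_pos (z 6)]

theorem shape7_pathz (T : Models.NumericalType 7) (h2 : ∀ i, T.IsMinusTwo i)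
    (z : Fin 7 → Fin 7) (hz : Function.Injective z)
    (e_0_1 : T.a (z 0) (z 1) ≠ 0) (e_1_2 : T.a (z 1) (z 2) ≠ 0) (e_2_3 : T.a (z 2) (z 3) ≠ 0) (e_3_4 : T.a (z 3) (z 4) ≠ 0) (e_4_5 : T.a (z 4) (z 5) ≠ 0) (e_5_6 : T.a (z 5) (z 6) ≠ 0) (z_0_6 : T.a (z 0) (z 6) = 0) : Goal7 T := by
  have e_1_0 : T.a (z 1) (z 0) ≠ 0 := nsymm T e_0_1
  have e_2_1 : T.a (z 2) (z 1) ≠ 0 := nsymm T e_1_2
  have e_3_2 : T.a (z 3) (z 2) ≠ 0 := nsymm T e_2_3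
  have e_4_3 : T.a (z 4) (z 3) ≠ 0 := nsymm T e_3_4
  have e_5_4 : T.a (z 5) (z 4) ≠ 0 := nsymm T e_4_5
  have e_6_5 : T.a (z 6) (z 5) ≠ 0 := nsymm T e_5_6
  have z_0_2 : T.a (z 0) (z 2) = 0 := nocycList T h2 z hz [0, 1, 2] (by decide) (by decide) (by decide)
    (List.IsChain.cons_cons e_0_1 (List.IsChain.cons_cons e_1_2 (List.IsChain.singleton _))) 0 2 rfl rfl
  have z_2_0 : T.a (z 2) (z 0) = 0 := zsymm T z_0_2
  have z_0_3 : T.a (z 0) (z 3) = 0 := nocycList T h2 z hz [0, 1, 2, 3] (by decide) (by decide) (by decide)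
    (List.IsChain.cons_cons e_0_1 (List.IsChain.cons_cons e_1_2 (List.IsChain.cons_cons e_2_3 (List.IsChain.singleton _)))) 0 3 rfl rfl
  have z_3_0 : T.a (z 3) (z 0) = 0 := zsymm T z_0_3
  have z_0_4 : T.a (z 0) (z 4) = 0 := nocycList T h2 z hz [0, 1, 2, 3, 4] (by decide) (by decide) (by decide)
    (List.IsChain.cons_cons e_0_1 (List.IsChain.cons_cons e_1_2 (List.IsChain.cons_cons e_2_3 (List.IsChain.cons_cons e_3_4 (List.IsChain.singleton _))))) 0 4 rfl rfl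
  have z_4_0 : T.a (z 4) (z 0) = 0 := zsymm T z_0_4
  have z_0_5 : T.a (z 0) (z 5) = 0 := nocycList T h2 z hz [0, 1, 2, 3, 4, 5] (by decide) (by decide) (by decide)
    (List.IsChain.cons_cons e_0_1 (List.IsChain.cons_cons e_1_2 (List.IsChain.cons_cons e_2_3 (List.IsChain.cons_cons e_3_4 (List.IsChain.cons_cons e_4_5 (List.IsChain.singleton _)))))) 0 5 rfl rfl
  have z_5_0 : T.a (z 5) (z 0) = 0 := zsymm T z_0_5
  have z_6_0 : T.a (z 6) (z 0) = 0 := zsymm T z_0_6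
  have z_1_3 : T.a (z 1) (z 3) = 0 := nocycList T h2 z hz [1, 2, 3] (by decide) (by decide) (by decide)
    (List.IsChain.cons_cons e_1_2 (List.IsChain.cons_cons e_2_3 (List.IsChain.singleton _))) 1 3 rfl rfl
  have z_3_1 : T.a (z 3) (z 1) = 0 := zsymm T z_1_3
  have z_1_4 : T.a (z 1) (z 4) = 0 := nocycList T h2 z hz [1, 2, 3, 4] (by decide) (by decide) (by decide)
    (List.IsChain.cons_cons e_1_2 (List.IsChain.cons_cons e_2_3 (List.IsChain.cons_cons e_3_4 (List.IsChain.singleton _)))) 1 4 rfl rfl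
  have z_4_1 : T.a (z 4) (z 1) = 0 := zsymm T z_1_4
  have z_1_5 : T.a (z 1) (z 5) = 0 := nocycList T h2 z hz [1, 2, 3, 4, 5] (by decide) (by decide) (by decide)
    (List.IsChain.cons_cons e_1_2 (List.IsChain.cons_cons e_2_3 (List.IsChain.cons_cons e_3_4 (List.IsChain.cons_cons e_4_5 (List.IsChain.singleton _))))) 1 5 rfl rfl
  have z_5_1 : T.a (z 5) (z 1) = 0 := zsymm T z_1_5
  have z_1_6 : T.a (z 1) (z 6) = 0 := nocycList T h2 z hz [1, 2, 3, 4, 5, 6] (by decide) (by decide) (by decide)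
    (List.IsChain.cons_cons e_1_2 (List.IsChain.cons_cons e_2_3 (List.IsChain.cons_cons e_3_4 (List.IsChain.cons_cons e_4_5 (List.IsChain.cons_cons e_5_6 (List.IsChain.singleton _)))))) 1 6 rfl rfl
  have z_6_1 : T.a (z 6) (z 1) = 0 := zsymm T z_1_6
  have z_2_4 : T.a (z 2) (z 4) = 0 := nocycList T h2 z hz [2, 3, 4] (by decide) (by decide) (by decide)
    (List.IsChain.cons_cons e_2_3 (List.IsChain.cons_cons e_3_4 (List.IsChain.singleton _))) 2 4 rfl rfl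
  have z_4_2 : T.a (z 4) (z 2) = 0 := zsymm T z_2_4
  have z_2_5 : T.a (z 2) (z 5) = 0 := nocycList T h2 z hz [2, 3, 4, 5] (by decide) (by decide) (by decide)
    (List.IsChain.cons_cons e_2_3 (List.IsChain.cons_cons e_3_4 (List.IsChain.cons_cons e_4_5 (List.IsChain.singleton _)))) 2 5 rfl rfl
  have z_5_2 : T.a (z 5) (z 2) = 0 := zsymm T z_2_5
  have z_2_6 : T.a (z 2) (z 6) = 0 := nocycList T h2 z hz [2, 3, 4, 5, 6] (by decide) (by decide) (by decide)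
    (List.IsChain.cons_cons e_2_3 (List.IsChain.cons_cons e_3_4 (List.IsChain.cons_cons e_4_5 (List.IsChain.cons_cons e_5_6 (List.IsChain.singleton _))))) 2 6 rfl rfl
  have z_6_2 : T.a (z 6) (z 2) = 0 := zsymm T z_2_6
  have z_3_5 : T.a (z 3) (z 5) = 0 := nocycList T h2 z hz [3, 4, 5] (by decide) (by decide) (by decide)
    (List.IsChain.cons_cons e_3_4 (List.IsChain.cons_cons e_4_5 (List.IsChain.singleton _))) 3 5 rfl rfl
  have z_5_3 : T.a (z 5) (z 3) = 0 := zsymm T z_3_5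
  have z_3_6 : T.a (z 3) (z 6) = 0 := nocycList T h2 z hz [3, 4, 5, 6] (by decide) (by decide) (by decide)
    (List.IsChain.cons_cons e_3_4 (List.IsChain.cons_cons e_4_5 (List.IsChain.cons_cons e_5_6 (List.IsChain.singleton _)))) 3 6 rfl rfl
  have z_6_3 : T.a (z 6) (z 3) = 0 := zsymm T z_3_6
  have z_4_6 : T.a (z 4) (z 6) = 0 := nocycList T h2 z hz [4, 5, 6] (by decide) (by decide) (by decide)
    (List.IsChain.cons_cons e_4_5 (List.IsChain.cons_cons e_5_6 (List.IsChain.singleton _))) 4 6 rfl rfl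
  have z_6_4 : T.a (z 6) (z 4) = 0 := zsymm T z_4_6
  obtain ⟨hp_1_2, hp_2_1⟩ := mid_edge_one T h2 z hz [0, 1, 2, 3, 4] (by decide) (by decide) (by decide)
    (List.IsChain.cons_cons e_0_1 (List.IsChain.cons_cons e_1_2 (List.IsChain.cons_cons e_2_3 (List.IsChain.cons_cons e_3_4 (List.IsChain.singleton _))))) 1 (by decide) (by decide) 1 2 rfl rfl
  obtain ⟨hp_2_3, hp_3_2⟩ := mid_edge_one T h2 z hz [0, 1, 2, 3, 4] (by decide) (by decide) (by decide)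
    (List.IsChain.cons_cons e_0_1 (List.IsChain.cons_cons e_1_2 (List.IsChain.cons_cons e_2_3 (List.IsChain.cons_cons e_3_4 (List.IsChain.singleton _))))) 2 (by decide) (by decide) 2 3 rfl rfl
  obtain ⟨hp_3_4, hp_4_3⟩ := mid_edge_one T h2 z hz [0, 1, 2, 3, 4, 5] (by decide) (by decide) (by decide)
    (List.IsChain.cons_cons e_0_1 (List.IsChain.cons_cons e_1_2 (List.IsChain.cons_cons e_2_3 (List.IsChain.cons_cons e_3_4 (List.IsChain.cons_cons e_4_5 (List.IsChain.singleton _)))))) 3 (by decide) (by decide) 3 4 rfl rfl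
  obtain ⟨hp_4_5, hp_5_4⟩ := mid_edge_one T h2 z hz [1, 2, 3, 4, 5, 6] (by decide) (by decide) (by decide)
    (List.IsChain.cons_cons e_1_2 (List.IsChain.cons_cons e_2_3 (List.IsChain.cons_cons e_3_4 (List.IsChain.cons_cons e_4_5 (List.IsChain.cons_cons e_5_6 (List.IsChain.singleton _)))))) 3 (by decide) (by decide) 4 5 rfl rfl
  have we_0_1 := w_pp T (z 0) (z 1)
  have we_1_2 := w_pp T (z 1) (z 2)
  have we_2_3 := w_pp T (z 2) (z 3)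
  have we_3_4 := w_pp T (z 3) (z 4)
  have we_4_5 := w_pp T (z 4) (z 5)
  have we_5_6 := w_pp T (z 5) (z 6)
  have r_0 := row7 T z hz (z 0)
  rw [(h2 (z 0)).2, a_eq_pp T (z 0) (z 1), z_0_2, z_0_3, z_0_4, z_0_5, z_0_6] at r_0
  have q_0 : pp T (z 0) (z 1) * T.m (z 1) = 2 * T.m (z 0) :=
    mul_left_cancel₀ (T.w_pos (z 0)).ne' (by linear_combination r_0)
  clear r_0
  have r_1 := row7 T z hz (z 1)
  rw [a_eq_pp T (z 1) (z 0), (h2 (z 1)).2, a_eq_pp T (z 1) (z 2), z_1_3, z_1_4, z_1_5, z_1_6] at r_1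
  have q_1 : pp T (z 1) (z 0) * T.m (z 0) + pp T (z 1) (z 2) * T.m (z 2) = 2 * T.m (z 1) :=
    mul_left_cancel₀ (T.w_pos (z 1)).ne' (by linear_combination r_1)
  clear r_1
  have r_2 := row7 T z hz (z 2)
  rw [z_2_0, a_eq_pp T (z 2) (z 1), (h2 (z 2)).2, a_eq_pp T (z 2) (z 3), z_2_4, z_2_5, z_2_6] at r_2
  have q_2 : pp T (z 2) (z 1) * T.m (z 1) + pp T (z 2) (z 3) * T.m (z 3) = 2 * T.m (z 2) :=
    mul_left_cancel₀ (T.w_pos (z 2)).ne' (by linear_combination r_2)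
  clear r_2
  have r_3 := row7 T z hz (z 3)
  rw [z_3_0, z_3_1, a_eq_pp T (z 3) (z 2), (h2 (z 3)).2, a_eq_pp T (z 3) (z 4), z_3_5, z_3_6] at r_3
  have q_3 : pp T (z 3) (z 2) * T.m (z 2) + pp T (z 3) (z 4) * T.m (z 4) = 2 * T.m (z 3) :=
    mul_left_cancel₀ (T.w_pos (z 3)).ne' (by linear_combination r_3)
  clear r_3
  have r_4 := row7 T z hz (z 4)
  rw [z_4_0, z_4_1, z_4_2, a_eq_pp T (z 4) (z 3), (h2 (z 4)).2, a_eq_pp T (z 4) (z 5), z_4_6] at r_4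
  have q_4 : pp T (z 4) (z 3) * T.m (z 3) + pp T (z 4) (z 5) * T.m (z 5) = 2 * T.m (z 4) :=
    mul_left_cancel₀ (T.w_pos (z 4)).ne' (by linear_combination r_4)
  clear r_4
  have r_5 := row7 T z hz (z 5)
  rw [z_5_0, z_5_1, z_5_2, z_5_3, a_eq_pp T (z 5) (z 4), (h2 (z 5)).2, a_eq_pp T (z 5) (z 6)] at r_5
  have q_5 : pp T (z 5) (z 4) * T.m (z 4) + pp T (z 5) (z 6) * T.m (z 6) = 2 * T.m (z 5) :=
    mul_left_cancel₀ (T.w_pos (z 5)).ne' (by linear_combination r_5)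
  clear r_5
  have r_6 := row7 T z hz (z 6)
  rw [z_6_0, z_6_1, z_6_2, z_6_3, z_6_4, a_eq_pp T (z 6) (z 5), (h2 (z 6)).2] at r_6
  have q_6 : pp T (z 6) (z 5) * T.m (z 5) = 2 * T.m (z 6) :=
    mul_left_cancel₀ (T.w_pos (z 6)).ne' (by linear_combination r_6)
  clear r_6
  rcases edge_cases T h2 z hz [0, 1, 2] (by decide) (by decide) (by decide)
    (List.IsChain.cons_cons e_0_1 (List.IsChain.cons_cons e_1_2 (List.IsChain.singleton _))) 0 (by decide) 0 1 rfl rfl with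
    ⟨hp_0_1, hp_1_0⟩ | ⟨hp_0_1, hp_1_0⟩ | ⟨hp_0_1, hp_1_0⟩
  · skip
    rcases edge_cases T h2 z hz [1, 2, 3, 4, 5, 6] (by decide) (by decide) (by decide)
      (List.IsChain.cons_cons e_1_2 (List.IsChain.cons_cons e_2_3 (List.IsChain.cons_cons e_3_4 (List.IsChain.cons_cons e_4_5 (List.IsChain.cons_cons e_5_6 (List.IsChain.singleton _)))))) 4 (by decide) 5 6 rfl rfl with
      ⟨hp_5_6, hp_6_5⟩ | ⟨hp_5_6, hp_6_5⟩ | ⟨hp_5_6, hp_6_5⟩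
    · skip
      rw [hp_0_1] at q_0
      rw [hp_1_0, hp_1_2] at q_1
      rw [hp_2_1, hp_2_3] at q_2
      rw [hp_3_2, hp_3_4] at q_3
      rw [hp_4_3, hp_4_5] at q_4
      rw [hp_5_4, hp_5_6] at q_5
      rw [hp_6_5] at q_6
      rw [hp_0_1, hp_1_0] at we_0_1
      rw [hp_1_2, hp_2_1] at we_1_2
      rw [hp_2_3, hp_3_2] at we_2_3
      rw [hp_3_4, hp_4_3] at we_3_4
      rw [hp_4_5, hp_5_4] at we_4_5
      rw [hp_5_6, hp_6_5] at we_5_6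
      exfalso; linarith only [q_0, q_1, q_2, q_3, q_4, q_5, q_6, T.m_pos (z 0), T.m_pos (z 1), T.m_pos (z 2), T.m_pos (z 3), T.m_pos (z 4), T.m_pos (z 5), T.m_pos (z 6)]
    · skip
      rw [hp_0_1] at q_0
      rw [hp_1_0, hp_1_2] at q_1
      rw [hp_2_1, hp_2_3] at q_2
      rw [hp_3_2, hp_3_4] at q_3
      rw [hp_4_3, hp_4_5] at q_4
      rw [hp_5_4, hp_5_6] at q_5
      rw [hp_6_5] at q_6
      rw [hp_0_1, hp_1_0] at we_0_1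
      rw [hp_1_2, hp_2_1] at we_1_2
      rw [hp_2_3, hp_3_2] at we_2_3
      rw [hp_3_4, hp_4_3] at we_3_4
      rw [hp_4_5, hp_5_4] at we_4_5
      rw [hp_5_6, hp_6_5] at we_5_6
      exfalso; linarith only [q_0, q_1, q_2, q_3, q_4, q_5, q_6, T.m_pos (z 0), T.m_pos (z 1), T.m_pos (z 2), T.m_pos (z 3), T.m_pos (z 4), T.m_pos (z 5), T.m_pos (z 6)]
    · skip
      rw [hp_0_1] at q_0
      rw [hp_1_0, hp_1_2] at q_1
      rw [hp_2_1, hp_2_3] at q_2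
      rw [hp_3_2, hp_3_4] at q_3
      rw [hp_4_3, hp_4_5] at q_4
      rw [hp_5_4, hp_5_6] at q_5
      rw [hp_6_5] at q_6
      rw [hp_0_1, hp_1_0] at we_0_1
      rw [hp_1_2, hp_2_1] at we_1_2
      rw [hp_2_3, hp_3_2] at we_2_3
      rw [hp_3_4, hp_4_3] at we_3_4
      rw [hp_4_5, hp_5_4] at we_4_5
      rw [hp_5_6, hp_6_5] at we_5_6
      exfalso; linarith only [q_0, q_1, q_2, q_3, q_4, q_5, q_6, T.m_pos (z 0), T.m_pos (z 1), T.m_pos (z 2), T.m_pos (z 3), T.m_pos (z 4), T.m_pos (z 5), T.m_pos (z 6)]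
  · skip
    rcases edge_cases T h2 z hz [1, 2, 3, 4, 5, 6] (by decide) (by decide) (by decide)
      (List.IsChain.cons_cons e_1_2 (List.IsChain.cons_cons e_2_3 (List.IsChain.cons_cons e_3_4 (List.IsChain.cons_cons e_4_5 (List.IsChain.cons_cons e_5_6 (List.IsChain.singleton _)))))) 4 (by decide) 5 6 rfl rfl with
      ⟨hp_5_6, hp_6_5⟩ | ⟨hp_5_6, hp_6_5⟩ | ⟨hp_5_6, hp_6_5⟩
    · skip
      rw [hp_0_1] at q_0
      rw [hp_1_0, hp_1_2] at q_1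
      rw [hp_2_1, hp_2_3] at q_2
      rw [hp_3_2, hp_3_4] at q_3
      rw [hp_4_3, hp_4_5] at q_4
      rw [hp_5_4, hp_5_6] at q_5
      rw [hp_6_5] at q_6
      rw [hp_0_1, hp_1_0] at we_0_1
      rw [hp_1_2, hp_2_1] at we_1_2
      rw [hp_2_3, hp_3_2] at we_2_3
      rw [hp_3_4, hp_4_3] at we_3_4
      rw [hp_4_5, hp_5_4] at we_4_5
      rw [hp_5_6, hp_6_5] at we_5_6
      exfalso; linarith only [q_0, q_1, q_2, q_3, q_4, q_5, q_6, T.m_pos (z 0), T.m_pos (z 1), T.m_pos (z 2), T.m_pos (z 3), T.m_pos (z 4), T.m_pos (z 5), T.m_pos (z 6)]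
    · skip
      rw [hp_0_1] at q_0
      rw [hp_1_0, hp_1_2] at q_1
      rw [hp_2_1, hp_2_3] at q_2
      rw [hp_3_2, hp_3_4] at q_3
      rw [hp_4_3, hp_4_5] at q_4
      rw [hp_5_4, hp_5_6] at q_5
      rw [hp_6_5] at q_6
      rw [hp_0_1, hp_1_0] at we_0_1
      rw [hp_1_2, hp_2_1] at we_1_2
      rw [hp_2_3, hp_3_2] at we_2_3
      rw [hp_3_4, hp_4_3] at we_3_4
      rw [hp_4_5, hp_5_4] at we_4_5
      rw [hp_5_6, hp_6_5] at we_5_6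
      obtain ⟨σ, hσ⟩ := permOf (fun i => z (![0, 1, 2, 3, 4, 5, 6] i)) (hz.comp (by decide))
      have s0 : σ 0 = z 0 := hσ 0
      have s1 : σ 1 = z 1 := hσ 1
      have s2 : σ 2 = z 2 := hσ 2
      have s3 : σ 3 = z 3 := hσ 3
      have s4 : σ 4 = z 4 := hσ 4
      have s5 : σ 5 = z 5 := hσ 5
      have s6 : σ 6 = z 6 := hσ 6
      unfold Goal7
      refine ⟨σ, T.m (z 6), T.w (z 0), Or.inr (Or.inl ⟨?_, ?_, ?_, ?_, ?_, ?_, ?_, ?_, ?_, ?_, ?_, ?_, ?_, ?_, ?_, ?_, ?_, ?_, ?_, ?_, ?_, ?_, ?_, ?_, ?_, ?_, ?_, ?_, ?_, ?_, ?_, ?_, ?_, ?_, ?_, ?_, ?_, ?_, ?_, ?_, ?_, ?_⟩)⟩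
      · rw [s0] <;> linarith only [q_0, q_1, q_2, q_3, q_4, q_5, q_6]
      · rw [s1] <;> linarith only [q_0, q_1, q_2, q_3, q_4, q_5, q_6]
      · rw [s2] <;> linarith only [q_0, q_1, q_2, q_3, q_4, q_5, q_6]
      · rw [s3] <;> linarith only [q_0, q_1, q_2, q_3, q_4, q_5, q_6]
      · rw [s4] <;> linarith only [q_0, q_1, q_2, q_3, q_4, q_5, q_6]
      · rw [s5] <;> linarith only [q_0, q_1, q_2, q_3, q_4, q_5, q_6]
      · rw [s6] <;> linarith only [q_0, q_1, q_2, q_3, q_4, q_5, q_6]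
      · rw [s0] <;> linarith only [we_0_1, we_1_2, we_2_3, we_3_4, we_4_5, we_5_6]
      · rw [s1] <;> linarith only [we_0_1, we_1_2, we_2_3, we_3_4, we_4_5, we_5_6]
      · rw [s2] <;> linarith only [we_0_1, we_1_2, we_2_3, we_3_4, we_4_5, we_5_6]
      · rw [s3] <;> linarith only [we_0_1, we_1_2, we_2_3, we_3_4, we_4_5, we_5_6]
      · rw [s4] <;> linarith only [we_0_1, we_1_2, we_2_3, we_3_4, we_4_5, we_5_6]
      · rw [s5] <;> linarith only [we_0_1, we_1_2, we_2_3, we_3_4, we_4_5, we_5_6]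
      · rw [s6] <;> linarith only [we_0_1, we_1_2, we_2_3, we_3_4, we_4_5, we_5_6]
      · rw [s0, (h2 (z 0)).2] <;> linarith only [we_0_1, we_1_2, we_2_3, we_3_4, we_4_5, we_5_6]
      · rw [s0, s1, a_eq_pp T (z 0) (z 1), hp_0_1] <;> linarith only [we_0_1, we_1_2, we_2_3, we_3_4, we_4_5, we_5_6]
      · rw [s0, s2, z_0_2]
      · rw [s0, s3, z_0_3]
      · rw [s0, s4, z_0_4]
      · rw [s0, s5, z_0_5]
      · rw [s0, s6, z_0_6]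
      · rw [s1, (h2 (z 1)).2] <;> linarith only [we_0_1, we_1_2, we_2_3, we_3_4, we_4_5, we_5_6]
      · rw [s1, s2, a_eq_pp T (z 1) (z 2), hp_1_2] <;> linarith only [we_0_1, we_1_2, we_2_3, we_3_4, we_4_5, we_5_6]
      · rw [s1, s3, z_1_3]
      · rw [s1, s4, z_1_4]
      · rw [s1, s5, z_1_5]
      · rw [s1, s6, z_1_6]
      · rw [s2, (h2 (z 2)).2] <;> linarith only [we_0_1, we_1_2, we_2_3, we_3_4, we_4_5, we_5_6]
      · rw [s2, s3, a_eq_pp T (z 2) (z 3), hp_2_3] <;> linarith only [we_0_1, we_1_2, we_2_3, we_3_4, we_4_5, we_5_6]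
      · rw [s2, s4, z_2_4]
      · rw [s2, s5, z_2_5]
      · rw [s2, s6, z_2_6]
      · rw [s3, (h2 (z 3)).2] <;> linarith only [we_0_1, we_1_2, we_2_3, we_3_4, we_4_5, we_5_6]
      · rw [s3, s4, a_eq_pp T (z 3) (z 4), hp_3_4] <;> linarith only [we_0_1, we_1_2, we_2_3, we_3_4, we_4_5, we_5_6]
      · rw [s3, s5, z_3_5]
      · rw [s3, s6, z_3_6]
      · rw [s4, (h2 (z 4)).2] <;> linarith only [we_0_1, we_1_2, we_2_3, we_3_4, we_4_5, we_5_6]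
      · rw [s4, s5, a_eq_pp T (z 4) (z 5), hp_4_5] <;> linarith only [we_0_1, we_1_2, we_2_3, we_3_4, we_4_5, we_5_6]
      · rw [s4, s6, z_4_6]
      · rw [s5, (h2 (z 5)).2] <;> linarith only [we_0_1, we_1_2, we_2_3, we_3_4, we_4_5, we_5_6]
      · rw [s5, s6, a_eq_pp T (z 5) (z 6), hp_5_6] <;> linarith only [we_0_1, we_1_2, we_2_3, we_3_4, we_4_5, we_5_6]
      · rw [s6, (h2 (z 6)).2] <;> linarith only [we_0_1, we_1_2, we_2_3, we_3_4, we_4_5, we_5_6]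
    · skip
      rw [hp_0_1] at q_0
      rw [hp_1_0, hp_1_2] at q_1
      rw [hp_2_1, hp_2_3] at q_2
      rw [hp_3_2, hp_3_4] at q_3
      rw [hp_4_3, hp_4_5] at q_4
      rw [hp_5_4, hp_5_6] at q_5
      rw [hp_6_5] at q_6
      rw [hp_0_1, hp_1_0] at we_0_1
      rw [hp_1_2, hp_2_1] at we_1_2
      rw [hp_2_3, hp_3_2] at we_2_3
      rw [hp_3_4, hp_4_3] at we_3_4
      rw [hp_4_5, hp_5_4] at we_4_5
      rw [hp_5_6, hp_6_5] at we_5_6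
      obtain ⟨σ, hσ⟩ := permOf (fun i => z (![0, 1, 2, 3, 4, 5, 6] i)) (hz.comp (by decide))
      have s0 : σ 0 = z 0 := hσ 0
      have s1 : σ 1 = z 1 := hσ 1
      have s2 : σ 2 = z 2 := hσ 2
      have s3 : σ 3 = z 3 := hσ 3
      have s4 : σ 4 = z 4 := hσ 4
      have s5 : σ 5 = z 5 := hσ 5
      have s6 : σ 6 = z 6 := hσ 6
      unfold Goal7
      refine ⟨σ, T.m (z 0), T.w (z 0), Or.inr (Or.inr (Or.inl ⟨?_, ?_, ?_, ?_, ?_, ?_, ?_, ?_, ?_, ?_, ?_, ?_, ?_, ?_, ?_, ?_, ?_, ?_, ?_, ?_, ?_, ?_, ?_, ?_, ?_, ?_, ?_, ?_, ?_, ?_, ?_, ?_, ?_, ?_, ?_, ?_, ?_, ?_, ?_, ?_, ?_, ?_⟩))⟩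
      · rw [s0] <;> linarith only [q_0, q_1, q_2, q_3, q_4, q_5, q_6]
      · rw [s1] <;> linarith only [q_0, q_1, q_2, q_3, q_4, q_5, q_6]
      · rw [s2] <;> linarith only [q_0, q_1, q_2, q_3, q_4, q_5, q_6]
      · rw [s3] <;> linarith only [q_0, q_1, q_2, q_3, q_4, q_5, q_6]
      · rw [s4] <;> linarith only [q_0, q_1, q_2, q_3, q_4, q_5, q_6]
      · rw [s5] <;> linarith only [q_0, q_1, q_2, q_3, q_4, q_5, q_6]
      · rw [s6] <;> linarith only [q_0, q_1, q_2, q_3, q_4, q_5, q_6]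
      · rw [s0] <;> linarith only [we_0_1, we_1_2, we_2_3, we_3_4, we_4_5, we_5_6]
      · rw [s1] <;> linarith only [we_0_1, we_1_2, we_2_3, we_3_4, we_4_5, we_5_6]
      · rw [s2] <;> linarith only [we_0_1, we_1_2, we_2_3, we_3_4, we_4_5, we_5_6]
      · rw [s3] <;> linarith only [we_0_1, we_1_2, we_2_3, we_3_4, we_4_5, we_5_6]
      · rw [s4] <;> linarith only [we_0_1, we_1_2, we_2_3, we_3_4, we_4_5, we_5_6]
      · rw [s5] <;> linarith only [we_0_1, we_1_2, we_2_3, we_3_4, we_4_5, we_5_6]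
      · rw [s6] <;> linarith only [we_0_1, we_1_2, we_2_3, we_3_4, we_4_5, we_5_6]
      · rw [s0, (h2 (z 0)).2] <;> linarith only [we_0_1, we_1_2, we_2_3, we_3_4, we_4_5, we_5_6]
      · rw [s0, s1, a_eq_pp T (z 0) (z 1), hp_0_1] <;> linarith only [we_0_1, we_1_2, we_2_3, we_3_4, we_4_5, we_5_6]
      · rw [s0, s2, z_0_2]
      · rw [s0, s3, z_0_3]
      · rw [s0, s4, z_0_4]
      · rw [s0, s5, z_0_5]
      · rw [s0, s6, z_0_6]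
      · rw [s1, (h2 (z 1)).2] <;> linarith only [we_0_1, we_1_2, we_2_3, we_3_4, we_4_5, we_5_6]
      · rw [s1, s2, a_eq_pp T (z 1) (z 2), hp_1_2] <;> linarith only [we_0_1, we_1_2, we_2_3, we_3_4, we_4_5, we_5_6]
      · rw [s1, s3, z_1_3]
      · rw [s1, s4, z_1_4]
      · rw [s1, s5, z_1_5]
      · rw [s1, s6, z_1_6]
      · rw [s2, (h2 (z 2)).2] <;> linarith only [we_0_1, we_1_2, we_2_3, we_3_4, we_4_5, we_5_6]
      · rw [s2, s3, a_eq_pp T (z 2) (z 3), hp_2_3] <;> linarith only [we_0_1, we_1_2, we_2_3, we_3_4, we_4_5, we_5_6]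
      · rw [s2, s4, z_2_4]
      · rw [s2, s5, z_2_5]
      · rw [s2, s6, z_2_6]
      · rw [s3, (h2 (z 3)).2] <;> linarith only [we_0_1, we_1_2, we_2_3, we_3_4, we_4_5, we_5_6]
      · rw [s3, s4, a_eq_pp T (z 3) (z 4), hp_3_4] <;> linarith only [we_0_1, we_1_2, we_2_3, we_3_4, we_4_5, we_5_6]
      · rw [s3, s5, z_3_5]
      · rw [s3, s6, z_3_6]
      · rw [s4, (h2 (z 4)).2] <;> linarith only [we_0_1, we_1_2, we_2_3, we_3_4, we_4_5, we_5_6]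
      · rw [s4, s5, a_eq_pp T (z 4) (z 5), hp_4_5] <;> linarith only [we_0_1, we_1_2, we_2_3, we_3_4, we_4_5, we_5_6]
      · rw [s4, s6, z_4_6]
      · rw [s5, (h2 (z 5)).2] <;> linarith only [we_0_1, we_1_2, we_2_3, we_3_4, we_4_5, we_5_6]
      · rw [s5, s6, a_eq_pp T (z 5) (z 6), hp_5_6] <;> linarith only [we_0_1, we_1_2, we_2_3, we_3_4, we_4_5, we_5_6]
      · rw [s6, (h2 (z 6)).2] <;> linarith only [we_0_1, we_1_2, we_2_3, we_3_4, we_4_5, we_5_6]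
  · skip
    rcases edge_cases T h2 z hz [1, 2, 3, 4, 5, 6] (by decide) (by decide) (by decide)
      (List.IsChain.cons_cons e_1_2 (List.IsChain.cons_cons e_2_3 (List.IsChain.cons_cons e_3_4 (List.IsChain.cons_cons e_4_5 (List.IsChain.cons_cons e_5_6 (List.IsChain.singleton _)))))) 4 (by decide) 5 6 rfl rfl with
      ⟨hp_5_6, hp_6_5⟩ | ⟨hp_5_6, hp_6_5⟩ | ⟨hp_5_6, hp_6_5⟩
    · skip
      rw [hp_0_1] at q_0
      rw [hp_1_0, hp_1_2] at q_1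
      rw [hp_2_1, hp_2_3] at q_2
      rw [hp_3_2, hp_3_4] at q_3
      rw [hp_4_3, hp_4_5] at q_4
      rw [hp_5_4, hp_5_6] at q_5
      rw [hp_6_5] at q_6
      rw [hp_0_1, hp_1_0] at we_0_1
      rw [hp_1_2, hp_2_1] at we_1_2
      rw [hp_2_3, hp_3_2] at we_2_3
      rw [hp_3_4, hp_4_3] at we_3_4
      rw [hp_4_5, hp_5_4] at we_4_5
      rw [hp_5_6, hp_6_5] at we_5_6
      exfalso; linarith only [q_0, q_1, q_2, q_3, q_4, q_5, q_6, T.m_pos (z 0), T.m_pos (z 1), T.m_pos (z 2), T.m_pos (z 3), T.m_pos (z 4), T.m_pos (z 5), T.m_pos (z 6)]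
    · skip
      rw [hp_0_1] at q_0
      rw [hp_1_0, hp_1_2] at q_1
      rw [hp_2_1, hp_2_3] at q_2
      rw [hp_3_2, hp_3_4] at q_3
      rw [hp_4_3, hp_4_5] at q_4
      rw [hp_5_4, hp_5_6] at q_5
      rw [hp_6_5] at q_6
      rw [hp_0_1, hp_1_0] at we_0_1
      rw [hp_1_2, hp_2_1] at we_1_2
      rw [hp_2_3, hp_3_2] at we_2_3
      rw [hp_3_4, hp_4_3] at we_3_4
      rw [hp_4_5, hp_5_4] at we_4_5
      rw [hp_5_6, hp_6_5] at we_5_6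
      obtain ⟨σ, hσ⟩ := permOf (fun i => z (![0, 1, 2, 3, 4, 5, 6] i)) (hz.comp (by decide))
      have s0 : σ 0 = z 0 := hσ 0
      have s1 : σ 1 = z 1 := hσ 1
      have s2 : σ 2 = z 2 := hσ 2
      have s3 : σ 3 = z 3 := hσ 3
      have s4 : σ 4 = z 4 := hσ 4
      have s5 : σ 5 = z 5 := hσ 5
      have s6 : σ 6 = z 6 := hσ 6
      unfold Goal7
      refine ⟨σ, T.m (z 0), T.w (z 1), Or.inr (Or.inr (Or.inr (Or.inl ⟨?_, ?_, ?_, ?_, ?_, ?_, ?_, ?_, ?_, ?_, ?_, ?_, ?_, ?_, ?_, ?_, ?_, ?_, ?_, ?_, ?_, ?_, ?_, ?_, ?_, ?_, ?_, ?_, ?_, ?_, ?_, ?_, ?_, ?_, ?_, ?_, ?_, ?_, ?_, ?_, ?_, ?_⟩)))⟩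
      · rw [s0] <;> linarith only [q_0, q_1, q_2, q_3, q_4, q_5, q_6]
      · rw [s1] <;> linarith only [q_0, q_1, q_2, q_3, q_4, q_5, q_6]
      · rw [s2] <;> linarith only [q_0, q_1, q_2, q_3, q_4, q_5, q_6]
      · rw [s3] <;> linarith only [q_0, q_1, q_2, q_3, q_4, q_5, q_6]
      · rw [s4] <;> linarith only [q_0, q_1, q_2, q_3, q_4, q_5, q_6]
      · rw [s5] <;> linarith only [q_0, q_1, q_2, q_3, q_4, q_5, q_6]
      · rw [s6] <;> linarith only [q_0, q_1, q_2, q_3, q_4, q_5, q_6]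
      · rw [s0] <;> linarith only [we_0_1, we_1_2, we_2_3, we_3_4, we_4_5, we_5_6]
      · rw [s1] <;> linarith only [we_0_1, we_1_2, we_2_3, we_3_4, we_4_5, we_5_6]
      · rw [s2] <;> linarith only [we_0_1, we_1_2, we_2_3, we_3_4, we_4_5, we_5_6]
      · rw [s3] <;> linarith only [we_0_1, we_1_2, we_2_3, we_3_4, we_4_5, we_5_6]
      · rw [s4] <;> linarith only [we_0_1, we_1_2, we_2_3, we_3_4, we_4_5, we_5_6]
      · rw [s5] <;> linarith only [we_0_1, we_1_2, we_2_3, we_3_4, we_4_5, we_5_6]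
      · rw [s6] <;> linarith only [we_0_1, we_1_2, we_2_3, we_3_4, we_4_5, we_5_6]
      · rw [s0, (h2 (z 0)).2] <;> linarith only [we_0_1, we_1_2, we_2_3, we_3_4, we_4_5, we_5_6]
      · rw [s0, s1, a_eq_pp T (z 0) (z 1), hp_0_1] <;> linarith only [we_0_1, we_1_2, we_2_3, we_3_4, we_4_5, we_5_6]
      · rw [s0, s2, z_0_2]
      · rw [s0, s3, z_0_3]
      · rw [s0, s4, z_0_4]
      · rw [s0, s5, z_0_5]
      · rw [s0, s6, z_0_6]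
      · rw [s1, (h2 (z 1)).2] <;> linarith only [we_0_1, we_1_2, we_2_3, we_3_4, we_4_5, we_5_6]
      · rw [s1, s2, a_eq_pp T (z 1) (z 2), hp_1_2] <;> linarith only [we_0_1, we_1_2, we_2_3, we_3_4, we_4_5, we_5_6]
      · rw [s1, s3, z_1_3]
      · rw [s1, s4, z_1_4]
      · rw [s1, s5, z_1_5]
      · rw [s1, s6, z_1_6]
      · rw [s2, (h2 (z 2)).2] <;> linarith only [we_0_1, we_1_2, we_2_3, we_3_4, we_4_5, we_5_6]
      · rw [s2, s3, a_eq_pp T (z 2) (z 3), hp_2_3] <;> linarith only [we_0_1, we_1_2, we_2_3, we_3_4, we_4_5, we_5_6]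
      · rw [s2, s4, z_2_4]
      · rw [s2, s5, z_2_5]
      · rw [s2, s6, z_2_6]
      · rw [s3, (h2 (z 3)).2] <;> linarith only [we_0_1, we_1_2, we_2_3, we_3_4, we_4_5, we_5_6]
      · rw [s3, s4, a_eq_pp T (z 3) (z 4), hp_3_4] <;> linarith only [we_0_1, we_1_2, we_2_3, we_3_4, we_4_5, we_5_6]
      · rw [s3, s5, z_3_5]
      · rw [s3, s6, z_3_6]
      · rw [s4, (h2 (z 4)).2] <;> linarith only [we_0_1, we_1_2, we_2_3, we_3_4, we_4_5, we_5_6]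
      · rw [s4, s5, a_eq_pp T (z 4) (z 5), hp_4_5] <;> linarith only [we_0_1, we_1_2, we_2_3, we_3_4, we_4_5, we_5_6]
      · rw [s4, s6, z_4_6]
      · rw [s5, (h2 (z 5)).2] <;> linarith only [we_0_1, we_1_2, we_2_3, we_3_4, we_4_5, we_5_6]
      · rw [s5, s6, a_eq_pp T (z 5) (z 6), hp_5_6] <;> linarith only [we_0_1, we_1_2, we_2_3, we_3_4, we_4_5, we_5_6]
      · rw [s6, (h2 (z 6)).2] <;> linarith only [we_0_1, we_1_2, we_2_3, we_3_4, we_4_5, we_5_6]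
    · skip
      rw [hp_0_1] at q_0
      rw [hp_1_0, hp_1_2] at q_1
      rw [hp_2_1, hp_2_3] at q_2
      rw [hp_3_2, hp_3_4] at q_3
      rw [hp_4_3, hp_4_5] at q_4
      rw [hp_5_4, hp_5_6] at q_5
      rw [hp_6_5] at q_6
      rw [hp_0_1, hp_1_0] at we_0_1
      rw [hp_1_2, hp_2_1] at we_1_2
      rw [hp_2_3, hp_3_2] at we_2_3
      rw [hp_3_4, hp_4_3] at we_3_4
      rw [hp_4_5, hp_5_4] at we_4_5
      rw [hp_5_6, hp_6_5] at we_5_6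
      obtain ⟨σ, hσ⟩ := permOf (fun i => z (![6, 5, 4, 3, 2, 1, 0] i)) (hz.comp (by decide))
      have s0 : σ 0 = z 6 := hσ 0
      have s1 : σ 1 = z 5 := hσ 1
      have s2 : σ 2 = z 4 := hσ 2
      have s3 : σ 3 = z 3 := hσ 3
      have s4 : σ 4 = z 2 := hσ 4
      have s5 : σ 5 = z 1 := hσ 5
      have s6 : σ 6 = z 0 := hσ 6
      unfold Goal7
      refine ⟨σ, T.m (z 0), T.w (z 6), Or.inr (Or.inl ⟨?_, ?_, ?_, ?_, ?_, ?_, ?_, ?_, ?_, ?_, ?_, ?_, ?_, ?_, ?_, ?_, ?_, ?_, ?_, ?_, ?_, ?_, ?_, ?_, ?_, ?_, ?_, ?_, ?_, ?_, ?_, ?_, ?_, ?_, ?_, ?_, ?_, ?_, ?_, ?_, ?_, ?_⟩)⟩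
      · rw [s0] <;> linarith only [q_0, q_1, q_2, q_3, q_4, q_5, q_6]
      · rw [s1] <;> linarith only [q_0, q_1, q_2, q_3, q_4, q_5, q_6]
      · rw [s2] <;> linarith only [q_0, q_1, q_2, q_3, q_4, q_5, q_6]
      · rw [s3] <;> linarith only [q_0, q_1, q_2, q_3, q_4, q_5, q_6]
      · rw [s4] <;> linarith only [q_0, q_1, q_2, q_3, q_4, q_5, q_6]
      · rw [s5] <;> linarith only [q_0, q_1, q_2, q_3, q_4, q_5, q_6]
      · rw [s6] <;> linarith only [q_0, q_1, q_2, q_3, q_4, q_5, q_6]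
      · rw [s0] <;> linarith only [we_0_1, we_1_2, we_2_3, we_3_4, we_4_5, we_5_6]
      · rw [s1] <;> linarith only [we_0_1, we_1_2, we_2_3, we_3_4, we_4_5, we_5_6]
      · rw [s2] <;> linarith only [we_0_1, we_1_2, we_2_3, we_3_4, we_4_5, we_5_6]
      · rw [s3] <;> linarith only [we_0_1, we_1_2, we_2_3, we_3_4, we_4_5, we_5_6]
      · rw [s4] <;> linarith only [we_0_1, we_1_2, we_2_3, we_3_4, we_4_5, we_5_6]
      · rw [s5] <;> linarith only [we_0_1, we_1_2, we_2_3, we_3_4, we_4_5, we_5_6]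
      · rw [s6] <;> linarith only [we_0_1, we_1_2, we_2_3, we_3_4, we_4_5, we_5_6]
      · rw [s0, (h2 (z 6)).2] <;> linarith only [we_0_1, we_1_2, we_2_3, we_3_4, we_4_5, we_5_6]
      · rw [s0, s1, a_eq_pp T (z 6) (z 5), hp_6_5] <;> linarith only [we_0_1, we_1_2, we_2_3, we_3_4, we_4_5, we_5_6]
      · rw [s0, s2, z_6_4]
      · rw [s0, s3, z_6_3]
      · rw [s0, s4, z_6_2]
      · rw [s0, s5, z_6_1]
      · rw [s0, s6, z_6_0]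
      · rw [s1, (h2 (z 5)).2] <;> linarith only [we_0_1, we_1_2, we_2_3, we_3_4, we_4_5, we_5_6]
      · rw [s1, s2, a_eq_pp T (z 5) (z 4), hp_5_4] <;> linarith only [we_0_1, we_1_2, we_2_3, we_3_4, we_4_5, we_5_6]
      · rw [s1, s3, z_5_3]
      · rw [s1, s4, z_5_2]
      · rw [s1, s5, z_5_1]
      · rw [s1, s6, z_5_0]
      · rw [s2, (h2 (z 4)).2] <;> linarith only [we_0_1, we_1_2, we_2_3, we_3_4, we_4_5, we_5_6]
      · rw [s2, s3, a_eq_pp T (z 4) (z 3), hp_4_3] <;> linarith only [we_0_1, we_1_2, we_2_3, we_3_4, we_4_5, we_5_6]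
      · rw [s2, s4, z_4_2]
      · rw [s2, s5, z_4_1]
      · rw [s2, s6, z_4_0]
      · rw [s3, (h2 (z 3)).2] <;> linarith only [we_0_1, we_1_2, we_2_3, we_3_4, we_4_5, we_5_6]
      · rw [s3, s4, a_eq_pp T (z 3) (z 2), hp_3_2] <;> linarith only [we_0_1, we_1_2, we_2_3, we_3_4, we_4_5, we_5_6]
      · rw [s3, s5, z_3_1]
      · rw [s3, s6, z_3_0]
      · rw [s4, (h2 (z 2)).2] <;> linarith only [we_0_1, we_1_2, we_2_3, we_3_4, we_4_5, we_5_6]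
      · rw [s4, s5, a_eq_pp T (z 2) (z 1), hp_2_1] <;> linarith only [we_0_1, we_1_2, we_2_3, we_3_4, we_4_5, we_5_6]
      · rw [s4, s6, z_2_0]
      · rw [s5, (h2 (z 1)).2] <;> linarith only [we_0_1, we_1_2, we_2_3, we_3_4, we_4_5, we_5_6]
      · rw [s5, s6, a_eq_pp T (z 1) (z 0), hp_1_0] <;> linarith only [we_0_1, we_1_2, we_2_3, we_3_4, we_4_5, we_5_6]
      · rw [s6, (h2 (z 0)).2] <;> linarith only [we_0_1, we_1_2, we_2_3, we_3_4, we_4_5, we_5_6]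

theorem shape7_path (T : Models.NumericalType 7) (h2 : ∀ i, T.IsMinusTwo i)
    (z : Fin 7 → Fin 7) (hz : Function.Injective z)
    (e_0_1 : T.a (z 0) (z 1) ≠ 0) (e_1_2 : T.a (z 1) (z 2) ≠ 0) (e_2_3 : T.a (z 2) (z 3) ≠ 0) (e_3_4 : T.a (z 3) (z 4) ≠ 0) (e_4_5 : T.a (z 4) (z 5) ≠ 0) (e_5_6 : T.a (z 5) (z 6) ≠ 0) : Goal7 T := by
  by_cases hc : T.a (z 0) (z 6) = 0
  · exact shape7_pathz T h2 z hz e_0_1 e_1_2 e_2_3 e_3_4 e_4_5 e_5_6 hc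
  · exact shape7_cycle T h2 z hz e_0_1 e_1_2 e_2_3 e_3_4 e_4_5 e_5_6 hc

end Groth.Agent.H3.Gen
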