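import Groth.Agent.H3.G8Shapes
import Groth.Agent.H3.NumExcl

set_option autoImplicit false
set_option linter.unusedVariables false
set_option linter.unusedTactic false
set_option linter.unreachableTactic false

namespace Groth.Agent.H3.Gen
open Groth.Agent.H3 Groth.Agent.H2

theorem disp8_002 (T : Models.NumericalType 8) (h2 : ∀ i, T.IsMinusTwo i)
    (y : Fin 8 → Fin 8) (hy : Function.Injective y)
    (hpar : ∀ (k : ℕ) (hk : k < 8), 0 < k → ∃ (a : ℕ) (ha : a < k), T.a (y ⟨a, by omega⟩) (y ⟨k, hk⟩) ≠ 0)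
    (f_0_1 : T.a (y 0) (y 1) ≠ 0) (f_1_0 : T.a (y 1) (y 0) ≠ 0) (f_0_2 : T.a (y 0) (y 2) ≠ 0) (f_2_0 : T.a (y 2) (y 0) ≠ 0) (f_2_3 : T.a (y 2) (y 3) ≠ 0) (f_3_2 : T.a (y 3) (y 2) ≠ 0) : Goal8 T := by
  obtain ⟨a, ha, e⟩ := hpar 4 (by norm_num) (by norm_num)
  have hc : a = 0 ∨ a = 1 ∨ a = 2 ∨ a = 3 := by omega
  rcases hc with rfl | rfl | rfl | rfl
  · have f_0_4 : T.a (y 0) (y 4) ≠ 0 := e
    have f_4_0 : T.a (y 4) (y 0) ≠ 0 := nsymm T f_0_4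
    clear e ha
    obtain ⟨a, ha, e⟩ := hpar 5 (by norm_num) (by norm_num)
    have hc : a = 0 ∨ a = 1 ∨ a = 2 ∨ a = 3 ∨ a = 4 := by omega
    rcases hc with rfl | rfl | rfl | rfl | rfl
    · have f_0_5 : T.a (y 0) (y 5) ≠ 0 := e
      have f_5_0 : T.a (y 5) (y 0) ≠ 0 := nsymm T f_0_5
      clear e ha
      exact (excl_D4t T h2 y hy ![0, 1, 2, 4, 5] (by decide) (by norm_num) f_0_1 f_0_2 f_0_4 f_0_5).elim
    · have f_1_5 : T.a (y 1) (y 5) ≠ 0 := e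
      have f_5_1 : T.a (y 5) (y 1) ≠ 0 := nsymm T f_1_5
      clear e ha
      obtain ⟨a, ha, e⟩ := hpar 6 (by norm_num) (by norm_num)
      have hc : a = 0 ∨ a = 1 ∨ a = 2 ∨ a = 3 ∨ a = 4 ∨ a = 5 := by omega
      rcases hc with rfl | rfl | rfl | rfl | rfl | rfl
      · have f_0_6 : T.a (y 0) (y 6) ≠ 0 := e
        have f_6_0 : T.a (y 6) (y 0) ≠ 0 := nsymm T f_0_6
        clear e ha
        exact (excl_D4t T h2 y hy ![0, 1, 2, 4, 6] (by decide) (by norm_num) f_0_1 f_0_2 f_0_4 f_0_6).elim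
      · have f_1_6 : T.a (y 1) (y 6) ≠ 0 := e
        have f_6_1 : T.a (y 6) (y 1) ≠ 0 := nsymm T f_1_6
        clear e ha
        exact (excl_D5t T h2 y hy ![2, 4, 0, 1, 5, 6] (by decide) (by norm_num) f_2_0 f_4_0 f_0_1 f_1_5 f_1_6).elim
      · have f_2_6 : T.a (y 2) (y 6) ≠ 0 := e
        have f_6_2 : T.a (y 6) (y 2) ≠ 0 := nsymm T f_2_6
        clear e ha
        exact (excl_D5t T h2 y hy ![1, 4, 0, 2, 3, 6] (by decide) (by norm_num) f_1_0 f_4_0 f_0_2 f_2_3 f_2_6).elim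
      · have f_3_6 : T.a (y 3) (y 6) ≠ 0 := e
        have f_6_3 : T.a (y 6) (y 3) ≠ 0 := nsymm T f_3_6
        clear e ha
        obtain ⟨a, ha, e⟩ := hpar 7 (by norm_num) (by norm_num)
        have hc : a = 0 ∨ a = 1 ∨ a = 2 ∨ a = 3 ∨ a = 4 ∨ a = 5 ∨ a = 6 := by omega
        rcases hc with rfl | rfl | rfl | rfl | rfl | rfl | rfl
        · have f_0_7 : T.a (y 0) (y 7) ≠ 0 := e
          have f_7_0 : T.a (y 7) (y 0) ≠ 0 := nsymm T f_0_7
          clear e ha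
          exact (excl_D4t T h2 y hy ![0, 1, 2, 4, 7] (by decide) (by norm_num) f_0_1 f_0_2 f_0_4 f_0_7).elim
        · have f_1_7 : T.a (y 1) (y 7) ≠ 0 := e
          have f_7_1 : T.a (y 7) (y 1) ≠ 0 := nsymm T f_1_7
          clear e ha
          exact (excl_D5t T h2 y hy ![2, 4, 0, 1, 5, 7] (by decide) (by norm_num) f_2_0 f_4_0 f_0_1 f_1_5 f_1_7).elim
        · have f_2_7 : T.a (y 2) (y 7) ≠ 0 := e
          have f_7_2 : T.a (y 7) (y 2) ≠ 0 := nsymm T f_2_7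
          clear e ha
          exact (excl_D5t T h2 y hy ![1, 4, 0, 2, 3, 7] (by decide) (by norm_num) f_1_0 f_4_0 f_0_2 f_2_3 f_2_7).elim
        · have f_3_7 : T.a (y 3) (y 7) ≠ 0 := e
          have f_7_3 : T.a (y 7) (y 3) ≠ 0 := nsymm T f_3_7
          clear e ha
          exact (excl_D6t T h2 y hy ![1, 4, 0, 2, 3, 6, 7] (by decide) (by norm_num) f_1_0 f_4_0 f_0_2 f_2_3 f_3_6 f_3_7).elim
        · have f_4_7 : T.a (y 4) (y 7) ≠ 0 := e
          have f_7_4 : T.a (y 7) (y 4) ≠ 0 := nsymm T f_4_7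
          clear e ha
          exact (excl_E6t T h2 y hy ![0, 1, 5, 2, 3, 4, 7] (by decide) (by norm_num) f_0_1 f_1_5 f_0_2 f_2_3 f_0_4 f_4_7).elim
        · have f_5_7 : T.a (y 5) (y 7) ≠ 0 := e
          have f_7_5 : T.a (y 7) (y 5) ≠ 0 := nsymm T f_5_7
          clear e ha
          exact shape8_T133 T h2 (fun i => y (![0, 4, 1, 5, 7, 2, 3, 6] i)) (hy.comp (by decide)) f_0_4 f_0_1 f_1_5 f_5_7 f_0_2 f_2_3 f_3_6
        · have f_6_7 : T.a (y 6) (y 7) ≠ 0 := e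
          have f_7_6 : T.a (y 7) (y 6) ≠ 0 := nsymm T f_6_7
          clear e ha
          exact shape8_T124 T h2 (fun i => y (![0, 4, 1, 5, 2, 3, 6, 7] i)) (hy.comp (by decide)) f_0_4 f_0_1 f_1_5 f_0_2 f_2_3 f_3_6 f_6_7
      · have f_4_6 : T.a (y 4) (y 6) ≠ 0 := e
        have f_6_4 : T.a (y 6) (y 4) ≠ 0 := nsymm T f_4_6
        clear e ha
        exact (excl_E6t T h2 y hy ![0, 1, 5, 2, 3, 4, 6] (by decide) (by norm_num) f_0_1 f_1_5 f_0_2 f_2_3 f_0_4 f_4_6).elim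
      · have f_5_6 : T.a (y 5) (y 6) ≠ 0 := e
        have f_6_5 : T.a (y 6) (y 5) ≠ 0 := nsymm T f_5_6
        clear e ha
        obtain ⟨a, ha, e⟩ := hpar 7 (by norm_num) (by norm_num)
        have hc : a = 0 ∨ a = 1 ∨ a = 2 ∨ a = 3 ∨ a = 4 ∨ a = 5 ∨ a = 6 := by omega
        rcases hc with rfl | rfl | rfl | rfl | rfl | rfl | rfl
        · have f_0_7 : T.a (y 0) (y 7) ≠ 0 := e
          have f_7_0 : T.a (y 7) (y 0) ≠ 0 := nsymm T f_0_7
          clear e ha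
          exact (excl_D4t T h2 y hy ![0, 1, 2, 4, 7] (by decide) (by norm_num) f_0_1 f_0_2 f_0_4 f_0_7).elim
        · have f_1_7 : T.a (y 1) (y 7) ≠ 0 := e
          have f_7_1 : T.a (y 7) (y 1) ≠ 0 := nsymm T f_1_7
          clear e ha
          exact (excl_D5t T h2 y hy ![2, 4, 0, 1, 5, 7] (by decide) (by norm_num) f_2_0 f_4_0 f_0_1 f_1_5 f_1_7).elim
        · have f_2_7 : T.a (y 2) (y 7) ≠ 0 := e
          have f_7_2 : T.a (y 7) (y 2) ≠ 0 := nsymm T f_2_7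
          clear e ha
          exact (excl_D5t T h2 y hy ![1, 4, 0, 2, 3, 7] (by decide) (by norm_num) f_1_0 f_4_0 f_0_2 f_2_3 f_2_7).elim
        · have f_3_7 : T.a (y 3) (y 7) ≠ 0 := e
          have f_7_3 : T.a (y 7) (y 3) ≠ 0 := nsymm T f_3_7
          clear e ha
          exact shape8_T133 T h2 (fun i => y (![0, 4, 1, 5, 6, 2, 3, 7] i)) (hy.comp (by decide)) f_0_4 f_0_1 f_1_5 f_5_6 f_0_2 f_2_3 f_3_7
        · have f_4_7 : T.a (y 4) (y 7) ≠ 0 := e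
          have f_7_4 : T.a (y 7) (y 4) ≠ 0 := nsymm T f_4_7
          clear e ha
          exact (excl_E6t T h2 y hy ![0, 1, 5, 2, 3, 4, 7] (by decide) (by norm_num) f_0_1 f_1_5 f_0_2 f_2_3 f_0_4 f_4_7).elim
        · have f_5_7 : T.a (y 5) (y 7) ≠ 0 := e
          have f_7_5 : T.a (y 7) (y 5) ≠ 0 := nsymm T f_5_7
          clear e ha
          exact (excl_D6t T h2 y hy ![2, 4, 0, 1, 5, 6, 7] (by decide) (by norm_num) f_2_0 f_4_0 f_0_1 f_1_5 f_5_6 f_5_7).elim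
        · have f_6_7 : T.a (y 6) (y 7) ≠ 0 := e
          have f_7_6 : T.a (y 7) (y 6) ≠ 0 := nsymm T f_6_7
          clear e ha
          exact shape8_T124 T h2 (fun i => y (![0, 4, 2, 3, 1, 5, 6, 7] i)) (hy.comp (by decide)) f_0_4 f_0_2 f_2_3 f_0_1 f_1_5 f_5_6 f_6_7
    · have f_2_5 : T.a (y 2) (y 5) ≠ 0 := e
      have f_5_2 : T.a (y 5) (y 2) ≠ 0 := nsymm T f_2_5
      clear e ha
      exact (excl_D5t T h2 y hy ![1, 4, 0, 2, 3, 5] (by decide) (by norm_num) f_1_0 f_4_0 f_0_2 f_2_3 f_2_5).elim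
    · have f_3_5 : T.a (y 3) (y 5) ≠ 0 := e
      have f_5_3 : T.a (y 5) (y 3) ≠ 0 := nsymm T f_3_5
      clear e ha
      obtain ⟨a, ha, e⟩ := hpar 6 (by norm_num) (by norm_num)
      have hc : a = 0 ∨ a = 1 ∨ a = 2 ∨ a = 3 ∨ a = 4 ∨ a = 5 := by omega
      rcases hc with rfl | rfl | rfl | rfl | rfl | rfl
      · have f_0_6 : T.a (y 0) (y 6) ≠ 0 := e
        have f_6_0 : T.a (y 6) (y 0) ≠ 0 := nsymm T f_0_6
        clear e ha
        exact (excl_D4t T h2 y hy ![0, 1, 2, 4, 6] (by decide) (by norm_num) f_0_1 f_0_2 f_0_4 f_0_6).elim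
      · have f_1_6 : T.a (y 1) (y 6) ≠ 0 := e
        have f_6_1 : T.a (y 6) (y 1) ≠ 0 := nsymm T f_1_6
        clear e ha
        obtain ⟨a, ha, e⟩ := hpar 7 (by norm_num) (by norm_num)
        have hc : a = 0 ∨ a = 1 ∨ a = 2 ∨ a = 3 ∨ a = 4 ∨ a = 5 ∨ a = 6 := by omega
        rcases hc with rfl | rfl | rfl | rfl | rfl | rfl | rfl
        · have f_0_7 : T.a (y 0) (y 7) ≠ 0 := e
          have f_7_0 : T.a (y 7) (y 0) ≠ 0 := nsymm T f_0_7
          clear e ha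
          exact (excl_D4t T h2 y hy ![0, 1, 2, 4, 7] (by decide) (by norm_num) f_0_1 f_0_2 f_0_4 f_0_7).elim
        · have f_1_7 : T.a (y 1) (y 7) ≠ 0 := e
          have f_7_1 : T.a (y 7) (y 1) ≠ 0 := nsymm T f_1_7
          clear e ha
          exact (excl_D5t T h2 y hy ![2, 4, 0, 1, 6, 7] (by decide) (by norm_num) f_2_0 f_4_0 f_0_1 f_1_6 f_1_7).elim
        · have f_2_7 : T.a (y 2) (y 7) ≠ 0 := e
          have f_7_2 : T.a (y 7) (y 2) ≠ 0 := nsymm T f_2_7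
          clear e ha
          exact (excl_D5t T h2 y hy ![1, 4, 0, 2, 3, 7] (by decide) (by norm_num) f_1_0 f_4_0 f_0_2 f_2_3 f_2_7).elim
        · have f_3_7 : T.a (y 3) (y 7) ≠ 0 := e
          have f_7_3 : T.a (y 7) (y 3) ≠ 0 := nsymm T f_3_7
          clear e ha
          exact (excl_D6t T h2 y hy ![1, 4, 0, 2, 3, 5, 7] (by decide) (by norm_num) f_1_0 f_4_0 f_0_2 f_2_3 f_3_5 f_3_7).elim
        · have f_4_7 : T.a (y 4) (y 7) ≠ 0 := e
          have f_7_4 : T.a (y 7) (y 4) ≠ 0 := nsymm T f_4_7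
          clear e ha
          exact (excl_E6t T h2 y hy ![0, 1, 6, 2, 3, 4, 7] (by decide) (by norm_num) f_0_1 f_1_6 f_0_2 f_2_3 f_0_4 f_4_7).elim
        · have f_5_7 : T.a (y 5) (y 7) ≠ 0 := e
          have f_7_5 : T.a (y 7) (y 5) ≠ 0 := nsymm T f_5_7
          clear e ha
          exact shape8_T124 T h2 (fun i => y (![0, 4, 1, 6, 2, 3, 5, 7] i)) (hy.comp (by decide)) f_0_4 f_0_1 f_1_6 f_0_2 f_2_3 f_3_5 f_5_7
        · have f_6_7 : T.a (y 6) (y 7) ≠ 0 := e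
          have f_7_6 : T.a (y 7) (y 6) ≠ 0 := nsymm T f_6_7
          clear e ha
          exact shape8_T133 T h2 (fun i => y (![0, 4, 1, 6, 7, 2, 3, 5] i)) (hy.comp (by decide)) f_0_4 f_0_1 f_1_6 f_6_7 f_0_2 f_2_3 f_3_5
      · have f_2_6 : T.a (y 2) (y 6) ≠ 0 := e
        have f_6_2 : T.a (y 6) (y 2) ≠ 0 := nsymm T f_2_6
        clear e ha
        exact (excl_D5t T h2 y hy ![1, 4, 0, 2, 3, 6] (by decide) (by norm_num) f_1_0 f_4_0 f_0_2 f_2_3 f_2_6).elim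
      · have f_3_6 : T.a (y 3) (y 6) ≠ 0 := e
        have f_6_3 : T.a (y 6) (y 3) ≠ 0 := nsymm T f_3_6
        clear e ha
        exact (excl_D6t T h2 y hy ![1, 4, 0, 2, 3, 5, 6] (by decide) (by norm_num) f_1_0 f_4_0 f_0_2 f_2_3 f_3_5 f_3_6).elim
      · have f_4_6 : T.a (y 4) (y 6) ≠ 0 := e
        have f_6_4 : T.a (y 6) (y 4) ≠ 0 := nsymm T f_4_6
        clear e ha
        obtain ⟨a, ha, e⟩ := hpar 7 (by norm_num) (by norm_num)
        have hc : a = 0 ∨ a = 1 ∨ a = 2 ∨ a = 3 ∨ a = 4 ∨ a = 5 ∨ a = 6 := by omega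
        rcases hc with rfl | rfl | rfl | rfl | rfl | rfl | rfl
        · have f_0_7 : T.a (y 0) (y 7) ≠ 0 := e
          have f_7_0 : T.a (y 7) (y 0) ≠ 0 := nsymm T f_0_7
          clear e ha
          exact (excl_D4t T h2 y hy ![0, 1, 2, 4, 7] (by decide) (by norm_num) f_0_1 f_0_2 f_0_4 f_0_7).elim
        · have f_1_7 : T.a (y 1) (y 7) ≠ 0 := e
          have f_7_1 : T.a (y 7) (y 1) ≠ 0 := nsymm T f_1_7
          clear e ha
          exact (excl_E6t T h2 y hy ![0, 1, 7, 2, 3, 4, 6] (by decide) (by norm_num) f_0_1 f_1_7 f_0_2 f_2_3 f_0_4 f_4_6).elim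
        · have f_2_7 : T.a (y 2) (y 7) ≠ 0 := e
          have f_7_2 : T.a (y 7) (y 2) ≠ 0 := nsymm T f_2_7
          clear e ha
          exact (excl_D5t T h2 y hy ![1, 4, 0, 2, 3, 7] (by decide) (by norm_num) f_1_0 f_4_0 f_0_2 f_2_3 f_2_7).elim
        · have f_3_7 : T.a (y 3) (y 7) ≠ 0 := e
          have f_7_3 : T.a (y 7) (y 3) ≠ 0 := nsymm T f_3_7
          clear e ha
          exact (excl_D6t T h2 y hy ![1, 4, 0, 2, 3, 5, 7] (by decide) (by norm_num) f_1_0 f_4_0 f_0_2 f_2_3 f_3_5 f_3_7).elim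
        · have f_4_7 : T.a (y 4) (y 7) ≠ 0 := e
          have f_7_4 : T.a (y 7) (y 4) ≠ 0 := nsymm T f_4_7
          clear e ha
          exact (excl_D5t T h2 y hy ![1, 2, 0, 4, 6, 7] (by decide) (by norm_num) f_1_0 f_2_0 f_0_4 f_4_6 f_4_7).elim
        · have f_5_7 : T.a (y 5) (y 7) ≠ 0 := e
          have f_7_5 : T.a (y 7) (y 5) ≠ 0 := nsymm T f_5_7
          clear e ha
          exact shape8_T124 T h2 (fun i => y (![0, 1, 4, 6, 2, 3, 5, 7] i)) (hy.comp (by decide)) f_0_1 f_0_4 f_4_6 f_0_2 f_2_3 f_3_5 f_5_7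
        · have f_6_7 : T.a (y 6) (y 7) ≠ 0 := e
          have f_7_6 : T.a (y 7) (y 6) ≠ 0 := nsymm T f_6_7
          clear e ha
          exact shape8_T133 T h2 (fun i => y (![0, 1, 2, 3, 5, 4, 6, 7] i)) (hy.comp (by decide)) f_0_1 f_0_2 f_2_3 f_3_5 f_0_4 f_4_6 f_6_7
      · have f_5_6 : T.a (y 5) (y 6) ≠ 0 := e
        have f_6_5 : T.a (y 6) (y 5) ≠ 0 := nsymm T f_5_6
        clear e ha
        obtain ⟨a, ha, e⟩ := hpar 7 (by norm_num) (by norm_num)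
        have hc : a = 0 ∨ a = 1 ∨ a = 2 ∨ a = 3 ∨ a = 4 ∨ a = 5 ∨ a = 6 := by omega
        rcases hc with rfl | rfl | rfl | rfl | rfl | rfl | rfl
        · have f_0_7 : T.a (y 0) (y 7) ≠ 0 := e
          have f_7_0 : T.a (y 7) (y 0) ≠ 0 := nsymm T f_0_7
          clear e ha
          exact (excl_D4t T h2 y hy ![0, 1, 2, 4, 7] (by decide) (by norm_num) f_0_1 f_0_2 f_0_4 f_0_7).elim
        · have f_1_7 : T.a (y 1) (y 7) ≠ 0 := e
          have f_7_1 : T.a (y 7) (y 1) ≠ 0 := nsymm T f_1_7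
          clear e ha
          exact shape8_T124 T h2 (fun i => y (![0, 4, 1, 7, 2, 3, 5, 6] i)) (hy.comp (by decide)) f_0_4 f_0_1 f_1_7 f_0_2 f_2_3 f_3_5 f_5_6
        · have f_2_7 : T.a (y 2) (y 7) ≠ 0 := e
          have f_7_2 : T.a (y 7) (y 2) ≠ 0 := nsymm T f_2_7
          clear e ha
          exact (excl_D5t T h2 y hy ![1, 4, 0, 2, 3, 7] (by decide) (by norm_num) f_1_0 f_4_0 f_0_2 f_2_3 f_2_7).elim
        · have f_3_7 : T.a (y 3) (y 7) ≠ 0 := e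
          have f_7_3 : T.a (y 7) (y 3) ≠ 0 := nsymm T f_3_7
          clear e ha
          exact (excl_D6t T h2 y hy ![1, 4, 0, 2, 3, 5, 7] (by decide) (by norm_num) f_1_0 f_4_0 f_0_2 f_2_3 f_3_5 f_3_7).elim
        · have f_4_7 : T.a (y 4) (y 7) ≠ 0 := e
          have f_7_4 : T.a (y 7) (y 4) ≠ 0 := nsymm T f_4_7
          clear e ha
          exact shape8_T124 T h2 (fun i => y (![0, 1, 4, 7, 2, 3, 5, 6] i)) (hy.comp (by decide)) f_0_1 f_0_4 f_4_7 f_0_2 f_2_3 f_3_5 f_5_6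
        · have f_5_7 : T.a (y 5) (y 7) ≠ 0 := e
          have f_7_5 : T.a (y 7) (y 5) ≠ 0 := nsymm T f_5_7
          clear e ha
          exact shape8_Dt T h2 (fun i => y (![1, 4, 0, 2, 3, 5, 6, 7] i)) (hy.comp (by decide)) f_1_0 f_4_0 f_0_2 f_2_3 f_3_5 f_5_6 f_5_7
        · have f_6_7 : T.a (y 6) (y 7) ≠ 0 := e
          have f_7_6 : T.a (y 7) (y 6) ≠ 0 := nsymm T f_6_7
          clear e ha
          exact shape8_D T h2 (fun i => y (![0, 1, 4, 2, 3, 5, 6, 7] i)) (hy.comp (by decide)) f_0_1 f_0_4 f_0_2 f_2_3 f_3_5 f_5_6 f_6_7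
    · have f_4_5 : T.a (y 4) (y 5) ≠ 0 := e
      have f_5_4 : T.a (y 5) (y 4) ≠ 0 := nsymm T f_4_5
      clear e ha
      obtain ⟨a, ha, e⟩ := hpar 6 (by norm_num) (by norm_num)
      have hc : a = 0 ∨ a = 1 ∨ a = 2 ∨ a = 3 ∨ a = 4 ∨ a = 5 := by omega
      rcases hc with rfl | rfl | rfl | rfl | rfl | rfl
      · have f_0_6 : T.a (y 0) (y 6) ≠ 0 := e
        have f_6_0 : T.a (y 6) (y 0) ≠ 0 := nsymm T f_0_6
        clear e ha
        exact (excl_D4t T h2 y hy ![0, 1, 2, 4, 6] (by decide) (by norm_num) f_0_1 f_0_2 f_0_4 f_0_6).elim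
      · have f_1_6 : T.a (y 1) (y 6) ≠ 0 := e
        have f_6_1 : T.a (y 6) (y 1) ≠ 0 := nsymm T f_1_6
        clear e ha
        exact (excl_E6t T h2 y hy ![0, 1, 6, 2, 3, 4, 5] (by decide) (by norm_num) f_0_1 f_1_6 f_0_2 f_2_3 f_0_4 f_4_5).elim
      · have f_2_6 : T.a (y 2) (y 6) ≠ 0 := e
        have f_6_2 : T.a (y 6) (y 2) ≠ 0 := nsymm T f_2_6
        clear e ha
        exact (excl_D5t T h2 y hy ![1, 4, 0, 2, 3, 6] (by decide) (by norm_num) f_1_0 f_4_0 f_0_2 f_2_3 f_2_6).elim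
      · have f_3_6 : T.a (y 3) (y 6) ≠ 0 := e
        have f_6_3 : T.a (y 6) (y 3) ≠ 0 := nsymm T f_3_6
        clear e ha
        obtain ⟨a, ha, e⟩ := hpar 7 (by norm_num) (by norm_num)
        have hc : a = 0 ∨ a = 1 ∨ a = 2 ∨ a = 3 ∨ a = 4 ∨ a = 5 ∨ a = 6 := by omega
        rcases hc with rfl | rfl | rfl | rfl | rfl | rfl | rfl
        · have f_0_7 : T.a (y 0) (y 7) ≠ 0 := e
          have f_7_0 : T.a (y 7) (y 0) ≠ 0 := nsymm T f_0_7
          clear e ha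
          exact (excl_D4t T h2 y hy ![0, 1, 2, 4, 7] (by decide) (by norm_num) f_0_1 f_0_2 f_0_4 f_0_7).elim
        · have f_1_7 : T.a (y 1) (y 7) ≠ 0 := e
          have f_7_1 : T.a (y 7) (y 1) ≠ 0 := nsymm T f_1_7
          clear e ha
          exact (excl_E6t T h2 y hy ![0, 1, 7, 2, 3, 4, 5] (by decide) (by norm_num) f_0_1 f_1_7 f_0_2 f_2_3 f_0_4 f_4_5).elim
        · have f_2_7 : T.a (y 2) (y 7) ≠ 0 := e
          have f_7_2 : T.a (y 7) (y 2) ≠ 0 := nsymm T f_2_7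
          clear e ha
          exact (excl_D5t T h2 y hy ![1, 4, 0, 2, 3, 7] (by decide) (by norm_num) f_1_0 f_4_0 f_0_2 f_2_3 f_2_7).elim
        · have f_3_7 : T.a (y 3) (y 7) ≠ 0 := e
          have f_7_3 : T.a (y 7) (y 3) ≠ 0 := nsymm T f_3_7
          clear e ha
          exact (excl_D6t T h2 y hy ![1, 4, 0, 2, 3, 6, 7] (by decide) (by norm_num) f_1_0 f_4_0 f_0_2 f_2_3 f_3_6 f_3_7).elim
        · have f_4_7 : T.a (y 4) (y 7) ≠ 0 := e
          have f_7_4 : T.a (y 7) (y 4) ≠ 0 := nsymm T f_4_7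
          clear e ha
          exact (excl_D5t T h2 y hy ![1, 2, 0, 4, 5, 7] (by decide) (by norm_num) f_1_0 f_2_0 f_0_4 f_4_5 f_4_7).elim
        · have f_5_7 : T.a (y 5) (y 7) ≠ 0 := e
          have f_7_5 : T.a (y 7) (y 5) ≠ 0 := nsymm T f_5_7
          clear e ha
          exact shape8_T133 T h2 (fun i => y (![0, 1, 2, 3, 6, 4, 5, 7] i)) (hy.comp (by decide)) f_0_1 f_0_2 f_2_3 f_3_6 f_0_4 f_4_5 f_5_7
        · have f_6_7 : T.a (y 6) (y 7) ≠ 0 := e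
          have f_7_6 : T.a (y 7) (y 6) ≠ 0 := nsymm T f_6_7
          clear e ha
          exact shape8_T124 T h2 (fun i => y (![0, 1, 4, 5, 2, 3, 6, 7] i)) (hy.comp (by decide)) f_0_1 f_0_4 f_4_5 f_0_2 f_2_3 f_3_6 f_6_7
      · have f_4_6 : T.a (y 4) (y 6) ≠ 0 := e
        have f_6_4 : T.a (y 6) (y 4) ≠ 0 := nsymm T f_4_6
        clear e ha
        exact (excl_D5t T h2 y hy ![1, 2, 0, 4, 5, 6] (by decide) (by norm_num) f_1_0 f_2_0 f_0_4 f_4_5 f_4_6).elim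
      · have f_5_6 : T.a (y 5) (y 6) ≠ 0 := e
        have f_6_5 : T.a (y 6) (y 5) ≠ 0 := nsymm T f_5_6
        clear e ha
        obtain ⟨a, ha, e⟩ := hpar 7 (by norm_num) (by norm_num)
        have hc : a = 0 ∨ a = 1 ∨ a = 2 ∨ a = 3 ∨ a = 4 ∨ a = 5 ∨ a = 6 := by omega
        rcases hc with rfl | rfl | rfl | rfl | rfl | rfl | rfl
        · have f_0_7 : T.a (y 0) (y 7) ≠ 0 := e
          have f_7_0 : T.a (y 7) (y 0) ≠ 0 := nsymm T f_0_7
          clear e ha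
          exact (excl_D4t T h2 y hy ![0, 1, 2, 4, 7] (by decide) (by norm_num) f_0_1 f_0_2 f_0_4 f_0_7).elim
        · have f_1_7 : T.a (y 1) (y 7) ≠ 0 := e
          have f_7_1 : T.a (y 7) (y 1) ≠ 0 := nsymm T f_1_7
          clear e ha
          exact (excl_E6t T h2 y hy ![0, 1, 7, 2, 3, 4, 5] (by decide) (by norm_num) f_0_1 f_1_7 f_0_2 f_2_3 f_0_4 f_4_5).elim
        · have f_2_7 : T.a (y 2) (y 7) ≠ 0 := e
          have f_7_2 : T.a (y 7) (y 2) ≠ 0 := nsymm T f_2_7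
          clear e ha
          exact (excl_D5t T h2 y hy ![1, 4, 0, 2, 3, 7] (by decide) (by norm_num) f_1_0 f_4_0 f_0_2 f_2_3 f_2_7).elim
        · have f_3_7 : T.a (y 3) (y 7) ≠ 0 := e
          have f_7_3 : T.a (y 7) (y 3) ≠ 0 := nsymm T f_3_7
          clear e ha
          exact shape8_T133 T h2 (fun i => y (![0, 1, 2, 3, 7, 4, 5, 6] i)) (hy.comp (by decide)) f_0_1 f_0_2 f_2_3 f_3_7 f_0_4 f_4_5 f_5_6
        · have f_4_7 : T.a (y 4) (y 7) ≠ 0 := e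
          have f_7_4 : T.a (y 7) (y 4) ≠ 0 := nsymm T f_4_7
          clear e ha
          exact (excl_D5t T h2 y hy ![1, 2, 0, 4, 5, 7] (by decide) (by norm_num) f_1_0 f_2_0 f_0_4 f_4_5 f_4_7).elim
        · have f_5_7 : T.a (y 5) (y 7) ≠ 0 := e
          have f_7_5 : T.a (y 7) (y 5) ≠ 0 := nsymm T f_5_7
          clear e ha
          exact (excl_D6t T h2 y hy ![1, 2, 0, 4, 5, 6, 7] (by decide) (by norm_num) f_1_0 f_2_0 f_0_4 f_4_5 f_5_6 f_5_7).elim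
        · have f_6_7 : T.a (y 6) (y 7) ≠ 0 := e
          have f_7_6 : T.a (y 7) (y 6) ≠ 0 := nsymm T f_6_7
          clear e ha
          exact shape8_T124 T h2 (fun i => y (![0, 1, 2, 3, 4, 5, 6, 7] i)) (hy.comp (by decide)) f_0_1 f_0_2 f_2_3 f_0_4 f_4_5 f_5_6 f_6_7
  · have f_1_4 : T.a (y 1) (y 4) ≠ 0 := e
    have f_4_1 : T.a (y 4) (y 1) ≠ 0 := nsymm T f_1_4
    clear e ha
    obtain ⟨a, ha, e⟩ := hpar 5 (by norm_num) (by norm_num)
    have hc : a = 0 ∨ a = 1 ∨ a = 2 ∨ a = 3 ∨ a = 4 := by omega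
    rcases hc with rfl | rfl | rfl | rfl | rfl
    · have f_0_5 : T.a (y 0) (y 5) ≠ 0 := e
      have f_5_0 : T.a (y 5) (y 0) ≠ 0 := nsymm T f_0_5
      clear e ha
      obtain ⟨a, ha, e⟩ := hpar 6 (by norm_num) (by norm_num)
      have hc : a = 0 ∨ a = 1 ∨ a = 2 ∨ a = 3 ∨ a = 4 ∨ a = 5 := by omega
      rcases hc with rfl | rfl | rfl | rfl | rfl | rfl
      · have f_0_6 : T.a (y 0) (y 6) ≠ 0 := e
        have f_6_0 : T.a (y 6) (y 0) ≠ 0 := nsymm T f_0_6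
        clear e ha
        exact (excl_D4t T h2 y hy ![0, 1, 2, 5, 6] (by decide) (by norm_num) f_0_1 f_0_2 f_0_5 f_0_6).elim
      · have f_1_6 : T.a (y 1) (y 6) ≠ 0 := e
        have f_6_1 : T.a (y 6) (y 1) ≠ 0 := nsymm T f_1_6
        clear e ha
        exact (excl_D5t T h2 y hy ![2, 5, 0, 1, 4, 6] (by decide) (by norm_num) f_2_0 f_5_0 f_0_1 f_1_4 f_1_6).elim
      · have f_2_6 : T.a (y 2) (y 6) ≠ 0 := e
        have f_6_2 : T.a (y 6) (y 2) ≠ 0 := nsymm T f_2_6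
        clear e ha
        exact (excl_D5t T h2 y hy ![1, 5, 0, 2, 3, 6] (by decide) (by norm_num) f_1_0 f_5_0 f_0_2 f_2_3 f_2_6).elim
      · have f_3_6 : T.a (y 3) (y 6) ≠ 0 := e
        have f_6_3 : T.a (y 6) (y 3) ≠ 0 := nsymm T f_3_6
        clear e ha
        obtain ⟨a, ha, e⟩ := hpar 7 (by norm_num) (by norm_num)
        have hc : a = 0 ∨ a = 1 ∨ a = 2 ∨ a = 3 ∨ a = 4 ∨ a = 5 ∨ a = 6 := by omega
        rcases hc with rfl | rfl | rfl | rfl | rfl | rfl | rfl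
        · have f_0_7 : T.a (y 0) (y 7) ≠ 0 := e
          have f_7_0 : T.a (y 7) (y 0) ≠ 0 := nsymm T f_0_7
          clear e ha
          exact (excl_D4t T h2 y hy ![0, 1, 2, 5, 7] (by decide) (by norm_num) f_0_1 f_0_2 f_0_5 f_0_7).elim
        · have f_1_7 : T.a (y 1) (y 7) ≠ 0 := e
          have f_7_1 : T.a (y 7) (y 1) ≠ 0 := nsymm T f_1_7
          clear e ha
          exact (excl_D5t T h2 y hy ![2, 5, 0, 1, 4, 7] (by decide) (by norm_num) f_2_0 f_5_0 f_0_1 f_1_4 f_1_7).elim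
        · have f_2_7 : T.a (y 2) (y 7) ≠ 0 := e
          have f_7_2 : T.a (y 7) (y 2) ≠ 0 := nsymm T f_2_7
          clear e ha
          exact (excl_D5t T h2 y hy ![1, 5, 0, 2, 3, 7] (by decide) (by norm_num) f_1_0 f_5_0 f_0_2 f_2_3 f_2_7).elim
        · have f_3_7 : T.a (y 3) (y 7) ≠ 0 := e
          have f_7_3 : T.a (y 7) (y 3) ≠ 0 := nsymm T f_3_7
          clear e ha
          exact (excl_D6t T h2 y hy ![1, 5, 0, 2, 3, 6, 7] (by decide) (by norm_num) f_1_0 f_5_0 f_0_2 f_2_3 f_3_6 f_3_7).elim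
        · have f_4_7 : T.a (y 4) (y 7) ≠ 0 := e
          have f_7_4 : T.a (y 7) (y 4) ≠ 0 := nsymm T f_4_7
          clear e ha
          exact shape8_T133 T h2 (fun i => y (![0, 5, 1, 4, 7, 2, 3, 6] i)) (hy.comp (by decide)) f_0_5 f_0_1 f_1_4 f_4_7 f_0_2 f_2_3 f_3_6
        · have f_5_7 : T.a (y 5) (y 7) ≠ 0 := e
          have f_7_5 : T.a (y 7) (y 5) ≠ 0 := nsymm T f_5_7
          clear e ha
          exact (excl_E6t T h2 y hy ![0, 1, 4, 2, 3, 5, 7] (by decide) (by norm_num) f_0_1 f_1_4 f_0_2 f_2_3 f_0_5 f_5_7).elim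
        · have f_6_7 : T.a (y 6) (y 7) ≠ 0 := e
          have f_7_6 : T.a (y 7) (y 6) ≠ 0 := nsymm T f_6_7
          clear e ha
          exact shape8_T124 T h2 (fun i => y (![0, 5, 1, 4, 2, 3, 6, 7] i)) (hy.comp (by decide)) f_0_5 f_0_1 f_1_4 f_0_2 f_2_3 f_3_6 f_6_7
      · have f_4_6 : T.a (y 4) (y 6) ≠ 0 := e
        have f_6_4 : T.a (y 6) (y 4) ≠ 0 := nsymm T f_4_6
        clear e ha
        obtain ⟨a, ha, e⟩ := hpar 7 (by norm_num) (by norm_num)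
        have hc : a = 0 ∨ a = 1 ∨ a = 2 ∨ a = 3 ∨ a = 4 ∨ a = 5 ∨ a = 6 := by omega
        rcases hc with rfl | rfl | rfl | rfl | rfl | rfl | rfl
        · have f_0_7 : T.a (y 0) (y 7) ≠ 0 := e
          have f_7_0 : T.a (y 7) (y 0) ≠ 0 := nsymm T f_0_7
          clear e ha
          exact (excl_D4t T h2 y hy ![0, 1, 2, 5, 7] (by decide) (by norm_num) f_0_1 f_0_2 f_0_5 f_0_7).elim
        · have f_1_7 : T.a (y 1) (y 7) ≠ 0 := e
          have f_7_1 : T.a (y 7) (y 1) ≠ 0 := nsymm T f_1_7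
          clear e ha
          exact (excl_D5t T h2 y hy ![2, 5, 0, 1, 4, 7] (by decide) (by norm_num) f_2_0 f_5_0 f_0_1 f_1_4 f_1_7).elim
        · have f_2_7 : T.a (y 2) (y 7) ≠ 0 := e
          have f_7_2 : T.a (y 7) (y 2) ≠ 0 := nsymm T f_2_7
          clear e ha
          exact (excl_D5t T h2 y hy ![1, 5, 0, 2, 3, 7] (by decide) (by norm_num) f_1_0 f_5_0 f_0_2 f_2_3 f_2_7).elim
        · have f_3_7 : T.a (y 3) (y 7) ≠ 0 := e
          have f_7_3 : T.a (y 7) (y 3) ≠ 0 := nsymm T f_3_7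
          clear e ha
          exact shape8_T133 T h2 (fun i => y (![0, 5, 1, 4, 6, 2, 3, 7] i)) (hy.comp (by decide)) f_0_5 f_0_1 f_1_4 f_4_6 f_0_2 f_2_3 f_3_7
        · have f_4_7 : T.a (y 4) (y 7) ≠ 0 := e
          have f_7_4 : T.a (y 7) (y 4) ≠ 0 := nsymm T f_4_7
          clear e ha
          exact (excl_D6t T h2 y hy ![2, 5, 0, 1, 4, 6, 7] (by decide) (by norm_num) f_2_0 f_5_0 f_0_1 f_1_4 f_4_6 f_4_7).elim
        · have f_5_7 : T.a (y 5) (y 7) ≠ 0 := e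
          have f_7_5 : T.a (y 7) (y 5) ≠ 0 := nsymm T f_5_7
          clear e ha
          exact (excl_E6t T h2 y hy ![0, 1, 4, 2, 3, 5, 7] (by decide) (by norm_num) f_0_1 f_1_4 f_0_2 f_2_3 f_0_5 f_5_7).elim
        · have f_6_7 : T.a (y 6) (y 7) ≠ 0 := e
          have f_7_6 : T.a (y 7) (y 6) ≠ 0 := nsymm T f_6_7
          clear e ha
          exact shape8_T124 T h2 (fun i => y (![0, 5, 2, 3, 1, 4, 6, 7] i)) (hy.comp (by decide)) f_0_5 f_0_2 f_2_3 f_0_1 f_1_4 f_4_6 f_6_7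
      · have f_5_6 : T.a (y 5) (y 6) ≠ 0 := e
        have f_6_5 : T.a (y 6) (y 5) ≠ 0 := nsymm T f_5_6
        clear e ha
        exact (excl_E6t T h2 y hy ![0, 1, 4, 2, 3, 5, 6] (by decide) (by norm_num) f_0_1 f_1_4 f_0_2 f_2_3 f_0_5 f_5_6).elim
    · have f_1_5 : T.a (y 1) (y 5) ≠ 0 := e
      have f_5_1 : T.a (y 5) (y 1) ≠ 0 := nsymm T f_1_5
      clear e ha
      obtain ⟨a, ha, e⟩ := hpar 6 (by norm_num) (by norm_num)
      have hc : a = 0 ∨ a = 1 ∨ a = 2 ∨ a = 3 ∨ a = 4 ∨ a = 5 := by omega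
      rcases hc with rfl | rfl | rfl | rfl | rfl | rfl
      · have f_0_6 : T.a (y 0) (y 6) ≠ 0 := e
        have f_6_0 : T.a (y 6) (y 0) ≠ 0 := nsymm T f_0_6
        clear e ha
        exact (excl_D5t T h2 y hy ![2, 6, 0, 1, 4, 5] (by decide) (by norm_num) f_2_0 f_6_0 f_0_1 f_1_4 f_1_5).elim
      · have f_1_6 : T.a (y 1) (y 6) ≠ 0 := e
        have f_6_1 : T.a (y 6) (y 1) ≠ 0 := nsymm T f_1_6
        clear e ha
        exact (excl_D4t T h2 y hy ![1, 0, 4, 5, 6] (by decide) (by norm_num) f_1_0 f_1_4 f_1_5 f_1_6).elim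
      · have f_2_6 : T.a (y 2) (y 6) ≠ 0 := e
        have f_6_2 : T.a (y 6) (y 2) ≠ 0 := nsymm T f_2_6
        clear e ha
        exact (excl_D6t T h2 y hy ![3, 6, 2, 0, 1, 4, 5] (by decide) (by norm_num) f_3_2 f_6_2 f_2_0 f_0_1 f_1_4 f_1_5).elim
      · have f_3_6 : T.a (y 3) (y 6) ≠ 0 := e
        have f_6_3 : T.a (y 6) (y 3) ≠ 0 := nsymm T f_3_6
        clear e ha
        obtain ⟨a, ha, e⟩ := hpar 7 (by norm_num) (by norm_num)
        have hc : a = 0 ∨ a = 1 ∨ a = 2 ∨ a = 3 ∨ a = 4 ∨ a = 5 ∨ a = 6 := by omega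
        rcases hc with rfl | rfl | rfl | rfl | rfl | rfl | rfl
        · have f_0_7 : T.a (y 0) (y 7) ≠ 0 := e
          have f_7_0 : T.a (y 7) (y 0) ≠ 0 := nsymm T f_0_7
          clear e ha
          exact (excl_D5t T h2 y hy ![2, 7, 0, 1, 4, 5] (by decide) (by norm_num) f_2_0 f_7_0 f_0_1 f_1_4 f_1_5).elim
        · have f_1_7 : T.a (y 1) (y 7) ≠ 0 := e
          have f_7_1 : T.a (y 7) (y 1) ≠ 0 := nsymm T f_1_7
          clear e ha
          exact (excl_D4t T h2 y hy ![1, 0, 4, 5, 7] (by decide) (by norm_num) f_1_0 f_1_4 f_1_5 f_1_7).elim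
        · have f_2_7 : T.a (y 2) (y 7) ≠ 0 := e
          have f_7_2 : T.a (y 7) (y 2) ≠ 0 := nsymm T f_2_7
          clear e ha
          exact (excl_D6t T h2 y hy ![3, 7, 2, 0, 1, 4, 5] (by decide) (by norm_num) f_3_2 f_7_2 f_2_0 f_0_1 f_1_4 f_1_5).elim
        · have f_3_7 : T.a (y 3) (y 7) ≠ 0 := e
          have f_7_3 : T.a (y 7) (y 3) ≠ 0 := nsymm T f_3_7
          clear e ha
          exact shape8_Dt T h2 (fun i => y (![4, 5, 1, 0, 2, 3, 6, 7] i)) (hy.comp (by decide)) f_4_1 f_5_1 f_1_0 f_0_2 f_2_3 f_3_6 f_3_7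
        · have f_4_7 : T.a (y 4) (y 7) ≠ 0 := e
          have f_7_4 : T.a (y 7) (y 4) ≠ 0 := nsymm T f_4_7
          clear e ha
          exact shape8_T124 T h2 (fun i => y (![1, 5, 4, 7, 0, 2, 3, 6] i)) (hy.comp (by decide)) f_1_5 f_1_4 f_4_7 f_1_0 f_0_2 f_2_3 f_3_6
        · have f_5_7 : T.a (y 5) (y 7) ≠ 0 := e
          have f_7_5 : T.a (y 7) (y 5) ≠ 0 := nsymm T f_5_7
          clear e ha
          exact shape8_T124 T h2 (fun i => y (![1, 4, 5, 7, 0, 2, 3, 6] i)) (hy.comp (by decide)) f_1_4 f_1_5 f_5_7 f_1_0 f_0_2 f_2_3 f_3_6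
        · have f_6_7 : T.a (y 6) (y 7) ≠ 0 := e
          have f_7_6 : T.a (y 7) (y 6) ≠ 0 := nsymm T f_6_7
          clear e ha
          exact shape8_D T h2 (fun i => y (![1, 4, 5, 0, 2, 3, 6, 7] i)) (hy.comp (by decide)) f_1_4 f_1_5 f_1_0 f_0_2 f_2_3 f_3_6 f_6_7
      · have f_4_6 : T.a (y 4) (y 6) ≠ 0 := e
        have f_6_4 : T.a (y 6) (y 4) ≠ 0 := nsymm T f_4_6
        clear e ha
        obtain ⟨a, ha, e⟩ := hpar 7 (by norm_num) (by norm_num)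
        have hc : a = 0 ∨ a = 1 ∨ a = 2 ∨ a = 3 ∨ a = 4 ∨ a = 5 ∨ a = 6 := by omega
        rcases hc with rfl | rfl | rfl | rfl | rfl | rfl | rfl
        · have f_0_7 : T.a (y 0) (y 7) ≠ 0 := e
          have f_7_0 : T.a (y 7) (y 0) ≠ 0 := nsymm T f_0_7
          clear e ha
          exact (excl_D5t T h2 y hy ![2, 7, 0, 1, 4, 5] (by decide) (by norm_num) f_2_0 f_7_0 f_0_1 f_1_4 f_1_5).elim
        · have f_1_7 : T.a (y 1) (y 7) ≠ 0 := e
          have f_7_1 : T.a (y 7) (y 1) ≠ 0 := nsymm T f_1_7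
          clear e ha
          exact (excl_D4t T h2 y hy ![1, 0, 4, 5, 7] (by decide) (by norm_num) f_1_0 f_1_4 f_1_5 f_1_7).elim
        · have f_2_7 : T.a (y 2) (y 7) ≠ 0 := e
          have f_7_2 : T.a (y 7) (y 2) ≠ 0 := nsymm T f_2_7
          clear e ha
          exact (excl_D6t T h2 y hy ![3, 7, 2, 0, 1, 4, 5] (by decide) (by norm_num) f_3_2 f_7_2 f_2_0 f_0_1 f_1_4 f_1_5).elim
        · have f_3_7 : T.a (y 3) (y 7) ≠ 0 := e
          have f_7_3 : T.a (y 7) (y 3) ≠ 0 := nsymm T f_3_7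
          clear e ha
          exact shape8_T124 T h2 (fun i => y (![1, 5, 4, 6, 0, 2, 3, 7] i)) (hy.comp (by decide)) f_1_5 f_1_4 f_4_6 f_1_0 f_0_2 f_2_3 f_3_7
        · have f_4_7 : T.a (y 4) (y 7) ≠ 0 := e
          have f_7_4 : T.a (y 7) (y 4) ≠ 0 := nsymm T f_4_7
          clear e ha
          exact (excl_D5t T h2 y hy ![0, 5, 1, 4, 6, 7] (by decide) (by norm_num) f_0_1 f_5_1 f_1_4 f_4_6 f_4_7).elim
        · have f_5_7 : T.a (y 5) (y 7) ≠ 0 := e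
          have f_7_5 : T.a (y 7) (y 5) ≠ 0 := nsymm T f_5_7
          clear e ha
          exact (excl_E6t T h2 y hy ![1, 0, 2, 4, 6, 5, 7] (by decide) (by norm_num) f_1_0 f_0_2 f_1_4 f_4_6 f_1_5 f_5_7).elim
        · have f_6_7 : T.a (y 6) (y 7) ≠ 0 := e
          have f_7_6 : T.a (y 7) (y 6) ≠ 0 := nsymm T f_6_7
          clear e ha
          exact shape8_T133 T h2 (fun i => y (![1, 5, 0, 2, 3, 4, 6, 7] i)) (hy.comp (by decide)) f_1_5 f_1_0 f_0_2 f_2_3 f_1_4 f_4_6 f_6_7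
      · have f_5_6 : T.a (y 5) (y 6) ≠ 0 := e
        have f_6_5 : T.a (y 6) (y 5) ≠ 0 := nsymm T f_5_6
        clear e ha
        obtain ⟨a, ha, e⟩ := hpar 7 (by norm_num) (by norm_num)
        have hc : a = 0 ∨ a = 1 ∨ a = 2 ∨ a = 3 ∨ a = 4 ∨ a = 5 ∨ a = 6 := by omega
        rcases hc with rfl | rfl | rfl | rfl | rfl | rfl | rfl
        · have f_0_7 : T.a (y 0) (y 7) ≠ 0 := e
          have f_7_0 : T.a (y 7) (y 0) ≠ 0 := nsymm T f_0_7
          clear e ha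
          exact (excl_D5t T h2 y hy ![2, 7, 0, 1, 4, 5] (by decide) (by norm_num) f_2_0 f_7_0 f_0_1 f_1_4 f_1_5).elim
        · have f_1_7 : T.a (y 1) (y 7) ≠ 0 := e
          have f_7_1 : T.a (y 7) (y 1) ≠ 0 := nsymm T f_1_7
          clear e ha
          exact (excl_D4t T h2 y hy ![1, 0, 4, 5, 7] (by decide) (by norm_num) f_1_0 f_1_4 f_1_5 f_1_7).elim
        · have f_2_7 : T.a (y 2) (y 7) ≠ 0 := e
          have f_7_2 : T.a (y 7) (y 2) ≠ 0 := nsymm T f_2_7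
          clear e ha
          exact (excl_D6t T h2 y hy ![3, 7, 2, 0, 1, 4, 5] (by decide) (by norm_num) f_3_2 f_7_2 f_2_0 f_0_1 f_1_4 f_1_5).elim
        · have f_3_7 : T.a (y 3) (y 7) ≠ 0 := e
          have f_7_3 : T.a (y 7) (y 3) ≠ 0 := nsymm T f_3_7
          clear e ha
          exact shape8_T124 T h2 (fun i => y (![1, 4, 5, 6, 0, 2, 3, 7] i)) (hy.comp (by decide)) f_1_4 f_1_5 f_5_6 f_1_0 f_0_2 f_2_3 f_3_7
        · have f_4_7 : T.a (y 4) (y 7) ≠ 0 := e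
          have f_7_4 : T.a (y 7) (y 4) ≠ 0 := nsymm T f_4_7
          clear e ha
          exact (excl_E6t T h2 y hy ![1, 0, 2, 4, 7, 5, 6] (by decide) (by norm_num) f_1_0 f_0_2 f_1_4 f_4_7 f_1_5 f_5_6).elim
        · have f_5_7 : T.a (y 5) (y 7) ≠ 0 := e
          have f_7_5 : T.a (y 7) (y 5) ≠ 0 := nsymm T f_5_7
          clear e ha
          exact (excl_D5t T h2 y hy ![0, 4, 1, 5, 6, 7] (by decide) (by norm_num) f_0_1 f_4_1 f_1_5 f_5_6 f_5_7).elim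
        · have f_6_7 : T.a (y 6) (y 7) ≠ 0 := e
          have f_7_6 : T.a (y 7) (y 6) ≠ 0 := nsymm T f_6_7
          clear e ha
          exact shape8_T133 T h2 (fun i => y (![1, 4, 0, 2, 3, 5, 6, 7] i)) (hy.comp (by decide)) f_1_4 f_1_0 f_0_2 f_2_3 f_1_5 f_5_6 f_6_7
    · have f_2_5 : T.a (y 2) (y 5) ≠ 0 := e
      have f_5_2 : T.a (y 5) (y 2) ≠ 0 := nsymm T f_2_5
      clear e ha
      obtain ⟨a, ha, e⟩ := hpar 6 (by norm_num) (by norm_num)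
      have hc : a = 0 ∨ a = 1 ∨ a = 2 ∨ a = 3 ∨ a = 4 ∨ a = 5 := by omega
      rcases hc with rfl | rfl | rfl | rfl | rfl | rfl
      · have f_0_6 : T.a (y 0) (y 6) ≠ 0 := e
        have f_6_0 : T.a (y 6) (y 0) ≠ 0 := nsymm T f_0_6
        clear e ha
        exact (excl_D5t T h2 y hy ![1, 6, 0, 2, 3, 5] (by decide) (by norm_num) f_1_0 f_6_0 f_0_2 f_2_3 f_2_5).elim
      · have f_1_6 : T.a (y 1) (y 6) ≠ 0 := e
        have f_6_1 : T.a (y 6) (y 1) ≠ 0 := nsymm T f_1_6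
        clear e ha
        exact (excl_D6t T h2 y hy ![3, 5, 2, 0, 1, 4, 6] (by decide) (by norm_num) f_3_2 f_5_2 f_2_0 f_0_1 f_1_4 f_1_6).elim
      · have f_2_6 : T.a (y 2) (y 6) ≠ 0 := e
        have f_6_2 : T.a (y 6) (y 2) ≠ 0 := nsymm T f_2_6
        clear e ha
        exact (excl_D4t T h2 y hy ![2, 0, 3, 5, 6] (by decide) (by norm_num) f_2_0 f_2_3 f_2_5 f_2_6).elim
      · have f_3_6 : T.a (y 3) (y 6) ≠ 0 := e
        have f_6_3 : T.a (y 6) (y 3) ≠ 0 := nsymm T f_3_6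
        clear e ha
        obtain ⟨a, ha, e⟩ := hpar 7 (by norm_num) (by norm_num)
        have hc : a = 0 ∨ a = 1 ∨ a = 2 ∨ a = 3 ∨ a = 4 ∨ a = 5 ∨ a = 6 := by omega
        rcases hc with rfl | rfl | rfl | rfl | rfl | rfl | rfl
        · have f_0_7 : T.a (y 0) (y 7) ≠ 0 := e
          have f_7_0 : T.a (y 7) (y 0) ≠ 0 := nsymm T f_0_7
          clear e ha
          exact (excl_D5t T h2 y hy ![1, 7, 0, 2, 3, 5] (by decide) (by norm_num) f_1_0 f_7_0 f_0_2 f_2_3 f_2_5).elim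
        · have f_1_7 : T.a (y 1) (y 7) ≠ 0 := e
          have f_7_1 : T.a (y 7) (y 1) ≠ 0 := nsymm T f_1_7
          clear e ha
          exact (excl_D6t T h2 y hy ![3, 5, 2, 0, 1, 4, 7] (by decide) (by norm_num) f_3_2 f_5_2 f_2_0 f_0_1 f_1_4 f_1_7).elim
        · have f_2_7 : T.a (y 2) (y 7) ≠ 0 := e
          have f_7_2 : T.a (y 7) (y 2) ≠ 0 := nsymm T f_2_7
          clear e ha
          exact (excl_D4t T h2 y hy ![2, 0, 3, 5, 7] (by decide) (by norm_num) f_2_0 f_2_3 f_2_5 f_2_7).elim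
        · have f_3_7 : T.a (y 3) (y 7) ≠ 0 := e
          have f_7_3 : T.a (y 7) (y 3) ≠ 0 := nsymm T f_3_7
          clear e ha
          exact (excl_D5t T h2 y hy ![0, 5, 2, 3, 6, 7] (by decide) (by norm_num) f_0_2 f_5_2 f_2_3 f_3_6 f_3_7).elim
        · have f_4_7 : T.a (y 4) (y 7) ≠ 0 := e
          have f_7_4 : T.a (y 7) (y 4) ≠ 0 := nsymm T f_4_7
          clear e ha
          exact shape8_T124 T h2 (fun i => y (![2, 5, 3, 6, 0, 1, 4, 7] i)) (hy.comp (by decide)) f_2_5 f_2_3 f_3_6 f_2_0 f_0_1 f_1_4 f_4_7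
        · have f_5_7 : T.a (y 5) (y 7) ≠ 0 := e
          have f_7_5 : T.a (y 7) (y 5) ≠ 0 := nsymm T f_5_7
          clear e ha
          exact (excl_E6t T h2 y hy ![2, 0, 1, 3, 6, 5, 7] (by decide) (by norm_num) f_2_0 f_0_1 f_2_3 f_3_6 f_2_5 f_5_7).elim
        · have f_6_7 : T.a (y 6) (y 7) ≠ 0 := e
          have f_7_6 : T.a (y 7) (y 6) ≠ 0 := nsymm T f_6_7
          clear e ha
          exact shape8_T133 T h2 (fun i => y (![2, 5, 0, 1, 4, 3, 6, 7] i)) (hy.comp (by decide)) f_2_5 f_2_0 f_0_1 f_1_4 f_2_3 f_3_6 f_6_7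
      · have f_4_6 : T.a (y 4) (y 6) ≠ 0 := e
        have f_6_4 : T.a (y 6) (y 4) ≠ 0 := nsymm T f_4_6
        clear e ha
        obtain ⟨a, ha, e⟩ := hpar 7 (by norm_num) (by norm_num)
        have hc : a = 0 ∨ a = 1 ∨ a = 2 ∨ a = 3 ∨ a = 4 ∨ a = 5 ∨ a = 6 := by omega
        rcases hc with rfl | rfl | rfl | rfl | rfl | rfl | rfl
        · have f_0_7 : T.a (y 0) (y 7) ≠ 0 := e
          have f_7_0 : T.a (y 7) (y 0) ≠ 0 := nsymm T f_0_7
          clear e ha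
          exact (excl_D5t T h2 y hy ![1, 7, 0, 2, 3, 5] (by decide) (by norm_num) f_1_0 f_7_0 f_0_2 f_2_3 f_2_5).elim
        · have f_1_7 : T.a (y 1) (y 7) ≠ 0 := e
          have f_7_1 : T.a (y 7) (y 1) ≠ 0 := nsymm T f_1_7
          clear e ha
          exact (excl_D6t T h2 y hy ![3, 5, 2, 0, 1, 4, 7] (by decide) (by norm_num) f_3_2 f_5_2 f_2_0 f_0_1 f_1_4 f_1_7).elim
        · have f_2_7 : T.a (y 2) (y 7) ≠ 0 := e
          have f_7_2 : T.a (y 7) (y 2) ≠ 0 := nsymm T f_2_7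
          clear e ha
          exact (excl_D4t T h2 y hy ![2, 0, 3, 5, 7] (by decide) (by norm_num) f_2_0 f_2_3 f_2_5 f_2_7).elim
        · have f_3_7 : T.a (y 3) (y 7) ≠ 0 := e
          have f_7_3 : T.a (y 7) (y 3) ≠ 0 := nsymm T f_3_7
          clear e ha
          exact shape8_T124 T h2 (fun i => y (![2, 5, 3, 7, 0, 1, 4, 6] i)) (hy.comp (by decide)) f_2_5 f_2_3 f_3_7 f_2_0 f_0_1 f_1_4 f_4_6
        · have f_4_7 : T.a (y 4) (y 7) ≠ 0 := e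
          have f_7_4 : T.a (y 7) (y 4) ≠ 0 := nsymm T f_4_7
          clear e ha
          exact shape8_Dt T h2 (fun i => y (![3, 5, 2, 0, 1, 4, 6, 7] i)) (hy.comp (by decide)) f_3_2 f_5_2 f_2_0 f_0_1 f_1_4 f_4_6 f_4_7
        · have f_5_7 : T.a (y 5) (y 7) ≠ 0 := e
          have f_7_5 : T.a (y 7) (y 5) ≠ 0 := nsymm T f_5_7
          clear e ha
          exact shape8_T124 T h2 (fun i => y (![2, 3, 5, 7, 0, 1, 4, 6] i)) (hy.comp (by decide)) f_2_3 f_2_5 f_5_7 f_2_0 f_0_1 f_1_4 f_4_6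
        · have f_6_7 : T.a (y 6) (y 7) ≠ 0 := e
          have f_7_6 : T.a (y 7) (y 6) ≠ 0 := nsymm T f_6_7
          clear e ha
          exact shape8_D T h2 (fun i => y (![2, 3, 5, 0, 1, 4, 6, 7] i)) (hy.comp (by decide)) f_2_3 f_2_5 f_2_0 f_0_1 f_1_4 f_4_6 f_6_7
      · have f_5_6 : T.a (y 5) (y 6) ≠ 0 := e
        have f_6_5 : T.a (y 6) (y 5) ≠ 0 := nsymm T f_5_6
        clear e ha
        obtain ⟨a, ha, e⟩ := hpar 7 (by norm_num) (by norm_num)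
        have hc : a = 0 ∨ a = 1 ∨ a = 2 ∨ a = 3 ∨ a = 4 ∨ a = 5 ∨ a = 6 := by omega
        rcases hc with rfl | rfl | rfl | rfl | rfl | rfl | rfl
        · have f_0_7 : T.a (y 0) (y 7) ≠ 0 := e
          have f_7_0 : T.a (y 7) (y 0) ≠ 0 := nsymm T f_0_7
          clear e ha
          exact (excl_D5t T h2 y hy ![1, 7, 0, 2, 3, 5] (by decide) (by norm_num) f_1_0 f_7_0 f_0_2 f_2_3 f_2_5).elim
        · have f_1_7 : T.a (y 1) (y 7) ≠ 0 := e
          have f_7_1 : T.a (y 7) (y 1) ≠ 0 := nsymm T f_1_7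
          clear e ha
          exact (excl_D6t T h2 y hy ![3, 5, 2, 0, 1, 4, 7] (by decide) (by norm_num) f_3_2 f_5_2 f_2_0 f_0_1 f_1_4 f_1_7).elim
        · have f_2_7 : T.a (y 2) (y 7) ≠ 0 := e
          have f_7_2 : T.a (y 7) (y 2) ≠ 0 := nsymm T f_2_7
          clear e ha
          exact (excl_D4t T h2 y hy ![2, 0, 3, 5, 7] (by decide) (by norm_num) f_2_0 f_2_3 f_2_5 f_2_7).elim
        · have f_3_7 : T.a (y 3) (y 7) ≠ 0 := e
          have f_7_3 : T.a (y 7) (y 3) ≠ 0 := nsymm T f_3_7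
          clear e ha
          exact (excl_E6t T h2 y hy ![2, 0, 1, 3, 7, 5, 6] (by decide) (by norm_num) f_2_0 f_0_1 f_2_3 f_3_7 f_2_5 f_5_6).elim
        · have f_4_7 : T.a (y 4) (y 7) ≠ 0 := e
          have f_7_4 : T.a (y 7) (y 4) ≠ 0 := nsymm T f_4_7
          clear e ha
          exact shape8_T124 T h2 (fun i => y (![2, 3, 5, 6, 0, 1, 4, 7] i)) (hy.comp (by decide)) f_2_3 f_2_5 f_5_6 f_2_0 f_0_1 f_1_4 f_4_7
        · have f_5_7 : T.a (y 5) (y 7) ≠ 0 := e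
          have f_7_5 : T.a (y 7) (y 5) ≠ 0 := nsymm T f_5_7
          clear e ha
          exact (excl_D5t T h2 y hy ![0, 3, 2, 5, 6, 7] (by decide) (by norm_num) f_0_2 f_3_2 f_2_5 f_5_6 f_5_7).elim
        · have f_6_7 : T.a (y 6) (y 7) ≠ 0 := e
          have f_7_6 : T.a (y 7) (y 6) ≠ 0 := nsymm T f_6_7
          clear e ha
          exact shape8_T133 T h2 (fun i => y (![2, 3, 0, 1, 4, 5, 6, 7] i)) (hy.comp (by decide)) f_2_3 f_2_0 f_0_1 f_1_4 f_2_5 f_5_6 f_6_7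
    · have f_3_5 : T.a (y 3) (y 5) ≠ 0 := e
      have f_5_3 : T.a (y 5) (y 3) ≠ 0 := nsymm T f_3_5
      clear e ha
      obtain ⟨a, ha, e⟩ := hpar 6 (by norm_num) (by norm_num)
      have hc : a = 0 ∨ a = 1 ∨ a = 2 ∨ a = 3 ∨ a = 4 ∨ a = 5 := by omega
      rcases hc with rfl | rfl | rfl | rfl | rfl | rfl
      · have f_0_6 : T.a (y 0) (y 6) ≠ 0 := e
        have f_6_0 : T.a (y 6) (y 0) ≠ 0 := nsymm T f_0_6
        clear e ha
        obtain ⟨a, ha, e⟩ := hpar 7 (by norm_num) (by norm_num)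
        have hc : a = 0 ∨ a = 1 ∨ a = 2 ∨ a = 3 ∨ a = 4 ∨ a = 5 ∨ a = 6 := by omega
        rcases hc with rfl | rfl | rfl | rfl | rfl | rfl | rfl
        · have f_0_7 : T.a (y 0) (y 7) ≠ 0 := e
          have f_7_0 : T.a (y 7) (y 0) ≠ 0 := nsymm T f_0_7
          clear e ha
          exact (excl_D4t T h2 y hy ![0, 1, 2, 6, 7] (by decide) (by norm_num) f_0_1 f_0_2 f_0_6 f_0_7).elim
        · have f_1_7 : T.a (y 1) (y 7) ≠ 0 := e
          have f_7_1 : T.a (y 7) (y 1) ≠ 0 := nsymm T f_1_7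
          clear e ha
          exact (excl_D5t T h2 y hy ![2, 6, 0, 1, 4, 7] (by decide) (by norm_num) f_2_0 f_6_0 f_0_1 f_1_4 f_1_7).elim
        · have f_2_7 : T.a (y 2) (y 7) ≠ 0 := e
          have f_7_2 : T.a (y 7) (y 2) ≠ 0 := nsymm T f_2_7
          clear e ha
          exact (excl_D5t T h2 y hy ![1, 6, 0, 2, 3, 7] (by decide) (by norm_num) f_1_0 f_6_0 f_0_2 f_2_3 f_2_7).elim
        · have f_3_7 : T.a (y 3) (y 7) ≠ 0 := e
          have f_7_3 : T.a (y 7) (y 3) ≠ 0 := nsymm T f_3_7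
          clear e ha
          exact (excl_D6t T h2 y hy ![1, 6, 0, 2, 3, 5, 7] (by decide) (by norm_num) f_1_0 f_6_0 f_0_2 f_2_3 f_3_5 f_3_7).elim
        · have f_4_7 : T.a (y 4) (y 7) ≠ 0 := e
          have f_7_4 : T.a (y 7) (y 4) ≠ 0 := nsymm T f_4_7
          clear e ha
          exact shape8_T133 T h2 (fun i => y (![0, 6, 1, 4, 7, 2, 3, 5] i)) (hy.comp (by decide)) f_0_6 f_0_1 f_1_4 f_4_7 f_0_2 f_2_3 f_3_5
        · have f_5_7 : T.a (y 5) (y 7) ≠ 0 := e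
          have f_7_5 : T.a (y 7) (y 5) ≠ 0 := nsymm T f_5_7
          clear e ha
          exact shape8_T124 T h2 (fun i => y (![0, 6, 1, 4, 2, 3, 5, 7] i)) (hy.comp (by decide)) f_0_6 f_0_1 f_1_4 f_0_2 f_2_3 f_3_5 f_5_7
        · have f_6_7 : T.a (y 6) (y 7) ≠ 0 := e
          have f_7_6 : T.a (y 7) (y 6) ≠ 0 := nsymm T f_6_7
          clear e ha
          exact (excl_E6t T h2 y hy ![0, 1, 4, 2, 3, 6, 7] (by decide) (by norm_num) f_0_1 f_1_4 f_0_2 f_2_3 f_0_6 f_6_7).elim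
      · have f_1_6 : T.a (y 1) (y 6) ≠ 0 := e
        have f_6_1 : T.a (y 6) (y 1) ≠ 0 := nsymm T f_1_6
        clear e ha
        obtain ⟨a, ha, e⟩ := hpar 7 (by norm_num) (by norm_num)
        have hc : a = 0 ∨ a = 1 ∨ a = 2 ∨ a = 3 ∨ a = 4 ∨ a = 5 ∨ a = 6 := by omega
        rcases hc with rfl | rfl | rfl | rfl | rfl | rfl | rfl
        · have f_0_7 : T.a (y 0) (y 7) ≠ 0 := e
          have f_7_0 : T.a (y 7) (y 0) ≠ 0 := nsymm T f_0_7
          clear e ha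
          exact (excl_D5t T h2 y hy ![2, 7, 0, 1, 4, 6] (by decide) (by norm_num) f_2_0 f_7_0 f_0_1 f_1_4 f_1_6).elim
        · have f_1_7 : T.a (y 1) (y 7) ≠ 0 := e
          have f_7_1 : T.a (y 7) (y 1) ≠ 0 := nsymm T f_1_7
          clear e ha
          exact (excl_D4t T h2 y hy ![1, 0, 4, 6, 7] (by decide) (by norm_num) f_1_0 f_1_4 f_1_6 f_1_7).elim
        · have f_2_7 : T.a (y 2) (y 7) ≠ 0 := e
          have f_7_2 : T.a (y 7) (y 2) ≠ 0 := nsymm T f_2_7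
          clear e ha
          exact (excl_D6t T h2 y hy ![3, 7, 2, 0, 1, 4, 6] (by decide) (by norm_num) f_3_2 f_7_2 f_2_0 f_0_1 f_1_4 f_1_6).elim
        · have f_3_7 : T.a (y 3) (y 7) ≠ 0 := e
          have f_7_3 : T.a (y 7) (y 3) ≠ 0 := nsymm T f_3_7
          clear e ha
          exact shape8_Dt T h2 (fun i => y (![4, 6, 1, 0, 2, 3, 5, 7] i)) (hy.comp (by decide)) f_4_1 f_6_1 f_1_0 f_0_2 f_2_3 f_3_5 f_3_7
        · have f_4_7 : T.a (y 4) (y 7) ≠ 0 := e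
          have f_7_4 : T.a (y 7) (y 4) ≠ 0 := nsymm T f_4_7
          clear e ha
          exact shape8_T124 T h2 (fun i => y (![1, 6, 4, 7, 0, 2, 3, 5] i)) (hy.comp (by decide)) f_1_6 f_1_4 f_4_7 f_1_0 f_0_2 f_2_3 f_3_5
        · have f_5_7 : T.a (y 5) (y 7) ≠ 0 := e
          have f_7_5 : T.a (y 7) (y 5) ≠ 0 := nsymm T f_5_7
          clear e ha
          exact shape8_D T h2 (fun i => y (![1, 4, 6, 0, 2, 3, 5, 7] i)) (hy.comp (by decide)) f_1_4 f_1_6 f_1_0 f_0_2 f_2_3 f_3_5 f_5_7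
        · have f_6_7 : T.a (y 6) (y 7) ≠ 0 := e
          have f_7_6 : T.a (y 7) (y 6) ≠ 0 := nsymm T f_6_7
          clear e ha
          exact shape8_T124 T h2 (fun i => y (![1, 4, 6, 7, 0, 2, 3, 5] i)) (hy.comp (by decide)) f_1_4 f_1_6 f_6_7 f_1_0 f_0_2 f_2_3 f_3_5
      · have f_2_6 : T.a (y 2) (y 6) ≠ 0 := e
        have f_6_2 : T.a (y 6) (y 2) ≠ 0 := nsymm T f_2_6
        clear e ha
        obtain ⟨a, ha, e⟩ := hpar 7 (by norm_num) (by norm_num)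
        have hc : a = 0 ∨ a = 1 ∨ a = 2 ∨ a = 3 ∨ a = 4 ∨ a = 5 ∨ a = 6 := by omega
        rcases hc with rfl | rfl | rfl | rfl | rfl | rfl | rfl
        · have f_0_7 : T.a (y 0) (y 7) ≠ 0 := e
          have f_7_0 : T.a (y 7) (y 0) ≠ 0 := nsymm T f_0_7
          clear e ha
          exact (excl_D5t T h2 y hy ![1, 7, 0, 2, 3, 6] (by decide) (by norm_num) f_1_0 f_7_0 f_0_2 f_2_3 f_2_6).elim
        · have f_1_7 : T.a (y 1) (y 7) ≠ 0 := e
          have f_7_1 : T.a (y 7) (y 1) ≠ 0 := nsymm T f_1_7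
          clear e ha
          exact (excl_D6t T h2 y hy ![3, 6, 2, 0, 1, 4, 7] (by decide) (by norm_num) f_3_2 f_6_2 f_2_0 f_0_1 f_1_4 f_1_7).elim
        · have f_2_7 : T.a (y 2) (y 7) ≠ 0 := e
          have f_7_2 : T.a (y 7) (y 2) ≠ 0 := nsymm T f_2_7
          clear e ha
          exact (excl_D4t T h2 y hy ![2, 0, 3, 6, 7] (by decide) (by norm_num) f_2_0 f_2_3 f_2_6 f_2_7).elim
        · have f_3_7 : T.a (y 3) (y 7) ≠ 0 := e
          have f_7_3 : T.a (y 7) (y 3) ≠ 0 := nsymm T f_3_7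
          clear e ha
          exact (excl_D5t T h2 y hy ![0, 6, 2, 3, 5, 7] (by decide) (by norm_num) f_0_2 f_6_2 f_2_3 f_3_5 f_3_7).elim
        · have f_4_7 : T.a (y 4) (y 7) ≠ 0 := e
          have f_7_4 : T.a (y 7) (y 4) ≠ 0 := nsymm T f_4_7
          clear e ha
          exact shape8_T124 T h2 (fun i => y (![2, 6, 3, 5, 0, 1, 4, 7] i)) (hy.comp (by decide)) f_2_6 f_2_3 f_3_5 f_2_0 f_0_1 f_1_4 f_4_7
        · have f_5_7 : T.a (y 5) (y 7) ≠ 0 := e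
          have f_7_5 : T.a (y 7) (y 5) ≠ 0 := nsymm T f_5_7
          clear e ha
          exact shape8_T133 T h2 (fun i => y (![2, 6, 0, 1, 4, 3, 5, 7] i)) (hy.comp (by decide)) f_2_6 f_2_0 f_0_1 f_1_4 f_2_3 f_3_5 f_5_7
        · have f_6_7 : T.a (y 6) (y 7) ≠ 0 := e
          have f_7_6 : T.a (y 7) (y 6) ≠ 0 := nsymm T f_6_7
          clear e ha
          exact (excl_E6t T h2 y hy ![2, 0, 1, 3, 5, 6, 7] (by decide) (by norm_num) f_2_0 f_0_1 f_2_3 f_3_5 f_2_6 f_6_7).elim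
      · have f_3_6 : T.a (y 3) (y 6) ≠ 0 := e
        have f_6_3 : T.a (y 6) (y 3) ≠ 0 := nsymm T f_3_6
        clear e ha
        obtain ⟨a, ha, e⟩ := hpar 7 (by norm_num) (by norm_num)
        have hc : a = 0 ∨ a = 1 ∨ a = 2 ∨ a = 3 ∨ a = 4 ∨ a = 5 ∨ a = 6 := by omega
        rcases hc with rfl | rfl | rfl | rfl | rfl | rfl | rfl
        · have f_0_7 : T.a (y 0) (y 7) ≠ 0 := e
          have f_7_0 : T.a (y 7) (y 0) ≠ 0 := nsymm T f_0_7
          clear e ha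
          exact (excl_D6t T h2 y hy ![1, 7, 0, 2, 3, 5, 6] (by decide) (by norm_num) f_1_0 f_7_0 f_0_2 f_2_3 f_3_5 f_3_6).elim
        · have f_1_7 : T.a (y 1) (y 7) ≠ 0 := e
          have f_7_1 : T.a (y 7) (y 1) ≠ 0 := nsymm T f_1_7
          clear e ha
          exact shape8_Dt T h2 (fun i => y (![4, 7, 1, 0, 2, 3, 5, 6] i)) (hy.comp (by decide)) f_4_1 f_7_1 f_1_0 f_0_2 f_2_3 f_3_5 f_3_6
        · have f_2_7 : T.a (y 2) (y 7) ≠ 0 := e
          have f_7_2 : T.a (y 7) (y 2) ≠ 0 := nsymm T f_2_7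
          clear e ha
          exact (excl_D5t T h2 y hy ![0, 7, 2, 3, 5, 6] (by decide) (by norm_num) f_0_2 f_7_2 f_2_3 f_3_5 f_3_6).elim
        · have f_3_7 : T.a (y 3) (y 7) ≠ 0 := e
          have f_7_3 : T.a (y 7) (y 3) ≠ 0 := nsymm T f_3_7
          clear e ha
          exact (excl_D4t T h2 y hy ![3, 2, 5, 6, 7] (by decide) (by norm_num) f_3_2 f_3_5 f_3_6 f_3_7).elim
        · have f_4_7 : T.a (y 4) (y 7) ≠ 0 := e
          have f_7_4 : T.a (y 7) (y 4) ≠ 0 := nsymm T f_4_7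
          clear e ha
          exact shape8_D T h2 (fun i => y (![3, 5, 6, 2, 0, 1, 4, 7] i)) (hy.comp (by decide)) f_3_5 f_3_6 f_3_2 f_2_0 f_0_1 f_1_4 f_4_7
        · have f_5_7 : T.a (y 5) (y 7) ≠ 0 := e
          have f_7_5 : T.a (y 7) (y 5) ≠ 0 := nsymm T f_5_7
          clear e ha
          exact shape8_T124 T h2 (fun i => y (![3, 6, 5, 7, 2, 0, 1, 4] i)) (hy.comp (by decide)) f_3_6 f_3_5 f_5_7 f_3_2 f_2_0 f_0_1 f_1_4
        · have f_6_7 : T.a (y 6) (y 7) ≠ 0 := e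
          have f_7_6 : T.a (y 7) (y 6) ≠ 0 := nsymm T f_6_7
          clear e ha
          exact shape8_T124 T h2 (fun i => y (![3, 5, 6, 7, 2, 0, 1, 4] i)) (hy.comp (by decide)) f_3_5 f_3_6 f_6_7 f_3_2 f_2_0 f_0_1 f_1_4
      · have f_4_6 : T.a (y 4) (y 6) ≠ 0 := e
        have f_6_4 : T.a (y 6) (y 4) ≠ 0 := nsymm T f_4_6
        clear e ha
        obtain ⟨a, ha, e⟩ := hpar 7 (by norm_num) (by norm_num)
        have hc : a = 0 ∨ a = 1 ∨ a = 2 ∨ a = 3 ∨ a = 4 ∨ a = 5 ∨ a = 6 := by omega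
        rcases hc with rfl | rfl | rfl | rfl | rfl | rfl | rfl
        · have f_0_7 : T.a (y 0) (y 7) ≠ 0 := e
          have f_7_0 : T.a (y 7) (y 0) ≠ 0 := nsymm T f_0_7
          clear e ha
          exact shape8_T133 T h2 (fun i => y (![0, 7, 1, 4, 6, 2, 3, 5] i)) (hy.comp (by decide)) f_0_7 f_0_1 f_1_4 f_4_6 f_0_2 f_2_3 f_3_5
        · have f_1_7 : T.a (y 1) (y 7) ≠ 0 := e
          have f_7_1 : T.a (y 7) (y 1) ≠ 0 := nsymm T f_1_7
          clear e ha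
          exact shape8_T124 T h2 (fun i => y (![1, 7, 4, 6, 0, 2, 3, 5] i)) (hy.comp (by decide)) f_1_7 f_1_4 f_4_6 f_1_0 f_0_2 f_2_3 f_3_5
        · have f_2_7 : T.a (y 2) (y 7) ≠ 0 := e
          have f_7_2 : T.a (y 7) (y 2) ≠ 0 := nsymm T f_2_7
          clear e ha
          exact shape8_T124 T h2 (fun i => y (![2, 7, 3, 5, 0, 1, 4, 6] i)) (hy.comp (by decide)) f_2_7 f_2_3 f_3_5 f_2_0 f_0_1 f_1_4 f_4_6
        · have f_3_7 : T.a (y 3) (y 7) ≠ 0 := e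
          have f_7_3 : T.a (y 7) (y 3) ≠ 0 := nsymm T f_3_7
          clear e ha
          exact shape8_D T h2 (fun i => y (![3, 5, 7, 2, 0, 1, 4, 6] i)) (hy.comp (by decide)) f_3_5 f_3_7 f_3_2 f_2_0 f_0_1 f_1_4 f_4_6
        · have f_4_7 : T.a (y 4) (y 7) ≠ 0 := e
          have f_7_4 : T.a (y 7) (y 4) ≠ 0 := nsymm T f_4_7
          clear e ha
          exact shape8_D T h2 (fun i => y (![4, 6, 7, 1, 0, 2, 3, 5] i)) (hy.comp (by decide)) f_4_6 f_4_7 f_4_1 f_1_0 f_0_2 f_2_3 f_3_5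
        · have f_5_7 : T.a (y 5) (y 7) ≠ 0 := e
          have f_7_5 : T.a (y 7) (y 5) ≠ 0 := nsymm T f_5_7
          clear e ha
          exact shape8_path T h2 (fun i => y (![6, 4, 1, 0, 2, 3, 5, 7] i)) (hy.comp (by decide)) f_6_4 f_4_1 f_1_0 f_0_2 f_2_3 f_3_5 f_5_7
        · have f_6_7 : T.a (y 6) (y 7) ≠ 0 := e
          have f_7_6 : T.a (y 7) (y 6) ≠ 0 := nsymm T f_6_7
          clear e ha
          exact shape8_path T h2 (fun i => y (![5, 3, 2, 0, 1, 4, 6, 7] i)) (hy.comp (by decide)) f_5_3 f_3_2 f_2_0 f_0_1 f_1_4 f_4_6 f_6_7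
      · have f_5_6 : T.a (y 5) (y 6) ≠ 0 := e
        have f_6_5 : T.a (y 6) (y 5) ≠ 0 := nsymm T f_5_6
        clear e ha
        obtain ⟨a, ha, e⟩ := hpar 7 (by norm_num) (by norm_num)
        have hc : a = 0 ∨ a = 1 ∨ a = 2 ∨ a = 3 ∨ a = 4 ∨ a = 5 ∨ a = 6 := by omega
        rcases hc with rfl | rfl | rfl | rfl | rfl | rfl | rfl
        · have f_0_7 : T.a (y 0) (y 7) ≠ 0 := e
          have f_7_0 : T.a (y 7) (y 0) ≠ 0 := nsymm T f_0_7
          clear e ha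
          exact shape8_T124 T h2 (fun i => y (![0, 7, 1, 4, 2, 3, 5, 6] i)) (hy.comp (by decide)) f_0_7 f_0_1 f_1_4 f_0_2 f_2_3 f_3_5 f_5_6
        · have f_1_7 : T.a (y 1) (y 7) ≠ 0 := e
          have f_7_1 : T.a (y 7) (y 1) ≠ 0 := nsymm T f_1_7
          clear e ha
          exact shape8_D T h2 (fun i => y (![1, 4, 7, 0, 2, 3, 5, 6] i)) (hy.comp (by decide)) f_1_4 f_1_7 f_1_0 f_0_2 f_2_3 f_3_5 f_5_6
        · have f_2_7 : T.a (y 2) (y 7) ≠ 0 := e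
          have f_7_2 : T.a (y 7) (y 2) ≠ 0 := nsymm T f_2_7
          clear e ha
          exact shape8_T133 T h2 (fun i => y (![2, 7, 0, 1, 4, 3, 5, 6] i)) (hy.comp (by decide)) f_2_7 f_2_0 f_0_1 f_1_4 f_2_3 f_3_5 f_5_6
        · have f_3_7 : T.a (y 3) (y 7) ≠ 0 := e
          have f_7_3 : T.a (y 7) (y 3) ≠ 0 := nsymm T f_3_7
          clear e ha
          exact shape8_T124 T h2 (fun i => y (![3, 7, 5, 6, 2, 0, 1, 4] i)) (hy.comp (by decide)) f_3_7 f_3_5 f_5_6 f_3_2 f_2_0 f_0_1 f_1_4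
        · have f_4_7 : T.a (y 4) (y 7) ≠ 0 := e
          have f_7_4 : T.a (y 7) (y 4) ≠ 0 := nsymm T f_4_7
          clear e ha
          exact shape8_path T h2 (fun i => y (![6, 5, 3, 2, 0, 1, 4, 7] i)) (hy.comp (by decide)) f_6_5 f_5_3 f_3_2 f_2_0 f_0_1 f_1_4 f_4_7
        · have f_5_7 : T.a (y 5) (y 7) ≠ 0 := e
          have f_7_5 : T.a (y 7) (y 5) ≠ 0 := nsymm T f_5_7
          clear e ha
          exact shape8_D T h2 (fun i => y (![5, 6, 7, 3, 2, 0, 1, 4] i)) (hy.comp (by decide)) f_5_6 f_5_7 f_5_3 f_3_2 f_2_0 f_0_1 f_1_4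
        · have f_6_7 : T.a (y 6) (y 7) ≠ 0 := e
          have f_7_6 : T.a (y 7) (y 6) ≠ 0 := nsymm T f_6_7
          clear e ha
          exact shape8_path T h2 (fun i => y (![4, 1, 0, 2, 3, 5, 6, 7] i)) (hy.comp (by decide)) f_4_1 f_1_0 f_0_2 f_2_3 f_3_5 f_5_6 f_6_7
    · have f_4_5 : T.a (y 4) (y 5) ≠ 0 := e
      have f_5_4 : T.a (y 5) (y 4) ≠ 0 := nsymm T f_4_5
      clear e ha
      obtain ⟨a, ha, e⟩ := hpar 6 (by norm_num) (by norm_num)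
      have hc : a = 0 ∨ a = 1 ∨ a = 2 ∨ a = 3 ∨ a = 4 ∨ a = 5 := by omega
      rcases hc with rfl | rfl | rfl | rfl | rfl | rfl
      · have f_0_6 : T.a (y 0) (y 6) ≠ 0 := e
        have f_6_0 : T.a (y 6) (y 0) ≠ 0 := nsymm T f_0_6
        clear e ha
        obtain ⟨a, ha, e⟩ := hpar 7 (by norm_num) (by norm_num)
        have hc : a = 0 ∨ a = 1 ∨ a = 2 ∨ a = 3 ∨ a = 4 ∨ a = 5 ∨ a = 6 := by omega
        rcases hc with rfl | rfl | rfl | rfl | rfl | rfl | rfl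
        · have f_0_7 : T.a (y 0) (y 7) ≠ 0 := e
          have f_7_0 : T.a (y 7) (y 0) ≠ 0 := nsymm T f_0_7
          clear e ha
          exact (excl_D4t T h2 y hy ![0, 1, 2, 6, 7] (by decide) (by norm_num) f_0_1 f_0_2 f_0_6 f_0_7).elim
        · have f_1_7 : T.a (y 1) (y 7) ≠ 0 := e
          have f_7_1 : T.a (y 7) (y 1) ≠ 0 := nsymm T f_1_7
          clear e ha
          exact (excl_D5t T h2 y hy ![2, 6, 0, 1, 4, 7] (by decide) (by norm_num) f_2_0 f_6_0 f_0_1 f_1_4 f_1_7).elim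
        · have f_2_7 : T.a (y 2) (y 7) ≠ 0 := e
          have f_7_2 : T.a (y 7) (y 2) ≠ 0 := nsymm T f_2_7
          clear e ha
          exact (excl_D5t T h2 y hy ![1, 6, 0, 2, 3, 7] (by decide) (by norm_num) f_1_0 f_6_0 f_0_2 f_2_3 f_2_7).elim
        · have f_3_7 : T.a (y 3) (y 7) ≠ 0 := e
          have f_7_3 : T.a (y 7) (y 3) ≠ 0 := nsymm T f_3_7
          clear e ha
          exact shape8_T133 T h2 (fun i => y (![0, 6, 1, 4, 5, 2, 3, 7] i)) (hy.comp (by decide)) f_0_6 f_0_1 f_1_4 f_4_5 f_0_2 f_2_3 f_3_7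
        · have f_4_7 : T.a (y 4) (y 7) ≠ 0 := e
          have f_7_4 : T.a (y 7) (y 4) ≠ 0 := nsymm T f_4_7
          clear e ha
          exact (excl_D6t T h2 y hy ![2, 6, 0, 1, 4, 5, 7] (by decide) (by norm_num) f_2_0 f_6_0 f_0_1 f_1_4 f_4_5 f_4_7).elim
        · have f_5_7 : T.a (y 5) (y 7) ≠ 0 := e
          have f_7_5 : T.a (y 7) (y 5) ≠ 0 := nsymm T f_5_7
          clear e ha
          exact shape8_T124 T h2 (fun i => y (![0, 6, 2, 3, 1, 4, 5, 7] i)) (hy.comp (by decide)) f_0_6 f_0_2 f_2_3 f_0_1 f_1_4 f_4_5 f_5_7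
        · have f_6_7 : T.a (y 6) (y 7) ≠ 0 := e
          have f_7_6 : T.a (y 7) (y 6) ≠ 0 := nsymm T f_6_7
          clear e ha
          exact (excl_E6t T h2 y hy ![0, 1, 4, 2, 3, 6, 7] (by decide) (by norm_num) f_0_1 f_1_4 f_0_2 f_2_3 f_0_6 f_6_7).elim
      · have f_1_6 : T.a (y 1) (y 6) ≠ 0 := e
        have f_6_1 : T.a (y 6) (y 1) ≠ 0 := nsymm T f_1_6
        clear e ha
        obtain ⟨a, ha, e⟩ := hpar 7 (by norm_num) (by norm_num)
        have hc : a = 0 ∨ a = 1 ∨ a = 2 ∨ a = 3 ∨ a = 4 ∨ a = 5 ∨ a = 6 := by omega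
        rcases hc with rfl | rfl | rfl | rfl | rfl | rfl | rfl
        · have f_0_7 : T.a (y 0) (y 7) ≠ 0 := e
          have f_7_0 : T.a (y 7) (y 0) ≠ 0 := nsymm T f_0_7
          clear e ha
          exact (excl_D5t T h2 y hy ![2, 7, 0, 1, 4, 6] (by decide) (by norm_num) f_2_0 f_7_0 f_0_1 f_1_4 f_1_6).elim
        · have f_1_7 : T.a (y 1) (y 7) ≠ 0 := e
          have f_7_1 : T.a (y 7) (y 1) ≠ 0 := nsymm T f_1_7
          clear e ha
          exact (excl_D4t T h2 y hy ![1, 0, 4, 6, 7] (by decide) (by norm_num) f_1_0 f_1_4 f_1_6 f_1_7).elim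
        · have f_2_7 : T.a (y 2) (y 7) ≠ 0 := e
          have f_7_2 : T.a (y 7) (y 2) ≠ 0 := nsymm T f_2_7
          clear e ha
          exact (excl_D6t T h2 y hy ![3, 7, 2, 0, 1, 4, 6] (by decide) (by norm_num) f_3_2 f_7_2 f_2_0 f_0_1 f_1_4 f_1_6).elim
        · have f_3_7 : T.a (y 3) (y 7) ≠ 0 := e
          have f_7_3 : T.a (y 7) (y 3) ≠ 0 := nsymm T f_3_7
          clear e ha
          exact shape8_T124 T h2 (fun i => y (![1, 6, 4, 5, 0, 2, 3, 7] i)) (hy.comp (by decide)) f_1_6 f_1_4 f_4_5 f_1_0 f_0_2 f_2_3 f_3_7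
        · have f_4_7 : T.a (y 4) (y 7) ≠ 0 := e
          have f_7_4 : T.a (y 7) (y 4) ≠ 0 := nsymm T f_4_7
          clear e ha
          exact (excl_D5t T h2 y hy ![0, 6, 1, 4, 5, 7] (by decide) (by norm_num) f_0_1 f_6_1 f_1_4 f_4_5 f_4_7).elim
        · have f_5_7 : T.a (y 5) (y 7) ≠ 0 := e
          have f_7_5 : T.a (y 7) (y 5) ≠ 0 := nsymm T f_5_7
          clear e ha
          exact shape8_T133 T h2 (fun i => y (![1, 6, 0, 2, 3, 4, 5, 7] i)) (hy.comp (by decide)) f_1_6 f_1_0 f_0_2 f_2_3 f_1_4 f_4_5 f_5_7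
        · have f_6_7 : T.a (y 6) (y 7) ≠ 0 := e
          have f_7_6 : T.a (y 7) (y 6) ≠ 0 := nsymm T f_6_7
          clear e ha
          exact (excl_E6t T h2 y hy ![1, 0, 2, 4, 5, 6, 7] (by decide) (by norm_num) f_1_0 f_0_2 f_1_4 f_4_5 f_1_6 f_6_7).elim
      · have f_2_6 : T.a (y 2) (y 6) ≠ 0 := e
        have f_6_2 : T.a (y 6) (y 2) ≠ 0 := nsymm T f_2_6
        clear e ha
        obtain ⟨a, ha, e⟩ := hpar 7 (by norm_num) (by norm_num)
        have hc : a = 0 ∨ a = 1 ∨ a = 2 ∨ a = 3 ∨ a = 4 ∨ a = 5 ∨ a = 6 := by omega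
        rcases hc with rfl | rfl | rfl | rfl | rfl | rfl | rfl
        · have f_0_7 : T.a (y 0) (y 7) ≠ 0 := e
          have f_7_0 : T.a (y 7) (y 0) ≠ 0 := nsymm T f_0_7
          clear e ha
          exact (excl_D5t T h2 y hy ![1, 7, 0, 2, 3, 6] (by decide) (by norm_num) f_1_0 f_7_0 f_0_2 f_2_3 f_2_6).elim
        · have f_1_7 : T.a (y 1) (y 7) ≠ 0 := e
          have f_7_1 : T.a (y 7) (y 1) ≠ 0 := nsymm T f_1_7
          clear e ha
          exact (excl_D6t T h2 y hy ![3, 6, 2, 0, 1, 4, 7] (by decide) (by norm_num) f_3_2 f_6_2 f_2_0 f_0_1 f_1_4 f_1_7).elim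
        · have f_2_7 : T.a (y 2) (y 7) ≠ 0 := e
          have f_7_2 : T.a (y 7) (y 2) ≠ 0 := nsymm T f_2_7
          clear e ha
          exact (excl_D4t T h2 y hy ![2, 0, 3, 6, 7] (by decide) (by norm_num) f_2_0 f_2_3 f_2_6 f_2_7).elim
        · have f_3_7 : T.a (y 3) (y 7) ≠ 0 := e
          have f_7_3 : T.a (y 7) (y 3) ≠ 0 := nsymm T f_3_7
          clear e ha
          exact shape8_T124 T h2 (fun i => y (![2, 6, 3, 7, 0, 1, 4, 5] i)) (hy.comp (by decide)) f_2_6 f_2_3 f_3_7 f_2_0 f_0_1 f_1_4 f_4_5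
        · have f_4_7 : T.a (y 4) (y 7) ≠ 0 := e
          have f_7_4 : T.a (y 7) (y 4) ≠ 0 := nsymm T f_4_7
          clear e ha
          exact shape8_Dt T h2 (fun i => y (![3, 6, 2, 0, 1, 4, 5, 7] i)) (hy.comp (by decide)) f_3_2 f_6_2 f_2_0 f_0_1 f_1_4 f_4_5 f_4_7
        · have f_5_7 : T.a (y 5) (y 7) ≠ 0 := e
          have f_7_5 : T.a (y 7) (y 5) ≠ 0 := nsymm T f_5_7
          clear e ha
          exact shape8_D T h2 (fun i => y (![2, 3, 6, 0, 1, 4, 5, 7] i)) (hy.comp (by decide)) f_2_3 f_2_6 f_2_0 f_0_1 f_1_4 f_4_5 f_5_7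
        · have f_6_7 : T.a (y 6) (y 7) ≠ 0 := e
          have f_7_6 : T.a (y 7) (y 6) ≠ 0 := nsymm T f_6_7
          clear e ha
          exact shape8_T124 T h2 (fun i => y (![2, 3, 6, 7, 0, 1, 4, 5] i)) (hy.comp (by decide)) f_2_3 f_2_6 f_6_7 f_2_0 f_0_1 f_1_4 f_4_5
      · have f_3_6 : T.a (y 3) (y 6) ≠ 0 := e
        have f_6_3 : T.a (y 6) (y 3) ≠ 0 := nsymm T f_3_6
        clear e ha
        obtain ⟨a, ha, e⟩ := hpar 7 (by norm_num) (by norm_num)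
        have hc : a = 0 ∨ a = 1 ∨ a = 2 ∨ a = 3 ∨ a = 4 ∨ a = 5 ∨ a = 6 := by omega
        rcases hc with rfl | rfl | rfl | rfl | rfl | rfl | rfl
        · have f_0_7 : T.a (y 0) (y 7) ≠ 0 := e
          have f_7_0 : T.a (y 7) (y 0) ≠ 0 := nsymm T f_0_7
          clear e ha
          exact shape8_T133 T h2 (fun i => y (![0, 7, 1, 4, 5, 2, 3, 6] i)) (hy.comp (by decide)) f_0_7 f_0_1 f_1_4 f_4_5 f_0_2 f_2_3 f_3_6
        · have f_1_7 : T.a (y 1) (y 7) ≠ 0 := e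
          have f_7_1 : T.a (y 7) (y 1) ≠ 0 := nsymm T f_1_7
          clear e ha
          exact shape8_T124 T h2 (fun i => y (![1, 7, 4, 5, 0, 2, 3, 6] i)) (hy.comp (by decide)) f_1_7 f_1_4 f_4_5 f_1_0 f_0_2 f_2_3 f_3_6
        · have f_2_7 : T.a (y 2) (y 7) ≠ 0 := e
          have f_7_2 : T.a (y 7) (y 2) ≠ 0 := nsymm T f_2_7
          clear e ha
          exact shape8_T124 T h2 (fun i => y (![2, 7, 3, 6, 0, 1, 4, 5] i)) (hy.comp (by decide)) f_2_7 f_2_3 f_3_6 f_2_0 f_0_1 f_1_4 f_4_5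
        · have f_3_7 : T.a (y 3) (y 7) ≠ 0 := e
          have f_7_3 : T.a (y 7) (y 3) ≠ 0 := nsymm T f_3_7
          clear e ha
          exact shape8_D T h2 (fun i => y (![3, 6, 7, 2, 0, 1, 4, 5] i)) (hy.comp (by decide)) f_3_6 f_3_7 f_3_2 f_2_0 f_0_1 f_1_4 f_4_5
        · have f_4_7 : T.a (y 4) (y 7) ≠ 0 := e
          have f_7_4 : T.a (y 7) (y 4) ≠ 0 := nsymm T f_4_7
          clear e ha
          exact shape8_D T h2 (fun i => y (![4, 5, 7, 1, 0, 2, 3, 6] i)) (hy.comp (by decide)) f_4_5 f_4_7 f_4_1 f_1_0 f_0_2 f_2_3 f_3_6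
        · have f_5_7 : T.a (y 5) (y 7) ≠ 0 := e
          have f_7_5 : T.a (y 7) (y 5) ≠ 0 := nsymm T f_5_7
          clear e ha
          exact shape8_path T h2 (fun i => y (![6, 3, 2, 0, 1, 4, 5, 7] i)) (hy.comp (by decide)) f_6_3 f_3_2 f_2_0 f_0_1 f_1_4 f_4_5 f_5_7
        · have f_6_7 : T.a (y 6) (y 7) ≠ 0 := e
          have f_7_6 : T.a (y 7) (y 6) ≠ 0 := nsymm T f_6_7
          clear e ha
          exact shape8_path T h2 (fun i => y (![5, 4, 1, 0, 2, 3, 6, 7] i)) (hy.comp (by decide)) f_5_4 f_4_1 f_1_0 f_0_2 f_2_3 f_3_6 f_6_7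
      · have f_4_6 : T.a (y 4) (y 6) ≠ 0 := e
        have f_6_4 : T.a (y 6) (y 4) ≠ 0 := nsymm T f_4_6
        clear e ha
        obtain ⟨a, ha, e⟩ := hpar 7 (by norm_num) (by norm_num)
        have hc : a = 0 ∨ a = 1 ∨ a = 2 ∨ a = 3 ∨ a = 4 ∨ a = 5 ∨ a = 6 := by omega
        rcases hc with rfl | rfl | rfl | rfl | rfl | rfl | rfl
        · have f_0_7 : T.a (y 0) (y 7) ≠ 0 := e
          have f_7_0 : T.a (y 7) (y 0) ≠ 0 := nsymm T f_0_7
          clear e ha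
          exact (excl_D6t T h2 y hy ![2, 7, 0, 1, 4, 5, 6] (by decide) (by norm_num) f_2_0 f_7_0 f_0_1 f_1_4 f_4_5 f_4_6).elim
        · have f_1_7 : T.a (y 1) (y 7) ≠ 0 := e
          have f_7_1 : T.a (y 7) (y 1) ≠ 0 := nsymm T f_1_7
          clear e ha
          exact (excl_D5t T h2 y hy ![0, 7, 1, 4, 5, 6] (by decide) (by norm_num) f_0_1 f_7_1 f_1_4 f_4_5 f_4_6).elim
        · have f_2_7 : T.a (y 2) (y 7) ≠ 0 := e
          have f_7_2 : T.a (y 7) (y 2) ≠ 0 := nsymm T f_2_7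
          clear e ha
          exact shape8_Dt T h2 (fun i => y (![3, 7, 2, 0, 1, 4, 5, 6] i)) (hy.comp (by decide)) f_3_2 f_7_2 f_2_0 f_0_1 f_1_4 f_4_5 f_4_6
        · have f_3_7 : T.a (y 3) (y 7) ≠ 0 := e
          have f_7_3 : T.a (y 7) (y 3) ≠ 0 := nsymm T f_3_7
          clear e ha
          exact shape8_D T h2 (fun i => y (![4, 5, 6, 1, 0, 2, 3, 7] i)) (hy.comp (by decide)) f_4_5 f_4_6 f_4_1 f_1_0 f_0_2 f_2_3 f_3_7
        · have f_4_7 : T.a (y 4) (y 7) ≠ 0 := e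
          have f_7_4 : T.a (y 7) (y 4) ≠ 0 := nsymm T f_4_7
          clear e ha
          exact (excl_D4t T h2 y hy ![4, 1, 5, 6, 7] (by decide) (by norm_num) f_4_1 f_4_5 f_4_6 f_4_7).elim
        · have f_5_7 : T.a (y 5) (y 7) ≠ 0 := e
          have f_7_5 : T.a (y 7) (y 5) ≠ 0 := nsymm T f_5_7
          clear e ha
          exact shape8_T124 T h2 (fun i => y (![4, 6, 5, 7, 1, 0, 2, 3] i)) (hy.comp (by decide)) f_4_6 f_4_5 f_5_7 f_4_1 f_1_0 f_0_2 f_2_3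
        · have f_6_7 : T.a (y 6) (y 7) ≠ 0 := e
          have f_7_6 : T.a (y 7) (y 6) ≠ 0 := nsymm T f_6_7
          clear e ha
          exact shape8_T124 T h2 (fun i => y (![4, 5, 6, 7, 1, 0, 2, 3] i)) (hy.comp (by decide)) f_4_5 f_4_6 f_6_7 f_4_1 f_1_0 f_0_2 f_2_3
      · have f_5_6 : T.a (y 5) (y 6) ≠ 0 := e
        have f_6_5 : T.a (y 6) (y 5) ≠ 0 := nsymm T f_5_6
        clear e ha
        obtain ⟨a, ha, e⟩ := hpar 7 (by norm_num) (by norm_num)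
        have hc : a = 0 ∨ a = 1 ∨ a = 2 ∨ a = 3 ∨ a = 4 ∨ a = 5 ∨ a = 6 := by omega
        rcases hc with rfl | rfl | rfl | rfl | rfl | rfl | rfl
        · have f_0_7 : T.a (y 0) (y 7) ≠ 0 := e
          have f_7_0 : T.a (y 7) (y 0) ≠ 0 := nsymm T f_0_7
          clear e ha
          exact shape8_T124 T h2 (fun i => y (![0, 7, 2, 3, 1, 4, 5, 6] i)) (hy.comp (by decide)) f_0_7 f_0_2 f_2_3 f_0_1 f_1_4 f_4_5 f_5_6
        · have f_1_7 : T.a (y 1) (y 7) ≠ 0 := e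
          have f_7_1 : T.a (y 7) (y 1) ≠ 0 := nsymm T f_1_7
          clear e ha
          exact shape8_T133 T h2 (fun i => y (![1, 7, 0, 2, 3, 4, 5, 6] i)) (hy.comp (by decide)) f_1_7 f_1_0 f_0_2 f_2_3 f_1_4 f_4_5 f_5_6
        · have f_2_7 : T.a (y 2) (y 7) ≠ 0 := e
          have f_7_2 : T.a (y 7) (y 2) ≠ 0 := nsymm T f_2_7
          clear e ha
          exact shape8_D T h2 (fun i => y (![2, 3, 7, 0, 1, 4, 5, 6] i)) (hy.comp (by decide)) f_2_3 f_2_7 f_2_0 f_0_1 f_1_4 f_4_5 f_5_6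
        · have f_3_7 : T.a (y 3) (y 7) ≠ 0 := e
          have f_7_3 : T.a (y 7) (y 3) ≠ 0 := nsymm T f_3_7
          clear e ha
          exact shape8_path T h2 (fun i => y (![6, 5, 4, 1, 0, 2, 3, 7] i)) (hy.comp (by decide)) f_6_5 f_5_4 f_4_1 f_1_0 f_0_2 f_2_3 f_3_7
        · have f_4_7 : T.a (y 4) (y 7) ≠ 0 := e
          have f_7_4 : T.a (y 7) (y 4) ≠ 0 := nsymm T f_4_7
          clear e ha
          exact shape8_T124 T h2 (fun i => y (![4, 7, 5, 6, 1, 0, 2, 3] i)) (hy.comp (by decide)) f_4_7 f_4_5 f_5_6 f_4_1 f_1_0 f_0_2 f_2_3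
        · have f_5_7 : T.a (y 5) (y 7) ≠ 0 := e
          have f_7_5 : T.a (y 7) (y 5) ≠ 0 := nsymm T f_5_7
          clear e ha
          exact shape8_D T h2 (fun i => y (![5, 6, 7, 4, 1, 0, 2, 3] i)) (hy.comp (by decide)) f_5_6 f_5_7 f_5_4 f_4_1 f_1_0 f_0_2 f_2_3
        · have f_6_7 : T.a (y 6) (y 7) ≠ 0 := e
          have f_7_6 : T.a (y 7) (y 6) ≠ 0 := nsymm T f_6_7
          clear e ha
          exact shape8_path T h2 (fun i => y (![3, 2, 0, 1, 4, 5, 6, 7] i)) (hy.comp (by decide)) f_3_2 f_2_0 f_0_1 f_1_4 f_4_5 f_5_6 f_6_7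
  · have f_2_4 : T.a (y 2) (y 4) ≠ 0 := e
    have f_4_2 : T.a (y 4) (y 2) ≠ 0 := nsymm T f_2_4
    clear e ha
    obtain ⟨a, ha, e⟩ := hpar 5 (by norm_num) (by norm_num)
    have hc : a = 0 ∨ a = 1 ∨ a = 2 ∨ a = 3 ∨ a = 4 := by omega
    rcases hc with rfl | rfl | rfl | rfl | rfl
    · have f_0_5 : T.a (y 0) (y 5) ≠ 0 := e
      have f_5_0 : T.a (y 5) (y 0) ≠ 0 := nsymm T f_0_5
      clear e ha
      exact (excl_D5t T h2 y hy ![1, 5, 0, 2, 3, 4] (by decide) (by norm_num) f_1_0 f_5_0 f_0_2 f_2_3 f_2_4).elim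
    · have f_1_5 : T.a (y 1) (y 5) ≠ 0 := e
      have f_5_1 : T.a (y 5) (y 1) ≠ 0 := nsymm T f_1_5
      clear e ha
      obtain ⟨a, ha, e⟩ := hpar 6 (by norm_num) (by norm_num)
      have hc : a = 0 ∨ a = 1 ∨ a = 2 ∨ a = 3 ∨ a = 4 ∨ a = 5 := by omega
      rcases hc with rfl | rfl | rfl | rfl | rfl | rfl
      · have f_0_6 : T.a (y 0) (y 6) ≠ 0 := e
        have f_6_0 : T.a (y 6) (y 0) ≠ 0 := nsymm T f_0_6
        clear e ha
        exact (excl_D5t T h2 y hy ![1, 6, 0, 2, 3, 4] (by decide) (by norm_num) f_1_0 f_6_0 f_0_2 f_2_3 f_2_4).elim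
      · have f_1_6 : T.a (y 1) (y 6) ≠ 0 := e
        have f_6_1 : T.a (y 6) (y 1) ≠ 0 := nsymm T f_1_6
        clear e ha
        exact (excl_D6t T h2 y hy ![3, 4, 2, 0, 1, 5, 6] (by decide) (by norm_num) f_3_2 f_4_2 f_2_0 f_0_1 f_1_5 f_1_6).elim
      · have f_2_6 : T.a (y 2) (y 6) ≠ 0 := e
        have f_6_2 : T.a (y 6) (y 2) ≠ 0 := nsymm T f_2_6
        clear e ha
        exact (excl_D4t T h2 y hy ![2, 0, 3, 4, 6] (by decide) (by norm_num) f_2_0 f_2_3 f_2_4 f_2_6).elim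
      · have f_3_6 : T.a (y 3) (y 6) ≠ 0 := e
        have f_6_3 : T.a (y 6) (y 3) ≠ 0 := nsymm T f_3_6
        clear e ha
        obtain ⟨a, ha, e⟩ := hpar 7 (by norm_num) (by norm_num)
        have hc : a = 0 ∨ a = 1 ∨ a = 2 ∨ a = 3 ∨ a = 4 ∨ a = 5 ∨ a = 6 := by omega
        rcases hc with rfl | rfl | rfl | rfl | rfl | rfl | rfl
        · have f_0_7 : T.a (y 0) (y 7) ≠ 0 := e
          have f_7_0 : T.a (y 7) (y 0) ≠ 0 := nsymm T f_0_7
          clear e ha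
          exact (excl_D5t T h2 y hy ![1, 7, 0, 2, 3, 4] (by decide) (by norm_num) f_1_0 f_7_0 f_0_2 f_2_3 f_2_4).elim
        · have f_1_7 : T.a (y 1) (y 7) ≠ 0 := e
          have f_7_1 : T.a (y 7) (y 1) ≠ 0 := nsymm T f_1_7
          clear e ha
          exact (excl_D6t T h2 y hy ![3, 4, 2, 0, 1, 5, 7] (by decide) (by norm_num) f_3_2 f_4_2 f_2_0 f_0_1 f_1_5 f_1_7).elim
        · have f_2_7 : T.a (y 2) (y 7) ≠ 0 := e
          have f_7_2 : T.a (y 7) (y 2) ≠ 0 := nsymm T f_2_7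
          clear e ha
          exact (excl_D4t T h2 y hy ![2, 0, 3, 4, 7] (by decide) (by norm_num) f_2_0 f_2_3 f_2_4 f_2_7).elim
        · have f_3_7 : T.a (y 3) (y 7) ≠ 0 := e
          have f_7_3 : T.a (y 7) (y 3) ≠ 0 := nsymm T f_3_7
          clear e ha
          exact (excl_D5t T h2 y hy ![0, 4, 2, 3, 6, 7] (by decide) (by norm_num) f_0_2 f_4_2 f_2_3 f_3_6 f_3_7).elim
        · have f_4_7 : T.a (y 4) (y 7) ≠ 0 := e
          have f_7_4 : T.a (y 7) (y 4) ≠ 0 := nsymm T f_4_7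
          clear e ha
          exact (excl_E6t T h2 y hy ![2, 0, 1, 3, 6, 4, 7] (by decide) (by norm_num) f_2_0 f_0_1 f_2_3 f_3_6 f_2_4 f_4_7).elim
        · have f_5_7 : T.a (y 5) (y 7) ≠ 0 := e
          have f_7_5 : T.a (y 7) (y 5) ≠ 0 := nsymm T f_5_7
          clear e ha
          exact shape8_T124 T h2 (fun i => y (![2, 4, 3, 6, 0, 1, 5, 7] i)) (hy.comp (by decide)) f_2_4 f_2_3 f_3_6 f_2_0 f_0_1 f_1_5 f_5_7
        · have f_6_7 : T.a (y 6) (y 7) ≠ 0 := e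
          have f_7_6 : T.a (y 7) (y 6) ≠ 0 := nsymm T f_6_7
          clear e ha
          exact shape8_T133 T h2 (fun i => y (![2, 4, 0, 1, 5, 3, 6, 7] i)) (hy.comp (by decide)) f_2_4 f_2_0 f_0_1 f_1_5 f_2_3 f_3_6 f_6_7
      · have f_4_6 : T.a (y 4) (y 6) ≠ 0 := e
        have f_6_4 : T.a (y 6) (y 4) ≠ 0 := nsymm T f_4_6
        clear e ha
        obtain ⟨a, ha, e⟩ := hpar 7 (by norm_num) (by norm_num)
        have hc : a = 0 ∨ a = 1 ∨ a = 2 ∨ a = 3 ∨ a = 4 ∨ a = 5 ∨ a = 6 := by omega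
        rcases hc with rfl | rfl | rfl | rfl | rfl | rfl | rfl
        · have f_0_7 : T.a (y 0) (y 7) ≠ 0 := e
          have f_7_0 : T.a (y 7) (y 0) ≠ 0 := nsymm T f_0_7
          clear e ha
          exact (excl_D5t T h2 y hy ![1, 7, 0, 2, 3, 4] (by decide) (by norm_num) f_1_0 f_7_0 f_0_2 f_2_3 f_2_4).elim
        · have f_1_7 : T.a (y 1) (y 7) ≠ 0 := e
          have f_7_1 : T.a (y 7) (y 1) ≠ 0 := nsymm T f_1_7
          clear e ha
          exact (excl_D6t T h2 y hy ![3, 4, 2, 0, 1, 5, 7] (by decide) (by norm_num) f_3_2 f_4_2 f_2_0 f_0_1 f_1_5 f_1_7).elim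
        · have f_2_7 : T.a (y 2) (y 7) ≠ 0 := e
          have f_7_2 : T.a (y 7) (y 2) ≠ 0 := nsymm T f_2_7
          clear e ha
          exact (excl_D4t T h2 y hy ![2, 0, 3, 4, 7] (by decide) (by norm_num) f_2_0 f_2_3 f_2_4 f_2_7).elim
        · have f_3_7 : T.a (y 3) (y 7) ≠ 0 := e
          have f_7_3 : T.a (y 7) (y 3) ≠ 0 := nsymm T f_3_7
          clear e ha
          exact (excl_E6t T h2 y hy ![2, 0, 1, 3, 7, 4, 6] (by decide) (by norm_num) f_2_0 f_0_1 f_2_3 f_3_7 f_2_4 f_4_6).elim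
        · have f_4_7 : T.a (y 4) (y 7) ≠ 0 := e
          have f_7_4 : T.a (y 7) (y 4) ≠ 0 := nsymm T f_4_7
          clear e ha
          exact (excl_D5t T h2 y hy ![0, 3, 2, 4, 6, 7] (by decide) (by norm_num) f_0_2 f_3_2 f_2_4 f_4_6 f_4_7).elim
        · have f_5_7 : T.a (y 5) (y 7) ≠ 0 := e
          have f_7_5 : T.a (y 7) (y 5) ≠ 0 := nsymm T f_5_7
          clear e ha
          exact shape8_T124 T h2 (fun i => y (![2, 3, 4, 6, 0, 1, 5, 7] i)) (hy.comp (by decide)) f_2_3 f_2_4 f_4_6 f_2_0 f_0_1 f_1_5 f_5_7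
        · have f_6_7 : T.a (y 6) (y 7) ≠ 0 := e
          have f_7_6 : T.a (y 7) (y 6) ≠ 0 := nsymm T f_6_7
          clear e ha
          exact shape8_T133 T h2 (fun i => y (![2, 3, 0, 1, 5, 4, 6, 7] i)) (hy.comp (by decide)) f_2_3 f_2_0 f_0_1 f_1_5 f_2_4 f_4_6 f_6_7
      · have f_5_6 : T.a (y 5) (y 6) ≠ 0 := e
        have f_6_5 : T.a (y 6) (y 5) ≠ 0 := nsymm T f_5_6
        clear e ha
        obtain ⟨a, ha, e⟩ := hpar 7 (by norm_num) (by norm_num)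
        have hc : a = 0 ∨ a = 1 ∨ a = 2 ∨ a = 3 ∨ a = 4 ∨ a = 5 ∨ a = 6 := by omega
        rcases hc with rfl | rfl | rfl | rfl | rfl | rfl | rfl
        · have f_0_7 : T.a (y 0) (y 7) ≠ 0 := e
          have f_7_0 : T.a (y 7) (y 0) ≠ 0 := nsymm T f_0_7
          clear e ha
          exact (excl_D5t T h2 y hy ![1, 7, 0, 2, 3, 4] (by decide) (by norm_num) f_1_0 f_7_0 f_0_2 f_2_3 f_2_4).elim
        · have f_1_7 : T.a (y 1) (y 7) ≠ 0 := e
          have f_7_1 : T.a (y 7) (y 1) ≠ 0 := nsymm T f_1_7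
          clear e ha
          exact (excl_D6t T h2 y hy ![3, 4, 2, 0, 1, 5, 7] (by decide) (by norm_num) f_3_2 f_4_2 f_2_0 f_0_1 f_1_5 f_1_7).elim
        · have f_2_7 : T.a (y 2) (y 7) ≠ 0 := e
          have f_7_2 : T.a (y 7) (y 2) ≠ 0 := nsymm T f_2_7
          clear e ha
          exact (excl_D4t T h2 y hy ![2, 0, 3, 4, 7] (by decide) (by norm_num) f_2_0 f_2_3 f_2_4 f_2_7).elim
        · have f_3_7 : T.a (y 3) (y 7) ≠ 0 := e
          have f_7_3 : T.a (y 7) (y 3) ≠ 0 := nsymm T f_3_7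
          clear e ha
          exact shape8_T124 T h2 (fun i => y (![2, 4, 3, 7, 0, 1, 5, 6] i)) (hy.comp (by decide)) f_2_4 f_2_3 f_3_7 f_2_0 f_0_1 f_1_5 f_5_6
        · have f_4_7 : T.a (y 4) (y 7) ≠ 0 := e
          have f_7_4 : T.a (y 7) (y 4) ≠ 0 := nsymm T f_4_7
          clear e ha
          exact shape8_T124 T h2 (fun i => y (![2, 3, 4, 7, 0, 1, 5, 6] i)) (hy.comp (by decide)) f_2_3 f_2_4 f_4_7 f_2_0 f_0_1 f_1_5 f_5_6
        · have f_5_7 : T.a (y 5) (y 7) ≠ 0 := e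
          have f_7_5 : T.a (y 7) (y 5) ≠ 0 := nsymm T f_5_7
          clear e ha
          exact shape8_Dt T h2 (fun i => y (![3, 4, 2, 0, 1, 5, 6, 7] i)) (hy.comp (by decide)) f_3_2 f_4_2 f_2_0 f_0_1 f_1_5 f_5_6 f_5_7
        · have f_6_7 : T.a (y 6) (y 7) ≠ 0 := e
          have f_7_6 : T.a (y 7) (y 6) ≠ 0 := nsymm T f_6_7
          clear e ha
          exact shape8_D T h2 (fun i => y (![2, 3, 4, 0, 1, 5, 6, 7] i)) (hy.comp (by decide)) f_2_3 f_2_4 f_2_0 f_0_1 f_1_5 f_5_6 f_6_7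
    · have f_2_5 : T.a (y 2) (y 5) ≠ 0 := e
      have f_5_2 : T.a (y 5) (y 2) ≠ 0 := nsymm T f_2_5
      clear e ha
      exact (excl_D4t T h2 y hy ![2, 0, 3, 4, 5] (by decide) (by norm_num) f_2_0 f_2_3 f_2_4 f_2_5).elim
    · have f_3_5 : T.a (y 3) (y 5) ≠ 0 := e
      have f_5_3 : T.a (y 5) (y 3) ≠ 0 := nsymm T f_3_5
      clear e ha
      obtain ⟨a, ha, e⟩ := hpar 6 (by norm_num) (by norm_num)
      have hc : a = 0 ∨ a = 1 ∨ a = 2 ∨ a = 3 ∨ a = 4 ∨ a = 5 := by omega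
      rcases hc with rfl | rfl | rfl | rfl | rfl | rfl
      · have f_0_6 : T.a (y 0) (y 6) ≠ 0 := e
        have f_6_0 : T.a (y 6) (y 0) ≠ 0 := nsymm T f_0_6
        clear e ha
        exact (excl_D5t T h2 y hy ![1, 6, 0, 2, 3, 4] (by decide) (by norm_num) f_1_0 f_6_0 f_0_2 f_2_3 f_2_4).elim
      · have f_1_6 : T.a (y 1) (y 6) ≠ 0 := e
        have f_6_1 : T.a (y 6) (y 1) ≠ 0 := nsymm T f_1_6
        clear e ha
        obtain ⟨a, ha, e⟩ := hpar 7 (by norm_num) (by norm_num)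
        have hc : a = 0 ∨ a = 1 ∨ a = 2 ∨ a = 3 ∨ a = 4 ∨ a = 5 ∨ a = 6 := by omega
        rcases hc with rfl | rfl | rfl | rfl | rfl | rfl | rfl
        · have f_0_7 : T.a (y 0) (y 7) ≠ 0 := e
          have f_7_0 : T.a (y 7) (y 0) ≠ 0 := nsymm T f_0_7
          clear e ha
          exact (excl_D5t T h2 y hy ![1, 7, 0, 2, 3, 4] (by decide) (by norm_num) f_1_0 f_7_0 f_0_2 f_2_3 f_2_4).elim
        · have f_1_7 : T.a (y 1) (y 7) ≠ 0 := e
          have f_7_1 : T.a (y 7) (y 1) ≠ 0 := nsymm T f_1_7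
          clear e ha
          exact (excl_D6t T h2 y hy ![3, 4, 2, 0, 1, 6, 7] (by decide) (by norm_num) f_3_2 f_4_2 f_2_0 f_0_1 f_1_6 f_1_7).elim
        · have f_2_7 : T.a (y 2) (y 7) ≠ 0 := e
          have f_7_2 : T.a (y 7) (y 2) ≠ 0 := nsymm T f_2_7
          clear e ha
          exact (excl_D4t T h2 y hy ![2, 0, 3, 4, 7] (by decide) (by norm_num) f_2_0 f_2_3 f_2_4 f_2_7).elim
        · have f_3_7 : T.a (y 3) (y 7) ≠ 0 := e
          have f_7_3 : T.a (y 7) (y 3) ≠ 0 := nsymm T f_3_7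
          clear e ha
          exact (excl_D5t T h2 y hy ![0, 4, 2, 3, 5, 7] (by decide) (by norm_num) f_0_2 f_4_2 f_2_3 f_3_5 f_3_7).elim
        · have f_4_7 : T.a (y 4) (y 7) ≠ 0 := e
          have f_7_4 : T.a (y 7) (y 4) ≠ 0 := nsymm T f_4_7
          clear e ha
          exact (excl_E6t T h2 y hy ![2, 0, 1, 3, 5, 4, 7] (by decide) (by norm_num) f_2_0 f_0_1 f_2_3 f_3_5 f_2_4 f_4_7).elim
        · have f_5_7 : T.a (y 5) (y 7) ≠ 0 := e
          have f_7_5 : T.a (y 7) (y 5) ≠ 0 := nsymm T f_5_7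
          clear e ha
          exact shape8_T133 T h2 (fun i => y (![2, 4, 0, 1, 6, 3, 5, 7] i)) (hy.comp (by decide)) f_2_4 f_2_0 f_0_1 f_1_6 f_2_3 f_3_5 f_5_7
        · have f_6_7 : T.a (y 6) (y 7) ≠ 0 := e
          have f_7_6 : T.a (y 7) (y 6) ≠ 0 := nsymm T f_6_7
          clear e ha
          exact shape8_T124 T h2 (fun i => y (![2, 4, 3, 5, 0, 1, 6, 7] i)) (hy.comp (by decide)) f_2_4 f_2_3 f_3_5 f_2_0 f_0_1 f_1_6 f_6_7
      · have f_2_6 : T.a (y 2) (y 6) ≠ 0 := e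
        have f_6_2 : T.a (y 6) (y 2) ≠ 0 := nsymm T f_2_6
        clear e ha
        exact (excl_D4t T h2 y hy ![2, 0, 3, 4, 6] (by decide) (by norm_num) f_2_0 f_2_3 f_2_4 f_2_6).elim
      · have f_3_6 : T.a (y 3) (y 6) ≠ 0 := e
        have f_6_3 : T.a (y 6) (y 3) ≠ 0 := nsymm T f_3_6
        clear e ha
        exact (excl_D5t T h2 y hy ![0, 4, 2, 3, 5, 6] (by decide) (by norm_num) f_0_2 f_4_2 f_2_3 f_3_5 f_3_6).elim
      · have f_4_6 : T.a (y 4) (y 6) ≠ 0 := e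
        have f_6_4 : T.a (y 6) (y 4) ≠ 0 := nsymm T f_4_6
        clear e ha
        exact (excl_E6t T h2 y hy ![2, 0, 1, 3, 5, 4, 6] (by decide) (by norm_num) f_2_0 f_0_1 f_2_3 f_3_5 f_2_4 f_4_6).elim
      · have f_5_6 : T.a (y 5) (y 6) ≠ 0 := e
        have f_6_5 : T.a (y 6) (y 5) ≠ 0 := nsymm T f_5_6
        clear e ha
        obtain ⟨a, ha, e⟩ := hpar 7 (by norm_num) (by norm_num)
        have hc : a = 0 ∨ a = 1 ∨ a = 2 ∨ a = 3 ∨ a = 4 ∨ a = 5 ∨ a = 6 := by omega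
        rcases hc with rfl | rfl | rfl | rfl | rfl | rfl | rfl
        · have f_0_7 : T.a (y 0) (y 7) ≠ 0 := e
          have f_7_0 : T.a (y 7) (y 0) ≠ 0 := nsymm T f_0_7
          clear e ha
          exact (excl_D5t T h2 y hy ![1, 7, 0, 2, 3, 4] (by decide) (by norm_num) f_1_0 f_7_0 f_0_2 f_2_3 f_2_4).elim
        · have f_1_7 : T.a (y 1) (y 7) ≠ 0 := e
          have f_7_1 : T.a (y 7) (y 1) ≠ 0 := nsymm T f_1_7
          clear e ha
          exact shape8_T133 T h2 (fun i => y (![2, 4, 0, 1, 7, 3, 5, 6] i)) (hy.comp (by decide)) f_2_4 f_2_0 f_0_1 f_1_7 f_2_3 f_3_5 f_5_6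
        · have f_2_7 : T.a (y 2) (y 7) ≠ 0 := e
          have f_7_2 : T.a (y 7) (y 2) ≠ 0 := nsymm T f_2_7
          clear e ha
          exact (excl_D4t T h2 y hy ![2, 0, 3, 4, 7] (by decide) (by norm_num) f_2_0 f_2_3 f_2_4 f_2_7).elim
        · have f_3_7 : T.a (y 3) (y 7) ≠ 0 := e
          have f_7_3 : T.a (y 7) (y 3) ≠ 0 := nsymm T f_3_7
          clear e ha
          exact (excl_D5t T h2 y hy ![0, 4, 2, 3, 5, 7] (by decide) (by norm_num) f_0_2 f_4_2 f_2_3 f_3_5 f_3_7).elim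
        · have f_4_7 : T.a (y 4) (y 7) ≠ 0 := e
          have f_7_4 : T.a (y 7) (y 4) ≠ 0 := nsymm T f_4_7
          clear e ha
          exact (excl_E6t T h2 y hy ![2, 0, 1, 3, 5, 4, 7] (by decide) (by norm_num) f_2_0 f_0_1 f_2_3 f_3_5 f_2_4 f_4_7).elim
        · have f_5_7 : T.a (y 5) (y 7) ≠ 0 := e
          have f_7_5 : T.a (y 7) (y 5) ≠ 0 := nsymm T f_5_7
          clear e ha
          exact (excl_D6t T h2 y hy ![0, 4, 2, 3, 5, 6, 7] (by decide) (by norm_num) f_0_2 f_4_2 f_2_3 f_3_5 f_5_6 f_5_7).elim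
        · have f_6_7 : T.a (y 6) (y 7) ≠ 0 := e
          have f_7_6 : T.a (y 7) (y 6) ≠ 0 := nsymm T f_6_7
          clear e ha
          exact shape8_T124 T h2 (fun i => y (![2, 4, 0, 1, 3, 5, 6, 7] i)) (hy.comp (by decide)) f_2_4 f_2_0 f_0_1 f_2_3 f_3_5 f_5_6 f_6_7
    · have f_4_5 : T.a (y 4) (y 5) ≠ 0 := e
      have f_5_4 : T.a (y 5) (y 4) ≠ 0 := nsymm T f_4_5
      clear e ha
      obtain ⟨a, ha, e⟩ := hpar 6 (by norm_num) (by norm_num)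
      have hc : a = 0 ∨ a = 1 ∨ a = 2 ∨ a = 3 ∨ a = 4 ∨ a = 5 := by omega
      rcases hc with rfl | rfl | rfl | rfl | rfl | rfl
      · have f_0_6 : T.a (y 0) (y 6) ≠ 0 := e
        have f_6_0 : T.a (y 6) (y 0) ≠ 0 := nsymm T f_0_6
        clear e ha
        exact (excl_D5t T h2 y hy ![1, 6, 0, 2, 3, 4] (by decide) (by norm_num) f_1_0 f_6_0 f_0_2 f_2_3 f_2_4).elim
      · have f_1_6 : T.a (y 1) (y 6) ≠ 0 := e
        have f_6_1 : T.a (y 6) (y 1) ≠ 0 := nsymm T f_1_6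
        clear e ha
        obtain ⟨a, ha, e⟩ := hpar 7 (by norm_num) (by norm_num)
        have hc : a = 0 ∨ a = 1 ∨ a = 2 ∨ a = 3 ∨ a = 4 ∨ a = 5 ∨ a = 6 := by omega
        rcases hc with rfl | rfl | rfl | rfl | rfl | rfl | rfl
        · have f_0_7 : T.a (y 0) (y 7) ≠ 0 := e
          have f_7_0 : T.a (y 7) (y 0) ≠ 0 := nsymm T f_0_7
          clear e ha
          exact (excl_D5t T h2 y hy ![1, 7, 0, 2, 3, 4] (by decide) (by norm_num) f_1_0 f_7_0 f_0_2 f_2_3 f_2_4).elim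
        · have f_1_7 : T.a (y 1) (y 7) ≠ 0 := e
          have f_7_1 : T.a (y 7) (y 1) ≠ 0 := nsymm T f_1_7
          clear e ha
          exact (excl_D6t T h2 y hy ![3, 4, 2, 0, 1, 6, 7] (by decide) (by norm_num) f_3_2 f_4_2 f_2_0 f_0_1 f_1_6 f_1_7).elim
        · have f_2_7 : T.a (y 2) (y 7) ≠ 0 := e
          have f_7_2 : T.a (y 7) (y 2) ≠ 0 := nsymm T f_2_7
          clear e ha
          exact (excl_D4t T h2 y hy ![2, 0, 3, 4, 7] (by decide) (by norm_num) f_2_0 f_2_3 f_2_4 f_2_7).elim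
        · have f_3_7 : T.a (y 3) (y 7) ≠ 0 := e
          have f_7_3 : T.a (y 7) (y 3) ≠ 0 := nsymm T f_3_7
          clear e ha
          exact (excl_E6t T h2 y hy ![2, 0, 1, 3, 7, 4, 5] (by decide) (by norm_num) f_2_0 f_0_1 f_2_3 f_3_7 f_2_4 f_4_5).elim
        · have f_4_7 : T.a (y 4) (y 7) ≠ 0 := e
          have f_7_4 : T.a (y 7) (y 4) ≠ 0 := nsymm T f_4_7
          clear e ha
          exact (excl_D5t T h2 y hy ![0, 3, 2, 4, 5, 7] (by decide) (by norm_num) f_0_2 f_3_2 f_2_4 f_4_5 f_4_7).elim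
        · have f_5_7 : T.a (y 5) (y 7) ≠ 0 := e
          have f_7_5 : T.a (y 7) (y 5) ≠ 0 := nsymm T f_5_7
          clear e ha
          exact shape8_T133 T h2 (fun i => y (![2, 3, 0, 1, 6, 4, 5, 7] i)) (hy.comp (by decide)) f_2_3 f_2_0 f_0_1 f_1_6 f_2_4 f_4_5 f_5_7
        · have f_6_7 : T.a (y 6) (y 7) ≠ 0 := e
          have f_7_6 : T.a (y 7) (y 6) ≠ 0 := nsymm T f_6_7
          clear e ha
          exact shape8_T124 T h2 (fun i => y (![2, 3, 4, 5, 0, 1, 6, 7] i)) (hy.comp (by decide)) f_2_3 f_2_4 f_4_5 f_2_0 f_0_1 f_1_6 f_6_7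
      · have f_2_6 : T.a (y 2) (y 6) ≠ 0 := e
        have f_6_2 : T.a (y 6) (y 2) ≠ 0 := nsymm T f_2_6
        clear e ha
        exact (excl_D4t T h2 y hy ![2, 0, 3, 4, 6] (by decide) (by norm_num) f_2_0 f_2_3 f_2_4 f_2_6).elim
      · have f_3_6 : T.a (y 3) (y 6) ≠ 0 := e
        have f_6_3 : T.a (y 6) (y 3) ≠ 0 := nsymm T f_3_6
        clear e ha
        exact (excl_E6t T h2 y hy ![2, 0, 1, 3, 6, 4, 5] (by decide) (by norm_num) f_2_0 f_0_1 f_2_3 f_3_6 f_2_4 f_4_5).elim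
      · have f_4_6 : T.a (y 4) (y 6) ≠ 0 := e
        have f_6_4 : T.a (y 6) (y 4) ≠ 0 := nsymm T f_4_6
        clear e ha
        exact (excl_D5t T h2 y hy ![0, 3, 2, 4, 5, 6] (by decide) (by norm_num) f_0_2 f_3_2 f_2_4 f_4_5 f_4_6).elim
      · have f_5_6 : T.a (y 5) (y 6) ≠ 0 := e
        have f_6_5 : T.a (y 6) (y 5) ≠ 0 := nsymm T f_5_6
        clear e ha
        obtain ⟨a, ha, e⟩ := hpar 7 (by norm_num) (by norm_num)
        have hc : a = 0 ∨ a = 1 ∨ a = 2 ∨ a = 3 ∨ a = 4 ∨ a = 5 ∨ a = 6 := by omega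
        rcases hc with rfl | rfl | rfl | rfl | rfl | rfl | rfl
        · have f_0_7 : T.a (y 0) (y 7) ≠ 0 := e
          have f_7_0 : T.a (y 7) (y 0) ≠ 0 := nsymm T f_0_7
          clear e ha
          exact (excl_D5t T h2 y hy ![1, 7, 0, 2, 3, 4] (by decide) (by norm_num) f_1_0 f_7_0 f_0_2 f_2_3 f_2_4).elim
        · have f_1_7 : T.a (y 1) (y 7) ≠ 0 := e
          have f_7_1 : T.a (y 7) (y 1) ≠ 0 := nsymm T f_1_7
          clear e ha
          exact shape8_T133 T h2 (fun i => y (![2, 3, 0, 1, 7, 4, 5, 6] i)) (hy.comp (by decide)) f_2_3 f_2_0 f_0_1 f_1_7 f_2_4 f_4_5 f_5_6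
        · have f_2_7 : T.a (y 2) (y 7) ≠ 0 := e
          have f_7_2 : T.a (y 7) (y 2) ≠ 0 := nsymm T f_2_7
          clear e ha
          exact (excl_D4t T h2 y hy ![2, 0, 3, 4, 7] (by decide) (by norm_num) f_2_0 f_2_3 f_2_4 f_2_7).elim
        · have f_3_7 : T.a (y 3) (y 7) ≠ 0 := e
          have f_7_3 : T.a (y 7) (y 3) ≠ 0 := nsymm T f_3_7
          clear e ha
          exact (excl_E6t T h2 y hy ![2, 0, 1, 3, 7, 4, 5] (by decide) (by norm_num) f_2_0 f_0_1 f_2_3 f_3_7 f_2_4 f_4_5).elim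
        · have f_4_7 : T.a (y 4) (y 7) ≠ 0 := e
          have f_7_4 : T.a (y 7) (y 4) ≠ 0 := nsymm T f_4_7
          clear e ha
          exact (excl_D5t T h2 y hy ![0, 3, 2, 4, 5, 7] (by decide) (by norm_num) f_0_2 f_3_2 f_2_4 f_4_5 f_4_7).elim
        · have f_5_7 : T.a (y 5) (y 7) ≠ 0 := e
          have f_7_5 : T.a (y 7) (y 5) ≠ 0 := nsymm T f_5_7
          clear e ha
          exact (excl_D6t T h2 y hy ![0, 3, 2, 4, 5, 6, 7] (by decide) (by norm_num) f_0_2 f_3_2 f_2_4 f_4_5 f_5_6 f_5_7).elim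
        · have f_6_7 : T.a (y 6) (y 7) ≠ 0 := e
          have f_7_6 : T.a (y 7) (y 6) ≠ 0 := nsymm T f_6_7
          clear e ha
          exact shape8_T124 T h2 (fun i => y (![2, 3, 0, 1, 4, 5, 6, 7] i)) (hy.comp (by decide)) f_2_3 f_2_0 f_0_1 f_2_4 f_4_5 f_5_6 f_6_7
  · have f_3_4 : T.a (y 3) (y 4) ≠ 0 := e
    have f_4_3 : T.a (y 4) (y 3) ≠ 0 := nsymm T f_3_4
    clear e ha
    obtain ⟨a, ha, e⟩ := hpar 5 (by norm_num) (by norm_num)
    have hc : a = 0 ∨ a = 1 ∨ a = 2 ∨ a = 3 ∨ a = 4 := by omega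
    rcases hc with rfl | rfl | rfl | rfl | rfl
    · have f_0_5 : T.a (y 0) (y 5) ≠ 0 := e
      have f_5_0 : T.a (y 5) (y 0) ≠ 0 := nsymm T f_0_5
      clear e ha
      obtain ⟨a, ha, e⟩ := hpar 6 (by norm_num) (by norm_num)
      have hc : a = 0 ∨ a = 1 ∨ a = 2 ∨ a = 3 ∨ a = 4 ∨ a = 5 := by omega
      rcases hc with rfl | rfl | rfl | rfl | rfl | rfl
      · have f_0_6 : T.a (y 0) (y 6) ≠ 0 := e
        have f_6_0 : T.a (y 6) (y 0) ≠ 0 := nsymm T f_0_6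
        clear e ha
        exact (excl_D4t T h2 y hy ![0, 1, 2, 5, 6] (by decide) (by norm_num) f_0_1 f_0_2 f_0_5 f_0_6).elim
      · have f_1_6 : T.a (y 1) (y 6) ≠ 0 := e
        have f_6_1 : T.a (y 6) (y 1) ≠ 0 := nsymm T f_1_6
        clear e ha
        obtain ⟨a, ha, e⟩ := hpar 7 (by norm_num) (by norm_num)
        have hc : a = 0 ∨ a = 1 ∨ a = 2 ∨ a = 3 ∨ a = 4 ∨ a = 5 ∨ a = 6 := by omega
        rcases hc with rfl | rfl | rfl | rfl | rfl | rfl | rfl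
        · have f_0_7 : T.a (y 0) (y 7) ≠ 0 := e
          have f_7_0 : T.a (y 7) (y 0) ≠ 0 := nsymm T f_0_7
          clear e ha
          exact (excl_D4t T h2 y hy ![0, 1, 2, 5, 7] (by decide) (by norm_num) f_0_1 f_0_2 f_0_5 f_0_7).elim
        · have f_1_7 : T.a (y 1) (y 7) ≠ 0 := e
          have f_7_1 : T.a (y 7) (y 1) ≠ 0 := nsymm T f_1_7
          clear e ha
          exact (excl_D5t T h2 y hy ![2, 5, 0, 1, 6, 7] (by decide) (by norm_num) f_2_0 f_5_0 f_0_1 f_1_6 f_1_7).elim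
        · have f_2_7 : T.a (y 2) (y 7) ≠ 0 := e
          have f_7_2 : T.a (y 7) (y 2) ≠ 0 := nsymm T f_2_7
          clear e ha
          exact (excl_D5t T h2 y hy ![1, 5, 0, 2, 3, 7] (by decide) (by norm_num) f_1_0 f_5_0 f_0_2 f_2_3 f_2_7).elim
        · have f_3_7 : T.a (y 3) (y 7) ≠ 0 := e
          have f_7_3 : T.a (y 7) (y 3) ≠ 0 := nsymm T f_3_7
          clear e ha
          exact (excl_D6t T h2 y hy ![1, 5, 0, 2, 3, 4, 7] (by decide) (by norm_num) f_1_0 f_5_0 f_0_2 f_2_3 f_3_4 f_3_7).elim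
        · have f_4_7 : T.a (y 4) (y 7) ≠ 0 := e
          have f_7_4 : T.a (y 7) (y 4) ≠ 0 := nsymm T f_4_7
          clear e ha
          exact shape8_T124 T h2 (fun i => y (![0, 5, 1, 6, 2, 3, 4, 7] i)) (hy.comp (by decide)) f_0_5 f_0_1 f_1_6 f_0_2 f_2_3 f_3_4 f_4_7
        · have f_5_7 : T.a (y 5) (y 7) ≠ 0 := e
          have f_7_5 : T.a (y 7) (y 5) ≠ 0 := nsymm T f_5_7
          clear e ha
          exact (excl_E6t T h2 y hy ![0, 1, 6, 2, 3, 5, 7] (by decide) (by norm_num) f_0_1 f_1_6 f_0_2 f_2_3 f_0_5 f_5_7).elim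
        · have f_6_7 : T.a (y 6) (y 7) ≠ 0 := e
          have f_7_6 : T.a (y 7) (y 6) ≠ 0 := nsymm T f_6_7
          clear e ha
          exact shape8_T133 T h2 (fun i => y (![0, 5, 1, 6, 7, 2, 3, 4] i)) (hy.comp (by decide)) f_0_5 f_0_1 f_1_6 f_6_7 f_0_2 f_2_3 f_3_4
      · have f_2_6 : T.a (y 2) (y 6) ≠ 0 := e
        have f_6_2 : T.a (y 6) (y 2) ≠ 0 := nsymm T f_2_6
        clear e ha
        exact (excl_D5t T h2 y hy ![1, 5, 0, 2, 3, 6] (by decide) (by norm_num) f_1_0 f_5_0 f_0_2 f_2_3 f_2_6).elim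
      · have f_3_6 : T.a (y 3) (y 6) ≠ 0 := e
        have f_6_3 : T.a (y 6) (y 3) ≠ 0 := nsymm T f_3_6
        clear e ha
        exact (excl_D6t T h2 y hy ![1, 5, 0, 2, 3, 4, 6] (by decide) (by norm_num) f_1_0 f_5_0 f_0_2 f_2_3 f_3_4 f_3_6).elim
      · have f_4_6 : T.a (y 4) (y 6) ≠ 0 := e
        have f_6_4 : T.a (y 6) (y 4) ≠ 0 := nsymm T f_4_6
        clear e ha
        obtain ⟨a, ha, e⟩ := hpar 7 (by norm_num) (by norm_num)
        have hc : a = 0 ∨ a = 1 ∨ a = 2 ∨ a = 3 ∨ a = 4 ∨ a = 5 ∨ a = 6 := by omega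
        rcases hc with rfl | rfl | rfl | rfl | rfl | rfl | rfl
        · have f_0_7 : T.a (y 0) (y 7) ≠ 0 := e
          have f_7_0 : T.a (y 7) (y 0) ≠ 0 := nsymm T f_0_7
          clear e ha
          exact (excl_D4t T h2 y hy ![0, 1, 2, 5, 7] (by decide) (by norm_num) f_0_1 f_0_2 f_0_5 f_0_7).elim
        · have f_1_7 : T.a (y 1) (y 7) ≠ 0 := e
          have f_7_1 : T.a (y 7) (y 1) ≠ 0 := nsymm T f_1_7
          clear e ha
          exact shape8_T124 T h2 (fun i => y (![0, 5, 1, 7, 2, 3, 4, 6] i)) (hy.comp (by decide)) f_0_5 f_0_1 f_1_7 f_0_2 f_2_3 f_3_4 f_4_6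
        · have f_2_7 : T.a (y 2) (y 7) ≠ 0 := e
          have f_7_2 : T.a (y 7) (y 2) ≠ 0 := nsymm T f_2_7
          clear e ha
          exact (excl_D5t T h2 y hy ![1, 5, 0, 2, 3, 7] (by decide) (by norm_num) f_1_0 f_5_0 f_0_2 f_2_3 f_2_7).elim
        · have f_3_7 : T.a (y 3) (y 7) ≠ 0 := e
          have f_7_3 : T.a (y 7) (y 3) ≠ 0 := nsymm T f_3_7
          clear e ha
          exact (excl_D6t T h2 y hy ![1, 5, 0, 2, 3, 4, 7] (by decide) (by norm_num) f_1_0 f_5_0 f_0_2 f_2_3 f_3_4 f_3_7).elim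
        · have f_4_7 : T.a (y 4) (y 7) ≠ 0 := e
          have f_7_4 : T.a (y 7) (y 4) ≠ 0 := nsymm T f_4_7
          clear e ha
          exact shape8_Dt T h2 (fun i => y (![1, 5, 0, 2, 3, 4, 6, 7] i)) (hy.comp (by decide)) f_1_0 f_5_0 f_0_2 f_2_3 f_3_4 f_4_6 f_4_7
        · have f_5_7 : T.a (y 5) (y 7) ≠ 0 := e
          have f_7_5 : T.a (y 7) (y 5) ≠ 0 := nsymm T f_5_7
          clear e ha
          exact shape8_T124 T h2 (fun i => y (![0, 1, 5, 7, 2, 3, 4, 6] i)) (hy.comp (by decide)) f_0_1 f_0_5 f_5_7 f_0_2 f_2_3 f_3_4 f_4_6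
        · have f_6_7 : T.a (y 6) (y 7) ≠ 0 := e
          have f_7_6 : T.a (y 7) (y 6) ≠ 0 := nsymm T f_6_7
          clear e ha
          exact shape8_D T h2 (fun i => y (![0, 1, 5, 2, 3, 4, 6, 7] i)) (hy.comp (by decide)) f_0_1 f_0_5 f_0_2 f_2_3 f_3_4 f_4_6 f_6_7
      · have f_5_6 : T.a (y 5) (y 6) ≠ 0 := e
        have f_6_5 : T.a (y 6) (y 5) ≠ 0 := nsymm T f_5_6
        clear e ha
        obtain ⟨a, ha, e⟩ := hpar 7 (by norm_num) (by norm_num)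
        have hc : a = 0 ∨ a = 1 ∨ a = 2 ∨ a = 3 ∨ a = 4 ∨ a = 5 ∨ a = 6 := by omega
        rcases hc with rfl | rfl | rfl | rfl | rfl | rfl | rfl
        · have f_0_7 : T.a (y 0) (y 7) ≠ 0 := e
          have f_7_0 : T.a (y 7) (y 0) ≠ 0 := nsymm T f_0_7
          clear e ha
          exact (excl_D4t T h2 y hy ![0, 1, 2, 5, 7] (by decide) (by norm_num) f_0_1 f_0_2 f_0_5 f_0_7).elim
        · have f_1_7 : T.a (y 1) (y 7) ≠ 0 := e
          have f_7_1 : T.a (y 7) (y 1) ≠ 0 := nsymm T f_1_7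
          clear e ha
          exact (excl_E6t T h2 y hy ![0, 1, 7, 2, 3, 5, 6] (by decide) (by norm_num) f_0_1 f_1_7 f_0_2 f_2_3 f_0_5 f_5_6).elim
        · have f_2_7 : T.a (y 2) (y 7) ≠ 0 := e
          have f_7_2 : T.a (y 7) (y 2) ≠ 0 := nsymm T f_2_7
          clear e ha
          exact (excl_D5t T h2 y hy ![1, 5, 0, 2, 3, 7] (by decide) (by norm_num) f_1_0 f_5_0 f_0_2 f_2_3 f_2_7).elim
        · have f_3_7 : T.a (y 3) (y 7) ≠ 0 := e
          have f_7_3 : T.a (y 7) (y 3) ≠ 0 := nsymm T f_3_7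
          clear e ha
          exact (excl_D6t T h2 y hy ![1, 5, 0, 2, 3, 4, 7] (by decide) (by norm_num) f_1_0 f_5_0 f_0_2 f_2_3 f_3_4 f_3_7).elim
        · have f_4_7 : T.a (y 4) (y 7) ≠ 0 := e
          have f_7_4 : T.a (y 7) (y 4) ≠ 0 := nsymm T f_4_7
          clear e ha
          exact shape8_T124 T h2 (fun i => y (![0, 1, 5, 6, 2, 3, 4, 7] i)) (hy.comp (by decide)) f_0_1 f_0_5 f_5_6 f_0_2 f_2_3 f_3_4 f_4_7
        · have f_5_7 : T.a (y 5) (y 7) ≠ 0 := e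
          have f_7_5 : T.a (y 7) (y 5) ≠ 0 := nsymm T f_5_7
          clear e ha
          exact (excl_D5t T h2 y hy ![1, 2, 0, 5, 6, 7] (by decide) (by norm_num) f_1_0 f_2_0 f_0_5 f_5_6 f_5_7).elim
        · have f_6_7 : T.a (y 6) (y 7) ≠ 0 := e
          have f_7_6 : T.a (y 7) (y 6) ≠ 0 := nsymm T f_6_7
          clear e ha
          exact shape8_T133 T h2 (fun i => y (![0, 1, 2, 3, 4, 5, 6, 7] i)) (hy.comp (by decide)) f_0_1 f_0_2 f_2_3 f_3_4 f_0_5 f_5_6 f_6_7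
    · have f_1_5 : T.a (y 1) (y 5) ≠ 0 := e
      have f_5_1 : T.a (y 5) (y 1) ≠ 0 := nsymm T f_1_5
      clear e ha
      obtain ⟨a, ha, e⟩ := hpar 6 (by norm_num) (by norm_num)
      have hc : a = 0 ∨ a = 1 ∨ a = 2 ∨ a = 3 ∨ a = 4 ∨ a = 5 := by omega
      rcases hc with rfl | rfl | rfl | rfl | rfl | rfl
      · have f_0_6 : T.a (y 0) (y 6) ≠ 0 := e
        have f_6_0 : T.a (y 6) (y 0) ≠ 0 := nsymm T f_0_6
        clear e ha
        obtain ⟨a, ha, e⟩ := hpar 7 (by norm_num) (by norm_num)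
        have hc : a = 0 ∨ a = 1 ∨ a = 2 ∨ a = 3 ∨ a = 4 ∨ a = 5 ∨ a = 6 := by omega
        rcases hc with rfl | rfl | rfl | rfl | rfl | rfl | rfl
        · have f_0_7 : T.a (y 0) (y 7) ≠ 0 := e
          have f_7_0 : T.a (y 7) (y 0) ≠ 0 := nsymm T f_0_7
          clear e ha
          exact (excl_D4t T h2 y hy ![0, 1, 2, 6, 7] (by decide) (by norm_num) f_0_1 f_0_2 f_0_6 f_0_7).elim
        · have f_1_7 : T.a (y 1) (y 7) ≠ 0 := e
          have f_7_1 : T.a (y 7) (y 1) ≠ 0 := nsymm T f_1_7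
          clear e ha
          exact (excl_D5t T h2 y hy ![2, 6, 0, 1, 5, 7] (by decide) (by norm_num) f_2_0 f_6_0 f_0_1 f_1_5 f_1_7).elim
        · have f_2_7 : T.a (y 2) (y 7) ≠ 0 := e
          have f_7_2 : T.a (y 7) (y 2) ≠ 0 := nsymm T f_2_7
          clear e ha
          exact (excl_D5t T h2 y hy ![1, 6, 0, 2, 3, 7] (by decide) (by norm_num) f_1_0 f_6_0 f_0_2 f_2_3 f_2_7).elim
        · have f_3_7 : T.a (y 3) (y 7) ≠ 0 := e
          have f_7_3 : T.a (y 7) (y 3) ≠ 0 := nsymm T f_3_7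
          clear e ha
          exact (excl_D6t T h2 y hy ![1, 6, 0, 2, 3, 4, 7] (by decide) (by norm_num) f_1_0 f_6_0 f_0_2 f_2_3 f_3_4 f_3_7).elim
        · have f_4_7 : T.a (y 4) (y 7) ≠ 0 := e
          have f_7_4 : T.a (y 7) (y 4) ≠ 0 := nsymm T f_4_7
          clear e ha
          exact shape8_T124 T h2 (fun i => y (![0, 6, 1, 5, 2, 3, 4, 7] i)) (hy.comp (by decide)) f_0_6 f_0_1 f_1_5 f_0_2 f_2_3 f_3_4 f_4_7
        · have f_5_7 : T.a (y 5) (y 7) ≠ 0 := e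
          have f_7_5 : T.a (y 7) (y 5) ≠ 0 := nsymm T f_5_7
          clear e ha
          exact shape8_T133 T h2 (fun i => y (![0, 6, 1, 5, 7, 2, 3, 4] i)) (hy.comp (by decide)) f_0_6 f_0_1 f_1_5 f_5_7 f_0_2 f_2_3 f_3_4
        · have f_6_7 : T.a (y 6) (y 7) ≠ 0 := e
          have f_7_6 : T.a (y 7) (y 6) ≠ 0 := nsymm T f_6_7
          clear e ha
          exact (excl_E6t T h2 y hy ![0, 1, 5, 2, 3, 6, 7] (by decide) (by norm_num) f_0_1 f_1_5 f_0_2 f_2_3 f_0_6 f_6_7).elim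
      · have f_1_6 : T.a (y 1) (y 6) ≠ 0 := e
        have f_6_1 : T.a (y 6) (y 1) ≠ 0 := nsymm T f_1_6
        clear e ha
        obtain ⟨a, ha, e⟩ := hpar 7 (by norm_num) (by norm_num)
        have hc : a = 0 ∨ a = 1 ∨ a = 2 ∨ a = 3 ∨ a = 4 ∨ a = 5 ∨ a = 6 := by omega
        rcases hc with rfl | rfl | rfl | rfl | rfl | rfl | rfl
        · have f_0_7 : T.a (y 0) (y 7) ≠ 0 := e
          have f_7_0 : T.a (y 7) (y 0) ≠ 0 := nsymm T f_0_7
          clear e ha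
          exact (excl_D5t T h2 y hy ![2, 7, 0, 1, 5, 6] (by decide) (by norm_num) f_2_0 f_7_0 f_0_1 f_1_5 f_1_6).elim
        · have f_1_7 : T.a (y 1) (y 7) ≠ 0 := e
          have f_7_1 : T.a (y 7) (y 1) ≠ 0 := nsymm T f_1_7
          clear e ha
          exact (excl_D4t T h2 y hy ![1, 0, 5, 6, 7] (by decide) (by norm_num) f_1_0 f_1_5 f_1_6 f_1_7).elim
        · have f_2_7 : T.a (y 2) (y 7) ≠ 0 := e
          have f_7_2 : T.a (y 7) (y 2) ≠ 0 := nsymm T f_2_7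
          clear e ha
          exact (excl_D6t T h2 y hy ![3, 7, 2, 0, 1, 5, 6] (by decide) (by norm_num) f_3_2 f_7_2 f_2_0 f_0_1 f_1_5 f_1_6).elim
        · have f_3_7 : T.a (y 3) (y 7) ≠ 0 := e
          have f_7_3 : T.a (y 7) (y 3) ≠ 0 := nsymm T f_3_7
          clear e ha
          exact shape8_Dt T h2 (fun i => y (![4, 7, 3, 2, 0, 1, 5, 6] i)) (hy.comp (by decide)) f_4_3 f_7_3 f_3_2 f_2_0 f_0_1 f_1_5 f_1_6
        · have f_4_7 : T.a (y 4) (y 7) ≠ 0 := e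
          have f_7_4 : T.a (y 7) (y 4) ≠ 0 := nsymm T f_4_7
          clear e ha
          exact shape8_D T h2 (fun i => y (![1, 5, 6, 0, 2, 3, 4, 7] i)) (hy.comp (by decide)) f_1_5 f_1_6 f_1_0 f_0_2 f_2_3 f_3_4 f_4_7
        · have f_5_7 : T.a (y 5) (y 7) ≠ 0 := e
          have f_7_5 : T.a (y 7) (y 5) ≠ 0 := nsymm T f_5_7
          clear e ha
          exact shape8_T124 T h2 (fun i => y (![1, 6, 5, 7, 0, 2, 3, 4] i)) (hy.comp (by decide)) f_1_6 f_1_5 f_5_7 f_1_0 f_0_2 f_2_3 f_3_4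
        · have f_6_7 : T.a (y 6) (y 7) ≠ 0 := e
          have f_7_6 : T.a (y 7) (y 6) ≠ 0 := nsymm T f_6_7
          clear e ha
          exact shape8_T124 T h2 (fun i => y (![1, 5, 6, 7, 0, 2, 3, 4] i)) (hy.comp (by decide)) f_1_5 f_1_6 f_6_7 f_1_0 f_0_2 f_2_3 f_3_4
      · have f_2_6 : T.a (y 2) (y 6) ≠ 0 := e
        have f_6_2 : T.a (y 6) (y 2) ≠ 0 := nsymm T f_2_6
        clear e ha
        obtain ⟨a, ha, e⟩ := hpar 7 (by norm_num) (by norm_num)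
        have hc : a = 0 ∨ a = 1 ∨ a = 2 ∨ a = 3 ∨ a = 4 ∨ a = 5 ∨ a = 6 := by omega
        rcases hc with rfl | rfl | rfl | rfl | rfl | rfl | rfl
        · have f_0_7 : T.a (y 0) (y 7) ≠ 0 := e
          have f_7_0 : T.a (y 7) (y 0) ≠ 0 := nsymm T f_0_7
          clear e ha
          exact (excl_D5t T h2 y hy ![1, 7, 0, 2, 3, 6] (by decide) (by norm_num) f_1_0 f_7_0 f_0_2 f_2_3 f_2_6).elim
        · have f_1_7 : T.a (y 1) (y 7) ≠ 0 := e
          have f_7_1 : T.a (y 7) (y 1) ≠ 0 := nsymm T f_1_7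
          clear e ha
          exact (excl_D6t T h2 y hy ![3, 6, 2, 0, 1, 5, 7] (by decide) (by norm_num) f_3_2 f_6_2 f_2_0 f_0_1 f_1_5 f_1_7).elim
        · have f_2_7 : T.a (y 2) (y 7) ≠ 0 := e
          have f_7_2 : T.a (y 7) (y 2) ≠ 0 := nsymm T f_2_7
          clear e ha
          exact (excl_D4t T h2 y hy ![2, 0, 3, 6, 7] (by decide) (by norm_num) f_2_0 f_2_3 f_2_6 f_2_7).elim
        · have f_3_7 : T.a (y 3) (y 7) ≠ 0 := e
          have f_7_3 : T.a (y 7) (y 3) ≠ 0 := nsymm T f_3_7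
          clear e ha
          exact (excl_D5t T h2 y hy ![0, 6, 2, 3, 4, 7] (by decide) (by norm_num) f_0_2 f_6_2 f_2_3 f_3_4 f_3_7).elim
        · have f_4_7 : T.a (y 4) (y 7) ≠ 0 := e
          have f_7_4 : T.a (y 7) (y 4) ≠ 0 := nsymm T f_4_7
          clear e ha
          exact shape8_T133 T h2 (fun i => y (![2, 6, 0, 1, 5, 3, 4, 7] i)) (hy.comp (by decide)) f_2_6 f_2_0 f_0_1 f_1_5 f_2_3 f_3_4 f_4_7
        · have f_5_7 : T.a (y 5) (y 7) ≠ 0 := e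
          have f_7_5 : T.a (y 7) (y 5) ≠ 0 := nsymm T f_5_7
          clear e ha
          exact shape8_T124 T h2 (fun i => y (![2, 6, 3, 4, 0, 1, 5, 7] i)) (hy.comp (by decide)) f_2_6 f_2_3 f_3_4 f_2_0 f_0_1 f_1_5 f_5_7
        · have f_6_7 : T.a (y 6) (y 7) ≠ 0 := e
          have f_7_6 : T.a (y 7) (y 6) ≠ 0 := nsymm T f_6_7
          clear e ha
          exact (excl_E6t T h2 y hy ![2, 0, 1, 3, 4, 6, 7] (by decide) (by norm_num) f_2_0 f_0_1 f_2_3 f_3_4 f_2_6 f_6_7).elim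
      · have f_3_6 : T.a (y 3) (y 6) ≠ 0 := e
        have f_6_3 : T.a (y 6) (y 3) ≠ 0 := nsymm T f_3_6
        clear e ha
        obtain ⟨a, ha, e⟩ := hpar 7 (by norm_num) (by norm_num)
        have hc : a = 0 ∨ a = 1 ∨ a = 2 ∨ a = 3 ∨ a = 4 ∨ a = 5 ∨ a = 6 := by omega
        rcases hc with rfl | rfl | rfl | rfl | rfl | rfl | rfl
        · have f_0_7 : T.a (y 0) (y 7) ≠ 0 := e
          have f_7_0 : T.a (y 7) (y 0) ≠ 0 := nsymm T f_0_7
          clear e ha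
          exact (excl_D6t T h2 y hy ![1, 7, 0, 2, 3, 4, 6] (by decide) (by norm_num) f_1_0 f_7_0 f_0_2 f_2_3 f_3_4 f_3_6).elim
        · have f_1_7 : T.a (y 1) (y 7) ≠ 0 := e
          have f_7_1 : T.a (y 7) (y 1) ≠ 0 := nsymm T f_1_7
          clear e ha
          exact shape8_Dt T h2 (fun i => y (![4, 6, 3, 2, 0, 1, 5, 7] i)) (hy.comp (by decide)) f_4_3 f_6_3 f_3_2 f_2_0 f_0_1 f_1_5 f_1_7
        · have f_2_7 : T.a (y 2) (y 7) ≠ 0 := e
          have f_7_2 : T.a (y 7) (y 2) ≠ 0 := nsymm T f_2_7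
          clear e ha
          exact (excl_D5t T h2 y hy ![0, 7, 2, 3, 4, 6] (by decide) (by norm_num) f_0_2 f_7_2 f_2_3 f_3_4 f_3_6).elim
        · have f_3_7 : T.a (y 3) (y 7) ≠ 0 := e
          have f_7_3 : T.a (y 7) (y 3) ≠ 0 := nsymm T f_3_7
          clear e ha
          exact (excl_D4t T h2 y hy ![3, 2, 4, 6, 7] (by decide) (by norm_num) f_3_2 f_3_4 f_3_6 f_3_7).elim
        · have f_4_7 : T.a (y 4) (y 7) ≠ 0 := e
          have f_7_4 : T.a (y 7) (y 4) ≠ 0 := nsymm T f_4_7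
          clear e ha
          exact shape8_T124 T h2 (fun i => y (![3, 6, 4, 7, 2, 0, 1, 5] i)) (hy.comp (by decide)) f_3_6 f_3_4 f_4_7 f_3_2 f_2_0 f_0_1 f_1_5
        · have f_5_7 : T.a (y 5) (y 7) ≠ 0 := e
          have f_7_5 : T.a (y 7) (y 5) ≠ 0 := nsymm T f_5_7
          clear e ha
          exact shape8_D T h2 (fun i => y (![3, 4, 6, 2, 0, 1, 5, 7] i)) (hy.comp (by decide)) f_3_4 f_3_6 f_3_2 f_2_0 f_0_1 f_1_5 f_5_7
        · have f_6_7 : T.a (y 6) (y 7) ≠ 0 := e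
          have f_7_6 : T.a (y 7) (y 6) ≠ 0 := nsymm T f_6_7
          clear e ha
          exact shape8_T124 T h2 (fun i => y (![3, 4, 6, 7, 2, 0, 1, 5] i)) (hy.comp (by decide)) f_3_4 f_3_6 f_6_7 f_3_2 f_2_0 f_0_1 f_1_5
      · have f_4_6 : T.a (y 4) (y 6) ≠ 0 := e
        have f_6_4 : T.a (y 6) (y 4) ≠ 0 := nsymm T f_4_6
        clear e ha
        obtain ⟨a, ha, e⟩ := hpar 7 (by norm_num) (by norm_num)
        have hc : a = 0 ∨ a = 1 ∨ a = 2 ∨ a = 3 ∨ a = 4 ∨ a = 5 ∨ a = 6 := by omega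
        rcases hc with rfl | rfl | rfl | rfl | rfl | rfl | rfl
        · have f_0_7 : T.a (y 0) (y 7) ≠ 0 := e
          have f_7_0 : T.a (y 7) (y 0) ≠ 0 := nsymm T f_0_7
          clear e ha
          exact shape8_T124 T h2 (fun i => y (![0, 7, 1, 5, 2, 3, 4, 6] i)) (hy.comp (by decide)) f_0_7 f_0_1 f_1_5 f_0_2 f_2_3 f_3_4 f_4_6
        · have f_1_7 : T.a (y 1) (y 7) ≠ 0 := e
          have f_7_1 : T.a (y 7) (y 1) ≠ 0 := nsymm T f_1_7
          clear e ha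
          exact shape8_D T h2 (fun i => y (![1, 5, 7, 0, 2, 3, 4, 6] i)) (hy.comp (by decide)) f_1_5 f_1_7 f_1_0 f_0_2 f_2_3 f_3_4 f_4_6
        · have f_2_7 : T.a (y 2) (y 7) ≠ 0 := e
          have f_7_2 : T.a (y 7) (y 2) ≠ 0 := nsymm T f_2_7
          clear e ha
          exact shape8_T133 T h2 (fun i => y (![2, 7, 0, 1, 5, 3, 4, 6] i)) (hy.comp (by decide)) f_2_7 f_2_0 f_0_1 f_1_5 f_2_3 f_3_4 f_4_6
        · have f_3_7 : T.a (y 3) (y 7) ≠ 0 := e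
          have f_7_3 : T.a (y 7) (y 3) ≠ 0 := nsymm T f_3_7
          clear e ha
          exact shape8_T124 T h2 (fun i => y (![3, 7, 4, 6, 2, 0, 1, 5] i)) (hy.comp (by decide)) f_3_7 f_3_4 f_4_6 f_3_2 f_2_0 f_0_1 f_1_5
        · have f_4_7 : T.a (y 4) (y 7) ≠ 0 := e
          have f_7_4 : T.a (y 7) (y 4) ≠ 0 := nsymm T f_4_7
          clear e ha
          exact shape8_D T h2 (fun i => y (![4, 6, 7, 3, 2, 0, 1, 5] i)) (hy.comp (by decide)) f_4_6 f_4_7 f_4_3 f_3_2 f_2_0 f_0_1 f_1_5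
        · have f_5_7 : T.a (y 5) (y 7) ≠ 0 := e
          have f_7_5 : T.a (y 7) (y 5) ≠ 0 := nsymm T f_5_7
          clear e ha
          exact shape8_path T h2 (fun i => y (![6, 4, 3, 2, 0, 1, 5, 7] i)) (hy.comp (by decide)) f_6_4 f_4_3 f_3_2 f_2_0 f_0_1 f_1_5 f_5_7
        · have f_6_7 : T.a (y 6) (y 7) ≠ 0 := e
          have f_7_6 : T.a (y 7) (y 6) ≠ 0 := nsymm T f_6_7
          clear e ha
          exact shape8_path T h2 (fun i => y (![5, 1, 0, 2, 3, 4, 6, 7] i)) (hy.comp (by decide)) f_5_1 f_1_0 f_0_2 f_2_3 f_3_4 f_4_6 f_6_7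
      · have f_5_6 : T.a (y 5) (y 6) ≠ 0 := e
        have f_6_5 : T.a (y 6) (y 5) ≠ 0 := nsymm T f_5_6
        clear e ha
        obtain ⟨a, ha, e⟩ := hpar 7 (by norm_num) (by norm_num)
        have hc : a = 0 ∨ a = 1 ∨ a = 2 ∨ a = 3 ∨ a = 4 ∨ a = 5 ∨ a = 6 := by omega
        rcases hc with rfl | rfl | rfl | rfl | rfl | rfl | rfl
        · have f_0_7 : T.a (y 0) (y 7) ≠ 0 := e
          have f_7_0 : T.a (y 7) (y 0) ≠ 0 := nsymm T f_0_7
          clear e ha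
          exact shape8_T133 T h2 (fun i => y (![0, 7, 1, 5, 6, 2, 3, 4] i)) (hy.comp (by decide)) f_0_7 f_0_1 f_1_5 f_5_6 f_0_2 f_2_3 f_3_4
        · have f_1_7 : T.a (y 1) (y 7) ≠ 0 := e
          have f_7_1 : T.a (y 7) (y 1) ≠ 0 := nsymm T f_1_7
          clear e ha
          exact shape8_T124 T h2 (fun i => y (![1, 7, 5, 6, 0, 2, 3, 4] i)) (hy.comp (by decide)) f_1_7 f_1_5 f_5_6 f_1_0 f_0_2 f_2_3 f_3_4
        · have f_2_7 : T.a (y 2) (y 7) ≠ 0 := e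
          have f_7_2 : T.a (y 7) (y 2) ≠ 0 := nsymm T f_2_7
          clear e ha
          exact shape8_T124 T h2 (fun i => y (![2, 7, 3, 4, 0, 1, 5, 6] i)) (hy.comp (by decide)) f_2_7 f_2_3 f_3_4 f_2_0 f_0_1 f_1_5 f_5_6
        · have f_3_7 : T.a (y 3) (y 7) ≠ 0 := e
          have f_7_3 : T.a (y 7) (y 3) ≠ 0 := nsymm T f_3_7
          clear e ha
          exact shape8_D T h2 (fun i => y (![3, 4, 7, 2, 0, 1, 5, 6] i)) (hy.comp (by decide)) f_3_4 f_3_7 f_3_2 f_2_0 f_0_1 f_1_5 f_5_6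
        · have f_4_7 : T.a (y 4) (y 7) ≠ 0 := e
          have f_7_4 : T.a (y 7) (y 4) ≠ 0 := nsymm T f_4_7
          clear e ha
          exact shape8_path T h2 (fun i => y (![6, 5, 1, 0, 2, 3, 4, 7] i)) (hy.comp (by decide)) f_6_5 f_5_1 f_1_0 f_0_2 f_2_3 f_3_4 f_4_7
        · have f_5_7 : T.a (y 5) (y 7) ≠ 0 := e
          have f_7_5 : T.a (y 7) (y 5) ≠ 0 := nsymm T f_5_7
          clear e ha
          exact shape8_D T h2 (fun i => y (![5, 6, 7, 1, 0, 2, 3, 4] i)) (hy.comp (by decide)) f_5_6 f_5_7 f_5_1 f_1_0 f_0_2 f_2_3 f_3_4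
        · have f_6_7 : T.a (y 6) (y 7) ≠ 0 := e
          have f_7_6 : T.a (y 7) (y 6) ≠ 0 := nsymm T f_6_7
          clear e ha
          exact shape8_path T h2 (fun i => y (![4, 3, 2, 0, 1, 5, 6, 7] i)) (hy.comp (by decide)) f_4_3 f_3_2 f_2_0 f_0_1 f_1_5 f_5_6 f_6_7
    · have f_2_5 : T.a (y 2) (y 5) ≠ 0 := e
      have f_5_2 : T.a (y 5) (y 2) ≠ 0 := nsymm T f_2_5
      clear e ha
      obtain ⟨a, ha, e⟩ := hpar 6 (by norm_num) (by norm_num)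
      have hc : a = 0 ∨ a = 1 ∨ a = 2 ∨ a = 3 ∨ a = 4 ∨ a = 5 := by omega
      rcases hc with rfl | rfl | rfl | rfl | rfl | rfl
      · have f_0_6 : T.a (y 0) (y 6) ≠ 0 := e
        have f_6_0 : T.a (y 6) (y 0) ≠ 0 := nsymm T f_0_6
        clear e ha
        exact (excl_D5t T h2 y hy ![1, 6, 0, 2, 3, 5] (by decide) (by norm_num) f_1_0 f_6_0 f_0_2 f_2_3 f_2_5).elim
      · have f_1_6 : T.a (y 1) (y 6) ≠ 0 := e
        have f_6_1 : T.a (y 6) (y 1) ≠ 0 := nsymm T f_1_6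
        clear e ha
        obtain ⟨a, ha, e⟩ := hpar 7 (by norm_num) (by norm_num)
        have hc : a = 0 ∨ a = 1 ∨ a = 2 ∨ a = 3 ∨ a = 4 ∨ a = 5 ∨ a = 6 := by omega
        rcases hc with rfl | rfl | rfl | rfl | rfl | rfl | rfl
        · have f_0_7 : T.a (y 0) (y 7) ≠ 0 := e
          have f_7_0 : T.a (y 7) (y 0) ≠ 0 := nsymm T f_0_7
          clear e ha
          exact (excl_D5t T h2 y hy ![1, 7, 0, 2, 3, 5] (by decide) (by norm_num) f_1_0 f_7_0 f_0_2 f_2_3 f_2_5).elim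
        · have f_1_7 : T.a (y 1) (y 7) ≠ 0 := e
          have f_7_1 : T.a (y 7) (y 1) ≠ 0 := nsymm T f_1_7
          clear e ha
          exact (excl_D6t T h2 y hy ![3, 5, 2, 0, 1, 6, 7] (by decide) (by norm_num) f_3_2 f_5_2 f_2_0 f_0_1 f_1_6 f_1_7).elim
        · have f_2_7 : T.a (y 2) (y 7) ≠ 0 := e
          have f_7_2 : T.a (y 7) (y 2) ≠ 0 := nsymm T f_2_7
          clear e ha
          exact (excl_D4t T h2 y hy ![2, 0, 3, 5, 7] (by decide) (by norm_num) f_2_0 f_2_3 f_2_5 f_2_7).elim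
        · have f_3_7 : T.a (y 3) (y 7) ≠ 0 := e
          have f_7_3 : T.a (y 7) (y 3) ≠ 0 := nsymm T f_3_7
          clear e ha
          exact (excl_D5t T h2 y hy ![0, 5, 2, 3, 4, 7] (by decide) (by norm_num) f_0_2 f_5_2 f_2_3 f_3_4 f_3_7).elim
        · have f_4_7 : T.a (y 4) (y 7) ≠ 0 := e
          have f_7_4 : T.a (y 7) (y 4) ≠ 0 := nsymm T f_4_7
          clear e ha
          exact shape8_T133 T h2 (fun i => y (![2, 5, 0, 1, 6, 3, 4, 7] i)) (hy.comp (by decide)) f_2_5 f_2_0 f_0_1 f_1_6 f_2_3 f_3_4 f_4_7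
        · have f_5_7 : T.a (y 5) (y 7) ≠ 0 := e
          have f_7_5 : T.a (y 7) (y 5) ≠ 0 := nsymm T f_5_7
          clear e ha
          exact (excl_E6t T h2 y hy ![2, 0, 1, 3, 4, 5, 7] (by decide) (by norm_num) f_2_0 f_0_1 f_2_3 f_3_4 f_2_5 f_5_7).elim
        · have f_6_7 : T.a (y 6) (y 7) ≠ 0 := e
          have f_7_6 : T.a (y 7) (y 6) ≠ 0 := nsymm T f_6_7
          clear e ha
          exact shape8_T124 T h2 (fun i => y (![2, 5, 3, 4, 0, 1, 6, 7] i)) (hy.comp (by decide)) f_2_5 f_2_3 f_3_4 f_2_0 f_0_1 f_1_6 f_6_7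
      · have f_2_6 : T.a (y 2) (y 6) ≠ 0 := e
        have f_6_2 : T.a (y 6) (y 2) ≠ 0 := nsymm T f_2_6
        clear e ha
        exact (excl_D4t T h2 y hy ![2, 0, 3, 5, 6] (by decide) (by norm_num) f_2_0 f_2_3 f_2_5 f_2_6).elim
      · have f_3_6 : T.a (y 3) (y 6) ≠ 0 := e
        have f_6_3 : T.a (y 6) (y 3) ≠ 0 := nsymm T f_3_6
        clear e ha
        exact (excl_D5t T h2 y hy ![0, 5, 2, 3, 4, 6] (by decide) (by norm_num) f_0_2 f_5_2 f_2_3 f_3_4 f_3_6).elim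
      · have f_4_6 : T.a (y 4) (y 6) ≠ 0 := e
        have f_6_4 : T.a (y 6) (y 4) ≠ 0 := nsymm T f_4_6
        clear e ha
        obtain ⟨a, ha, e⟩ := hpar 7 (by norm_num) (by norm_num)
        have hc : a = 0 ∨ a = 1 ∨ a = 2 ∨ a = 3 ∨ a = 4 ∨ a = 5 ∨ a = 6 := by omega
        rcases hc with rfl | rfl | rfl | rfl | rfl | rfl | rfl
        · have f_0_7 : T.a (y 0) (y 7) ≠ 0 := e
          have f_7_0 : T.a (y 7) (y 0) ≠ 0 := nsymm T f_0_7
          clear e ha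
          exact (excl_D5t T h2 y hy ![1, 7, 0, 2, 3, 5] (by decide) (by norm_num) f_1_0 f_7_0 f_0_2 f_2_3 f_2_5).elim
        · have f_1_7 : T.a (y 1) (y 7) ≠ 0 := e
          have f_7_1 : T.a (y 7) (y 1) ≠ 0 := nsymm T f_1_7
          clear e ha
          exact shape8_T133 T h2 (fun i => y (![2, 5, 0, 1, 7, 3, 4, 6] i)) (hy.comp (by decide)) f_2_5 f_2_0 f_0_1 f_1_7 f_2_3 f_3_4 f_4_6
        · have f_2_7 : T.a (y 2) (y 7) ≠ 0 := e
          have f_7_2 : T.a (y 7) (y 2) ≠ 0 := nsymm T f_2_7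
          clear e ha
          exact (excl_D4t T h2 y hy ![2, 0, 3, 5, 7] (by decide) (by norm_num) f_2_0 f_2_3 f_2_5 f_2_7).elim
        · have f_3_7 : T.a (y 3) (y 7) ≠ 0 := e
          have f_7_3 : T.a (y 7) (y 3) ≠ 0 := nsymm T f_3_7
          clear e ha
          exact (excl_D5t T h2 y hy ![0, 5, 2, 3, 4, 7] (by decide) (by norm_num) f_0_2 f_5_2 f_2_3 f_3_4 f_3_7).elim
        · have f_4_7 : T.a (y 4) (y 7) ≠ 0 := e
          have f_7_4 : T.a (y 7) (y 4) ≠ 0 := nsymm T f_4_7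
          clear e ha
          exact (excl_D6t T h2 y hy ![0, 5, 2, 3, 4, 6, 7] (by decide) (by norm_num) f_0_2 f_5_2 f_2_3 f_3_4 f_4_6 f_4_7).elim
        · have f_5_7 : T.a (y 5) (y 7) ≠ 0 := e
          have f_7_5 : T.a (y 7) (y 5) ≠ 0 := nsymm T f_5_7
          clear e ha
          exact (excl_E6t T h2 y hy ![2, 0, 1, 3, 4, 5, 7] (by decide) (by norm_num) f_2_0 f_0_1 f_2_3 f_3_4 f_2_5 f_5_7).elim
        · have f_6_7 : T.a (y 6) (y 7) ≠ 0 := e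
          have f_7_6 : T.a (y 7) (y 6) ≠ 0 := nsymm T f_6_7
          clear e ha
          exact shape8_T124 T h2 (fun i => y (![2, 5, 0, 1, 3, 4, 6, 7] i)) (hy.comp (by decide)) f_2_5 f_2_0 f_0_1 f_2_3 f_3_4 f_4_6 f_6_7
      · have f_5_6 : T.a (y 5) (y 6) ≠ 0 := e
        have f_6_5 : T.a (y 6) (y 5) ≠ 0 := nsymm T f_5_6
        clear e ha
        exact (excl_E6t T h2 y hy ![2, 0, 1, 3, 4, 5, 6] (by decide) (by norm_num) f_2_0 f_0_1 f_2_3 f_3_4 f_2_5 f_5_6).elim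
    · have f_3_5 : T.a (y 3) (y 5) ≠ 0 := e
      have f_5_3 : T.a (y 5) (y 3) ≠ 0 := nsymm T f_3_5
      clear e ha
      obtain ⟨a, ha, e⟩ := hpar 6 (by norm_num) (by norm_num)
      have hc : a = 0 ∨ a = 1 ∨ a = 2 ∨ a = 3 ∨ a = 4 ∨ a = 5 := by omega
      rcases hc with rfl | rfl | rfl | rfl | rfl | rfl
      · have f_0_6 : T.a (y 0) (y 6) ≠ 0 := e
        have f_6_0 : T.a (y 6) (y 0) ≠ 0 := nsymm T f_0_6
        clear e ha
        exact (excl_D6t T h2 y hy ![1, 6, 0, 2, 3, 4, 5] (by decide) (by norm_num) f_1_0 f_6_0 f_0_2 f_2_3 f_3_4 f_3_5).elim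
      · have f_1_6 : T.a (y 1) (y 6) ≠ 0 := e
        have f_6_1 : T.a (y 6) (y 1) ≠ 0 := nsymm T f_1_6
        clear e ha
        obtain ⟨a, ha, e⟩ := hpar 7 (by norm_num) (by norm_num)
        have hc : a = 0 ∨ a = 1 ∨ a = 2 ∨ a = 3 ∨ a = 4 ∨ a = 5 ∨ a = 6 := by omega
        rcases hc with rfl | rfl | rfl | rfl | rfl | rfl | rfl
        · have f_0_7 : T.a (y 0) (y 7) ≠ 0 := e
          have f_7_0 : T.a (y 7) (y 0) ≠ 0 := nsymm T f_0_7
          clear e ha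
          exact (excl_D6t T h2 y hy ![1, 7, 0, 2, 3, 4, 5] (by decide) (by norm_num) f_1_0 f_7_0 f_0_2 f_2_3 f_3_4 f_3_5).elim
        · have f_1_7 : T.a (y 1) (y 7) ≠ 0 := e
          have f_7_1 : T.a (y 7) (y 1) ≠ 0 := nsymm T f_1_7
          clear e ha
          exact shape8_Dt T h2 (fun i => y (![4, 5, 3, 2, 0, 1, 6, 7] i)) (hy.comp (by decide)) f_4_3 f_5_3 f_3_2 f_2_0 f_0_1 f_1_6 f_1_7
        · have f_2_7 : T.a (y 2) (y 7) ≠ 0 := e
          have f_7_2 : T.a (y 7) (y 2) ≠ 0 := nsymm T f_2_7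
          clear e ha
          exact (excl_D5t T h2 y hy ![0, 7, 2, 3, 4, 5] (by decide) (by norm_num) f_0_2 f_7_2 f_2_3 f_3_4 f_3_5).elim
        · have f_3_7 : T.a (y 3) (y 7) ≠ 0 := e
          have f_7_3 : T.a (y 7) (y 3) ≠ 0 := nsymm T f_3_7
          clear e ha
          exact (excl_D4t T h2 y hy ![3, 2, 4, 5, 7] (by decide) (by norm_num) f_3_2 f_3_4 f_3_5 f_3_7).elim
        · have f_4_7 : T.a (y 4) (y 7) ≠ 0 := e
          have f_7_4 : T.a (y 7) (y 4) ≠ 0 := nsymm T f_4_7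
          clear e ha
          exact shape8_T124 T h2 (fun i => y (![3, 5, 4, 7, 2, 0, 1, 6] i)) (hy.comp (by decide)) f_3_5 f_3_4 f_4_7 f_3_2 f_2_0 f_0_1 f_1_6
        · have f_5_7 : T.a (y 5) (y 7) ≠ 0 := e
          have f_7_5 : T.a (y 7) (y 5) ≠ 0 := nsymm T f_5_7
          clear e ha
          exact shape8_T124 T h2 (fun i => y (![3, 4, 5, 7, 2, 0, 1, 6] i)) (hy.comp (by decide)) f_3_4 f_3_5 f_5_7 f_3_2 f_2_0 f_0_1 f_1_6
        · have f_6_7 : T.a (y 6) (y 7) ≠ 0 := e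
          have f_7_6 : T.a (y 7) (y 6) ≠ 0 := nsymm T f_6_7
          clear e ha
          exact shape8_D T h2 (fun i => y (![3, 4, 5, 2, 0, 1, 6, 7] i)) (hy.comp (by decide)) f_3_4 f_3_5 f_3_2 f_2_0 f_0_1 f_1_6 f_6_7
      · have f_2_6 : T.a (y 2) (y 6) ≠ 0 := e
        have f_6_2 : T.a (y 6) (y 2) ≠ 0 := nsymm T f_2_6
        clear e ha
        exact (excl_D5t T h2 y hy ![0, 6, 2, 3, 4, 5] (by decide) (by norm_num) f_0_2 f_6_2 f_2_3 f_3_4 f_3_5).elim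
      · have f_3_6 : T.a (y 3) (y 6) ≠ 0 := e
        have f_6_3 : T.a (y 6) (y 3) ≠ 0 := nsymm T f_3_6
        clear e ha
        exact (excl_D4t T h2 y hy ![3, 2, 4, 5, 6] (by decide) (by norm_num) f_3_2 f_3_4 f_3_5 f_3_6).elim
      · have f_4_6 : T.a (y 4) (y 6) ≠ 0 := e
        have f_6_4 : T.a (y 6) (y 4) ≠ 0 := nsymm T f_4_6
        clear e ha
        obtain ⟨a, ha, e⟩ := hpar 7 (by norm_num) (by norm_num)
        have hc : a = 0 ∨ a = 1 ∨ a = 2 ∨ a = 3 ∨ a = 4 ∨ a = 5 ∨ a = 6 := by omega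
        rcases hc with rfl | rfl | rfl | rfl | rfl | rfl | rfl
        · have f_0_7 : T.a (y 0) (y 7) ≠ 0 := e
          have f_7_0 : T.a (y 7) (y 0) ≠ 0 := nsymm T f_0_7
          clear e ha
          exact (excl_D6t T h2 y hy ![1, 7, 0, 2, 3, 4, 5] (by decide) (by norm_num) f_1_0 f_7_0 f_0_2 f_2_3 f_3_4 f_3_5).elim
        · have f_1_7 : T.a (y 1) (y 7) ≠ 0 := e
          have f_7_1 : T.a (y 7) (y 1) ≠ 0 := nsymm T f_1_7
          clear e ha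
          exact shape8_T124 T h2 (fun i => y (![3, 5, 4, 6, 2, 0, 1, 7] i)) (hy.comp (by decide)) f_3_5 f_3_4 f_4_6 f_3_2 f_2_0 f_0_1 f_1_7
        · have f_2_7 : T.a (y 2) (y 7) ≠ 0 := e
          have f_7_2 : T.a (y 7) (y 2) ≠ 0 := nsymm T f_2_7
          clear e ha
          exact (excl_D5t T h2 y hy ![0, 7, 2, 3, 4, 5] (by decide) (by norm_num) f_0_2 f_7_2 f_2_3 f_3_4 f_3_5).elim
        · have f_3_7 : T.a (y 3) (y 7) ≠ 0 := e
          have f_7_3 : T.a (y 7) (y 3) ≠ 0 := nsymm T f_3_7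
          clear e ha
          exact (excl_D4t T h2 y hy ![3, 2, 4, 5, 7] (by decide) (by norm_num) f_3_2 f_3_4 f_3_5 f_3_7).elim
        · have f_4_7 : T.a (y 4) (y 7) ≠ 0 := e
          have f_7_4 : T.a (y 7) (y 4) ≠ 0 := nsymm T f_4_7
          clear e ha
          exact (excl_D5t T h2 y hy ![2, 5, 3, 4, 6, 7] (by decide) (by norm_num) f_2_3 f_5_3 f_3_4 f_4_6 f_4_7).elim
        · have f_5_7 : T.a (y 5) (y 7) ≠ 0 := e
          have f_7_5 : T.a (y 7) (y 5) ≠ 0 := nsymm T f_5_7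
          clear e ha
          exact (excl_E6t T h2 y hy ![3, 2, 0, 4, 6, 5, 7] (by decide) (by norm_num) f_3_2 f_2_0 f_3_4 f_4_6 f_3_5 f_5_7).elim
        · have f_6_7 : T.a (y 6) (y 7) ≠ 0 := e
          have f_7_6 : T.a (y 7) (y 6) ≠ 0 := nsymm T f_6_7
          clear e ha
          exact shape8_T133 T h2 (fun i => y (![3, 5, 2, 0, 1, 4, 6, 7] i)) (hy.comp (by decide)) f_3_5 f_3_2 f_2_0 f_0_1 f_3_4 f_4_6 f_6_7
      · have f_5_6 : T.a (y 5) (y 6) ≠ 0 := e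
        have f_6_5 : T.a (y 6) (y 5) ≠ 0 := nsymm T f_5_6
        clear e ha
        obtain ⟨a, ha, e⟩ := hpar 7 (by norm_num) (by norm_num)
        have hc : a = 0 ∨ a = 1 ∨ a = 2 ∨ a = 3 ∨ a = 4 ∨ a = 5 ∨ a = 6 := by omega
        rcases hc with rfl | rfl | rfl | rfl | rfl | rfl | rfl
        · have f_0_7 : T.a (y 0) (y 7) ≠ 0 := e
          have f_7_0 : T.a (y 7) (y 0) ≠ 0 := nsymm T f_0_7
          clear e ha
          exact (excl_D6t T h2 y hy ![1, 7, 0, 2, 3, 4, 5] (by decide) (by norm_num) f_1_0 f_7_0 f_0_2 f_2_3 f_3_4 f_3_5).elim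
        · have f_1_7 : T.a (y 1) (y 7) ≠ 0 := e
          have f_7_1 : T.a (y 7) (y 1) ≠ 0 := nsymm T f_1_7
          clear e ha
          exact shape8_T124 T h2 (fun i => y (![3, 4, 5, 6, 2, 0, 1, 7] i)) (hy.comp (by decide)) f_3_4 f_3_5 f_5_6 f_3_2 f_2_0 f_0_1 f_1_7
        · have f_2_7 : T.a (y 2) (y 7) ≠ 0 := e
          have f_7_2 : T.a (y 7) (y 2) ≠ 0 := nsymm T f_2_7
          clear e ha
          exact (excl_D5t T h2 y hy ![0, 7, 2, 3, 4, 5] (by decide) (by norm_num) f_0_2 f_7_2 f_2_3 f_3_4 f_3_5).elim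
        · have f_3_7 : T.a (y 3) (y 7) ≠ 0 := e
          have f_7_3 : T.a (y 7) (y 3) ≠ 0 := nsymm T f_3_7
          clear e ha
          exact (excl_D4t T h2 y hy ![3, 2, 4, 5, 7] (by decide) (by norm_num) f_3_2 f_3_4 f_3_5 f_3_7).elim
        · have f_4_7 : T.a (y 4) (y 7) ≠ 0 := e
          have f_7_4 : T.a (y 7) (y 4) ≠ 0 := nsymm T f_4_7
          clear e ha
          exact (excl_E6t T h2 y hy ![3, 2, 0, 4, 7, 5, 6] (by decide) (by norm_num) f_3_2 f_2_0 f_3_4 f_4_7 f_3_5 f_5_6).elim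
        · have f_5_7 : T.a (y 5) (y 7) ≠ 0 := e
          have f_7_5 : T.a (y 7) (y 5) ≠ 0 := nsymm T f_5_7
          clear e ha
          exact (excl_D5t T h2 y hy ![2, 4, 3, 5, 6, 7] (by decide) (by norm_num) f_2_3 f_4_3 f_3_5 f_5_6 f_5_7).elim
        · have f_6_7 : T.a (y 6) (y 7) ≠ 0 := e
          have f_7_6 : T.a (y 7) (y 6) ≠ 0 := nsymm T f_6_7
          clear e ha
          exact shape8_T133 T h2 (fun i => y (![3, 4, 2, 0, 1, 5, 6, 7] i)) (hy.comp (by decide)) f_3_4 f_3_2 f_2_0 f_0_1 f_3_5 f_5_6 f_6_7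
    · have f_4_5 : T.a (y 4) (y 5) ≠ 0 := e
      have f_5_4 : T.a (y 5) (y 4) ≠ 0 := nsymm T f_4_5
      clear e ha
      obtain ⟨a, ha, e⟩ := hpar 6 (by norm_num) (by norm_num)
      have hc : a = 0 ∨ a = 1 ∨ a = 2 ∨ a = 3 ∨ a = 4 ∨ a = 5 := by omega
      rcases hc with rfl | rfl | rfl | rfl | rfl | rfl
      · have f_0_6 : T.a (y 0) (y 6) ≠ 0 := e
        have f_6_0 : T.a (y 6) (y 0) ≠ 0 := nsymm T f_0_6
        clear e ha
        obtain ⟨a, ha, e⟩ := hpar 7 (by norm_num) (by norm_num)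
        have hc : a = 0 ∨ a = 1 ∨ a = 2 ∨ a = 3 ∨ a = 4 ∨ a = 5 ∨ a = 6 := by omega
        rcases hc with rfl | rfl | rfl | rfl | rfl | rfl | rfl
        · have f_0_7 : T.a (y 0) (y 7) ≠ 0 := e
          have f_7_0 : T.a (y 7) (y 0) ≠ 0 := nsymm T f_0_7
          clear e ha
          exact (excl_D4t T h2 y hy ![0, 1, 2, 6, 7] (by decide) (by norm_num) f_0_1 f_0_2 f_0_6 f_0_7).elim
        · have f_1_7 : T.a (y 1) (y 7) ≠ 0 := e
          have f_7_1 : T.a (y 7) (y 1) ≠ 0 := nsymm T f_1_7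
          clear e ha
          exact shape8_T124 T h2 (fun i => y (![0, 6, 1, 7, 2, 3, 4, 5] i)) (hy.comp (by decide)) f_0_6 f_0_1 f_1_7 f_0_2 f_2_3 f_3_4 f_4_5
        · have f_2_7 : T.a (y 2) (y 7) ≠ 0 := e
          have f_7_2 : T.a (y 7) (y 2) ≠ 0 := nsymm T f_2_7
          clear e ha
          exact (excl_D5t T h2 y hy ![1, 6, 0, 2, 3, 7] (by decide) (by norm_num) f_1_0 f_6_0 f_0_2 f_2_3 f_2_7).elim
        · have f_3_7 : T.a (y 3) (y 7) ≠ 0 := e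
          have f_7_3 : T.a (y 7) (y 3) ≠ 0 := nsymm T f_3_7
          clear e ha
          exact (excl_D6t T h2 y hy ![1, 6, 0, 2, 3, 4, 7] (by decide) (by norm_num) f_1_0 f_6_0 f_0_2 f_2_3 f_3_4 f_3_7).elim
        · have f_4_7 : T.a (y 4) (y 7) ≠ 0 := e
          have f_7_4 : T.a (y 7) (y 4) ≠ 0 := nsymm T f_4_7
          clear e ha
          exact shape8_Dt T h2 (fun i => y (![1, 6, 0, 2, 3, 4, 5, 7] i)) (hy.comp (by decide)) f_1_0 f_6_0 f_0_2 f_2_3 f_3_4 f_4_5 f_4_7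
        · have f_5_7 : T.a (y 5) (y 7) ≠ 0 := e
          have f_7_5 : T.a (y 7) (y 5) ≠ 0 := nsymm T f_5_7
          clear e ha
          exact shape8_D T h2 (fun i => y (![0, 1, 6, 2, 3, 4, 5, 7] i)) (hy.comp (by decide)) f_0_1 f_0_6 f_0_2 f_2_3 f_3_4 f_4_5 f_5_7
        · have f_6_7 : T.a (y 6) (y 7) ≠ 0 := e
          have f_7_6 : T.a (y 7) (y 6) ≠ 0 := nsymm T f_6_7
          clear e ha
          exact shape8_T124 T h2 (fun i => y (![0, 1, 6, 7, 2, 3, 4, 5] i)) (hy.comp (by decide)) f_0_1 f_0_6 f_6_7 f_0_2 f_2_3 f_3_4 f_4_5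
      · have f_1_6 : T.a (y 1) (y 6) ≠ 0 := e
        have f_6_1 : T.a (y 6) (y 1) ≠ 0 := nsymm T f_1_6
        clear e ha
        obtain ⟨a, ha, e⟩ := hpar 7 (by norm_num) (by norm_num)
        have hc : a = 0 ∨ a = 1 ∨ a = 2 ∨ a = 3 ∨ a = 4 ∨ a = 5 ∨ a = 6 := by omega
        rcases hc with rfl | rfl | rfl | rfl | rfl | rfl | rfl
        · have f_0_7 : T.a (y 0) (y 7) ≠ 0 := e
          have f_7_0 : T.a (y 7) (y 0) ≠ 0 := nsymm T f_0_7
          clear e ha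
          exact shape8_T124 T h2 (fun i => y (![0, 7, 1, 6, 2, 3, 4, 5] i)) (hy.comp (by decide)) f_0_7 f_0_1 f_1_6 f_0_2 f_2_3 f_3_4 f_4_5
        · have f_1_7 : T.a (y 1) (y 7) ≠ 0 := e
          have f_7_1 : T.a (y 7) (y 1) ≠ 0 := nsymm T f_1_7
          clear e ha
          exact shape8_D T h2 (fun i => y (![1, 6, 7, 0, 2, 3, 4, 5] i)) (hy.comp (by decide)) f_1_6 f_1_7 f_1_0 f_0_2 f_2_3 f_3_4 f_4_5
        · have f_2_7 : T.a (y 2) (y 7) ≠ 0 := e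
          have f_7_2 : T.a (y 7) (y 2) ≠ 0 := nsymm T f_2_7
          clear e ha
          exact shape8_T133 T h2 (fun i => y (![2, 7, 0, 1, 6, 3, 4, 5] i)) (hy.comp (by decide)) f_2_7 f_2_0 f_0_1 f_1_6 f_2_3 f_3_4 f_4_5
        · have f_3_7 : T.a (y 3) (y 7) ≠ 0 := e
          have f_7_3 : T.a (y 7) (y 3) ≠ 0 := nsymm T f_3_7
          clear e ha
          exact shape8_T124 T h2 (fun i => y (![3, 7, 4, 5, 2, 0, 1, 6] i)) (hy.comp (by decide)) f_3_7 f_3_4 f_4_5 f_3_2 f_2_0 f_0_1 f_1_6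
        · have f_4_7 : T.a (y 4) (y 7) ≠ 0 := e
          have f_7_4 : T.a (y 7) (y 4) ≠ 0 := nsymm T f_4_7
          clear e ha
          exact shape8_D T h2 (fun i => y (![4, 5, 7, 3, 2, 0, 1, 6] i)) (hy.comp (by decide)) f_4_5 f_4_7 f_4_3 f_3_2 f_2_0 f_0_1 f_1_6
        · have f_5_7 : T.a (y 5) (y 7) ≠ 0 := e
          have f_7_5 : T.a (y 7) (y 5) ≠ 0 := nsymm T f_5_7
          clear e ha
          exact shape8_path T h2 (fun i => y (![6, 1, 0, 2, 3, 4, 5, 7] i)) (hy.comp (by decide)) f_6_1 f_1_0 f_0_2 f_2_3 f_3_4 f_4_5 f_5_7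
        · have f_6_7 : T.a (y 6) (y 7) ≠ 0 := e
          have f_7_6 : T.a (y 7) (y 6) ≠ 0 := nsymm T f_6_7
          clear e ha
          exact shape8_path T h2 (fun i => y (![5, 4, 3, 2, 0, 1, 6, 7] i)) (hy.comp (by decide)) f_5_4 f_4_3 f_3_2 f_2_0 f_0_1 f_1_6 f_6_7
      · have f_2_6 : T.a (y 2) (y 6) ≠ 0 := e
        have f_6_2 : T.a (y 6) (y 2) ≠ 0 := nsymm T f_2_6
        clear e ha
        obtain ⟨a, ha, e⟩ := hpar 7 (by norm_num) (by norm_num)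
        have hc : a = 0 ∨ a = 1 ∨ a = 2 ∨ a = 3 ∨ a = 4 ∨ a = 5 ∨ a = 6 := by omega
        rcases hc with rfl | rfl | rfl | rfl | rfl | rfl | rfl
        · have f_0_7 : T.a (y 0) (y 7) ≠ 0 := e
          have f_7_0 : T.a (y 7) (y 0) ≠ 0 := nsymm T f_0_7
          clear e ha
          exact (excl_D5t T h2 y hy ![1, 7, 0, 2, 3, 6] (by decide) (by norm_num) f_1_0 f_7_0 f_0_2 f_2_3 f_2_6).elim
        · have f_1_7 : T.a (y 1) (y 7) ≠ 0 := e
          have f_7_1 : T.a (y 7) (y 1) ≠ 0 := nsymm T f_1_7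
          clear e ha
          exact shape8_T133 T h2 (fun i => y (![2, 6, 0, 1, 7, 3, 4, 5] i)) (hy.comp (by decide)) f_2_6 f_2_0 f_0_1 f_1_7 f_2_3 f_3_4 f_4_5
        · have f_2_7 : T.a (y 2) (y 7) ≠ 0 := e
          have f_7_2 : T.a (y 7) (y 2) ≠ 0 := nsymm T f_2_7
          clear e ha
          exact (excl_D4t T h2 y hy ![2, 0, 3, 6, 7] (by decide) (by norm_num) f_2_0 f_2_3 f_2_6 f_2_7).elim
        · have f_3_7 : T.a (y 3) (y 7) ≠ 0 := e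
          have f_7_3 : T.a (y 7) (y 3) ≠ 0 := nsymm T f_3_7
          clear e ha
          exact (excl_D5t T h2 y hy ![0, 6, 2, 3, 4, 7] (by decide) (by norm_num) f_0_2 f_6_2 f_2_3 f_3_4 f_3_7).elim
        · have f_4_7 : T.a (y 4) (y 7) ≠ 0 := e
          have f_7_4 : T.a (y 7) (y 4) ≠ 0 := nsymm T f_4_7
          clear e ha
          exact (excl_D6t T h2 y hy ![0, 6, 2, 3, 4, 5, 7] (by decide) (by norm_num) f_0_2 f_6_2 f_2_3 f_3_4 f_4_5 f_4_7).elim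
        · have f_5_7 : T.a (y 5) (y 7) ≠ 0 := e
          have f_7_5 : T.a (y 7) (y 5) ≠ 0 := nsymm T f_5_7
          clear e ha
          exact shape8_T124 T h2 (fun i => y (![2, 6, 0, 1, 3, 4, 5, 7] i)) (hy.comp (by decide)) f_2_6 f_2_0 f_0_1 f_2_3 f_3_4 f_4_5 f_5_7
        · have f_6_7 : T.a (y 6) (y 7) ≠ 0 := e
          have f_7_6 : T.a (y 7) (y 6) ≠ 0 := nsymm T f_6_7
          clear e ha
          exact (excl_E6t T h2 y hy ![2, 0, 1, 3, 4, 6, 7] (by decide) (by norm_num) f_2_0 f_0_1 f_2_3 f_3_4 f_2_6 f_6_7).elim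
      · have f_3_6 : T.a (y 3) (y 6) ≠ 0 := e
        have f_6_3 : T.a (y 6) (y 3) ≠ 0 := nsymm T f_3_6
        clear e ha
        obtain ⟨a, ha, e⟩ := hpar 7 (by norm_num) (by norm_num)
        have hc : a = 0 ∨ a = 1 ∨ a = 2 ∨ a = 3 ∨ a = 4 ∨ a = 5 ∨ a = 6 := by omega
        rcases hc with rfl | rfl | rfl | rfl | rfl | rfl | rfl
        · have f_0_7 : T.a (y 0) (y 7) ≠ 0 := e
          have f_7_0 : T.a (y 7) (y 0) ≠ 0 := nsymm T f_0_7
          clear e ha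
          exact (excl_D6t T h2 y hy ![1, 7, 0, 2, 3, 4, 6] (by decide) (by norm_num) f_1_0 f_7_0 f_0_2 f_2_3 f_3_4 f_3_6).elim
        · have f_1_7 : T.a (y 1) (y 7) ≠ 0 := e
          have f_7_1 : T.a (y 7) (y 1) ≠ 0 := nsymm T f_1_7
          clear e ha
          exact shape8_T124 T h2 (fun i => y (![3, 6, 4, 5, 2, 0, 1, 7] i)) (hy.comp (by decide)) f_3_6 f_3_4 f_4_5 f_3_2 f_2_0 f_0_1 f_1_7
        · have f_2_7 : T.a (y 2) (y 7) ≠ 0 := e
          have f_7_2 : T.a (y 7) (y 2) ≠ 0 := nsymm T f_2_7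
          clear e ha
          exact (excl_D5t T h2 y hy ![0, 7, 2, 3, 4, 6] (by decide) (by norm_num) f_0_2 f_7_2 f_2_3 f_3_4 f_3_6).elim
        · have f_3_7 : T.a (y 3) (y 7) ≠ 0 := e
          have f_7_3 : T.a (y 7) (y 3) ≠ 0 := nsymm T f_3_7
          clear e ha
          exact (excl_D4t T h2 y hy ![3, 2, 4, 6, 7] (by decide) (by norm_num) f_3_2 f_3_4 f_3_6 f_3_7).elim
        · have f_4_7 : T.a (y 4) (y 7) ≠ 0 := e
          have f_7_4 : T.a (y 7) (y 4) ≠ 0 := nsymm T f_4_7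
          clear e ha
          exact (excl_D5t T h2 y hy ![2, 6, 3, 4, 5, 7] (by decide) (by norm_num) f_2_3 f_6_3 f_3_4 f_4_5 f_4_7).elim
        · have f_5_7 : T.a (y 5) (y 7) ≠ 0 := e
          have f_7_5 : T.a (y 7) (y 5) ≠ 0 := nsymm T f_5_7
          clear e ha
          exact shape8_T133 T h2 (fun i => y (![3, 6, 2, 0, 1, 4, 5, 7] i)) (hy.comp (by decide)) f_3_6 f_3_2 f_2_0 f_0_1 f_3_4 f_4_5 f_5_7
        · have f_6_7 : T.a (y 6) (y 7) ≠ 0 := e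
          have f_7_6 : T.a (y 7) (y 6) ≠ 0 := nsymm T f_6_7
          clear e ha
          exact (excl_E6t T h2 y hy ![3, 2, 0, 4, 5, 6, 7] (by decide) (by norm_num) f_3_2 f_2_0 f_3_4 f_4_5 f_3_6 f_6_7).elim
      · have f_4_6 : T.a (y 4) (y 6) ≠ 0 := e
        have f_6_4 : T.a (y 6) (y 4) ≠ 0 := nsymm T f_4_6
        clear e ha
        obtain ⟨a, ha, e⟩ := hpar 7 (by norm_num) (by norm_num)
        have hc : a = 0 ∨ a = 1 ∨ a = 2 ∨ a = 3 ∨ a = 4 ∨ a = 5 ∨ a = 6 := by omega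
        rcases hc with rfl | rfl | rfl | rfl | rfl | rfl | rfl
        · have f_0_7 : T.a (y 0) (y 7) ≠ 0 := e
          have f_7_0 : T.a (y 7) (y 0) ≠ 0 := nsymm T f_0_7
          clear e ha
          exact shape8_Dt T h2 (fun i => y (![1, 7, 0, 2, 3, 4, 5, 6] i)) (hy.comp (by decide)) f_1_0 f_7_0 f_0_2 f_2_3 f_3_4 f_4_5 f_4_6
        · have f_1_7 : T.a (y 1) (y 7) ≠ 0 := e
          have f_7_1 : T.a (y 7) (y 1) ≠ 0 := nsymm T f_1_7
          clear e ha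
          exact shape8_D T h2 (fun i => y (![4, 5, 6, 3, 2, 0, 1, 7] i)) (hy.comp (by decide)) f_4_5 f_4_6 f_4_3 f_3_2 f_2_0 f_0_1 f_1_7
        · have f_2_7 : T.a (y 2) (y 7) ≠ 0 := e
          have f_7_2 : T.a (y 7) (y 2) ≠ 0 := nsymm T f_2_7
          clear e ha
          exact (excl_D6t T h2 y hy ![0, 7, 2, 3, 4, 5, 6] (by decide) (by norm_num) f_0_2 f_7_2 f_2_3 f_3_4 f_4_5 f_4_6).elim
        · have f_3_7 : T.a (y 3) (y 7) ≠ 0 := e
          have f_7_3 : T.a (y 7) (y 3) ≠ 0 := nsymm T f_3_7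
          clear e ha
          exact (excl_D5t T h2 y hy ![2, 7, 3, 4, 5, 6] (by decide) (by norm_num) f_2_3 f_7_3 f_3_4 f_4_5 f_4_6).elim
        · have f_4_7 : T.a (y 4) (y 7) ≠ 0 := e
          have f_7_4 : T.a (y 7) (y 4) ≠ 0 := nsymm T f_4_7
          clear e ha
          exact (excl_D4t T h2 y hy ![4, 3, 5, 6, 7] (by decide) (by norm_num) f_4_3 f_4_5 f_4_6 f_4_7).elim
        · have f_5_7 : T.a (y 5) (y 7) ≠ 0 := e
          have f_7_5 : T.a (y 7) (y 5) ≠ 0 := nsymm T f_5_7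
          clear e ha
          exact shape8_T124 T h2 (fun i => y (![4, 6, 5, 7, 3, 2, 0, 1] i)) (hy.comp (by decide)) f_4_6 f_4_5 f_5_7 f_4_3 f_3_2 f_2_0 f_0_1
        · have f_6_7 : T.a (y 6) (y 7) ≠ 0 := e
          have f_7_6 : T.a (y 7) (y 6) ≠ 0 := nsymm T f_6_7
          clear e ha
          exact shape8_T124 T h2 (fun i => y (![4, 5, 6, 7, 3, 2, 0, 1] i)) (hy.comp (by decide)) f_4_5 f_4_6 f_6_7 f_4_3 f_3_2 f_2_0 f_0_1
      · have f_5_6 : T.a (y 5) (y 6) ≠ 0 := e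
        have f_6_5 : T.a (y 6) (y 5) ≠ 0 := nsymm T f_5_6
        clear e ha
        obtain ⟨a, ha, e⟩ := hpar 7 (by norm_num) (by norm_num)
        have hc : a = 0 ∨ a = 1 ∨ a = 2 ∨ a = 3 ∨ a = 4 ∨ a = 5 ∨ a = 6 := by omega
        rcases hc with rfl | rfl | rfl | rfl | rfl | rfl | rfl
        · have f_0_7 : T.a (y 0) (y 7) ≠ 0 := e
          have f_7_0 : T.a (y 7) (y 0) ≠ 0 := nsymm T f_0_7
          clear e ha
          exact shape8_D T h2 (fun i => y (![0, 1, 7, 2, 3, 4, 5, 6] i)) (hy.comp (by decide)) f_0_1 f_0_7 f_0_2 f_2_3 f_3_4 f_4_5 f_5_6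
        · have f_1_7 : T.a (y 1) (y 7) ≠ 0 := e
          have f_7_1 : T.a (y 7) (y 1) ≠ 0 := nsymm T f_1_7
          clear e ha
          exact shape8_path T h2 (fun i => y (![6, 5, 4, 3, 2, 0, 1, 7] i)) (hy.comp (by decide)) f_6_5 f_5_4 f_4_3 f_3_2 f_2_0 f_0_1 f_1_7
        · have f_2_7 : T.a (y 2) (y 7) ≠ 0 := e
          have f_7_2 : T.a (y 7) (y 2) ≠ 0 := nsymm T f_2_7
          clear e ha
          exact shape8_T124 T h2 (fun i => y (![2, 7, 0, 1, 3, 4, 5, 6] i)) (hy.comp (by decide)) f_2_7 f_2_0 f_0_1 f_2_3 f_3_4 f_4_5 f_5_6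
        · have f_3_7 : T.a (y 3) (y 7) ≠ 0 := e
          have f_7_3 : T.a (y 7) (y 3) ≠ 0 := nsymm T f_3_7
          clear e ha
          exact shape8_T133 T h2 (fun i => y (![3, 7, 2, 0, 1, 4, 5, 6] i)) (hy.comp (by decide)) f_3_7 f_3_2 f_2_0 f_0_1 f_3_4 f_4_5 f_5_6
        · have f_4_7 : T.a (y 4) (y 7) ≠ 0 := e
          have f_7_4 : T.a (y 7) (y 4) ≠ 0 := nsymm T f_4_7
          clear e ha
          exact shape8_T124 T h2 (fun i => y (![4, 7, 5, 6, 3, 2, 0, 1] i)) (hy.comp (by decide)) f_4_7 f_4_5 f_5_6 f_4_3 f_3_2 f_2_0 f_0_1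
        · have f_5_7 : T.a (y 5) (y 7) ≠ 0 := e
          have f_7_5 : T.a (y 7) (y 5) ≠ 0 := nsymm T f_5_7
          clear e ha
          exact shape8_D T h2 (fun i => y (![5, 6, 7, 4, 3, 2, 0, 1] i)) (hy.comp (by decide)) f_5_6 f_5_7 f_5_4 f_4_3 f_3_2 f_2_0 f_0_1
        · have f_6_7 : T.a (y 6) (y 7) ≠ 0 := e
          have f_7_6 : T.a (y 7) (y 6) ≠ 0 := nsymm T f_6_7
          clear e ha
          exact shape8_path T h2 (fun i => y (![1, 0, 2, 3, 4, 5, 6, 7] i)) (hy.comp (by decide)) f_1_0 f_0_2 f_2_3 f_3_4 f_4_5 f_5_6 f_6_7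

theorem disp8_012 (T : Models.NumericalType 8) (h2 : ∀ i, T.IsMinusTwo i)
    (y : Fin 8 → Fin 8) (hy : Function.Injective y)
    (hpar : ∀ (k : ℕ) (hk : k < 8), 0 < k → ∃ (a : ℕ) (ha : a < k), T.a (y ⟨a, by omega⟩) (y ⟨k, hk⟩) ≠ 0)
    (f_0_1 : T.a (y 0) (y 1) ≠ 0) (f_1_0 : T.a (y 1) (y 0) ≠ 0) (f_1_2 : T.a (y 1) (y 2) ≠ 0) (f_2_1 : T.a (y 2) (y 1) ≠ 0) (f_2_3 : T.a (y 2) (y 3) ≠ 0) (f_3_2 : T.a (y 3) (y 2) ≠ 0) : Goal8 T := by
  obtain ⟨a, ha, e⟩ := hpar 4 (by norm_num) (by norm_num)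
  have hc : a = 0 ∨ a = 1 ∨ a = 2 ∨ a = 3 := by omega
  rcases hc with rfl | rfl | rfl | rfl
  · have f_0_4 : T.a (y 0) (y 4) ≠ 0 := e
    have f_4_0 : T.a (y 4) (y 0) ≠ 0 := nsymm T f_0_4
    clear e ha
    obtain ⟨a, ha, e⟩ := hpar 5 (by norm_num) (by norm_num)
    have hc : a = 0 ∨ a = 1 ∨ a = 2 ∨ a = 3 ∨ a = 4 := by omega
    rcases hc with rfl | rfl | rfl | rfl | rfl
    · have f_0_5 : T.a (y 0) (y 5) ≠ 0 := e
      have f_5_0 : T.a (y 5) (y 0) ≠ 0 := nsymm T f_0_5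
      clear e ha
      obtain ⟨a, ha, e⟩ := hpar 6 (by norm_num) (by norm_num)
      have hc : a = 0 ∨ a = 1 ∨ a = 2 ∨ a = 3 ∨ a = 4 ∨ a = 5 := by omega
      rcases hc with rfl | rfl | rfl | rfl | rfl | rfl
      · have f_0_6 : T.a (y 0) (y 6) ≠ 0 := e
        have f_6_0 : T.a (y 6) (y 0) ≠ 0 := nsymm T f_0_6
        clear e ha
        exact (excl_D4t T h2 y hy ![0, 1, 4, 5, 6] (by decide) (by norm_num) f_0_1 f_0_4 f_0_5 f_0_6).elim
      · have f_1_6 : T.a (y 1) (y 6) ≠ 0 := e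
        have f_6_1 : T.a (y 6) (y 1) ≠ 0 := nsymm T f_1_6
        clear e ha
        exact (excl_D5t T h2 y hy ![2, 6, 1, 0, 4, 5] (by decide) (by norm_num) f_2_1 f_6_1 f_1_0 f_0_4 f_0_5).elim
      · have f_2_6 : T.a (y 2) (y 6) ≠ 0 := e
        have f_6_2 : T.a (y 6) (y 2) ≠ 0 := nsymm T f_2_6
        clear e ha
        exact (excl_D6t T h2 y hy ![3, 6, 2, 1, 0, 4, 5] (by decide) (by norm_num) f_3_2 f_6_2 f_2_1 f_1_0 f_0_4 f_0_5).elim
      · have f_3_6 : T.a (y 3) (y 6) ≠ 0 := e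
        have f_6_3 : T.a (y 6) (y 3) ≠ 0 := nsymm T f_3_6
        clear e ha
        obtain ⟨a, ha, e⟩ := hpar 7 (by norm_num) (by norm_num)
        have hc : a = 0 ∨ a = 1 ∨ a = 2 ∨ a = 3 ∨ a = 4 ∨ a = 5 ∨ a = 6 := by omega
        rcases hc with rfl | rfl | rfl | rfl | rfl | rfl | rfl
        · have f_0_7 : T.a (y 0) (y 7) ≠ 0 := e
          have f_7_0 : T.a (y 7) (y 0) ≠ 0 := nsymm T f_0_7
          clear e ha
          exact (excl_D4t T h2 y hy ![0, 1, 4, 5, 7] (by decide) (by norm_num) f_0_1 f_0_4 f_0_5 f_0_7).elim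
        · have f_1_7 : T.a (y 1) (y 7) ≠ 0 := e
          have f_7_1 : T.a (y 7) (y 1) ≠ 0 := nsymm T f_1_7
          clear e ha
          exact (excl_D5t T h2 y hy ![2, 7, 1, 0, 4, 5] (by decide) (by norm_num) f_2_1 f_7_1 f_1_0 f_0_4 f_0_5).elim
        · have f_2_7 : T.a (y 2) (y 7) ≠ 0 := e
          have f_7_2 : T.a (y 7) (y 2) ≠ 0 := nsymm T f_2_7
          clear e ha
          exact (excl_D6t T h2 y hy ![3, 7, 2, 1, 0, 4, 5] (by decide) (by norm_num) f_3_2 f_7_2 f_2_1 f_1_0 f_0_4 f_0_5).elim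
        · have f_3_7 : T.a (y 3) (y 7) ≠ 0 := e
          have f_7_3 : T.a (y 7) (y 3) ≠ 0 := nsymm T f_3_7
          clear e ha
          exact shape8_Dt T h2 (fun i => y (![4, 5, 0, 1, 2, 3, 6, 7] i)) (hy.comp (by decide)) f_4_0 f_5_0 f_0_1 f_1_2 f_2_3 f_3_6 f_3_7
        · have f_4_7 : T.a (y 4) (y 7) ≠ 0 := e
          have f_7_4 : T.a (y 7) (y 4) ≠ 0 := nsymm T f_4_7
          clear e ha
          exact shape8_T124 T h2 (fun i => y (![0, 5, 4, 7, 1, 2, 3, 6] i)) (hy.comp (by decide)) f_0_5 f_0_4 f_4_7 f_0_1 f_1_2 f_2_3 f_3_6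
        · have f_5_7 : T.a (y 5) (y 7) ≠ 0 := e
          have f_7_5 : T.a (y 7) (y 5) ≠ 0 := nsymm T f_5_7
          clear e ha
          exact shape8_T124 T h2 (fun i => y (![0, 4, 5, 7, 1, 2, 3, 6] i)) (hy.comp (by decide)) f_0_4 f_0_5 f_5_7 f_0_1 f_1_2 f_2_3 f_3_6
        · have f_6_7 : T.a (y 6) (y 7) ≠ 0 := e
          have f_7_6 : T.a (y 7) (y 6) ≠ 0 := nsymm T f_6_7
          clear e ha
          exact shape8_D T h2 (fun i => y (![0, 4, 5, 1, 2, 3, 6, 7] i)) (hy.comp (by decide)) f_0_4 f_0_5 f_0_1 f_1_2 f_2_3 f_3_6 f_6_7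
      · have f_4_6 : T.a (y 4) (y 6) ≠ 0 := e
        have f_6_4 : T.a (y 6) (y 4) ≠ 0 := nsymm T f_4_6
        clear e ha
        obtain ⟨a, ha, e⟩ := hpar 7 (by norm_num) (by norm_num)
        have hc : a = 0 ∨ a = 1 ∨ a = 2 ∨ a = 3 ∨ a = 4 ∨ a = 5 ∨ a = 6 := by omega
        rcases hc with rfl | rfl | rfl | rfl | rfl | rfl | rfl
        · have f_0_7 : T.a (y 0) (y 7) ≠ 0 := e
          have f_7_0 : T.a (y 7) (y 0) ≠ 0 := nsymm T f_0_7
          clear e ha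
          exact (excl_D4t T h2 y hy ![0, 1, 4, 5, 7] (by decide) (by norm_num) f_0_1 f_0_4 f_0_5 f_0_7).elim
        · have f_1_7 : T.a (y 1) (y 7) ≠ 0 := e
          have f_7_1 : T.a (y 7) (y 1) ≠ 0 := nsymm T f_1_7
          clear e ha
          exact (excl_D5t T h2 y hy ![2, 7, 1, 0, 4, 5] (by decide) (by norm_num) f_2_1 f_7_1 f_1_0 f_0_4 f_0_5).elim
        · have f_2_7 : T.a (y 2) (y 7) ≠ 0 := e
          have f_7_2 : T.a (y 7) (y 2) ≠ 0 := nsymm T f_2_7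
          clear e ha
          exact (excl_D6t T h2 y hy ![3, 7, 2, 1, 0, 4, 5] (by decide) (by norm_num) f_3_2 f_7_2 f_2_1 f_1_0 f_0_4 f_0_5).elim
        · have f_3_7 : T.a (y 3) (y 7) ≠ 0 := e
          have f_7_3 : T.a (y 7) (y 3) ≠ 0 := nsymm T f_3_7
          clear e ha
          exact shape8_T124 T h2 (fun i => y (![0, 5, 4, 6, 1, 2, 3, 7] i)) (hy.comp (by decide)) f_0_5 f_0_4 f_4_6 f_0_1 f_1_2 f_2_3 f_3_7
        · have f_4_7 : T.a (y 4) (y 7) ≠ 0 := e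
          have f_7_4 : T.a (y 7) (y 4) ≠ 0 := nsymm T f_4_7
          clear e ha
          exact (excl_D5t T h2 y hy ![1, 5, 0, 4, 6, 7] (by decide) (by norm_num) f_1_0 f_5_0 f_0_4 f_4_6 f_4_7).elim
        · have f_5_7 : T.a (y 5) (y 7) ≠ 0 := e
          have f_7_5 : T.a (y 7) (y 5) ≠ 0 := nsymm T f_5_7
          clear e ha
          exact (excl_E6t T h2 y hy ![0, 1, 2, 4, 6, 5, 7] (by decide) (by norm_num) f_0_1 f_1_2 f_0_4 f_4_6 f_0_5 f_5_7).elim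
        · have f_6_7 : T.a (y 6) (y 7) ≠ 0 := e
          have f_7_6 : T.a (y 7) (y 6) ≠ 0 := nsymm T f_6_7
          clear e ha
          exact shape8_T133 T h2 (fun i => y (![0, 5, 1, 2, 3, 4, 6, 7] i)) (hy.comp (by decide)) f_0_5 f_0_1 f_1_2 f_2_3 f_0_4 f_4_6 f_6_7
      · have f_5_6 : T.a (y 5) (y 6) ≠ 0 := e
        have f_6_5 : T.a (y 6) (y 5) ≠ 0 := nsymm T f_5_6
        clear e ha
        obtain ⟨a, ha, e⟩ := hpar 7 (by norm_num) (by norm_num)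
        have hc : a = 0 ∨ a = 1 ∨ a = 2 ∨ a = 3 ∨ a = 4 ∨ a = 5 ∨ a = 6 := by omega
        rcases hc with rfl | rfl | rfl | rfl | rfl | rfl | rfl
        · have f_0_7 : T.a (y 0) (y 7) ≠ 0 := e
          have f_7_0 : T.a (y 7) (y 0) ≠ 0 := nsymm T f_0_7
          clear e ha
          exact (excl_D4t T h2 y hy ![0, 1, 4, 5, 7] (by decide) (by norm_num) f_0_1 f_0_4 f_0_5 f_0_7).elim
        · have f_1_7 : T.a (y 1) (y 7) ≠ 0 := e
          have f_7_1 : T.a (y 7) (y 1) ≠ 0 := nsymm T f_1_7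
          clear e ha
          exact (excl_D5t T h2 y hy ![2, 7, 1, 0, 4, 5] (by decide) (by norm_num) f_2_1 f_7_1 f_1_0 f_0_4 f_0_5).elim
        · have f_2_7 : T.a (y 2) (y 7) ≠ 0 := e
          have f_7_2 : T.a (y 7) (y 2) ≠ 0 := nsymm T f_2_7
          clear e ha
          exact (excl_D6t T h2 y hy ![3, 7, 2, 1, 0, 4, 5] (by decide) (by norm_num) f_3_2 f_7_2 f_2_1 f_1_0 f_0_4 f_0_5).elim
        · have f_3_7 : T.a (y 3) (y 7) ≠ 0 := e
          have f_7_3 : T.a (y 7) (y 3) ≠ 0 := nsymm T f_3_7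
          clear e ha
          exact shape8_T124 T h2 (fun i => y (![0, 4, 5, 6, 1, 2, 3, 7] i)) (hy.comp (by decide)) f_0_4 f_0_5 f_5_6 f_0_1 f_1_2 f_2_3 f_3_7
        · have f_4_7 : T.a (y 4) (y 7) ≠ 0 := e
          have f_7_4 : T.a (y 7) (y 4) ≠ 0 := nsymm T f_4_7
          clear e ha
          exact (excl_E6t T h2 y hy ![0, 1, 2, 4, 7, 5, 6] (by decide) (by norm_num) f_0_1 f_1_2 f_0_4 f_4_7 f_0_5 f_5_6).elim
        · have f_5_7 : T.a (y 5) (y 7) ≠ 0 := e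
          have f_7_5 : T.a (y 7) (y 5) ≠ 0 := nsymm T f_5_7
          clear e ha
          exact (excl_D5t T h2 y hy ![1, 4, 0, 5, 6, 7] (by decide) (by norm_num) f_1_0 f_4_0 f_0_5 f_5_6 f_5_7).elim
        · have f_6_7 : T.a (y 6) (y 7) ≠ 0 := e
          have f_7_6 : T.a (y 7) (y 6) ≠ 0 := nsymm T f_6_7
          clear e ha
          exact shape8_T133 T h2 (fun i => y (![0, 4, 1, 2, 3, 5, 6, 7] i)) (hy.comp (by decide)) f_0_4 f_0_1 f_1_2 f_2_3 f_0_5 f_5_6 f_6_7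
    · have f_1_5 : T.a (y 1) (y 5) ≠ 0 := e
      have f_5_1 : T.a (y 5) (y 1) ≠ 0 := nsymm T f_1_5
      clear e ha
      obtain ⟨a, ha, e⟩ := hpar 6 (by norm_num) (by norm_num)
      have hc : a = 0 ∨ a = 1 ∨ a = 2 ∨ a = 3 ∨ a = 4 ∨ a = 5 := by omega
      rcases hc with rfl | rfl | rfl | rfl | rfl | rfl
      · have f_0_6 : T.a (y 0) (y 6) ≠ 0 := e
        have f_6_0 : T.a (y 6) (y 0) ≠ 0 := nsymm T f_0_6
        clear e ha
        exact (excl_D5t T h2 y hy ![2, 5, 1, 0, 4, 6] (by decide) (by norm_num) f_2_1 f_5_1 f_1_0 f_0_4 f_0_6).elim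
      · have f_1_6 : T.a (y 1) (y 6) ≠ 0 := e
        have f_6_1 : T.a (y 6) (y 1) ≠ 0 := nsymm T f_1_6
        clear e ha
        exact (excl_D4t T h2 y hy ![1, 0, 2, 5, 6] (by decide) (by norm_num) f_1_0 f_1_2 f_1_5 f_1_6).elim
      · have f_2_6 : T.a (y 2) (y 6) ≠ 0 := e
        have f_6_2 : T.a (y 6) (y 2) ≠ 0 := nsymm T f_2_6
        clear e ha
        exact (excl_D5t T h2 y hy ![0, 5, 1, 2, 3, 6] (by decide) (by norm_num) f_0_1 f_5_1 f_1_2 f_2_3 f_2_6).elim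
      · have f_3_6 : T.a (y 3) (y 6) ≠ 0 := e
        have f_6_3 : T.a (y 6) (y 3) ≠ 0 := nsymm T f_3_6
        clear e ha
        obtain ⟨a, ha, e⟩ := hpar 7 (by norm_num) (by norm_num)
        have hc : a = 0 ∨ a = 1 ∨ a = 2 ∨ a = 3 ∨ a = 4 ∨ a = 5 ∨ a = 6 := by omega
        rcases hc with rfl | rfl | rfl | rfl | rfl | rfl | rfl
        · have f_0_7 : T.a (y 0) (y 7) ≠ 0 := e
          have f_7_0 : T.a (y 7) (y 0) ≠ 0 := nsymm T f_0_7
          clear e ha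
          exact (excl_D5t T h2 y hy ![2, 5, 1, 0, 4, 7] (by decide) (by norm_num) f_2_1 f_5_1 f_1_0 f_0_4 f_0_7).elim
        · have f_1_7 : T.a (y 1) (y 7) ≠ 0 := e
          have f_7_1 : T.a (y 7) (y 1) ≠ 0 := nsymm T f_1_7
          clear e ha
          exact (excl_D4t T h2 y hy ![1, 0, 2, 5, 7] (by decide) (by norm_num) f_1_0 f_1_2 f_1_5 f_1_7).elim
        · have f_2_7 : T.a (y 2) (y 7) ≠ 0 := e
          have f_7_2 : T.a (y 7) (y 2) ≠ 0 := nsymm T f_2_7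
          clear e ha
          exact (excl_D5t T h2 y hy ![0, 5, 1, 2, 3, 7] (by decide) (by norm_num) f_0_1 f_5_1 f_1_2 f_2_3 f_2_7).elim
        · have f_3_7 : T.a (y 3) (y 7) ≠ 0 := e
          have f_7_3 : T.a (y 7) (y 3) ≠ 0 := nsymm T f_3_7
          clear e ha
          exact (excl_D6t T h2 y hy ![0, 5, 1, 2, 3, 6, 7] (by decide) (by norm_num) f_0_1 f_5_1 f_1_2 f_2_3 f_3_6 f_3_7).elim
        · have f_4_7 : T.a (y 4) (y 7) ≠ 0 := e
          have f_7_4 : T.a (y 7) (y 4) ≠ 0 := nsymm T f_4_7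
          clear e ha
          exact shape8_T133 T h2 (fun i => y (![1, 5, 0, 4, 7, 2, 3, 6] i)) (hy.comp (by decide)) f_1_5 f_1_0 f_0_4 f_4_7 f_1_2 f_2_3 f_3_6
        · have f_5_7 : T.a (y 5) (y 7) ≠ 0 := e
          have f_7_5 : T.a (y 7) (y 5) ≠ 0 := nsymm T f_5_7
          clear e ha
          exact (excl_E6t T h2 y hy ![1, 0, 4, 2, 3, 5, 7] (by decide) (by norm_num) f_1_0 f_0_4 f_1_2 f_2_3 f_1_5 f_5_7).elim
        · have f_6_7 : T.a (y 6) (y 7) ≠ 0 := e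
          have f_7_6 : T.a (y 7) (y 6) ≠ 0 := nsymm T f_6_7
          clear e ha
          exact shape8_T124 T h2 (fun i => y (![1, 5, 0, 4, 2, 3, 6, 7] i)) (hy.comp (by decide)) f_1_5 f_1_0 f_0_4 f_1_2 f_2_3 f_3_6 f_6_7
      · have f_4_6 : T.a (y 4) (y 6) ≠ 0 := e
        have f_6_4 : T.a (y 6) (y 4) ≠ 0 := nsymm T f_4_6
        clear e ha
        obtain ⟨a, ha, e⟩ := hpar 7 (by norm_num) (by norm_num)
        have hc : a = 0 ∨ a = 1 ∨ a = 2 ∨ a = 3 ∨ a = 4 ∨ a = 5 ∨ a = 6 := by omega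
        rcases hc with rfl | rfl | rfl | rfl | rfl | rfl | rfl
        · have f_0_7 : T.a (y 0) (y 7) ≠ 0 := e
          have f_7_0 : T.a (y 7) (y 0) ≠ 0 := nsymm T f_0_7
          clear e ha
          exact (excl_D5t T h2 y hy ![2, 5, 1, 0, 4, 7] (by decide) (by norm_num) f_2_1 f_5_1 f_1_0 f_0_4 f_0_7).elim
        · have f_1_7 : T.a (y 1) (y 7) ≠ 0 := e
          have f_7_1 : T.a (y 7) (y 1) ≠ 0 := nsymm T f_1_7
          clear e ha
          exact (excl_D4t T h2 y hy ![1, 0, 2, 5, 7] (by decide) (by norm_num) f_1_0 f_1_2 f_1_5 f_1_7).elim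
        · have f_2_7 : T.a (y 2) (y 7) ≠ 0 := e
          have f_7_2 : T.a (y 7) (y 2) ≠ 0 := nsymm T f_2_7
          clear e ha
          exact (excl_D5t T h2 y hy ![0, 5, 1, 2, 3, 7] (by decide) (by norm_num) f_0_1 f_5_1 f_1_2 f_2_3 f_2_7).elim
        · have f_3_7 : T.a (y 3) (y 7) ≠ 0 := e
          have f_7_3 : T.a (y 7) (y 3) ≠ 0 := nsymm T f_3_7
          clear e ha
          exact shape8_T133 T h2 (fun i => y (![1, 5, 0, 4, 6, 2, 3, 7] i)) (hy.comp (by decide)) f_1_5 f_1_0 f_0_4 f_4_6 f_1_2 f_2_3 f_3_7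
        · have f_4_7 : T.a (y 4) (y 7) ≠ 0 := e
          have f_7_4 : T.a (y 7) (y 4) ≠ 0 := nsymm T f_4_7
          clear e ha
          exact (excl_D6t T h2 y hy ![2, 5, 1, 0, 4, 6, 7] (by decide) (by norm_num) f_2_1 f_5_1 f_1_0 f_0_4 f_4_6 f_4_7).elim
        · have f_5_7 : T.a (y 5) (y 7) ≠ 0 := e
          have f_7_5 : T.a (y 7) (y 5) ≠ 0 := nsymm T f_5_7
          clear e ha
          exact (excl_E6t T h2 y hy ![1, 0, 4, 2, 3, 5, 7] (by decide) (by norm_num) f_1_0 f_0_4 f_1_2 f_2_3 f_1_5 f_5_7).elim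
        · have f_6_7 : T.a (y 6) (y 7) ≠ 0 := e
          have f_7_6 : T.a (y 7) (y 6) ≠ 0 := nsymm T f_6_7
          clear e ha
          exact shape8_T124 T h2 (fun i => y (![1, 5, 2, 3, 0, 4, 6, 7] i)) (hy.comp (by decide)) f_1_5 f_1_2 f_2_3 f_1_0 f_0_4 f_4_6 f_6_7
      · have f_5_6 : T.a (y 5) (y 6) ≠ 0 := e
        have f_6_5 : T.a (y 6) (y 5) ≠ 0 := nsymm T f_5_6
        clear e ha
        exact (excl_E6t T h2 y hy ![1, 0, 4, 2, 3, 5, 6] (by decide) (by norm_num) f_1_0 f_0_4 f_1_2 f_2_3 f_1_5 f_5_6).elim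
    · have f_2_5 : T.a (y 2) (y 5) ≠ 0 := e
      have f_5_2 : T.a (y 5) (y 2) ≠ 0 := nsymm T f_2_5
      clear e ha
      obtain ⟨a, ha, e⟩ := hpar 6 (by norm_num) (by norm_num)
      have hc : a = 0 ∨ a = 1 ∨ a = 2 ∨ a = 3 ∨ a = 4 ∨ a = 5 := by omega
      rcases hc with rfl | rfl | rfl | rfl | rfl | rfl
      · have f_0_6 : T.a (y 0) (y 6) ≠ 0 := e
        have f_6_0 : T.a (y 6) (y 0) ≠ 0 := nsymm T f_0_6
        clear e ha
        exact (excl_D6t T h2 y hy ![3, 5, 2, 1, 0, 4, 6] (by decide) (by norm_num) f_3_2 f_5_2 f_2_1 f_1_0 f_0_4 f_0_6).elim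
      · have f_1_6 : T.a (y 1) (y 6) ≠ 0 := e
        have f_6_1 : T.a (y 6) (y 1) ≠ 0 := nsymm T f_1_6
        clear e ha
        exact (excl_D5t T h2 y hy ![0, 6, 1, 2, 3, 5] (by decide) (by norm_num) f_0_1 f_6_1 f_1_2 f_2_3 f_2_5).elim
      · have f_2_6 : T.a (y 2) (y 6) ≠ 0 := e
        have f_6_2 : T.a (y 6) (y 2) ≠ 0 := nsymm T f_2_6
        clear e ha
        exact (excl_D4t T h2 y hy ![2, 1, 3, 5, 6] (by decide) (by norm_num) f_2_1 f_2_3 f_2_5 f_2_6).elim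
      · have f_3_6 : T.a (y 3) (y 6) ≠ 0 := e
        have f_6_3 : T.a (y 6) (y 3) ≠ 0 := nsymm T f_3_6
        clear e ha
        obtain ⟨a, ha, e⟩ := hpar 7 (by norm_num) (by norm_num)
        have hc : a = 0 ∨ a = 1 ∨ a = 2 ∨ a = 3 ∨ a = 4 ∨ a = 5 ∨ a = 6 := by omega
        rcases hc with rfl | rfl | rfl | rfl | rfl | rfl | rfl
        · have f_0_7 : T.a (y 0) (y 7) ≠ 0 := e
          have f_7_0 : T.a (y 7) (y 0) ≠ 0 := nsymm T f_0_7
          clear e ha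
          exact (excl_D6t T h2 y hy ![3, 5, 2, 1, 0, 4, 7] (by decide) (by norm_num) f_3_2 f_5_2 f_2_1 f_1_0 f_0_4 f_0_7).elim
        · have f_1_7 : T.a (y 1) (y 7) ≠ 0 := e
          have f_7_1 : T.a (y 7) (y 1) ≠ 0 := nsymm T f_1_7
          clear e ha
          exact (excl_D5t T h2 y hy ![0, 7, 1, 2, 3, 5] (by decide) (by norm_num) f_0_1 f_7_1 f_1_2 f_2_3 f_2_5).elim
        · have f_2_7 : T.a (y 2) (y 7) ≠ 0 := e
          have f_7_2 : T.a (y 7) (y 2) ≠ 0 := nsymm T f_2_7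
          clear e ha
          exact (excl_D4t T h2 y hy ![2, 1, 3, 5, 7] (by decide) (by norm_num) f_2_1 f_2_3 f_2_5 f_2_7).elim
        · have f_3_7 : T.a (y 3) (y 7) ≠ 0 := e
          have f_7_3 : T.a (y 7) (y 3) ≠ 0 := nsymm T f_3_7
          clear e ha
          exact (excl_D5t T h2 y hy ![1, 5, 2, 3, 6, 7] (by decide) (by norm_num) f_1_2 f_5_2 f_2_3 f_3_6 f_3_7).elim
        · have f_4_7 : T.a (y 4) (y 7) ≠ 0 := e
          have f_7_4 : T.a (y 7) (y 4) ≠ 0 := nsymm T f_4_7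
          clear e ha
          exact shape8_T124 T h2 (fun i => y (![2, 5, 3, 6, 1, 0, 4, 7] i)) (hy.comp (by decide)) f_2_5 f_2_3 f_3_6 f_2_1 f_1_0 f_0_4 f_4_7
        · have f_5_7 : T.a (y 5) (y 7) ≠ 0 := e
          have f_7_5 : T.a (y 7) (y 5) ≠ 0 := nsymm T f_5_7
          clear e ha
          exact (excl_E6t T h2 y hy ![2, 1, 0, 3, 6, 5, 7] (by decide) (by norm_num) f_2_1 f_1_0 f_2_3 f_3_6 f_2_5 f_5_7).elim
        · have f_6_7 : T.a (y 6) (y 7) ≠ 0 := e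
          have f_7_6 : T.a (y 7) (y 6) ≠ 0 := nsymm T f_6_7
          clear e ha
          exact shape8_T133 T h2 (fun i => y (![2, 5, 1, 0, 4, 3, 6, 7] i)) (hy.comp (by decide)) f_2_5 f_2_1 f_1_0 f_0_4 f_2_3 f_3_6 f_6_7
      · have f_4_6 : T.a (y 4) (y 6) ≠ 0 := e
        have f_6_4 : T.a (y 6) (y 4) ≠ 0 := nsymm T f_4_6
        clear e ha
        obtain ⟨a, ha, e⟩ := hpar 7 (by norm_num) (by norm_num)
        have hc : a = 0 ∨ a = 1 ∨ a = 2 ∨ a = 3 ∨ a = 4 ∨ a = 5 ∨ a = 6 := by omega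
        rcases hc with rfl | rfl | rfl | rfl | rfl | rfl | rfl
        · have f_0_7 : T.a (y 0) (y 7) ≠ 0 := e
          have f_7_0 : T.a (y 7) (y 0) ≠ 0 := nsymm T f_0_7
          clear e ha
          exact (excl_D6t T h2 y hy ![3, 5, 2, 1, 0, 4, 7] (by decide) (by norm_num) f_3_2 f_5_2 f_2_1 f_1_0 f_0_4 f_0_7).elim
        · have f_1_7 : T.a (y 1) (y 7) ≠ 0 := e
          have f_7_1 : T.a (y 7) (y 1) ≠ 0 := nsymm T f_1_7
          clear e ha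
          exact (excl_D5t T h2 y hy ![0, 7, 1, 2, 3, 5] (by decide) (by norm_num) f_0_1 f_7_1 f_1_2 f_2_3 f_2_5).elim
        · have f_2_7 : T.a (y 2) (y 7) ≠ 0 := e
          have f_7_2 : T.a (y 7) (y 2) ≠ 0 := nsymm T f_2_7
          clear e ha
          exact (excl_D4t T h2 y hy ![2, 1, 3, 5, 7] (by decide) (by norm_num) f_2_1 f_2_3 f_2_5 f_2_7).elim
        · have f_3_7 : T.a (y 3) (y 7) ≠ 0 := e
          have f_7_3 : T.a (y 7) (y 3) ≠ 0 := nsymm T f_3_7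
          clear e ha
          exact shape8_T124 T h2 (fun i => y (![2, 5, 3, 7, 1, 0, 4, 6] i)) (hy.comp (by decide)) f_2_5 f_2_3 f_3_7 f_2_1 f_1_0 f_0_4 f_4_6
        · have f_4_7 : T.a (y 4) (y 7) ≠ 0 := e
          have f_7_4 : T.a (y 7) (y 4) ≠ 0 := nsymm T f_4_7
          clear e ha
          exact shape8_Dt T h2 (fun i => y (![3, 5, 2, 1, 0, 4, 6, 7] i)) (hy.comp (by decide)) f_3_2 f_5_2 f_2_1 f_1_0 f_0_4 f_4_6 f_4_7
        · have f_5_7 : T.a (y 5) (y 7) ≠ 0 := e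
          have f_7_5 : T.a (y 7) (y 5) ≠ 0 := nsymm T f_5_7
          clear e ha
          exact shape8_T124 T h2 (fun i => y (![2, 3, 5, 7, 1, 0, 4, 6] i)) (hy.comp (by decide)) f_2_3 f_2_5 f_5_7 f_2_1 f_1_0 f_0_4 f_4_6
        · have f_6_7 : T.a (y 6) (y 7) ≠ 0 := e
          have f_7_6 : T.a (y 7) (y 6) ≠ 0 := nsymm T f_6_7
          clear e ha
          exact shape8_D T h2 (fun i => y (![2, 3, 5, 1, 0, 4, 6, 7] i)) (hy.comp (by decide)) f_2_3 f_2_5 f_2_1 f_1_0 f_0_4 f_4_6 f_6_7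
      · have f_5_6 : T.a (y 5) (y 6) ≠ 0 := e
        have f_6_5 : T.a (y 6) (y 5) ≠ 0 := nsymm T f_5_6
        clear e ha
        obtain ⟨a, ha, e⟩ := hpar 7 (by norm_num) (by norm_num)
        have hc : a = 0 ∨ a = 1 ∨ a = 2 ∨ a = 3 ∨ a = 4 ∨ a = 5 ∨ a = 6 := by omega
        rcases hc with rfl | rfl | rfl | rfl | rfl | rfl | rfl
        · have f_0_7 : T.a (y 0) (y 7) ≠ 0 := e
          have f_7_0 : T.a (y 7) (y 0) ≠ 0 := nsymm T f_0_7
          clear e ha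
          exact (excl_D6t T h2 y hy ![3, 5, 2, 1, 0, 4, 7] (by decide) (by norm_num) f_3_2 f_5_2 f_2_1 f_1_0 f_0_4 f_0_7).elim
        · have f_1_7 : T.a (y 1) (y 7) ≠ 0 := e
          have f_7_1 : T.a (y 7) (y 1) ≠ 0 := nsymm T f_1_7
          clear e ha
          exact (excl_D5t T h2 y hy ![0, 7, 1, 2, 3, 5] (by decide) (by norm_num) f_0_1 f_7_1 f_1_2 f_2_3 f_2_5).elim
        · have f_2_7 : T.a (y 2) (y 7) ≠ 0 := e
          have f_7_2 : T.a (y 7) (y 2) ≠ 0 := nsymm T f_2_7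
          clear e ha
          exact (excl_D4t T h2 y hy ![2, 1, 3, 5, 7] (by decide) (by norm_num) f_2_1 f_2_3 f_2_5 f_2_7).elim
        · have f_3_7 : T.a (y 3) (y 7) ≠ 0 := e
          have f_7_3 : T.a (y 7) (y 3) ≠ 0 := nsymm T f_3_7
          clear e ha
          exact (excl_E6t T h2 y hy ![2, 1, 0, 3, 7, 5, 6] (by decide) (by norm_num) f_2_1 f_1_0 f_2_3 f_3_7 f_2_5 f_5_6).elim
        · have f_4_7 : T.a (y 4) (y 7) ≠ 0 := e
          have f_7_4 : T.a (y 7) (y 4) ≠ 0 := nsymm T f_4_7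
          clear e ha
          exact shape8_T124 T h2 (fun i => y (![2, 3, 5, 6, 1, 0, 4, 7] i)) (hy.comp (by decide)) f_2_3 f_2_5 f_5_6 f_2_1 f_1_0 f_0_4 f_4_7
        · have f_5_7 : T.a (y 5) (y 7) ≠ 0 := e
          have f_7_5 : T.a (y 7) (y 5) ≠ 0 := nsymm T f_5_7
          clear e ha
          exact (excl_D5t T h2 y hy ![1, 3, 2, 5, 6, 7] (by decide) (by norm_num) f_1_2 f_3_2 f_2_5 f_5_6 f_5_7).elim
        · have f_6_7 : T.a (y 6) (y 7) ≠ 0 := e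
          have f_7_6 : T.a (y 7) (y 6) ≠ 0 := nsymm T f_6_7
          clear e ha
          exact shape8_T133 T h2 (fun i => y (![2, 3, 1, 0, 4, 5, 6, 7] i)) (hy.comp (by decide)) f_2_3 f_2_1 f_1_0 f_0_4 f_2_5 f_5_6 f_6_7
    · have f_3_5 : T.a (y 3) (y 5) ≠ 0 := e
      have f_5_3 : T.a (y 5) (y 3) ≠ 0 := nsymm T f_3_5
      clear e ha
      obtain ⟨a, ha, e⟩ := hpar 6 (by norm_num) (by norm_num)
      have hc : a = 0 ∨ a = 1 ∨ a = 2 ∨ a = 3 ∨ a = 4 ∨ a = 5 := by omega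
      rcases hc with rfl | rfl | rfl | rfl | rfl | rfl
      · have f_0_6 : T.a (y 0) (y 6) ≠ 0 := e
        have f_6_0 : T.a (y 6) (y 0) ≠ 0 := nsymm T f_0_6
        clear e ha
        obtain ⟨a, ha, e⟩ := hpar 7 (by norm_num) (by norm_num)
        have hc : a = 0 ∨ a = 1 ∨ a = 2 ∨ a = 3 ∨ a = 4 ∨ a = 5 ∨ a = 6 := by omega
        rcases hc with rfl | rfl | rfl | rfl | rfl | rfl | rfl
        · have f_0_7 : T.a (y 0) (y 7) ≠ 0 := e
          have f_7_0 : T.a (y 7) (y 0) ≠ 0 := nsymm T f_0_7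
          clear e ha
          exact (excl_D4t T h2 y hy ![0, 1, 4, 6, 7] (by decide) (by norm_num) f_0_1 f_0_4 f_0_6 f_0_7).elim
        · have f_1_7 : T.a (y 1) (y 7) ≠ 0 := e
          have f_7_1 : T.a (y 7) (y 1) ≠ 0 := nsymm T f_1_7
          clear e ha
          exact (excl_D5t T h2 y hy ![2, 7, 1, 0, 4, 6] (by decide) (by norm_num) f_2_1 f_7_1 f_1_0 f_0_4 f_0_6).elim
        · have f_2_7 : T.a (y 2) (y 7) ≠ 0 := e
          have f_7_2 : T.a (y 7) (y 2) ≠ 0 := nsymm T f_2_7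
          clear e ha
          exact (excl_D6t T h2 y hy ![3, 7, 2, 1, 0, 4, 6] (by decide) (by norm_num) f_3_2 f_7_2 f_2_1 f_1_0 f_0_4 f_0_6).elim
        · have f_3_7 : T.a (y 3) (y 7) ≠ 0 := e
          have f_7_3 : T.a (y 7) (y 3) ≠ 0 := nsymm T f_3_7
          clear e ha
          exact shape8_Dt T h2 (fun i => y (![4, 6, 0, 1, 2, 3, 5, 7] i)) (hy.comp (by decide)) f_4_0 f_6_0 f_0_1 f_1_2 f_2_3 f_3_5 f_3_7
        · have f_4_7 : T.a (y 4) (y 7) ≠ 0 := e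
          have f_7_4 : T.a (y 7) (y 4) ≠ 0 := nsymm T f_4_7
          clear e ha
          exact shape8_T124 T h2 (fun i => y (![0, 6, 4, 7, 1, 2, 3, 5] i)) (hy.comp (by decide)) f_0_6 f_0_4 f_4_7 f_0_1 f_1_2 f_2_3 f_3_5
        · have f_5_7 : T.a (y 5) (y 7) ≠ 0 := e
          have f_7_5 : T.a (y 7) (y 5) ≠ 0 := nsymm T f_5_7
          clear e ha
          exact shape8_D T h2 (fun i => y (![0, 4, 6, 1, 2, 3, 5, 7] i)) (hy.comp (by decide)) f_0_4 f_0_6 f_0_1 f_1_2 f_2_3 f_3_5 f_5_7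
        · have f_6_7 : T.a (y 6) (y 7) ≠ 0 := e
          have f_7_6 : T.a (y 7) (y 6) ≠ 0 := nsymm T f_6_7
          clear e ha
          exact shape8_T124 T h2 (fun i => y (![0, 4, 6, 7, 1, 2, 3, 5] i)) (hy.comp (by decide)) f_0_4 f_0_6 f_6_7 f_0_1 f_1_2 f_2_3 f_3_5
      · have f_1_6 : T.a (y 1) (y 6) ≠ 0 := e
        have f_6_1 : T.a (y 6) (y 1) ≠ 0 := nsymm T f_1_6
        clear e ha
        obtain ⟨a, ha, e⟩ := hpar 7 (by norm_num) (by norm_num)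
        have hc : a = 0 ∨ a = 1 ∨ a = 2 ∨ a = 3 ∨ a = 4 ∨ a = 5 ∨ a = 6 := by omega
        rcases hc with rfl | rfl | rfl | rfl | rfl | rfl | rfl
        · have f_0_7 : T.a (y 0) (y 7) ≠ 0 := e
          have f_7_0 : T.a (y 7) (y 0) ≠ 0 := nsymm T f_0_7
          clear e ha
          exact (excl_D5t T h2 y hy ![2, 6, 1, 0, 4, 7] (by decide) (by norm_num) f_2_1 f_6_1 f_1_0 f_0_4 f_0_7).elim
        · have f_1_7 : T.a (y 1) (y 7) ≠ 0 := e
          have f_7_1 : T.a (y 7) (y 1) ≠ 0 := nsymm T f_1_7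
          clear e ha
          exact (excl_D4t T h2 y hy ![1, 0, 2, 6, 7] (by decide) (by norm_num) f_1_0 f_1_2 f_1_6 f_1_7).elim
        · have f_2_7 : T.a (y 2) (y 7) ≠ 0 := e
          have f_7_2 : T.a (y 7) (y 2) ≠ 0 := nsymm T f_2_7
          clear e ha
          exact (excl_D5t T h2 y hy ![0, 6, 1, 2, 3, 7] (by decide) (by norm_num) f_0_1 f_6_1 f_1_2 f_2_3 f_2_7).elim
        · have f_3_7 : T.a (y 3) (y 7) ≠ 0 := e
          have f_7_3 : T.a (y 7) (y 3) ≠ 0 := nsymm T f_3_7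
          clear e ha
          exact (excl_D6t T h2 y hy ![0, 6, 1, 2, 3, 5, 7] (by decide) (by norm_num) f_0_1 f_6_1 f_1_2 f_2_3 f_3_5 f_3_7).elim
        · have f_4_7 : T.a (y 4) (y 7) ≠ 0 := e
          have f_7_4 : T.a (y 7) (y 4) ≠ 0 := nsymm T f_4_7
          clear e ha
          exact shape8_T133 T h2 (fun i => y (![1, 6, 0, 4, 7, 2, 3, 5] i)) (hy.comp (by decide)) f_1_6 f_1_0 f_0_4 f_4_7 f_1_2 f_2_3 f_3_5
        · have f_5_7 : T.a (y 5) (y 7) ≠ 0 := e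
          have f_7_5 : T.a (y 7) (y 5) ≠ 0 := nsymm T f_5_7
          clear e ha
          exact shape8_T124 T h2 (fun i => y (![1, 6, 0, 4, 2, 3, 5, 7] i)) (hy.comp (by decide)) f_1_6 f_1_0 f_0_4 f_1_2 f_2_3 f_3_5 f_5_7
        · have f_6_7 : T.a (y 6) (y 7) ≠ 0 := e
          have f_7_6 : T.a (y 7) (y 6) ≠ 0 := nsymm T f_6_7
          clear e ha
          exact (excl_E6t T h2 y hy ![1, 0, 4, 2, 3, 6, 7] (by decide) (by norm_num) f_1_0 f_0_4 f_1_2 f_2_3 f_1_6 f_6_7).elim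
      · have f_2_6 : T.a (y 2) (y 6) ≠ 0 := e
        have f_6_2 : T.a (y 6) (y 2) ≠ 0 := nsymm T f_2_6
        clear e ha
        obtain ⟨a, ha, e⟩ := hpar 7 (by norm_num) (by norm_num)
        have hc : a = 0 ∨ a = 1 ∨ a = 2 ∨ a = 3 ∨ a = 4 ∨ a = 5 ∨ a = 6 := by omega
        rcases hc with rfl | rfl | rfl | rfl | rfl | rfl | rfl
        · have f_0_7 : T.a (y 0) (y 7) ≠ 0 := e
          have f_7_0 : T.a (y 7) (y 0) ≠ 0 := nsymm T f_0_7
          clear e ha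
          exact (excl_D6t T h2 y hy ![3, 6, 2, 1, 0, 4, 7] (by decide) (by norm_num) f_3_2 f_6_2 f_2_1 f_1_0 f_0_4 f_0_7).elim
        · have f_1_7 : T.a (y 1) (y 7) ≠ 0 := e
          have f_7_1 : T.a (y 7) (y 1) ≠ 0 := nsymm T f_1_7
          clear e ha
          exact (excl_D5t T h2 y hy ![0, 7, 1, 2, 3, 6] (by decide) (by norm_num) f_0_1 f_7_1 f_1_2 f_2_3 f_2_6).elim
        · have f_2_7 : T.a (y 2) (y 7) ≠ 0 := e
          have f_7_2 : T.a (y 7) (y 2) ≠ 0 := nsymm T f_2_7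
          clear e ha
          exact (excl_D4t T h2 y hy ![2, 1, 3, 6, 7] (by decide) (by norm_num) f_2_1 f_2_3 f_2_6 f_2_7).elim
        · have f_3_7 : T.a (y 3) (y 7) ≠ 0 := e
          have f_7_3 : T.a (y 7) (y 3) ≠ 0 := nsymm T f_3_7
          clear e ha
          exact (excl_D5t T h2 y hy ![1, 6, 2, 3, 5, 7] (by decide) (by norm_num) f_1_2 f_6_2 f_2_3 f_3_5 f_3_7).elim
        · have f_4_7 : T.a (y 4) (y 7) ≠ 0 := e
          have f_7_4 : T.a (y 7) (y 4) ≠ 0 := nsymm T f_4_7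
          clear e ha
          exact shape8_T124 T h2 (fun i => y (![2, 6, 3, 5, 1, 0, 4, 7] i)) (hy.comp (by decide)) f_2_6 f_2_3 f_3_5 f_2_1 f_1_0 f_0_4 f_4_7
        · have f_5_7 : T.a (y 5) (y 7) ≠ 0 := e
          have f_7_5 : T.a (y 7) (y 5) ≠ 0 := nsymm T f_5_7
          clear e ha
          exact shape8_T133 T h2 (fun i => y (![2, 6, 1, 0, 4, 3, 5, 7] i)) (hy.comp (by decide)) f_2_6 f_2_1 f_1_0 f_0_4 f_2_3 f_3_5 f_5_7
        · have f_6_7 : T.a (y 6) (y 7) ≠ 0 := e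
          have f_7_6 : T.a (y 7) (y 6) ≠ 0 := nsymm T f_6_7
          clear e ha
          exact (excl_E6t T h2 y hy ![2, 1, 0, 3, 5, 6, 7] (by decide) (by norm_num) f_2_1 f_1_0 f_2_3 f_3_5 f_2_6 f_6_7).elim
      · have f_3_6 : T.a (y 3) (y 6) ≠ 0 := e
        have f_6_3 : T.a (y 6) (y 3) ≠ 0 := nsymm T f_3_6
        clear e ha
        obtain ⟨a, ha, e⟩ := hpar 7 (by norm_num) (by norm_num)
        have hc : a = 0 ∨ a = 1 ∨ a = 2 ∨ a = 3 ∨ a = 4 ∨ a = 5 ∨ a = 6 := by omega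
        rcases hc with rfl | rfl | rfl | rfl | rfl | rfl | rfl
        · have f_0_7 : T.a (y 0) (y 7) ≠ 0 := e
          have f_7_0 : T.a (y 7) (y 0) ≠ 0 := nsymm T f_0_7
          clear e ha
          exact shape8_Dt T h2 (fun i => y (![4, 7, 0, 1, 2, 3, 5, 6] i)) (hy.comp (by decide)) f_4_0 f_7_0 f_0_1 f_1_2 f_2_3 f_3_5 f_3_6
        · have f_1_7 : T.a (y 1) (y 7) ≠ 0 := e
          have f_7_1 : T.a (y 7) (y 1) ≠ 0 := nsymm T f_1_7
          clear e ha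
          exact (excl_D6t T h2 y hy ![0, 7, 1, 2, 3, 5, 6] (by decide) (by norm_num) f_0_1 f_7_1 f_1_2 f_2_3 f_3_5 f_3_6).elim
        · have f_2_7 : T.a (y 2) (y 7) ≠ 0 := e
          have f_7_2 : T.a (y 7) (y 2) ≠ 0 := nsymm T f_2_7
          clear e ha
          exact (excl_D5t T h2 y hy ![1, 7, 2, 3, 5, 6] (by decide) (by norm_num) f_1_2 f_7_2 f_2_3 f_3_5 f_3_6).elim
        · have f_3_7 : T.a (y 3) (y 7) ≠ 0 := e
          have f_7_3 : T.a (y 7) (y 3) ≠ 0 := nsymm T f_3_7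
          clear e ha
          exact (excl_D4t T h2 y hy ![3, 2, 5, 6, 7] (by decide) (by norm_num) f_3_2 f_3_5 f_3_6 f_3_7).elim
        · have f_4_7 : T.a (y 4) (y 7) ≠ 0 := e
          have f_7_4 : T.a (y 7) (y 4) ≠ 0 := nsymm T f_4_7
          clear e ha
          exact shape8_D T h2 (fun i => y (![3, 5, 6, 2, 1, 0, 4, 7] i)) (hy.comp (by decide)) f_3_5 f_3_6 f_3_2 f_2_1 f_1_0 f_0_4 f_4_7
        · have f_5_7 : T.a (y 5) (y 7) ≠ 0 := e
          have f_7_5 : T.a (y 7) (y 5) ≠ 0 := nsymm T f_5_7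
          clear e ha
          exact shape8_T124 T h2 (fun i => y (![3, 6, 5, 7, 2, 1, 0, 4] i)) (hy.comp (by decide)) f_3_6 f_3_5 f_5_7 f_3_2 f_2_1 f_1_0 f_0_4
        · have f_6_7 : T.a (y 6) (y 7) ≠ 0 := e
          have f_7_6 : T.a (y 7) (y 6) ≠ 0 := nsymm T f_6_7
          clear e ha
          exact shape8_T124 T h2 (fun i => y (![3, 5, 6, 7, 2, 1, 0, 4] i)) (hy.comp (by decide)) f_3_5 f_3_6 f_6_7 f_3_2 f_2_1 f_1_0 f_0_4
      · have f_4_6 : T.a (y 4) (y 6) ≠ 0 := e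
        have f_6_4 : T.a (y 6) (y 4) ≠ 0 := nsymm T f_4_6
        clear e ha
        obtain ⟨a, ha, e⟩ := hpar 7 (by norm_num) (by norm_num)
        have hc : a = 0 ∨ a = 1 ∨ a = 2 ∨ a = 3 ∨ a = 4 ∨ a = 5 ∨ a = 6 := by omega
        rcases hc with rfl | rfl | rfl | rfl | rfl | rfl | rfl
        · have f_0_7 : T.a (y 0) (y 7) ≠ 0 := e
          have f_7_0 : T.a (y 7) (y 0) ≠ 0 := nsymm T f_0_7
          clear e ha
          exact shape8_T124 T h2 (fun i => y (![0, 7, 4, 6, 1, 2, 3, 5] i)) (hy.comp (by decide)) f_0_7 f_0_4 f_4_6 f_0_1 f_1_2 f_2_3 f_3_5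
        · have f_1_7 : T.a (y 1) (y 7) ≠ 0 := e
          have f_7_1 : T.a (y 7) (y 1) ≠ 0 := nsymm T f_1_7
          clear e ha
          exact shape8_T133 T h2 (fun i => y (![1, 7, 0, 4, 6, 2, 3, 5] i)) (hy.comp (by decide)) f_1_7 f_1_0 f_0_4 f_4_6 f_1_2 f_2_3 f_3_5
        · have f_2_7 : T.a (y 2) (y 7) ≠ 0 := e
          have f_7_2 : T.a (y 7) (y 2) ≠ 0 := nsymm T f_2_7
          clear e ha
          exact shape8_T124 T h2 (fun i => y (![2, 7, 3, 5, 1, 0, 4, 6] i)) (hy.comp (by decide)) f_2_7 f_2_3 f_3_5 f_2_1 f_1_0 f_0_4 f_4_6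
        · have f_3_7 : T.a (y 3) (y 7) ≠ 0 := e
          have f_7_3 : T.a (y 7) (y 3) ≠ 0 := nsymm T f_3_7
          clear e ha
          exact shape8_D T h2 (fun i => y (![3, 5, 7, 2, 1, 0, 4, 6] i)) (hy.comp (by decide)) f_3_5 f_3_7 f_3_2 f_2_1 f_1_0 f_0_4 f_4_6
        · have f_4_7 : T.a (y 4) (y 7) ≠ 0 := e
          have f_7_4 : T.a (y 7) (y 4) ≠ 0 := nsymm T f_4_7
          clear e ha
          exact shape8_D T h2 (fun i => y (![4, 6, 7, 0, 1, 2, 3, 5] i)) (hy.comp (by decide)) f_4_6 f_4_7 f_4_0 f_0_1 f_1_2 f_2_3 f_3_5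
        · have f_5_7 : T.a (y 5) (y 7) ≠ 0 := e
          have f_7_5 : T.a (y 7) (y 5) ≠ 0 := nsymm T f_5_7
          clear e ha
          exact shape8_path T h2 (fun i => y (![6, 4, 0, 1, 2, 3, 5, 7] i)) (hy.comp (by decide)) f_6_4 f_4_0 f_0_1 f_1_2 f_2_3 f_3_5 f_5_7
        · have f_6_7 : T.a (y 6) (y 7) ≠ 0 := e
          have f_7_6 : T.a (y 7) (y 6) ≠ 0 := nsymm T f_6_7
          clear e ha
          exact shape8_path T h2 (fun i => y (![5, 3, 2, 1, 0, 4, 6, 7] i)) (hy.comp (by decide)) f_5_3 f_3_2 f_2_1 f_1_0 f_0_4 f_4_6 f_6_7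
      · have f_5_6 : T.a (y 5) (y 6) ≠ 0 := e
        have f_6_5 : T.a (y 6) (y 5) ≠ 0 := nsymm T f_5_6
        clear e ha
        obtain ⟨a, ha, e⟩ := hpar 7 (by norm_num) (by norm_num)
        have hc : a = 0 ∨ a = 1 ∨ a = 2 ∨ a = 3 ∨ a = 4 ∨ a = 5 ∨ a = 6 := by omega
        rcases hc with rfl | rfl | rfl | rfl | rfl | rfl | rfl
        · have f_0_7 : T.a (y 0) (y 7) ≠ 0 := e
          have f_7_0 : T.a (y 7) (y 0) ≠ 0 := nsymm T f_0_7
          clear e ha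
          exact shape8_D T h2 (fun i => y (![0, 4, 7, 1, 2, 3, 5, 6] i)) (hy.comp (by decide)) f_0_4 f_0_7 f_0_1 f_1_2 f_2_3 f_3_5 f_5_6
        · have f_1_7 : T.a (y 1) (y 7) ≠ 0 := e
          have f_7_1 : T.a (y 7) (y 1) ≠ 0 := nsymm T f_1_7
          clear e ha
          exact shape8_T124 T h2 (fun i => y (![1, 7, 0, 4, 2, 3, 5, 6] i)) (hy.comp (by decide)) f_1_7 f_1_0 f_0_4 f_1_2 f_2_3 f_3_5 f_5_6
        · have f_2_7 : T.a (y 2) (y 7) ≠ 0 := e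
          have f_7_2 : T.a (y 7) (y 2) ≠ 0 := nsymm T f_2_7
          clear e ha
          exact shape8_T133 T h2 (fun i => y (![2, 7, 1, 0, 4, 3, 5, 6] i)) (hy.comp (by decide)) f_2_7 f_2_1 f_1_0 f_0_4 f_2_3 f_3_5 f_5_6
        · have f_3_7 : T.a (y 3) (y 7) ≠ 0 := e
          have f_7_3 : T.a (y 7) (y 3) ≠ 0 := nsymm T f_3_7
          clear e ha
          exact shape8_T124 T h2 (fun i => y (![3, 7, 5, 6, 2, 1, 0, 4] i)) (hy.comp (by decide)) f_3_7 f_3_5 f_5_6 f_3_2 f_2_1 f_1_0 f_0_4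
        · have f_4_7 : T.a (y 4) (y 7) ≠ 0 := e
          have f_7_4 : T.a (y 7) (y 4) ≠ 0 := nsymm T f_4_7
          clear e ha
          exact shape8_path T h2 (fun i => y (![6, 5, 3, 2, 1, 0, 4, 7] i)) (hy.comp (by decide)) f_6_5 f_5_3 f_3_2 f_2_1 f_1_0 f_0_4 f_4_7
        · have f_5_7 : T.a (y 5) (y 7) ≠ 0 := e
          have f_7_5 : T.a (y 7) (y 5) ≠ 0 := nsymm T f_5_7
          clear e ha
          exact shape8_D T h2 (fun i => y (![5, 6, 7, 3, 2, 1, 0, 4] i)) (hy.comp (by decide)) f_5_6 f_5_7 f_5_3 f_3_2 f_2_1 f_1_0 f_0_4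
        · have f_6_7 : T.a (y 6) (y 7) ≠ 0 := e
          have f_7_6 : T.a (y 7) (y 6) ≠ 0 := nsymm T f_6_7
          clear e ha
          exact shape8_path T h2 (fun i => y (![4, 0, 1, 2, 3, 5, 6, 7] i)) (hy.comp (by decide)) f_4_0 f_0_1 f_1_2 f_2_3 f_3_5 f_5_6 f_6_7
    · have f_4_5 : T.a (y 4) (y 5) ≠ 0 := e
      have f_5_4 : T.a (y 5) (y 4) ≠ 0 := nsymm T f_4_5
      clear e ha
      obtain ⟨a, ha, e⟩ := hpar 6 (by norm_num) (by norm_num)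
      have hc : a = 0 ∨ a = 1 ∨ a = 2 ∨ a = 3 ∨ a = 4 ∨ a = 5 := by omega
      rcases hc with rfl | rfl | rfl | rfl | rfl | rfl
      · have f_0_6 : T.a (y 0) (y 6) ≠ 0 := e
        have f_6_0 : T.a (y 6) (y 0) ≠ 0 := nsymm T f_0_6
        clear e ha
        obtain ⟨a, ha, e⟩ := hpar 7 (by norm_num) (by norm_num)
        have hc : a = 0 ∨ a = 1 ∨ a = 2 ∨ a = 3 ∨ a = 4 ∨ a = 5 ∨ a = 6 := by omega
        rcases hc with rfl | rfl | rfl | rfl | rfl | rfl | rfl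
        · have f_0_7 : T.a (y 0) (y 7) ≠ 0 := e
          have f_7_0 : T.a (y 7) (y 0) ≠ 0 := nsymm T f_0_7
          clear e ha
          exact (excl_D4t T h2 y hy ![0, 1, 4, 6, 7] (by decide) (by norm_num) f_0_1 f_0_4 f_0_6 f_0_7).elim
        · have f_1_7 : T.a (y 1) (y 7) ≠ 0 := e
          have f_7_1 : T.a (y 7) (y 1) ≠ 0 := nsymm T f_1_7
          clear e ha
          exact (excl_D5t T h2 y hy ![2, 7, 1, 0, 4, 6] (by decide) (by norm_num) f_2_1 f_7_1 f_1_0 f_0_4 f_0_6).elim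
        · have f_2_7 : T.a (y 2) (y 7) ≠ 0 := e
          have f_7_2 : T.a (y 7) (y 2) ≠ 0 := nsymm T f_2_7
          clear e ha
          exact (excl_D6t T h2 y hy ![3, 7, 2, 1, 0, 4, 6] (by decide) (by norm_num) f_3_2 f_7_2 f_2_1 f_1_0 f_0_4 f_0_6).elim
        · have f_3_7 : T.a (y 3) (y 7) ≠ 0 := e
          have f_7_3 : T.a (y 7) (y 3) ≠ 0 := nsymm T f_3_7
          clear e ha
          exact shape8_T124 T h2 (fun i => y (![0, 6, 4, 5, 1, 2, 3, 7] i)) (hy.comp (by decide)) f_0_6 f_0_4 f_4_5 f_0_1 f_1_2 f_2_3 f_3_7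
        · have f_4_7 : T.a (y 4) (y 7) ≠ 0 := e
          have f_7_4 : T.a (y 7) (y 4) ≠ 0 := nsymm T f_4_7
          clear e ha
          exact (excl_D5t T h2 y hy ![1, 6, 0, 4, 5, 7] (by decide) (by norm_num) f_1_0 f_6_0 f_0_4 f_4_5 f_4_7).elim
        · have f_5_7 : T.a (y 5) (y 7) ≠ 0 := e
          have f_7_5 : T.a (y 7) (y 5) ≠ 0 := nsymm T f_5_7
          clear e ha
          exact shape8_T133 T h2 (fun i => y (![0, 6, 1, 2, 3, 4, 5, 7] i)) (hy.comp (by decide)) f_0_6 f_0_1 f_1_2 f_2_3 f_0_4 f_4_5 f_5_7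
        · have f_6_7 : T.a (y 6) (y 7) ≠ 0 := e
          have f_7_6 : T.a (y 7) (y 6) ≠ 0 := nsymm T f_6_7
          clear e ha
          exact (excl_E6t T h2 y hy ![0, 1, 2, 4, 5, 6, 7] (by decide) (by norm_num) f_0_1 f_1_2 f_0_4 f_4_5 f_0_6 f_6_7).elim
      · have f_1_6 : T.a (y 1) (y 6) ≠ 0 := e
        have f_6_1 : T.a (y 6) (y 1) ≠ 0 := nsymm T f_1_6
        clear e ha
        obtain ⟨a, ha, e⟩ := hpar 7 (by norm_num) (by norm_num)
        have hc : a = 0 ∨ a = 1 ∨ a = 2 ∨ a = 3 ∨ a = 4 ∨ a = 5 ∨ a = 6 := by omega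
        rcases hc with rfl | rfl | rfl | rfl | rfl | rfl | rfl
        · have f_0_7 : T.a (y 0) (y 7) ≠ 0 := e
          have f_7_0 : T.a (y 7) (y 0) ≠ 0 := nsymm T f_0_7
          clear e ha
          exact (excl_D5t T h2 y hy ![2, 6, 1, 0, 4, 7] (by decide) (by norm_num) f_2_1 f_6_1 f_1_0 f_0_4 f_0_7).elim
        · have f_1_7 : T.a (y 1) (y 7) ≠ 0 := e
          have f_7_1 : T.a (y 7) (y 1) ≠ 0 := nsymm T f_1_7
          clear e ha
          exact (excl_D4t T h2 y hy ![1, 0, 2, 6, 7] (by decide) (by norm_num) f_1_0 f_1_2 f_1_6 f_1_7).elim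
        · have f_2_7 : T.a (y 2) (y 7) ≠ 0 := e
          have f_7_2 : T.a (y 7) (y 2) ≠ 0 := nsymm T f_2_7
          clear e ha
          exact (excl_D5t T h2 y hy ![0, 6, 1, 2, 3, 7] (by decide) (by norm_num) f_0_1 f_6_1 f_1_2 f_2_3 f_2_7).elim
        · have f_3_7 : T.a (y 3) (y 7) ≠ 0 := e
          have f_7_3 : T.a (y 7) (y 3) ≠ 0 := nsymm T f_3_7
          clear e ha
          exact shape8_T133 T h2 (fun i => y (![1, 6, 0, 4, 5, 2, 3, 7] i)) (hy.comp (by decide)) f_1_6 f_1_0 f_0_4 f_4_5 f_1_2 f_2_3 f_3_7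
        · have f_4_7 : T.a (y 4) (y 7) ≠ 0 := e
          have f_7_4 : T.a (y 7) (y 4) ≠ 0 := nsymm T f_4_7
          clear e ha
          exact (excl_D6t T h2 y hy ![2, 6, 1, 0, 4, 5, 7] (by decide) (by norm_num) f_2_1 f_6_1 f_1_0 f_0_4 f_4_5 f_4_7).elim
        · have f_5_7 : T.a (y 5) (y 7) ≠ 0 := e
          have f_7_5 : T.a (y 7) (y 5) ≠ 0 := nsymm T f_5_7
          clear e ha
          exact shape8_T124 T h2 (fun i => y (![1, 6, 2, 3, 0, 4, 5, 7] i)) (hy.comp (by decide)) f_1_6 f_1_2 f_2_3 f_1_0 f_0_4 f_4_5 f_5_7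
        · have f_6_7 : T.a (y 6) (y 7) ≠ 0 := e
          have f_7_6 : T.a (y 7) (y 6) ≠ 0 := nsymm T f_6_7
          clear e ha
          exact (excl_E6t T h2 y hy ![1, 0, 4, 2, 3, 6, 7] (by decide) (by norm_num) f_1_0 f_0_4 f_1_2 f_2_3 f_1_6 f_6_7).elim
      · have f_2_6 : T.a (y 2) (y 6) ≠ 0 := e
        have f_6_2 : T.a (y 6) (y 2) ≠ 0 := nsymm T f_2_6
        clear e ha
        obtain ⟨a, ha, e⟩ := hpar 7 (by norm_num) (by norm_num)
        have hc : a = 0 ∨ a = 1 ∨ a = 2 ∨ a = 3 ∨ a = 4 ∨ a = 5 ∨ a = 6 := by omega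
        rcases hc with rfl | rfl | rfl | rfl | rfl | rfl | rfl
        · have f_0_7 : T.a (y 0) (y 7) ≠ 0 := e
          have f_7_0 : T.a (y 7) (y 0) ≠ 0 := nsymm T f_0_7
          clear e ha
          exact (excl_D6t T h2 y hy ![3, 6, 2, 1, 0, 4, 7] (by decide) (by norm_num) f_3_2 f_6_2 f_2_1 f_1_0 f_0_4 f_0_7).elim
        · have f_1_7 : T.a (y 1) (y 7) ≠ 0 := e
          have f_7_1 : T.a (y 7) (y 1) ≠ 0 := nsymm T f_1_7
          clear e ha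
          exact (excl_D5t T h2 y hy ![0, 7, 1, 2, 3, 6] (by decide) (by norm_num) f_0_1 f_7_1 f_1_2 f_2_3 f_2_6).elim
        · have f_2_7 : T.a (y 2) (y 7) ≠ 0 := e
          have f_7_2 : T.a (y 7) (y 2) ≠ 0 := nsymm T f_2_7
          clear e ha
          exact (excl_D4t T h2 y hy ![2, 1, 3, 6, 7] (by decide) (by norm_num) f_2_1 f_2_3 f_2_6 f_2_7).elim
        · have f_3_7 : T.a (y 3) (y 7) ≠ 0 := e
          have f_7_3 : T.a (y 7) (y 3) ≠ 0 := nsymm T f_3_7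
          clear e ha
          exact shape8_T124 T h2 (fun i => y (![2, 6, 3, 7, 1, 0, 4, 5] i)) (hy.comp (by decide)) f_2_6 f_2_3 f_3_7 f_2_1 f_1_0 f_0_4 f_4_5
        · have f_4_7 : T.a (y 4) (y 7) ≠ 0 := e
          have f_7_4 : T.a (y 7) (y 4) ≠ 0 := nsymm T f_4_7
          clear e ha
          exact shape8_Dt T h2 (fun i => y (![3, 6, 2, 1, 0, 4, 5, 7] i)) (hy.comp (by decide)) f_3_2 f_6_2 f_2_1 f_1_0 f_0_4 f_4_5 f_4_7
        · have f_5_7 : T.a (y 5) (y 7) ≠ 0 := e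
          have f_7_5 : T.a (y 7) (y 5) ≠ 0 := nsymm T f_5_7
          clear e ha
          exact shape8_D T h2 (fun i => y (![2, 3, 6, 1, 0, 4, 5, 7] i)) (hy.comp (by decide)) f_2_3 f_2_6 f_2_1 f_1_0 f_0_4 f_4_5 f_5_7
        · have f_6_7 : T.a (y 6) (y 7) ≠ 0 := e
          have f_7_6 : T.a (y 7) (y 6) ≠ 0 := nsymm T f_6_7
          clear e ha
          exact shape8_T124 T h2 (fun i => y (![2, 3, 6, 7, 1, 0, 4, 5] i)) (hy.comp (by decide)) f_2_3 f_2_6 f_6_7 f_2_1 f_1_0 f_0_4 f_4_5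
      · have f_3_6 : T.a (y 3) (y 6) ≠ 0 := e
        have f_6_3 : T.a (y 6) (y 3) ≠ 0 := nsymm T f_3_6
        clear e ha
        obtain ⟨a, ha, e⟩ := hpar 7 (by norm_num) (by norm_num)
        have hc : a = 0 ∨ a = 1 ∨ a = 2 ∨ a = 3 ∨ a = 4 ∨ a = 5 ∨ a = 6 := by omega
        rcases hc with rfl | rfl | rfl | rfl | rfl | rfl | rfl
        · have f_0_7 : T.a (y 0) (y 7) ≠ 0 := e
          have f_7_0 : T.a (y 7) (y 0) ≠ 0 := nsymm T f_0_7
          clear e ha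
          exact shape8_T124 T h2 (fun i => y (![0, 7, 4, 5, 1, 2, 3, 6] i)) (hy.comp (by decide)) f_0_7 f_0_4 f_4_5 f_0_1 f_1_2 f_2_3 f_3_6
        · have f_1_7 : T.a (y 1) (y 7) ≠ 0 := e
          have f_7_1 : T.a (y 7) (y 1) ≠ 0 := nsymm T f_1_7
          clear e ha
          exact shape8_T133 T h2 (fun i => y (![1, 7, 0, 4, 5, 2, 3, 6] i)) (hy.comp (by decide)) f_1_7 f_1_0 f_0_4 f_4_5 f_1_2 f_2_3 f_3_6
        · have f_2_7 : T.a (y 2) (y 7) ≠ 0 := e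
          have f_7_2 : T.a (y 7) (y 2) ≠ 0 := nsymm T f_2_7
          clear e ha
          exact shape8_T124 T h2 (fun i => y (![2, 7, 3, 6, 1, 0, 4, 5] i)) (hy.comp (by decide)) f_2_7 f_2_3 f_3_6 f_2_1 f_1_0 f_0_4 f_4_5
        · have f_3_7 : T.a (y 3) (y 7) ≠ 0 := e
          have f_7_3 : T.a (y 7) (y 3) ≠ 0 := nsymm T f_3_7
          clear e ha
          exact shape8_D T h2 (fun i => y (![3, 6, 7, 2, 1, 0, 4, 5] i)) (hy.comp (by decide)) f_3_6 f_3_7 f_3_2 f_2_1 f_1_0 f_0_4 f_4_5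
        · have f_4_7 : T.a (y 4) (y 7) ≠ 0 := e
          have f_7_4 : T.a (y 7) (y 4) ≠ 0 := nsymm T f_4_7
          clear e ha
          exact shape8_D T h2 (fun i => y (![4, 5, 7, 0, 1, 2, 3, 6] i)) (hy.comp (by decide)) f_4_5 f_4_7 f_4_0 f_0_1 f_1_2 f_2_3 f_3_6
        · have f_5_7 : T.a (y 5) (y 7) ≠ 0 := e
          have f_7_5 : T.a (y 7) (y 5) ≠ 0 := nsymm T f_5_7
          clear e ha
          exact shape8_path T h2 (fun i => y (![6, 3, 2, 1, 0, 4, 5, 7] i)) (hy.comp (by decide)) f_6_3 f_3_2 f_2_1 f_1_0 f_0_4 f_4_5 f_5_7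
        · have f_6_7 : T.a (y 6) (y 7) ≠ 0 := e
          have f_7_6 : T.a (y 7) (y 6) ≠ 0 := nsymm T f_6_7
          clear e ha
          exact shape8_path T h2 (fun i => y (![5, 4, 0, 1, 2, 3, 6, 7] i)) (hy.comp (by decide)) f_5_4 f_4_0 f_0_1 f_1_2 f_2_3 f_3_6 f_6_7
      · have f_4_6 : T.a (y 4) (y 6) ≠ 0 := e
        have f_6_4 : T.a (y 6) (y 4) ≠ 0 := nsymm T f_4_6
        clear e ha
        obtain ⟨a, ha, e⟩ := hpar 7 (by norm_num) (by norm_num)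
        have hc : a = 0 ∨ a = 1 ∨ a = 2 ∨ a = 3 ∨ a = 4 ∨ a = 5 ∨ a = 6 := by omega
        rcases hc with rfl | rfl | rfl | rfl | rfl | rfl | rfl
        · have f_0_7 : T.a (y 0) (y 7) ≠ 0 := e
          have f_7_0 : T.a (y 7) (y 0) ≠ 0 := nsymm T f_0_7
          clear e ha
          exact (excl_D5t T h2 y hy ![1, 7, 0, 4, 5, 6] (by decide) (by norm_num) f_1_0 f_7_0 f_0_4 f_4_5 f_4_6).elim
        · have f_1_7 : T.a (y 1) (y 7) ≠ 0 := e
          have f_7_1 : T.a (y 7) (y 1) ≠ 0 := nsymm T f_1_7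
          clear e ha
          exact (excl_D6t T h2 y hy ![2, 7, 1, 0, 4, 5, 6] (by decide) (by norm_num) f_2_1 f_7_1 f_1_0 f_0_4 f_4_5 f_4_6).elim
        · have f_2_7 : T.a (y 2) (y 7) ≠ 0 := e
          have f_7_2 : T.a (y 7) (y 2) ≠ 0 := nsymm T f_2_7
          clear e ha
          exact shape8_Dt T h2 (fun i => y (![3, 7, 2, 1, 0, 4, 5, 6] i)) (hy.comp (by decide)) f_3_2 f_7_2 f_2_1 f_1_0 f_0_4 f_4_5 f_4_6
        · have f_3_7 : T.a (y 3) (y 7) ≠ 0 := e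
          have f_7_3 : T.a (y 7) (y 3) ≠ 0 := nsymm T f_3_7
          clear e ha
          exact shape8_D T h2 (fun i => y (![4, 5, 6, 0, 1, 2, 3, 7] i)) (hy.comp (by decide)) f_4_5 f_4_6 f_4_0 f_0_1 f_1_2 f_2_3 f_3_7
        · have f_4_7 : T.a (y 4) (y 7) ≠ 0 := e
          have f_7_4 : T.a (y 7) (y 4) ≠ 0 := nsymm T f_4_7
          clear e ha
          exact (excl_D4t T h2 y hy ![4, 0, 5, 6, 7] (by decide) (by norm_num) f_4_0 f_4_5 f_4_6 f_4_7).elim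
        · have f_5_7 : T.a (y 5) (y 7) ≠ 0 := e
          have f_7_5 : T.a (y 7) (y 5) ≠ 0 := nsymm T f_5_7
          clear e ha
          exact shape8_T124 T h2 (fun i => y (![4, 6, 5, 7, 0, 1, 2, 3] i)) (hy.comp (by decide)) f_4_6 f_4_5 f_5_7 f_4_0 f_0_1 f_1_2 f_2_3
        · have f_6_7 : T.a (y 6) (y 7) ≠ 0 := e
          have f_7_6 : T.a (y 7) (y 6) ≠ 0 := nsymm T f_6_7
          clear e ha
          exact shape8_T124 T h2 (fun i => y (![4, 5, 6, 7, 0, 1, 2, 3] i)) (hy.comp (by decide)) f_4_5 f_4_6 f_6_7 f_4_0 f_0_1 f_1_2 f_2_3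
      · have f_5_6 : T.a (y 5) (y 6) ≠ 0 := e
        have f_6_5 : T.a (y 6) (y 5) ≠ 0 := nsymm T f_5_6
        clear e ha
        obtain ⟨a, ha, e⟩ := hpar 7 (by norm_num) (by norm_num)
        have hc : a = 0 ∨ a = 1 ∨ a = 2 ∨ a = 3 ∨ a = 4 ∨ a = 5 ∨ a = 6 := by omega
        rcases hc with rfl | rfl | rfl | rfl | rfl | rfl | rfl
        · have f_0_7 : T.a (y 0) (y 7) ≠ 0 := e
          have f_7_0 : T.a (y 7) (y 0) ≠ 0 := nsymm T f_0_7
          clear e ha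
          exact shape8_T133 T h2 (fun i => y (![0, 7, 1, 2, 3, 4, 5, 6] i)) (hy.comp (by decide)) f_0_7 f_0_1 f_1_2 f_2_3 f_0_4 f_4_5 f_5_6
        · have f_1_7 : T.a (y 1) (y 7) ≠ 0 := e
          have f_7_1 : T.a (y 7) (y 1) ≠ 0 := nsymm T f_1_7
          clear e ha
          exact shape8_T124 T h2 (fun i => y (![1, 7, 2, 3, 0, 4, 5, 6] i)) (hy.comp (by decide)) f_1_7 f_1_2 f_2_3 f_1_0 f_0_4 f_4_5 f_5_6
        · have f_2_7 : T.a (y 2) (y 7) ≠ 0 := e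
          have f_7_2 : T.a (y 7) (y 2) ≠ 0 := nsymm T f_2_7
          clear e ha
          exact shape8_D T h2 (fun i => y (![2, 3, 7, 1, 0, 4, 5, 6] i)) (hy.comp (by decide)) f_2_3 f_2_7 f_2_1 f_1_0 f_0_4 f_4_5 f_5_6
        · have f_3_7 : T.a (y 3) (y 7) ≠ 0 := e
          have f_7_3 : T.a (y 7) (y 3) ≠ 0 := nsymm T f_3_7
          clear e ha
          exact shape8_path T h2 (fun i => y (![6, 5, 4, 0, 1, 2, 3, 7] i)) (hy.comp (by decide)) f_6_5 f_5_4 f_4_0 f_0_1 f_1_2 f_2_3 f_3_7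
        · have f_4_7 : T.a (y 4) (y 7) ≠ 0 := e
          have f_7_4 : T.a (y 7) (y 4) ≠ 0 := nsymm T f_4_7
          clear e ha
          exact shape8_T124 T h2 (fun i => y (![4, 7, 5, 6, 0, 1, 2, 3] i)) (hy.comp (by decide)) f_4_7 f_4_5 f_5_6 f_4_0 f_0_1 f_1_2 f_2_3
        · have f_5_7 : T.a (y 5) (y 7) ≠ 0 := e
          have f_7_5 : T.a (y 7) (y 5) ≠ 0 := nsymm T f_5_7
          clear e ha
          exact shape8_D T h2 (fun i => y (![5, 6, 7, 4, 0, 1, 2, 3] i)) (hy.comp (by decide)) f_5_6 f_5_7 f_5_4 f_4_0 f_0_1 f_1_2 f_2_3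
        · have f_6_7 : T.a (y 6) (y 7) ≠ 0 := e
          have f_7_6 : T.a (y 7) (y 6) ≠ 0 := nsymm T f_6_7
          clear e ha
          exact shape8_path T h2 (fun i => y (![3, 2, 1, 0, 4, 5, 6, 7] i)) (hy.comp (by decide)) f_3_2 f_2_1 f_1_0 f_0_4 f_4_5 f_5_6 f_6_7
  · have f_1_4 : T.a (y 1) (y 4) ≠ 0 := e
    have f_4_1 : T.a (y 4) (y 1) ≠ 0 := nsymm T f_1_4
    clear e ha
    obtain ⟨a, ha, e⟩ := hpar 5 (by norm_num) (by norm_num)
    have hc : a = 0 ∨ a = 1 ∨ a = 2 ∨ a = 3 ∨ a = 4 := by omega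
    rcases hc with rfl | rfl | rfl | rfl | rfl
    · have f_0_5 : T.a (y 0) (y 5) ≠ 0 := e
      have f_5_0 : T.a (y 5) (y 0) ≠ 0 := nsymm T f_0_5
      clear e ha
      obtain ⟨a, ha, e⟩ := hpar 6 (by norm_num) (by norm_num)
      have hc : a = 0 ∨ a = 1 ∨ a = 2 ∨ a = 3 ∨ a = 4 ∨ a = 5 := by omega
      rcases hc with rfl | rfl | rfl | rfl | rfl | rfl
      · have f_0_6 : T.a (y 0) (y 6) ≠ 0 := e
        have f_6_0 : T.a (y 6) (y 0) ≠ 0 := nsymm T f_0_6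
        clear e ha
        exact (excl_D5t T h2 y hy ![2, 4, 1, 0, 5, 6] (by decide) (by norm_num) f_2_1 f_4_1 f_1_0 f_0_5 f_0_6).elim
      · have f_1_6 : T.a (y 1) (y 6) ≠ 0 := e
        have f_6_1 : T.a (y 6) (y 1) ≠ 0 := nsymm T f_1_6
        clear e ha
        exact (excl_D4t T h2 y hy ![1, 0, 2, 4, 6] (by decide) (by norm_num) f_1_0 f_1_2 f_1_4 f_1_6).elim
      · have f_2_6 : T.a (y 2) (y 6) ≠ 0 := e
        have f_6_2 : T.a (y 6) (y 2) ≠ 0 := nsymm T f_2_6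
        clear e ha
        exact (excl_D5t T h2 y hy ![0, 4, 1, 2, 3, 6] (by decide) (by norm_num) f_0_1 f_4_1 f_1_2 f_2_3 f_2_6).elim
      · have f_3_6 : T.a (y 3) (y 6) ≠ 0 := e
        have f_6_3 : T.a (y 6) (y 3) ≠ 0 := nsymm T f_3_6
        clear e ha
        obtain ⟨a, ha, e⟩ := hpar 7 (by norm_num) (by norm_num)
        have hc : a = 0 ∨ a = 1 ∨ a = 2 ∨ a = 3 ∨ a = 4 ∨ a = 5 ∨ a = 6 := by omega
        rcases hc with rfl | rfl | rfl | rfl | rfl | rfl | rfl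
        · have f_0_7 : T.a (y 0) (y 7) ≠ 0 := e
          have f_7_0 : T.a (y 7) (y 0) ≠ 0 := nsymm T f_0_7
          clear e ha
          exact (excl_D5t T h2 y hy ![2, 4, 1, 0, 5, 7] (by decide) (by norm_num) f_2_1 f_4_1 f_1_0 f_0_5 f_0_7).elim
        · have f_1_7 : T.a (y 1) (y 7) ≠ 0 := e
          have f_7_1 : T.a (y 7) (y 1) ≠ 0 := nsymm T f_1_7
          clear e ha
          exact (excl_D4t T h2 y hy ![1, 0, 2, 4, 7] (by decide) (by norm_num) f_1_0 f_1_2 f_1_4 f_1_7).elim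
        · have f_2_7 : T.a (y 2) (y 7) ≠ 0 := e
          have f_7_2 : T.a (y 7) (y 2) ≠ 0 := nsymm T f_2_7
          clear e ha
          exact (excl_D5t T h2 y hy ![0, 4, 1, 2, 3, 7] (by decide) (by norm_num) f_0_1 f_4_1 f_1_2 f_2_3 f_2_7).elim
        · have f_3_7 : T.a (y 3) (y 7) ≠ 0 := e
          have f_7_3 : T.a (y 7) (y 3) ≠ 0 := nsymm T f_3_7
          clear e ha
          exact (excl_D6t T h2 y hy ![0, 4, 1, 2, 3, 6, 7] (by decide) (by norm_num) f_0_1 f_4_1 f_1_2 f_2_3 f_3_6 f_3_7).elim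
        · have f_4_7 : T.a (y 4) (y 7) ≠ 0 := e
          have f_7_4 : T.a (y 7) (y 4) ≠ 0 := nsymm T f_4_7
          clear e ha
          exact (excl_E6t T h2 y hy ![1, 0, 5, 2, 3, 4, 7] (by decide) (by norm_num) f_1_0 f_0_5 f_1_2 f_2_3 f_1_4 f_4_7).elim
        · have f_5_7 : T.a (y 5) (y 7) ≠ 0 := e
          have f_7_5 : T.a (y 7) (y 5) ≠ 0 := nsymm T f_5_7
          clear e ha
          exact shape8_T133 T h2 (fun i => y (![1, 4, 0, 5, 7, 2, 3, 6] i)) (hy.comp (by decide)) f_1_4 f_1_0 f_0_5 f_5_7 f_1_2 f_2_3 f_3_6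
        · have f_6_7 : T.a (y 6) (y 7) ≠ 0 := e
          have f_7_6 : T.a (y 7) (y 6) ≠ 0 := nsymm T f_6_7
          clear e ha
          exact shape8_T124 T h2 (fun i => y (![1, 4, 0, 5, 2, 3, 6, 7] i)) (hy.comp (by decide)) f_1_4 f_1_0 f_0_5 f_1_2 f_2_3 f_3_6 f_6_7
      · have f_4_6 : T.a (y 4) (y 6) ≠ 0 := e
        have f_6_4 : T.a (y 6) (y 4) ≠ 0 := nsymm T f_4_6
        clear e ha
        exact (excl_E6t T h2 y hy ![1, 0, 5, 2, 3, 4, 6] (by decide) (by norm_num) f_1_0 f_0_5 f_1_2 f_2_3 f_1_4 f_4_6).elim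
      · have f_5_6 : T.a (y 5) (y 6) ≠ 0 := e
        have f_6_5 : T.a (y 6) (y 5) ≠ 0 := nsymm T f_5_6
        clear e ha
        obtain ⟨a, ha, e⟩ := hpar 7 (by norm_num) (by norm_num)
        have hc : a = 0 ∨ a = 1 ∨ a = 2 ∨ a = 3 ∨ a = 4 ∨ a = 5 ∨ a = 6 := by omega
        rcases hc with rfl | rfl | rfl | rfl | rfl | rfl | rfl
        · have f_0_7 : T.a (y 0) (y 7) ≠ 0 := e
          have f_7_0 : T.a (y 7) (y 0) ≠ 0 := nsymm T f_0_7
          clear e ha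
          exact (excl_D5t T h2 y hy ![2, 4, 1, 0, 5, 7] (by decide) (by norm_num) f_2_1 f_4_1 f_1_0 f_0_5 f_0_7).elim
        · have f_1_7 : T.a (y 1) (y 7) ≠ 0 := e
          have f_7_1 : T.a (y 7) (y 1) ≠ 0 := nsymm T f_1_7
          clear e ha
          exact (excl_D4t T h2 y hy ![1, 0, 2, 4, 7] (by decide) (by norm_num) f_1_0 f_1_2 f_1_4 f_1_7).elim
        · have f_2_7 : T.a (y 2) (y 7) ≠ 0 := e
          have f_7_2 : T.a (y 7) (y 2) ≠ 0 := nsymm T f_2_7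
          clear e ha
          exact (excl_D5t T h2 y hy ![0, 4, 1, 2, 3, 7] (by decide) (by norm_num) f_0_1 f_4_1 f_1_2 f_2_3 f_2_7).elim
        · have f_3_7 : T.a (y 3) (y 7) ≠ 0 := e
          have f_7_3 : T.a (y 7) (y 3) ≠ 0 := nsymm T f_3_7
          clear e ha
          exact shape8_T133 T h2 (fun i => y (![1, 4, 0, 5, 6, 2, 3, 7] i)) (hy.comp (by decide)) f_1_4 f_1_0 f_0_5 f_5_6 f_1_2 f_2_3 f_3_7
        · have f_4_7 : T.a (y 4) (y 7) ≠ 0 := e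
          have f_7_4 : T.a (y 7) (y 4) ≠ 0 := nsymm T f_4_7
          clear e ha
          exact (excl_E6t T h2 y hy ![1, 0, 5, 2, 3, 4, 7] (by decide) (by norm_num) f_1_0 f_0_5 f_1_2 f_2_3 f_1_4 f_4_7).elim
        · have f_5_7 : T.a (y 5) (y 7) ≠ 0 := e
          have f_7_5 : T.a (y 7) (y 5) ≠ 0 := nsymm T f_5_7
          clear e ha
          exact (excl_D6t T h2 y hy ![2, 4, 1, 0, 5, 6, 7] (by decide) (by norm_num) f_2_1 f_4_1 f_1_0 f_0_5 f_5_6 f_5_7).elim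
        · have f_6_7 : T.a (y 6) (y 7) ≠ 0 := e
          have f_7_6 : T.a (y 7) (y 6) ≠ 0 := nsymm T f_6_7
          clear e ha
          exact shape8_T124 T h2 (fun i => y (![1, 4, 2, 3, 0, 5, 6, 7] i)) (hy.comp (by decide)) f_1_4 f_1_2 f_2_3 f_1_0 f_0_5 f_5_6 f_6_7
    · have f_1_5 : T.a (y 1) (y 5) ≠ 0 := e
      have f_5_1 : T.a (y 5) (y 1) ≠ 0 := nsymm T f_1_5
      clear e ha
      exact (excl_D4t T h2 y hy ![1, 0, 2, 4, 5] (by decide) (by norm_num) f_1_0 f_1_2 f_1_4 f_1_5).elim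
    · have f_2_5 : T.a (y 2) (y 5) ≠ 0 := e
      have f_5_2 : T.a (y 5) (y 2) ≠ 0 := nsymm T f_2_5
      clear e ha
      exact (excl_D5t T h2 y hy ![0, 4, 1, 2, 3, 5] (by decide) (by norm_num) f_0_1 f_4_1 f_1_2 f_2_3 f_2_5).elim
    · have f_3_5 : T.a (y 3) (y 5) ≠ 0 := e
      have f_5_3 : T.a (y 5) (y 3) ≠ 0 := nsymm T f_3_5
      clear e ha
      obtain ⟨a, ha, e⟩ := hpar 6 (by norm_num) (by norm_num)
      have hc : a = 0 ∨ a = 1 ∨ a = 2 ∨ a = 3 ∨ a = 4 ∨ a = 5 := by omega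
      rcases hc with rfl | rfl | rfl | rfl | rfl | rfl
      · have f_0_6 : T.a (y 0) (y 6) ≠ 0 := e
        have f_6_0 : T.a (y 6) (y 0) ≠ 0 := nsymm T f_0_6
        clear e ha
        obtain ⟨a, ha, e⟩ := hpar 7 (by norm_num) (by norm_num)
        have hc : a = 0 ∨ a = 1 ∨ a = 2 ∨ a = 3 ∨ a = 4 ∨ a = 5 ∨ a = 6 := by omega
        rcases hc with rfl | rfl | rfl | rfl | rfl | rfl | rfl
        · have f_0_7 : T.a (y 0) (y 7) ≠ 0 := e
          have f_7_0 : T.a (y 7) (y 0) ≠ 0 := nsymm T f_0_7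
          clear e ha
          exact (excl_D5t T h2 y hy ![2, 4, 1, 0, 6, 7] (by decide) (by norm_num) f_2_1 f_4_1 f_1_0 f_0_6 f_0_7).elim
        · have f_1_7 : T.a (y 1) (y 7) ≠ 0 := e
          have f_7_1 : T.a (y 7) (y 1) ≠ 0 := nsymm T f_1_7
          clear e ha
          exact (excl_D4t T h2 y hy ![1, 0, 2, 4, 7] (by decide) (by norm_num) f_1_0 f_1_2 f_1_4 f_1_7).elim
        · have f_2_7 : T.a (y 2) (y 7) ≠ 0 := e
          have f_7_2 : T.a (y 7) (y 2) ≠ 0 := nsymm T f_2_7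
          clear e ha
          exact (excl_D5t T h2 y hy ![0, 4, 1, 2, 3, 7] (by decide) (by norm_num) f_0_1 f_4_1 f_1_2 f_2_3 f_2_7).elim
        · have f_3_7 : T.a (y 3) (y 7) ≠ 0 := e
          have f_7_3 : T.a (y 7) (y 3) ≠ 0 := nsymm T f_3_7
          clear e ha
          exact (excl_D6t T h2 y hy ![0, 4, 1, 2, 3, 5, 7] (by decide) (by norm_num) f_0_1 f_4_1 f_1_2 f_2_3 f_3_5 f_3_7).elim
        · have f_4_7 : T.a (y 4) (y 7) ≠ 0 := e
          have f_7_4 : T.a (y 7) (y 4) ≠ 0 := nsymm T f_4_7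
          clear e ha
          exact (excl_E6t T h2 y hy ![1, 0, 6, 2, 3, 4, 7] (by decide) (by norm_num) f_1_0 f_0_6 f_1_2 f_2_3 f_1_4 f_4_7).elim
        · have f_5_7 : T.a (y 5) (y 7) ≠ 0 := e
          have f_7_5 : T.a (y 7) (y 5) ≠ 0 := nsymm T f_5_7
          clear e ha
          exact shape8_T124 T h2 (fun i => y (![1, 4, 0, 6, 2, 3, 5, 7] i)) (hy.comp (by decide)) f_1_4 f_1_0 f_0_6 f_1_2 f_2_3 f_3_5 f_5_7
        · have f_6_7 : T.a (y 6) (y 7) ≠ 0 := e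
          have f_7_6 : T.a (y 7) (y 6) ≠ 0 := nsymm T f_6_7
          clear e ha
          exact shape8_T133 T h2 (fun i => y (![1, 4, 0, 6, 7, 2, 3, 5] i)) (hy.comp (by decide)) f_1_4 f_1_0 f_0_6 f_6_7 f_1_2 f_2_3 f_3_5
      · have f_1_6 : T.a (y 1) (y 6) ≠ 0 := e
        have f_6_1 : T.a (y 6) (y 1) ≠ 0 := nsymm T f_1_6
        clear e ha
        exact (excl_D4t T h2 y hy ![1, 0, 2, 4, 6] (by decide) (by norm_num) f_1_0 f_1_2 f_1_4 f_1_6).elim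
      · have f_2_6 : T.a (y 2) (y 6) ≠ 0 := e
        have f_6_2 : T.a (y 6) (y 2) ≠ 0 := nsymm T f_2_6
        clear e ha
        exact (excl_D5t T h2 y hy ![0, 4, 1, 2, 3, 6] (by decide) (by norm_num) f_0_1 f_4_1 f_1_2 f_2_3 f_2_6).elim
      · have f_3_6 : T.a (y 3) (y 6) ≠ 0 := e
        have f_6_3 : T.a (y 6) (y 3) ≠ 0 := nsymm T f_3_6
        clear e ha
        exact (excl_D6t T h2 y hy ![0, 4, 1, 2, 3, 5, 6] (by decide) (by norm_num) f_0_1 f_4_1 f_1_2 f_2_3 f_3_5 f_3_6).elim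
      · have f_4_6 : T.a (y 4) (y 6) ≠ 0 := e
        have f_6_4 : T.a (y 6) (y 4) ≠ 0 := nsymm T f_4_6
        clear e ha
        obtain ⟨a, ha, e⟩ := hpar 7 (by norm_num) (by norm_num)
        have hc : a = 0 ∨ a = 1 ∨ a = 2 ∨ a = 3 ∨ a = 4 ∨ a = 5 ∨ a = 6 := by omega
        rcases hc with rfl | rfl | rfl | rfl | rfl | rfl | rfl
        · have f_0_7 : T.a (y 0) (y 7) ≠ 0 := e
          have f_7_0 : T.a (y 7) (y 0) ≠ 0 := nsymm T f_0_7
          clear e ha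
          exact (excl_E6t T h2 y hy ![1, 0, 7, 2, 3, 4, 6] (by decide) (by norm_num) f_1_0 f_0_7 f_1_2 f_2_3 f_1_4 f_4_6).elim
        · have f_1_7 : T.a (y 1) (y 7) ≠ 0 := e
          have f_7_1 : T.a (y 7) (y 1) ≠ 0 := nsymm T f_1_7
          clear e ha
          exact (excl_D4t T h2 y hy ![1, 0, 2, 4, 7] (by decide) (by norm_num) f_1_0 f_1_2 f_1_4 f_1_7).elim
        · have f_2_7 : T.a (y 2) (y 7) ≠ 0 := e
          have f_7_2 : T.a (y 7) (y 2) ≠ 0 := nsymm T f_2_7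
          clear e ha
          exact (excl_D5t T h2 y hy ![0, 4, 1, 2, 3, 7] (by decide) (by norm_num) f_0_1 f_4_1 f_1_2 f_2_3 f_2_7).elim
        · have f_3_7 : T.a (y 3) (y 7) ≠ 0 := e
          have f_7_3 : T.a (y 7) (y 3) ≠ 0 := nsymm T f_3_7
          clear e ha
          exact (excl_D6t T h2 y hy ![0, 4, 1, 2, 3, 5, 7] (by decide) (by norm_num) f_0_1 f_4_1 f_1_2 f_2_3 f_3_5 f_3_7).elim
        · have f_4_7 : T.a (y 4) (y 7) ≠ 0 := e
          have f_7_4 : T.a (y 7) (y 4) ≠ 0 := nsymm T f_4_7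
          clear e ha
          exact (excl_D5t T h2 y hy ![0, 2, 1, 4, 6, 7] (by decide) (by norm_num) f_0_1 f_2_1 f_1_4 f_4_6 f_4_7).elim
        · have f_5_7 : T.a (y 5) (y 7) ≠ 0 := e
          have f_7_5 : T.a (y 7) (y 5) ≠ 0 := nsymm T f_5_7
          clear e ha
          exact shape8_T124 T h2 (fun i => y (![1, 0, 4, 6, 2, 3, 5, 7] i)) (hy.comp (by decide)) f_1_0 f_1_4 f_4_6 f_1_2 f_2_3 f_3_5 f_5_7
        · have f_6_7 : T.a (y 6) (y 7) ≠ 0 := e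
          have f_7_6 : T.a (y 7) (y 6) ≠ 0 := nsymm T f_6_7
          clear e ha
          exact shape8_T133 T h2 (fun i => y (![1, 0, 2, 3, 5, 4, 6, 7] i)) (hy.comp (by decide)) f_1_0 f_1_2 f_2_3 f_3_5 f_1_4 f_4_6 f_6_7
      · have f_5_6 : T.a (y 5) (y 6) ≠ 0 := e
        have f_6_5 : T.a (y 6) (y 5) ≠ 0 := nsymm T f_5_6
        clear e ha
        obtain ⟨a, ha, e⟩ := hpar 7 (by norm_num) (by norm_num)
        have hc : a = 0 ∨ a = 1 ∨ a = 2 ∨ a = 3 ∨ a = 4 ∨ a = 5 ∨ a = 6 := by omega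
        rcases hc with rfl | rfl | rfl | rfl | rfl | rfl | rfl
        · have f_0_7 : T.a (y 0) (y 7) ≠ 0 := e
          have f_7_0 : T.a (y 7) (y 0) ≠ 0 := nsymm T f_0_7
          clear e ha
          exact shape8_T124 T h2 (fun i => y (![1, 4, 0, 7, 2, 3, 5, 6] i)) (hy.comp (by decide)) f_1_4 f_1_0 f_0_7 f_1_2 f_2_3 f_3_5 f_5_6
        · have f_1_7 : T.a (y 1) (y 7) ≠ 0 := e
          have f_7_1 : T.a (y 7) (y 1) ≠ 0 := nsymm T f_1_7
          clear e ha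
          exact (excl_D4t T h2 y hy ![1, 0, 2, 4, 7] (by decide) (by norm_num) f_1_0 f_1_2 f_1_4 f_1_7).elim
        · have f_2_7 : T.a (y 2) (y 7) ≠ 0 := e
          have f_7_2 : T.a (y 7) (y 2) ≠ 0 := nsymm T f_2_7
          clear e ha
          exact (excl_D5t T h2 y hy ![0, 4, 1, 2, 3, 7] (by decide) (by norm_num) f_0_1 f_4_1 f_1_2 f_2_3 f_2_7).elim
        · have f_3_7 : T.a (y 3) (y 7) ≠ 0 := e
          have f_7_3 : T.a (y 7) (y 3) ≠ 0 := nsymm T f_3_7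
          clear e ha
          exact (excl_D6t T h2 y hy ![0, 4, 1, 2, 3, 5, 7] (by decide) (by norm_num) f_0_1 f_4_1 f_1_2 f_2_3 f_3_5 f_3_7).elim
        · have f_4_7 : T.a (y 4) (y 7) ≠ 0 := e
          have f_7_4 : T.a (y 7) (y 4) ≠ 0 := nsymm T f_4_7
          clear e ha
          exact shape8_T124 T h2 (fun i => y (![1, 0, 4, 7, 2, 3, 5, 6] i)) (hy.comp (by decide)) f_1_0 f_1_4 f_4_7 f_1_2 f_2_3 f_3_5 f_5_6
        · have f_5_7 : T.a (y 5) (y 7) ≠ 0 := e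
          have f_7_5 : T.a (y 7) (y 5) ≠ 0 := nsymm T f_5_7
          clear e ha
          exact shape8_Dt T h2 (fun i => y (![0, 4, 1, 2, 3, 5, 6, 7] i)) (hy.comp (by decide)) f_0_1 f_4_1 f_1_2 f_2_3 f_3_5 f_5_6 f_5_7
        · have f_6_7 : T.a (y 6) (y 7) ≠ 0 := e
          have f_7_6 : T.a (y 7) (y 6) ≠ 0 := nsymm T f_6_7
          clear e ha
          exact shape8_D T h2 (fun i => y (![1, 0, 4, 2, 3, 5, 6, 7] i)) (hy.comp (by decide)) f_1_0 f_1_4 f_1_2 f_2_3 f_3_5 f_5_6 f_6_7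
    · have f_4_5 : T.a (y 4) (y 5) ≠ 0 := e
      have f_5_4 : T.a (y 5) (y 4) ≠ 0 := nsymm T f_4_5
      clear e ha
      obtain ⟨a, ha, e⟩ := hpar 6 (by norm_num) (by norm_num)
      have hc : a = 0 ∨ a = 1 ∨ a = 2 ∨ a = 3 ∨ a = 4 ∨ a = 5 := by omega
      rcases hc with rfl | rfl | rfl | rfl | rfl | rfl
      · have f_0_6 : T.a (y 0) (y 6) ≠ 0 := e
        have f_6_0 : T.a (y 6) (y 0) ≠ 0 := nsymm T f_0_6
        clear e ha
        exact (excl_E6t T h2 y hy ![1, 0, 6, 2, 3, 4, 5] (by decide) (by norm_num) f_1_0 f_0_6 f_1_2 f_2_3 f_1_4 f_4_5).elim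
      · have f_1_6 : T.a (y 1) (y 6) ≠ 0 := e
        have f_6_1 : T.a (y 6) (y 1) ≠ 0 := nsymm T f_1_6
        clear e ha
        exact (excl_D4t T h2 y hy ![1, 0, 2, 4, 6] (by decide) (by norm_num) f_1_0 f_1_2 f_1_4 f_1_6).elim
      · have f_2_6 : T.a (y 2) (y 6) ≠ 0 := e
        have f_6_2 : T.a (y 6) (y 2) ≠ 0 := nsymm T f_2_6
        clear e ha
        exact (excl_D5t T h2 y hy ![0, 4, 1, 2, 3, 6] (by decide) (by norm_num) f_0_1 f_4_1 f_1_2 f_2_3 f_2_6).elim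
      · have f_3_6 : T.a (y 3) (y 6) ≠ 0 := e
        have f_6_3 : T.a (y 6) (y 3) ≠ 0 := nsymm T f_3_6
        clear e ha
        obtain ⟨a, ha, e⟩ := hpar 7 (by norm_num) (by norm_num)
        have hc : a = 0 ∨ a = 1 ∨ a = 2 ∨ a = 3 ∨ a = 4 ∨ a = 5 ∨ a = 6 := by omega
        rcases hc with rfl | rfl | rfl | rfl | rfl | rfl | rfl
        · have f_0_7 : T.a (y 0) (y 7) ≠ 0 := e
          have f_7_0 : T.a (y 7) (y 0) ≠ 0 := nsymm T f_0_7
          clear e ha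
          exact (excl_E6t T h2 y hy ![1, 0, 7, 2, 3, 4, 5] (by decide) (by norm_num) f_1_0 f_0_7 f_1_2 f_2_3 f_1_4 f_4_5).elim
        · have f_1_7 : T.a (y 1) (y 7) ≠ 0 := e
          have f_7_1 : T.a (y 7) (y 1) ≠ 0 := nsymm T f_1_7
          clear e ha
          exact (excl_D4t T h2 y hy ![1, 0, 2, 4, 7] (by decide) (by norm_num) f_1_0 f_1_2 f_1_4 f_1_7).elim
        · have f_2_7 : T.a (y 2) (y 7) ≠ 0 := e
          have f_7_2 : T.a (y 7) (y 2) ≠ 0 := nsymm T f_2_7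
          clear e ha
          exact (excl_D5t T h2 y hy ![0, 4, 1, 2, 3, 7] (by decide) (by norm_num) f_0_1 f_4_1 f_1_2 f_2_3 f_2_7).elim
        · have f_3_7 : T.a (y 3) (y 7) ≠ 0 := e
          have f_7_3 : T.a (y 7) (y 3) ≠ 0 := nsymm T f_3_7
          clear e ha
          exact (excl_D6t T h2 y hy ![0, 4, 1, 2, 3, 6, 7] (by decide) (by norm_num) f_0_1 f_4_1 f_1_2 f_2_3 f_3_6 f_3_7).elim
        · have f_4_7 : T.a (y 4) (y 7) ≠ 0 := e
          have f_7_4 : T.a (y 7) (y 4) ≠ 0 := nsymm T f_4_7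
          clear e ha
          exact (excl_D5t T h2 y hy ![0, 2, 1, 4, 5, 7] (by decide) (by norm_num) f_0_1 f_2_1 f_1_4 f_4_5 f_4_7).elim
        · have f_5_7 : T.a (y 5) (y 7) ≠ 0 := e
          have f_7_5 : T.a (y 7) (y 5) ≠ 0 := nsymm T f_5_7
          clear e ha
          exact shape8_T133 T h2 (fun i => y (![1, 0, 2, 3, 6, 4, 5, 7] i)) (hy.comp (by decide)) f_1_0 f_1_2 f_2_3 f_3_6 f_1_4 f_4_5 f_5_7
        · have f_6_7 : T.a (y 6) (y 7) ≠ 0 := e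
          have f_7_6 : T.a (y 7) (y 6) ≠ 0 := nsymm T f_6_7
          clear e ha
          exact shape8_T124 T h2 (fun i => y (![1, 0, 4, 5, 2, 3, 6, 7] i)) (hy.comp (by decide)) f_1_0 f_1_4 f_4_5 f_1_2 f_2_3 f_3_6 f_6_7
      · have f_4_6 : T.a (y 4) (y 6) ≠ 0 := e
        have f_6_4 : T.a (y 6) (y 4) ≠ 0 := nsymm T f_4_6
        clear e ha
        exact (excl_D5t T h2 y hy ![0, 2, 1, 4, 5, 6] (by decide) (by norm_num) f_0_1 f_2_1 f_1_4 f_4_5 f_4_6).elim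
      · have f_5_6 : T.a (y 5) (y 6) ≠ 0 := e
        have f_6_5 : T.a (y 6) (y 5) ≠ 0 := nsymm T f_5_6
        clear e ha
        obtain ⟨a, ha, e⟩ := hpar 7 (by norm_num) (by norm_num)
        have hc : a = 0 ∨ a = 1 ∨ a = 2 ∨ a = 3 ∨ a = 4 ∨ a = 5 ∨ a = 6 := by omega
        rcases hc with rfl | rfl | rfl | rfl | rfl | rfl | rfl
        · have f_0_7 : T.a (y 0) (y 7) ≠ 0 := e
          have f_7_0 : T.a (y 7) (y 0) ≠ 0 := nsymm T f_0_7
          clear e ha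
          exact (excl_E6t T h2 y hy ![1, 0, 7, 2, 3, 4, 5] (by decide) (by norm_num) f_1_0 f_0_7 f_1_2 f_2_3 f_1_4 f_4_5).elim
        · have f_1_7 : T.a (y 1) (y 7) ≠ 0 := e
          have f_7_1 : T.a (y 7) (y 1) ≠ 0 := nsymm T f_1_7
          clear e ha
          exact (excl_D4t T h2 y hy ![1, 0, 2, 4, 7] (by decide) (by norm_num) f_1_0 f_1_2 f_1_4 f_1_7).elim
        · have f_2_7 : T.a (y 2) (y 7) ≠ 0 := e
          have f_7_2 : T.a (y 7) (y 2) ≠ 0 := nsymm T f_2_7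
          clear e ha
          exact (excl_D5t T h2 y hy ![0, 4, 1, 2, 3, 7] (by decide) (by norm_num) f_0_1 f_4_1 f_1_2 f_2_3 f_2_7).elim
        · have f_3_7 : T.a (y 3) (y 7) ≠ 0 := e
          have f_7_3 : T.a (y 7) (y 3) ≠ 0 := nsymm T f_3_7
          clear e ha
          exact shape8_T133 T h2 (fun i => y (![1, 0, 2, 3, 7, 4, 5, 6] i)) (hy.comp (by decide)) f_1_0 f_1_2 f_2_3 f_3_7 f_1_4 f_4_5 f_5_6
        · have f_4_7 : T.a (y 4) (y 7) ≠ 0 := e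
          have f_7_4 : T.a (y 7) (y 4) ≠ 0 := nsymm T f_4_7
          clear e ha
          exact (excl_D5t T h2 y hy ![0, 2, 1, 4, 5, 7] (by decide) (by norm_num) f_0_1 f_2_1 f_1_4 f_4_5 f_4_7).elim
        · have f_5_7 : T.a (y 5) (y 7) ≠ 0 := e
          have f_7_5 : T.a (y 7) (y 5) ≠ 0 := nsymm T f_5_7
          clear e ha
          exact (excl_D6t T h2 y hy ![0, 2, 1, 4, 5, 6, 7] (by decide) (by norm_num) f_0_1 f_2_1 f_1_4 f_4_5 f_5_6 f_5_7).elim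
        · have f_6_7 : T.a (y 6) (y 7) ≠ 0 := e
          have f_7_6 : T.a (y 7) (y 6) ≠ 0 := nsymm T f_6_7
          clear e ha
          exact shape8_T124 T h2 (fun i => y (![1, 0, 2, 3, 4, 5, 6, 7] i)) (hy.comp (by decide)) f_1_0 f_1_2 f_2_3 f_1_4 f_4_5 f_5_6 f_6_7
  · have f_2_4 : T.a (y 2) (y 4) ≠ 0 := e
    have f_4_2 : T.a (y 4) (y 2) ≠ 0 := nsymm T f_2_4
    clear e ha
    obtain ⟨a, ha, e⟩ := hpar 5 (by norm_num) (by norm_num)
    have hc : a = 0 ∨ a = 1 ∨ a = 2 ∨ a = 3 ∨ a = 4 := by omega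
    rcases hc with rfl | rfl | rfl | rfl | rfl
    · have f_0_5 : T.a (y 0) (y 5) ≠ 0 := e
      have f_5_0 : T.a (y 5) (y 0) ≠ 0 := nsymm T f_0_5
      clear e ha
      obtain ⟨a, ha, e⟩ := hpar 6 (by norm_num) (by norm_num)
      have hc : a = 0 ∨ a = 1 ∨ a = 2 ∨ a = 3 ∨ a = 4 ∨ a = 5 := by omega
      rcases hc with rfl | rfl | rfl | rfl | rfl | rfl
      · have f_0_6 : T.a (y 0) (y 6) ≠ 0 := e
        have f_6_0 : T.a (y 6) (y 0) ≠ 0 := nsymm T f_0_6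
        clear e ha
        exact (excl_D6t T h2 y hy ![3, 4, 2, 1, 0, 5, 6] (by decide) (by norm_num) f_3_2 f_4_2 f_2_1 f_1_0 f_0_5 f_0_6).elim
      · have f_1_6 : T.a (y 1) (y 6) ≠ 0 := e
        have f_6_1 : T.a (y 6) (y 1) ≠ 0 := nsymm T f_1_6
        clear e ha
        exact (excl_D5t T h2 y hy ![0, 6, 1, 2, 3, 4] (by decide) (by norm_num) f_0_1 f_6_1 f_1_2 f_2_3 f_2_4).elim
      · have f_2_6 : T.a (y 2) (y 6) ≠ 0 := e
        have f_6_2 : T.a (y 6) (y 2) ≠ 0 := nsymm T f_2_6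
        clear e ha
        exact (excl_D4t T h2 y hy ![2, 1, 3, 4, 6] (by decide) (by norm_num) f_2_1 f_2_3 f_2_4 f_2_6).elim
      · have f_3_6 : T.a (y 3) (y 6) ≠ 0 := e
        have f_6_3 : T.a (y 6) (y 3) ≠ 0 := nsymm T f_3_6
        clear e ha
        obtain ⟨a, ha, e⟩ := hpar 7 (by norm_num) (by norm_num)
        have hc : a = 0 ∨ a = 1 ∨ a = 2 ∨ a = 3 ∨ a = 4 ∨ a = 5 ∨ a = 6 := by omega
        rcases hc with rfl | rfl | rfl | rfl | rfl | rfl | rfl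
        · have f_0_7 : T.a (y 0) (y 7) ≠ 0 := e
          have f_7_0 : T.a (y 7) (y 0) ≠ 0 := nsymm T f_0_7
          clear e ha
          exact (excl_D6t T h2 y hy ![3, 4, 2, 1, 0, 5, 7] (by decide) (by norm_num) f_3_2 f_4_2 f_2_1 f_1_0 f_0_5 f_0_7).elim
        · have f_1_7 : T.a (y 1) (y 7) ≠ 0 := e
          have f_7_1 : T.a (y 7) (y 1) ≠ 0 := nsymm T f_1_7
          clear e ha
          exact (excl_D5t T h2 y hy ![0, 7, 1, 2, 3, 4] (by decide) (by norm_num) f_0_1 f_7_1 f_1_2 f_2_3 f_2_4).elim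
        · have f_2_7 : T.a (y 2) (y 7) ≠ 0 := e
          have f_7_2 : T.a (y 7) (y 2) ≠ 0 := nsymm T f_2_7
          clear e ha
          exact (excl_D4t T h2 y hy ![2, 1, 3, 4, 7] (by decide) (by norm_num) f_2_1 f_2_3 f_2_4 f_2_7).elim
        · have f_3_7 : T.a (y 3) (y 7) ≠ 0 := e
          have f_7_3 : T.a (y 7) (y 3) ≠ 0 := nsymm T f_3_7
          clear e ha
          exact (excl_D5t T h2 y hy ![1, 4, 2, 3, 6, 7] (by decide) (by norm_num) f_1_2 f_4_2 f_2_3 f_3_6 f_3_7).elim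
        · have f_4_7 : T.a (y 4) (y 7) ≠ 0 := e
          have f_7_4 : T.a (y 7) (y 4) ≠ 0 := nsymm T f_4_7
          clear e ha
          exact (excl_E6t T h2 y hy ![2, 1, 0, 3, 6, 4, 7] (by decide) (by norm_num) f_2_1 f_1_0 f_2_3 f_3_6 f_2_4 f_4_7).elim
        · have f_5_7 : T.a (y 5) (y 7) ≠ 0 := e
          have f_7_5 : T.a (y 7) (y 5) ≠ 0 := nsymm T f_5_7
          clear e ha
          exact shape8_T124 T h2 (fun i => y (![2, 4, 3, 6, 1, 0, 5, 7] i)) (hy.comp (by decide)) f_2_4 f_2_3 f_3_6 f_2_1 f_1_0 f_0_5 f_5_7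
        · have f_6_7 : T.a (y 6) (y 7) ≠ 0 := e
          have f_7_6 : T.a (y 7) (y 6) ≠ 0 := nsymm T f_6_7
          clear e ha
          exact shape8_T133 T h2 (fun i => y (![2, 4, 1, 0, 5, 3, 6, 7] i)) (hy.comp (by decide)) f_2_4 f_2_1 f_1_0 f_0_5 f_2_3 f_3_6 f_6_7
      · have f_4_6 : T.a (y 4) (y 6) ≠ 0 := e
        have f_6_4 : T.a (y 6) (y 4) ≠ 0 := nsymm T f_4_6
        clear e ha
        obtain ⟨a, ha, e⟩ := hpar 7 (by norm_num) (by norm_num)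
        have hc : a = 0 ∨ a = 1 ∨ a = 2 ∨ a = 3 ∨ a = 4 ∨ a = 5 ∨ a = 6 := by omega
        rcases hc with rfl | rfl | rfl | rfl | rfl | rfl | rfl
        · have f_0_7 : T.a (y 0) (y 7) ≠ 0 := e
          have f_7_0 : T.a (y 7) (y 0) ≠ 0 := nsymm T f_0_7
          clear e ha
          exact (excl_D6t T h2 y hy ![3, 4, 2, 1, 0, 5, 7] (by decide) (by norm_num) f_3_2 f_4_2 f_2_1 f_1_0 f_0_5 f_0_7).elim
        · have f_1_7 : T.a (y 1) (y 7) ≠ 0 := e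
          have f_7_1 : T.a (y 7) (y 1) ≠ 0 := nsymm T f_1_7
          clear e ha
          exact (excl_D5t T h2 y hy ![0, 7, 1, 2, 3, 4] (by decide) (by norm_num) f_0_1 f_7_1 f_1_2 f_2_3 f_2_4).elim
        · have f_2_7 : T.a (y 2) (y 7) ≠ 0 := e
          have f_7_2 : T.a (y 7) (y 2) ≠ 0 := nsymm T f_2_7
          clear e ha
          exact (excl_D4t T h2 y hy ![2, 1, 3, 4, 7] (by decide) (by norm_num) f_2_1 f_2_3 f_2_4 f_2_7).elim
        · have f_3_7 : T.a (y 3) (y 7) ≠ 0 := e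
          have f_7_3 : T.a (y 7) (y 3) ≠ 0 := nsymm T f_3_7
          clear e ha
          exact (excl_E6t T h2 y hy ![2, 1, 0, 3, 7, 4, 6] (by decide) (by norm_num) f_2_1 f_1_0 f_2_3 f_3_7 f_2_4 f_4_6).elim
        · have f_4_7 : T.a (y 4) (y 7) ≠ 0 := e
          have f_7_4 : T.a (y 7) (y 4) ≠ 0 := nsymm T f_4_7
          clear e ha
          exact (excl_D5t T h2 y hy ![1, 3, 2, 4, 6, 7] (by decide) (by norm_num) f_1_2 f_3_2 f_2_4 f_4_6 f_4_7).elim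
        · have f_5_7 : T.a (y 5) (y 7) ≠ 0 := e
          have f_7_5 : T.a (y 7) (y 5) ≠ 0 := nsymm T f_5_7
          clear e ha
          exact shape8_T124 T h2 (fun i => y (![2, 3, 4, 6, 1, 0, 5, 7] i)) (hy.comp (by decide)) f_2_3 f_2_4 f_4_6 f_2_1 f_1_0 f_0_5 f_5_7
        · have f_6_7 : T.a (y 6) (y 7) ≠ 0 := e
          have f_7_6 : T.a (y 7) (y 6) ≠ 0 := nsymm T f_6_7
          clear e ha
          exact shape8_T133 T h2 (fun i => y (![2, 3, 1, 0, 5, 4, 6, 7] i)) (hy.comp (by decide)) f_2_3 f_2_1 f_1_0 f_0_5 f_2_4 f_4_6 f_6_7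
      · have f_5_6 : T.a (y 5) (y 6) ≠ 0 := e
        have f_6_5 : T.a (y 6) (y 5) ≠ 0 := nsymm T f_5_6
        clear e ha
        obtain ⟨a, ha, e⟩ := hpar 7 (by norm_num) (by norm_num)
        have hc : a = 0 ∨ a = 1 ∨ a = 2 ∨ a = 3 ∨ a = 4 ∨ a = 5 ∨ a = 6 := by omega
        rcases hc with rfl | rfl | rfl | rfl | rfl | rfl | rfl
        · have f_0_7 : T.a (y 0) (y 7) ≠ 0 := e
          have f_7_0 : T.a (y 7) (y 0) ≠ 0 := nsymm T f_0_7
          clear e ha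
          exact (excl_D6t T h2 y hy ![3, 4, 2, 1, 0, 5, 7] (by decide) (by norm_num) f_3_2 f_4_2 f_2_1 f_1_0 f_0_5 f_0_7).elim
        · have f_1_7 : T.a (y 1) (y 7) ≠ 0 := e
          have f_7_1 : T.a (y 7) (y 1) ≠ 0 := nsymm T f_1_7
          clear e ha
          exact (excl_D5t T h2 y hy ![0, 7, 1, 2, 3, 4] (by decide) (by norm_num) f_0_1 f_7_1 f_1_2 f_2_3 f_2_4).elim
        · have f_2_7 : T.a (y 2) (y 7) ≠ 0 := e
          have f_7_2 : T.a (y 7) (y 2) ≠ 0 := nsymm T f_2_7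
          clear e ha
          exact (excl_D4t T h2 y hy ![2, 1, 3, 4, 7] (by decide) (by norm_num) f_2_1 f_2_3 f_2_4 f_2_7).elim
        · have f_3_7 : T.a (y 3) (y 7) ≠ 0 := e
          have f_7_3 : T.a (y 7) (y 3) ≠ 0 := nsymm T f_3_7
          clear e ha
          exact shape8_T124 T h2 (fun i => y (![2, 4, 3, 7, 1, 0, 5, 6] i)) (hy.comp (by decide)) f_2_4 f_2_3 f_3_7 f_2_1 f_1_0 f_0_5 f_5_6
        · have f_4_7 : T.a (y 4) (y 7) ≠ 0 := e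
          have f_7_4 : T.a (y 7) (y 4) ≠ 0 := nsymm T f_4_7
          clear e ha
          exact shape8_T124 T h2 (fun i => y (![2, 3, 4, 7, 1, 0, 5, 6] i)) (hy.comp (by decide)) f_2_3 f_2_4 f_4_7 f_2_1 f_1_0 f_0_5 f_5_6
        · have f_5_7 : T.a (y 5) (y 7) ≠ 0 := e
          have f_7_5 : T.a (y 7) (y 5) ≠ 0 := nsymm T f_5_7
          clear e ha
          exact shape8_Dt T h2 (fun i => y (![3, 4, 2, 1, 0, 5, 6, 7] i)) (hy.comp (by decide)) f_3_2 f_4_2 f_2_1 f_1_0 f_0_5 f_5_6 f_5_7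
        · have f_6_7 : T.a (y 6) (y 7) ≠ 0 := e
          have f_7_6 : T.a (y 7) (y 6) ≠ 0 := nsymm T f_6_7
          clear e ha
          exact shape8_D T h2 (fun i => y (![2, 3, 4, 1, 0, 5, 6, 7] i)) (hy.comp (by decide)) f_2_3 f_2_4 f_2_1 f_1_0 f_0_5 f_5_6 f_6_7
    · have f_1_5 : T.a (y 1) (y 5) ≠ 0 := e
      have f_5_1 : T.a (y 5) (y 1) ≠ 0 := nsymm T f_1_5
      clear e ha
      exact (excl_D5t T h2 y hy ![0, 5, 1, 2, 3, 4] (by decide) (by norm_num) f_0_1 f_5_1 f_1_2 f_2_3 f_2_4).elim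
    · have f_2_5 : T.a (y 2) (y 5) ≠ 0 := e
      have f_5_2 : T.a (y 5) (y 2) ≠ 0 := nsymm T f_2_5
      clear e ha
      exact (excl_D4t T h2 y hy ![2, 1, 3, 4, 5] (by decide) (by norm_num) f_2_1 f_2_3 f_2_4 f_2_5).elim
    · have f_3_5 : T.a (y 3) (y 5) ≠ 0 := e
      have f_5_3 : T.a (y 5) (y 3) ≠ 0 := nsymm T f_3_5
      clear e ha
      obtain ⟨a, ha, e⟩ := hpar 6 (by norm_num) (by norm_num)
      have hc : a = 0 ∨ a = 1 ∨ a = 2 ∨ a = 3 ∨ a = 4 ∨ a = 5 := by omega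
      rcases hc with rfl | rfl | rfl | rfl | rfl | rfl
      · have f_0_6 : T.a (y 0) (y 6) ≠ 0 := e
        have f_6_0 : T.a (y 6) (y 0) ≠ 0 := nsymm T f_0_6
        clear e ha
        obtain ⟨a, ha, e⟩ := hpar 7 (by norm_num) (by norm_num)
        have hc : a = 0 ∨ a = 1 ∨ a = 2 ∨ a = 3 ∨ a = 4 ∨ a = 5 ∨ a = 6 := by omega
        rcases hc with rfl | rfl | rfl | rfl | rfl | rfl | rfl
        · have f_0_7 : T.a (y 0) (y 7) ≠ 0 := e
          have f_7_0 : T.a (y 7) (y 0) ≠ 0 := nsymm T f_0_7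
          clear e ha
          exact (excl_D6t T h2 y hy ![3, 4, 2, 1, 0, 6, 7] (by decide) (by norm_num) f_3_2 f_4_2 f_2_1 f_1_0 f_0_6 f_0_7).elim
        · have f_1_7 : T.a (y 1) (y 7) ≠ 0 := e
          have f_7_1 : T.a (y 7) (y 1) ≠ 0 := nsymm T f_1_7
          clear e ha
          exact (excl_D5t T h2 y hy ![0, 7, 1, 2, 3, 4] (by decide) (by norm_num) f_0_1 f_7_1 f_1_2 f_2_3 f_2_4).elim
        · have f_2_7 : T.a (y 2) (y 7) ≠ 0 := e
          have f_7_2 : T.a (y 7) (y 2) ≠ 0 := nsymm T f_2_7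
          clear e ha
          exact (excl_D4t T h2 y hy ![2, 1, 3, 4, 7] (by decide) (by norm_num) f_2_1 f_2_3 f_2_4 f_2_7).elim
        · have f_3_7 : T.a (y 3) (y 7) ≠ 0 := e
          have f_7_3 : T.a (y 7) (y 3) ≠ 0 := nsymm T f_3_7
          clear e ha
          exact (excl_D5t T h2 y hy ![1, 4, 2, 3, 5, 7] (by decide) (by norm_num) f_1_2 f_4_2 f_2_3 f_3_5 f_3_7).elim
        · have f_4_7 : T.a (y 4) (y 7) ≠ 0 := e
          have f_7_4 : T.a (y 7) (y 4) ≠ 0 := nsymm T f_4_7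
          clear e ha
          exact (excl_E6t T h2 y hy ![2, 1, 0, 3, 5, 4, 7] (by decide) (by norm_num) f_2_1 f_1_0 f_2_3 f_3_5 f_2_4 f_4_7).elim
        · have f_5_7 : T.a (y 5) (y 7) ≠ 0 := e
          have f_7_5 : T.a (y 7) (y 5) ≠ 0 := nsymm T f_5_7
          clear e ha
          exact shape8_T133 T h2 (fun i => y (![2, 4, 1, 0, 6, 3, 5, 7] i)) (hy.comp (by decide)) f_2_4 f_2_1 f_1_0 f_0_6 f_2_3 f_3_5 f_5_7
        · have f_6_7 : T.a (y 6) (y 7) ≠ 0 := e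
          have f_7_6 : T.a (y 7) (y 6) ≠ 0 := nsymm T f_6_7
          clear e ha
          exact shape8_T124 T h2 (fun i => y (![2, 4, 3, 5, 1, 0, 6, 7] i)) (hy.comp (by decide)) f_2_4 f_2_3 f_3_5 f_2_1 f_1_0 f_0_6 f_6_7
      · have f_1_6 : T.a (y 1) (y 6) ≠ 0 := e
        have f_6_1 : T.a (y 6) (y 1) ≠ 0 := nsymm T f_1_6
        clear e ha
        exact (excl_D5t T h2 y hy ![0, 6, 1, 2, 3, 4] (by decide) (by norm_num) f_0_1 f_6_1 f_1_2 f_2_3 f_2_4).elim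
      · have f_2_6 : T.a (y 2) (y 6) ≠ 0 := e
        have f_6_2 : T.a (y 6) (y 2) ≠ 0 := nsymm T f_2_6
        clear e ha
        exact (excl_D4t T h2 y hy ![2, 1, 3, 4, 6] (by decide) (by norm_num) f_2_1 f_2_3 f_2_4 f_2_6).elim
      · have f_3_6 : T.a (y 3) (y 6) ≠ 0 := e
        have f_6_3 : T.a (y 6) (y 3) ≠ 0 := nsymm T f_3_6
        clear e ha
        exact (excl_D5t T h2 y hy ![1, 4, 2, 3, 5, 6] (by decide) (by norm_num) f_1_2 f_4_2 f_2_3 f_3_5 f_3_6).elim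
      · have f_4_6 : T.a (y 4) (y 6) ≠ 0 := e
        have f_6_4 : T.a (y 6) (y 4) ≠ 0 := nsymm T f_4_6
        clear e ha
        exact (excl_E6t T h2 y hy ![2, 1, 0, 3, 5, 4, 6] (by decide) (by norm_num) f_2_1 f_1_0 f_2_3 f_3_5 f_2_4 f_4_6).elim
      · have f_5_6 : T.a (y 5) (y 6) ≠ 0 := e
        have f_6_5 : T.a (y 6) (y 5) ≠ 0 := nsymm T f_5_6
        clear e ha
        obtain ⟨a, ha, e⟩ := hpar 7 (by norm_num) (by norm_num)
        have hc : a = 0 ∨ a = 1 ∨ a = 2 ∨ a = 3 ∨ a = 4 ∨ a = 5 ∨ a = 6 := by omega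
        rcases hc with rfl | rfl | rfl | rfl | rfl | rfl | rfl
        · have f_0_7 : T.a (y 0) (y 7) ≠ 0 := e
          have f_7_0 : T.a (y 7) (y 0) ≠ 0 := nsymm T f_0_7
          clear e ha
          exact shape8_T133 T h2 (fun i => y (![2, 4, 1, 0, 7, 3, 5, 6] i)) (hy.comp (by decide)) f_2_4 f_2_1 f_1_0 f_0_7 f_2_3 f_3_5 f_5_6
        · have f_1_7 : T.a (y 1) (y 7) ≠ 0 := e
          have f_7_1 : T.a (y 7) (y 1) ≠ 0 := nsymm T f_1_7
          clear e ha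
          exact (excl_D5t T h2 y hy ![0, 7, 1, 2, 3, 4] (by decide) (by norm_num) f_0_1 f_7_1 f_1_2 f_2_3 f_2_4).elim
        · have f_2_7 : T.a (y 2) (y 7) ≠ 0 := e
          have f_7_2 : T.a (y 7) (y 2) ≠ 0 := nsymm T f_2_7
          clear e ha
          exact (excl_D4t T h2 y hy ![2, 1, 3, 4, 7] (by decide) (by norm_num) f_2_1 f_2_3 f_2_4 f_2_7).elim
        · have f_3_7 : T.a (y 3) (y 7) ≠ 0 := e
          have f_7_3 : T.a (y 7) (y 3) ≠ 0 := nsymm T f_3_7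
          clear e ha
          exact (excl_D5t T h2 y hy ![1, 4, 2, 3, 5, 7] (by decide) (by norm_num) f_1_2 f_4_2 f_2_3 f_3_5 f_3_7).elim
        · have f_4_7 : T.a (y 4) (y 7) ≠ 0 := e
          have f_7_4 : T.a (y 7) (y 4) ≠ 0 := nsymm T f_4_7
          clear e ha
          exact (excl_E6t T h2 y hy ![2, 1, 0, 3, 5, 4, 7] (by decide) (by norm_num) f_2_1 f_1_0 f_2_3 f_3_5 f_2_4 f_4_7).elim
        · have f_5_7 : T.a (y 5) (y 7) ≠ 0 := e
          have f_7_5 : T.a (y 7) (y 5) ≠ 0 := nsymm T f_5_7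
          clear e ha
          exact (excl_D6t T h2 y hy ![1, 4, 2, 3, 5, 6, 7] (by decide) (by norm_num) f_1_2 f_4_2 f_2_3 f_3_5 f_5_6 f_5_7).elim
        · have f_6_7 : T.a (y 6) (y 7) ≠ 0 := e
          have f_7_6 : T.a (y 7) (y 6) ≠ 0 := nsymm T f_6_7
          clear e ha
          exact shape8_T124 T h2 (fun i => y (![2, 4, 1, 0, 3, 5, 6, 7] i)) (hy.comp (by decide)) f_2_4 f_2_1 f_1_0 f_2_3 f_3_5 f_5_6 f_6_7
    · have f_4_5 : T.a (y 4) (y 5) ≠ 0 := e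
      have f_5_4 : T.a (y 5) (y 4) ≠ 0 := nsymm T f_4_5
      clear e ha
      obtain ⟨a, ha, e⟩ := hpar 6 (by norm_num) (by norm_num)
      have hc : a = 0 ∨ a = 1 ∨ a = 2 ∨ a = 3 ∨ a = 4 ∨ a = 5 := by omega
      rcases hc with rfl | rfl | rfl | rfl | rfl | rfl
      · have f_0_6 : T.a (y 0) (y 6) ≠ 0 := e
        have f_6_0 : T.a (y 6) (y 0) ≠ 0 := nsymm T f_0_6
        clear e ha
        obtain ⟨a, ha, e⟩ := hpar 7 (by norm_num) (by norm_num)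
        have hc : a = 0 ∨ a = 1 ∨ a = 2 ∨ a = 3 ∨ a = 4 ∨ a = 5 ∨ a = 6 := by omega
        rcases hc with rfl | rfl | rfl | rfl | rfl | rfl | rfl
        · have f_0_7 : T.a (y 0) (y 7) ≠ 0 := e
          have f_7_0 : T.a (y 7) (y 0) ≠ 0 := nsymm T f_0_7
          clear e ha
          exact (excl_D6t T h2 y hy ![3, 4, 2, 1, 0, 6, 7] (by decide) (by norm_num) f_3_2 f_4_2 f_2_1 f_1_0 f_0_6 f_0_7).elim
        · have f_1_7 : T.a (y 1) (y 7) ≠ 0 := e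
          have f_7_1 : T.a (y 7) (y 1) ≠ 0 := nsymm T f_1_7
          clear e ha
          exact (excl_D5t T h2 y hy ![0, 7, 1, 2, 3, 4] (by decide) (by norm_num) f_0_1 f_7_1 f_1_2 f_2_3 f_2_4).elim
        · have f_2_7 : T.a (y 2) (y 7) ≠ 0 := e
          have f_7_2 : T.a (y 7) (y 2) ≠ 0 := nsymm T f_2_7
          clear e ha
          exact (excl_D4t T h2 y hy ![2, 1, 3, 4, 7] (by decide) (by norm_num) f_2_1 f_2_3 f_2_4 f_2_7).elim
        · have f_3_7 : T.a (y 3) (y 7) ≠ 0 := e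
          have f_7_3 : T.a (y 7) (y 3) ≠ 0 := nsymm T f_3_7
          clear e ha
          exact (excl_E6t T h2 y hy ![2, 1, 0, 3, 7, 4, 5] (by decide) (by norm_num) f_2_1 f_1_0 f_2_3 f_3_7 f_2_4 f_4_5).elim
        · have f_4_7 : T.a (y 4) (y 7) ≠ 0 := e
          have f_7_4 : T.a (y 7) (y 4) ≠ 0 := nsymm T f_4_7
          clear e ha
          exact (excl_D5t T h2 y hy ![1, 3, 2, 4, 5, 7] (by decide) (by norm_num) f_1_2 f_3_2 f_2_4 f_4_5 f_4_7).elim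
        · have f_5_7 : T.a (y 5) (y 7) ≠ 0 := e
          have f_7_5 : T.a (y 7) (y 5) ≠ 0 := nsymm T f_5_7
          clear e ha
          exact shape8_T133 T h2 (fun i => y (![2, 3, 1, 0, 6, 4, 5, 7] i)) (hy.comp (by decide)) f_2_3 f_2_1 f_1_0 f_0_6 f_2_4 f_4_5 f_5_7
        · have f_6_7 : T.a (y 6) (y 7) ≠ 0 := e
          have f_7_6 : T.a (y 7) (y 6) ≠ 0 := nsymm T f_6_7
          clear e ha
          exact shape8_T124 T h2 (fun i => y (![2, 3, 4, 5, 1, 0, 6, 7] i)) (hy.comp (by decide)) f_2_3 f_2_4 f_4_5 f_2_1 f_1_0 f_0_6 f_6_7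
      · have f_1_6 : T.a (y 1) (y 6) ≠ 0 := e
        have f_6_1 : T.a (y 6) (y 1) ≠ 0 := nsymm T f_1_6
        clear e ha
        exact (excl_D5t T h2 y hy ![0, 6, 1, 2, 3, 4] (by decide) (by norm_num) f_0_1 f_6_1 f_1_2 f_2_3 f_2_4).elim
      · have f_2_6 : T.a (y 2) (y 6) ≠ 0 := e
        have f_6_2 : T.a (y 6) (y 2) ≠ 0 := nsymm T f_2_6
        clear e ha
        exact (excl_D4t T h2 y hy ![2, 1, 3, 4, 6] (by decide) (by norm_num) f_2_1 f_2_3 f_2_4 f_2_6).elim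
      · have f_3_6 : T.a (y 3) (y 6) ≠ 0 := e
        have f_6_3 : T.a (y 6) (y 3) ≠ 0 := nsymm T f_3_6
        clear e ha
        exact (excl_E6t T h2 y hy ![2, 1, 0, 3, 6, 4, 5] (by decide) (by norm_num) f_2_1 f_1_0 f_2_3 f_3_6 f_2_4 f_4_5).elim
      · have f_4_6 : T.a (y 4) (y 6) ≠ 0 := e
        have f_6_4 : T.a (y 6) (y 4) ≠ 0 := nsymm T f_4_6
        clear e ha
        exact (excl_D5t T h2 y hy ![1, 3, 2, 4, 5, 6] (by decide) (by norm_num) f_1_2 f_3_2 f_2_4 f_4_5 f_4_6).elim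
      · have f_5_6 : T.a (y 5) (y 6) ≠ 0 := e
        have f_6_5 : T.a (y 6) (y 5) ≠ 0 := nsymm T f_5_6
        clear e ha
        obtain ⟨a, ha, e⟩ := hpar 7 (by norm_num) (by norm_num)
        have hc : a = 0 ∨ a = 1 ∨ a = 2 ∨ a = 3 ∨ a = 4 ∨ a = 5 ∨ a = 6 := by omega
        rcases hc with rfl | rfl | rfl | rfl | rfl | rfl | rfl
        · have f_0_7 : T.a (y 0) (y 7) ≠ 0 := e
          have f_7_0 : T.a (y 7) (y 0) ≠ 0 := nsymm T f_0_7
          clear e ha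
          exact shape8_T133 T h2 (fun i => y (![2, 3, 1, 0, 7, 4, 5, 6] i)) (hy.comp (by decide)) f_2_3 f_2_1 f_1_0 f_0_7 f_2_4 f_4_5 f_5_6
        · have f_1_7 : T.a (y 1) (y 7) ≠ 0 := e
          have f_7_1 : T.a (y 7) (y 1) ≠ 0 := nsymm T f_1_7
          clear e ha
          exact (excl_D5t T h2 y hy ![0, 7, 1, 2, 3, 4] (by decide) (by norm_num) f_0_1 f_7_1 f_1_2 f_2_3 f_2_4).elim
        · have f_2_7 : T.a (y 2) (y 7) ≠ 0 := e
          have f_7_2 : T.a (y 7) (y 2) ≠ 0 := nsymm T f_2_7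
          clear e ha
          exact (excl_D4t T h2 y hy ![2, 1, 3, 4, 7] (by decide) (by norm_num) f_2_1 f_2_3 f_2_4 f_2_7).elim
        · have f_3_7 : T.a (y 3) (y 7) ≠ 0 := e
          have f_7_3 : T.a (y 7) (y 3) ≠ 0 := nsymm T f_3_7
          clear e ha
          exact (excl_E6t T h2 y hy ![2, 1, 0, 3, 7, 4, 5] (by decide) (by norm_num) f_2_1 f_1_0 f_2_3 f_3_7 f_2_4 f_4_5).elim
        · have f_4_7 : T.a (y 4) (y 7) ≠ 0 := e
          have f_7_4 : T.a (y 7) (y 4) ≠ 0 := nsymm T f_4_7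
          clear e ha
          exact (excl_D5t T h2 y hy ![1, 3, 2, 4, 5, 7] (by decide) (by norm_num) f_1_2 f_3_2 f_2_4 f_4_5 f_4_7).elim
        · have f_5_7 : T.a (y 5) (y 7) ≠ 0 := e
          have f_7_5 : T.a (y 7) (y 5) ≠ 0 := nsymm T f_5_7
          clear e ha
          exact (excl_D6t T h2 y hy ![1, 3, 2, 4, 5, 6, 7] (by decide) (by norm_num) f_1_2 f_3_2 f_2_4 f_4_5 f_5_6 f_5_7).elim
        · have f_6_7 : T.a (y 6) (y 7) ≠ 0 := e
          have f_7_6 : T.a (y 7) (y 6) ≠ 0 := nsymm T f_6_7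
          clear e ha
          exact shape8_T124 T h2 (fun i => y (![2, 3, 1, 0, 4, 5, 6, 7] i)) (hy.comp (by decide)) f_2_3 f_2_1 f_1_0 f_2_4 f_4_5 f_5_6 f_6_7
  · have f_3_4 : T.a (y 3) (y 4) ≠ 0 := e
    have f_4_3 : T.a (y 4) (y 3) ≠ 0 := nsymm T f_3_4
    clear e ha
    obtain ⟨a, ha, e⟩ := hpar 5 (by norm_num) (by norm_num)
    have hc : a = 0 ∨ a = 1 ∨ a = 2 ∨ a = 3 ∨ a = 4 := by omega
    rcases hc with rfl | rfl | rfl | rfl | rfl
    · have f_0_5 : T.a (y 0) (y 5) ≠ 0 := e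
      have f_5_0 : T.a (y 5) (y 0) ≠ 0 := nsymm T f_0_5
      clear e ha
      obtain ⟨a, ha, e⟩ := hpar 6 (by norm_num) (by norm_num)
      have hc : a = 0 ∨ a = 1 ∨ a = 2 ∨ a = 3 ∨ a = 4 ∨ a = 5 := by omega
      rcases hc with rfl | rfl | rfl | rfl | rfl | rfl
      · have f_0_6 : T.a (y 0) (y 6) ≠ 0 := e
        have f_6_0 : T.a (y 6) (y 0) ≠ 0 := nsymm T f_0_6
        clear e ha
        obtain ⟨a, ha, e⟩ := hpar 7 (by norm_num) (by norm_num)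
        have hc : a = 0 ∨ a = 1 ∨ a = 2 ∨ a = 3 ∨ a = 4 ∨ a = 5 ∨ a = 6 := by omega
        rcases hc with rfl | rfl | rfl | rfl | rfl | rfl | rfl
        · have f_0_7 : T.a (y 0) (y 7) ≠ 0 := e
          have f_7_0 : T.a (y 7) (y 0) ≠ 0 := nsymm T f_0_7
          clear e ha
          exact (excl_D4t T h2 y hy ![0, 1, 5, 6, 7] (by decide) (by norm_num) f_0_1 f_0_5 f_0_6 f_0_7).elim
        · have f_1_7 : T.a (y 1) (y 7) ≠ 0 := e
          have f_7_1 : T.a (y 7) (y 1) ≠ 0 := nsymm T f_1_7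
          clear e ha
          exact (excl_D5t T h2 y hy ![2, 7, 1, 0, 5, 6] (by decide) (by norm_num) f_2_1 f_7_1 f_1_0 f_0_5 f_0_6).elim
        · have f_2_7 : T.a (y 2) (y 7) ≠ 0 := e
          have f_7_2 : T.a (y 7) (y 2) ≠ 0 := nsymm T f_2_7
          clear e ha
          exact (excl_D6t T h2 y hy ![3, 7, 2, 1, 0, 5, 6] (by decide) (by norm_num) f_3_2 f_7_2 f_2_1 f_1_0 f_0_5 f_0_6).elim
        · have f_3_7 : T.a (y 3) (y 7) ≠ 0 := e
          have f_7_3 : T.a (y 7) (y 3) ≠ 0 := nsymm T f_3_7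
          clear e ha
          exact shape8_Dt T h2 (fun i => y (![4, 7, 3, 2, 1, 0, 5, 6] i)) (hy.comp (by decide)) f_4_3 f_7_3 f_3_2 f_2_1 f_1_0 f_0_5 f_0_6
        · have f_4_7 : T.a (y 4) (y 7) ≠ 0 := e
          have f_7_4 : T.a (y 7) (y 4) ≠ 0 := nsymm T f_4_7
          clear e ha
          exact shape8_D T h2 (fun i => y (![0, 5, 6, 1, 2, 3, 4, 7] i)) (hy.comp (by decide)) f_0_5 f_0_6 f_0_1 f_1_2 f_2_3 f_3_4 f_4_7
        · have f_5_7 : T.a (y 5) (y 7) ≠ 0 := e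
          have f_7_5 : T.a (y 7) (y 5) ≠ 0 := nsymm T f_5_7
          clear e ha
          exact shape8_T124 T h2 (fun i => y (![0, 6, 5, 7, 1, 2, 3, 4] i)) (hy.comp (by decide)) f_0_6 f_0_5 f_5_7 f_0_1 f_1_2 f_2_3 f_3_4
        · have f_6_7 : T.a (y 6) (y 7) ≠ 0 := e
          have f_7_6 : T.a (y 7) (y 6) ≠ 0 := nsymm T f_6_7
          clear e ha
          exact shape8_T124 T h2 (fun i => y (![0, 5, 6, 7, 1, 2, 3, 4] i)) (hy.comp (by decide)) f_0_5 f_0_6 f_6_7 f_0_1 f_1_2 f_2_3 f_3_4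
      · have f_1_6 : T.a (y 1) (y 6) ≠ 0 := e
        have f_6_1 : T.a (y 6) (y 1) ≠ 0 := nsymm T f_1_6
        clear e ha
        obtain ⟨a, ha, e⟩ := hpar 7 (by norm_num) (by norm_num)
        have hc : a = 0 ∨ a = 1 ∨ a = 2 ∨ a = 3 ∨ a = 4 ∨ a = 5 ∨ a = 6 := by omega
        rcases hc with rfl | rfl | rfl | rfl | rfl | rfl | rfl
        · have f_0_7 : T.a (y 0) (y 7) ≠ 0 := e
          have f_7_0 : T.a (y 7) (y 0) ≠ 0 := nsymm T f_0_7
          clear e ha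
          exact (excl_D5t T h2 y hy ![2, 6, 1, 0, 5, 7] (by decide) (by norm_num) f_2_1 f_6_1 f_1_0 f_0_5 f_0_7).elim
        · have f_1_7 : T.a (y 1) (y 7) ≠ 0 := e
          have f_7_1 : T.a (y 7) (y 1) ≠ 0 := nsymm T f_1_7
          clear e ha
          exact (excl_D4t T h2 y hy ![1, 0, 2, 6, 7] (by decide) (by norm_num) f_1_0 f_1_2 f_1_6 f_1_7).elim
        · have f_2_7 : T.a (y 2) (y 7) ≠ 0 := e
          have f_7_2 : T.a (y 7) (y 2) ≠ 0 := nsymm T f_2_7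
          clear e ha
          exact (excl_D5t T h2 y hy ![0, 6, 1, 2, 3, 7] (by decide) (by norm_num) f_0_1 f_6_1 f_1_2 f_2_3 f_2_7).elim
        · have f_3_7 : T.a (y 3) (y 7) ≠ 0 := e
          have f_7_3 : T.a (y 7) (y 3) ≠ 0 := nsymm T f_3_7
          clear e ha
          exact (excl_D6t T h2 y hy ![0, 6, 1, 2, 3, 4, 7] (by decide) (by norm_num) f_0_1 f_6_1 f_1_2 f_2_3 f_3_4 f_3_7).elim
        · have f_4_7 : T.a (y 4) (y 7) ≠ 0 := e
          have f_7_4 : T.a (y 7) (y 4) ≠ 0 := nsymm T f_4_7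
          clear e ha
          exact shape8_T124 T h2 (fun i => y (![1, 6, 0, 5, 2, 3, 4, 7] i)) (hy.comp (by decide)) f_1_6 f_1_0 f_0_5 f_1_2 f_2_3 f_3_4 f_4_7
        · have f_5_7 : T.a (y 5) (y 7) ≠ 0 := e
          have f_7_5 : T.a (y 7) (y 5) ≠ 0 := nsymm T f_5_7
          clear e ha
          exact shape8_T133 T h2 (fun i => y (![1, 6, 0, 5, 7, 2, 3, 4] i)) (hy.comp (by decide)) f_1_6 f_1_0 f_0_5 f_5_7 f_1_2 f_2_3 f_3_4
        · have f_6_7 : T.a (y 6) (y 7) ≠ 0 := e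
          have f_7_6 : T.a (y 7) (y 6) ≠ 0 := nsymm T f_6_7
          clear e ha
          exact (excl_E6t T h2 y hy ![1, 0, 5, 2, 3, 6, 7] (by decide) (by norm_num) f_1_0 f_0_5 f_1_2 f_2_3 f_1_6 f_6_7).elim
      · have f_2_6 : T.a (y 2) (y 6) ≠ 0 := e
        have f_6_2 : T.a (y 6) (y 2) ≠ 0 := nsymm T f_2_6
        clear e ha
        obtain ⟨a, ha, e⟩ := hpar 7 (by norm_num) (by norm_num)
        have hc : a = 0 ∨ a = 1 ∨ a = 2 ∨ a = 3 ∨ a = 4 ∨ a = 5 ∨ a = 6 := by omega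
        rcases hc with rfl | rfl | rfl | rfl | rfl | rfl | rfl
        · have f_0_7 : T.a (y 0) (y 7) ≠ 0 := e
          have f_7_0 : T.a (y 7) (y 0) ≠ 0 := nsymm T f_0_7
          clear e ha
          exact (excl_D6t T h2 y hy ![3, 6, 2, 1, 0, 5, 7] (by decide) (by norm_num) f_3_2 f_6_2 f_2_1 f_1_0 f_0_5 f_0_7).elim
        · have f_1_7 : T.a (y 1) (y 7) ≠ 0 := e
          have f_7_1 : T.a (y 7) (y 1) ≠ 0 := nsymm T f_1_7
          clear e ha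
          exact (excl_D5t T h2 y hy ![0, 7, 1, 2, 3, 6] (by decide) (by norm_num) f_0_1 f_7_1 f_1_2 f_2_3 f_2_6).elim
        · have f_2_7 : T.a (y 2) (y 7) ≠ 0 := e
          have f_7_2 : T.a (y 7) (y 2) ≠ 0 := nsymm T f_2_7
          clear e ha
          exact (excl_D4t T h2 y hy ![2, 1, 3, 6, 7] (by decide) (by norm_num) f_2_1 f_2_3 f_2_6 f_2_7).elim
        · have f_3_7 : T.a (y 3) (y 7) ≠ 0 := e
          have f_7_3 : T.a (y 7) (y 3) ≠ 0 := nsymm T f_3_7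
          clear e ha
          exact (excl_D5t T h2 y hy ![1, 6, 2, 3, 4, 7] (by decide) (by norm_num) f_1_2 f_6_2 f_2_3 f_3_4 f_3_7).elim
        · have f_4_7 : T.a (y 4) (y 7) ≠ 0 := e
          have f_7_4 : T.a (y 7) (y 4) ≠ 0 := nsymm T f_4_7
          clear e ha
          exact shape8_T133 T h2 (fun i => y (![2, 6, 1, 0, 5, 3, 4, 7] i)) (hy.comp (by decide)) f_2_6 f_2_1 f_1_0 f_0_5 f_2_3 f_3_4 f_4_7
        · have f_5_7 : T.a (y 5) (y 7) ≠ 0 := e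
          have f_7_5 : T.a (y 7) (y 5) ≠ 0 := nsymm T f_5_7
          clear e ha
          exact shape8_T124 T h2 (fun i => y (![2, 6, 3, 4, 1, 0, 5, 7] i)) (hy.comp (by decide)) f_2_6 f_2_3 f_3_4 f_2_1 f_1_0 f_0_5 f_5_7
        · have f_6_7 : T.a (y 6) (y 7) ≠ 0 := e
          have f_7_6 : T.a (y 7) (y 6) ≠ 0 := nsymm T f_6_7
          clear e ha
          exact (excl_E6t T h2 y hy ![2, 1, 0, 3, 4, 6, 7] (by decide) (by norm_num) f_2_1 f_1_0 f_2_3 f_3_4 f_2_6 f_6_7).elim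
      · have f_3_6 : T.a (y 3) (y 6) ≠ 0 := e
        have f_6_3 : T.a (y 6) (y 3) ≠ 0 := nsymm T f_3_6
        clear e ha
        obtain ⟨a, ha, e⟩ := hpar 7 (by norm_num) (by norm_num)
        have hc : a = 0 ∨ a = 1 ∨ a = 2 ∨ a = 3 ∨ a = 4 ∨ a = 5 ∨ a = 6 := by omega
        rcases hc with rfl | rfl | rfl | rfl | rfl | rfl | rfl
        · have f_0_7 : T.a (y 0) (y 7) ≠ 0 := e
          have f_7_0 : T.a (y 7) (y 0) ≠ 0 := nsymm T f_0_7
          clear e ha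
          exact shape8_Dt T h2 (fun i => y (![4, 6, 3, 2, 1, 0, 5, 7] i)) (hy.comp (by decide)) f_4_3 f_6_3 f_3_2 f_2_1 f_1_0 f_0_5 f_0_7
        · have f_1_7 : T.a (y 1) (y 7) ≠ 0 := e
          have f_7_1 : T.a (y 7) (y 1) ≠ 0 := nsymm T f_1_7
          clear e ha
          exact (excl_D6t T h2 y hy ![0, 7, 1, 2, 3, 4, 6] (by decide) (by norm_num) f_0_1 f_7_1 f_1_2 f_2_3 f_3_4 f_3_6).elim
        · have f_2_7 : T.a (y 2) (y 7) ≠ 0 := e
          have f_7_2 : T.a (y 7) (y 2) ≠ 0 := nsymm T f_2_7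
          clear e ha
          exact (excl_D5t T h2 y hy ![1, 7, 2, 3, 4, 6] (by decide) (by norm_num) f_1_2 f_7_2 f_2_3 f_3_4 f_3_6).elim
        · have f_3_7 : T.a (y 3) (y 7) ≠ 0 := e
          have f_7_3 : T.a (y 7) (y 3) ≠ 0 := nsymm T f_3_7
          clear e ha
          exact (excl_D4t T h2 y hy ![3, 2, 4, 6, 7] (by decide) (by norm_num) f_3_2 f_3_4 f_3_6 f_3_7).elim
        · have f_4_7 : T.a (y 4) (y 7) ≠ 0 := e
          have f_7_4 : T.a (y 7) (y 4) ≠ 0 := nsymm T f_4_7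
          clear e ha
          exact shape8_T124 T h2 (fun i => y (![3, 6, 4, 7, 2, 1, 0, 5] i)) (hy.comp (by decide)) f_3_6 f_3_4 f_4_7 f_3_2 f_2_1 f_1_0 f_0_5
        · have f_5_7 : T.a (y 5) (y 7) ≠ 0 := e
          have f_7_5 : T.a (y 7) (y 5) ≠ 0 := nsymm T f_5_7
          clear e ha
          exact shape8_D T h2 (fun i => y (![3, 4, 6, 2, 1, 0, 5, 7] i)) (hy.comp (by decide)) f_3_4 f_3_6 f_3_2 f_2_1 f_1_0 f_0_5 f_5_7
        · have f_6_7 : T.a (y 6) (y 7) ≠ 0 := e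
          have f_7_6 : T.a (y 7) (y 6) ≠ 0 := nsymm T f_6_7
          clear e ha
          exact shape8_T124 T h2 (fun i => y (![3, 4, 6, 7, 2, 1, 0, 5] i)) (hy.comp (by decide)) f_3_4 f_3_6 f_6_7 f_3_2 f_2_1 f_1_0 f_0_5
      · have f_4_6 : T.a (y 4) (y 6) ≠ 0 := e
        have f_6_4 : T.a (y 6) (y 4) ≠ 0 := nsymm T f_4_6
        clear e ha
        obtain ⟨a, ha, e⟩ := hpar 7 (by norm_num) (by norm_num)
        have hc : a = 0 ∨ a = 1 ∨ a = 2 ∨ a = 3 ∨ a = 4 ∨ a = 5 ∨ a = 6 := by omega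
        rcases hc with rfl | rfl | rfl | rfl | rfl | rfl | rfl
        · have f_0_7 : T.a (y 0) (y 7) ≠ 0 := e
          have f_7_0 : T.a (y 7) (y 0) ≠ 0 := nsymm T f_0_7
          clear e ha
          exact shape8_D T h2 (fun i => y (![0, 5, 7, 1, 2, 3, 4, 6] i)) (hy.comp (by decide)) f_0_5 f_0_7 f_0_1 f_1_2 f_2_3 f_3_4 f_4_6
        · have f_1_7 : T.a (y 1) (y 7) ≠ 0 := e
          have f_7_1 : T.a (y 7) (y 1) ≠ 0 := nsymm T f_1_7
          clear e ha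
          exact shape8_T124 T h2 (fun i => y (![1, 7, 0, 5, 2, 3, 4, 6] i)) (hy.comp (by decide)) f_1_7 f_1_0 f_0_5 f_1_2 f_2_3 f_3_4 f_4_6
        · have f_2_7 : T.a (y 2) (y 7) ≠ 0 := e
          have f_7_2 : T.a (y 7) (y 2) ≠ 0 := nsymm T f_2_7
          clear e ha
          exact shape8_T133 T h2 (fun i => y (![2, 7, 1, 0, 5, 3, 4, 6] i)) (hy.comp (by decide)) f_2_7 f_2_1 f_1_0 f_0_5 f_2_3 f_3_4 f_4_6
        · have f_3_7 : T.a (y 3) (y 7) ≠ 0 := e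
          have f_7_3 : T.a (y 7) (y 3) ≠ 0 := nsymm T f_3_7
          clear e ha
          exact shape8_T124 T h2 (fun i => y (![3, 7, 4, 6, 2, 1, 0, 5] i)) (hy.comp (by decide)) f_3_7 f_3_4 f_4_6 f_3_2 f_2_1 f_1_0 f_0_5
        · have f_4_7 : T.a (y 4) (y 7) ≠ 0 := e
          have f_7_4 : T.a (y 7) (y 4) ≠ 0 := nsymm T f_4_7
          clear e ha
          exact shape8_D T h2 (fun i => y (![4, 6, 7, 3, 2, 1, 0, 5] i)) (hy.comp (by decide)) f_4_6 f_4_7 f_4_3 f_3_2 f_2_1 f_1_0 f_0_5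
        · have f_5_7 : T.a (y 5) (y 7) ≠ 0 := e
          have f_7_5 : T.a (y 7) (y 5) ≠ 0 := nsymm T f_5_7
          clear e ha
          exact shape8_path T h2 (fun i => y (![6, 4, 3, 2, 1, 0, 5, 7] i)) (hy.comp (by decide)) f_6_4 f_4_3 f_3_2 f_2_1 f_1_0 f_0_5 f_5_7
        · have f_6_7 : T.a (y 6) (y 7) ≠ 0 := e
          have f_7_6 : T.a (y 7) (y 6) ≠ 0 := nsymm T f_6_7
          clear e ha
          exact shape8_path T h2 (fun i => y (![5, 0, 1, 2, 3, 4, 6, 7] i)) (hy.comp (by decide)) f_5_0 f_0_1 f_1_2 f_2_3 f_3_4 f_4_6 f_6_7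
      · have f_5_6 : T.a (y 5) (y 6) ≠ 0 := e
        have f_6_5 : T.a (y 6) (y 5) ≠ 0 := nsymm T f_5_6
        clear e ha
        obtain ⟨a, ha, e⟩ := hpar 7 (by norm_num) (by norm_num)
        have hc : a = 0 ∨ a = 1 ∨ a = 2 ∨ a = 3 ∨ a = 4 ∨ a = 5 ∨ a = 6 := by omega
        rcases hc with rfl | rfl | rfl | rfl | rfl | rfl | rfl
        · have f_0_7 : T.a (y 0) (y 7) ≠ 0 := e
          have f_7_0 : T.a (y 7) (y 0) ≠ 0 := nsymm T f_0_7
          clear e ha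
          exact shape8_T124 T h2 (fun i => y (![0, 7, 5, 6, 1, 2, 3, 4] i)) (hy.comp (by decide)) f_0_7 f_0_5 f_5_6 f_0_1 f_1_2 f_2_3 f_3_4
        · have f_1_7 : T.a (y 1) (y 7) ≠ 0 := e
          have f_7_1 : T.a (y 7) (y 1) ≠ 0 := nsymm T f_1_7
          clear e ha
          exact shape8_T133 T h2 (fun i => y (![1, 7, 0, 5, 6, 2, 3, 4] i)) (hy.comp (by decide)) f_1_7 f_1_0 f_0_5 f_5_6 f_1_2 f_2_3 f_3_4
        · have f_2_7 : T.a (y 2) (y 7) ≠ 0 := e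
          have f_7_2 : T.a (y 7) (y 2) ≠ 0 := nsymm T f_2_7
          clear e ha
          exact shape8_T124 T h2 (fun i => y (![2, 7, 3, 4, 1, 0, 5, 6] i)) (hy.comp (by decide)) f_2_7 f_2_3 f_3_4 f_2_1 f_1_0 f_0_5 f_5_6
        · have f_3_7 : T.a (y 3) (y 7) ≠ 0 := e
          have f_7_3 : T.a (y 7) (y 3) ≠ 0 := nsymm T f_3_7
          clear e ha
          exact shape8_D T h2 (fun i => y (![3, 4, 7, 2, 1, 0, 5, 6] i)) (hy.comp (by decide)) f_3_4 f_3_7 f_3_2 f_2_1 f_1_0 f_0_5 f_5_6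
        · have f_4_7 : T.a (y 4) (y 7) ≠ 0 := e
          have f_7_4 : T.a (y 7) (y 4) ≠ 0 := nsymm T f_4_7
          clear e ha
          exact shape8_path T h2 (fun i => y (![6, 5, 0, 1, 2, 3, 4, 7] i)) (hy.comp (by decide)) f_6_5 f_5_0 f_0_1 f_1_2 f_2_3 f_3_4 f_4_7
        · have f_5_7 : T.a (y 5) (y 7) ≠ 0 := e
          have f_7_5 : T.a (y 7) (y 5) ≠ 0 := nsymm T f_5_7
          clear e ha
          exact shape8_D T h2 (fun i => y (![5, 6, 7, 0, 1, 2, 3, 4] i)) (hy.comp (by decide)) f_5_6 f_5_7 f_5_0 f_0_1 f_1_2 f_2_3 f_3_4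
        · have f_6_7 : T.a (y 6) (y 7) ≠ 0 := e
          have f_7_6 : T.a (y 7) (y 6) ≠ 0 := nsymm T f_6_7
          clear e ha
          exact shape8_path T h2 (fun i => y (![4, 3, 2, 1, 0, 5, 6, 7] i)) (hy.comp (by decide)) f_4_3 f_3_2 f_2_1 f_1_0 f_0_5 f_5_6 f_6_7
    · have f_1_5 : T.a (y 1) (y 5) ≠ 0 := e
      have f_5_1 : T.a (y 5) (y 1) ≠ 0 := nsymm T f_1_5
      clear e ha
      obtain ⟨a, ha, e⟩ := hpar 6 (by norm_num) (by norm_num)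
      have hc : a = 0 ∨ a = 1 ∨ a = 2 ∨ a = 3 ∨ a = 4 ∨ a = 5 := by omega
      rcases hc with rfl | rfl | rfl | rfl | rfl | rfl
      · have f_0_6 : T.a (y 0) (y 6) ≠ 0 := e
        have f_6_0 : T.a (y 6) (y 0) ≠ 0 := nsymm T f_0_6
        clear e ha
        obtain ⟨a, ha, e⟩ := hpar 7 (by norm_num) (by norm_num)
        have hc : a = 0 ∨ a = 1 ∨ a = 2 ∨ a = 3 ∨ a = 4 ∨ a = 5 ∨ a = 6 := by omega
        rcases hc with rfl | rfl | rfl | rfl | rfl | rfl | rfl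
        · have f_0_7 : T.a (y 0) (y 7) ≠ 0 := e
          have f_7_0 : T.a (y 7) (y 0) ≠ 0 := nsymm T f_0_7
          clear e ha
          exact (excl_D5t T h2 y hy ![2, 5, 1, 0, 6, 7] (by decide) (by norm_num) f_2_1 f_5_1 f_1_0 f_0_6 f_0_7).elim
        · have f_1_7 : T.a (y 1) (y 7) ≠ 0 := e
          have f_7_1 : T.a (y 7) (y 1) ≠ 0 := nsymm T f_1_7
          clear e ha
          exact (excl_D4t T h2 y hy ![1, 0, 2, 5, 7] (by decide) (by norm_num) f_1_0 f_1_2 f_1_5 f_1_7).elim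
        · have f_2_7 : T.a (y 2) (y 7) ≠ 0 := e
          have f_7_2 : T.a (y 7) (y 2) ≠ 0 := nsymm T f_2_7
          clear e ha
          exact (excl_D5t T h2 y hy ![0, 5, 1, 2, 3, 7] (by decide) (by norm_num) f_0_1 f_5_1 f_1_2 f_2_3 f_2_7).elim
        · have f_3_7 : T.a (y 3) (y 7) ≠ 0 := e
          have f_7_3 : T.a (y 7) (y 3) ≠ 0 := nsymm T f_3_7
          clear e ha
          exact (excl_D6t T h2 y hy ![0, 5, 1, 2, 3, 4, 7] (by decide) (by norm_num) f_0_1 f_5_1 f_1_2 f_2_3 f_3_4 f_3_7).elim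
        · have f_4_7 : T.a (y 4) (y 7) ≠ 0 := e
          have f_7_4 : T.a (y 7) (y 4) ≠ 0 := nsymm T f_4_7
          clear e ha
          exact shape8_T124 T h2 (fun i => y (![1, 5, 0, 6, 2, 3, 4, 7] i)) (hy.comp (by decide)) f_1_5 f_1_0 f_0_6 f_1_2 f_2_3 f_3_4 f_4_7
        · have f_5_7 : T.a (y 5) (y 7) ≠ 0 := e
          have f_7_5 : T.a (y 7) (y 5) ≠ 0 := nsymm T f_5_7
          clear e ha
          exact (excl_E6t T h2 y hy ![1, 0, 6, 2, 3, 5, 7] (by decide) (by norm_num) f_1_0 f_0_6 f_1_2 f_2_3 f_1_5 f_5_7).elim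
        · have f_6_7 : T.a (y 6) (y 7) ≠ 0 := e
          have f_7_6 : T.a (y 7) (y 6) ≠ 0 := nsymm T f_6_7
          clear e ha
          exact shape8_T133 T h2 (fun i => y (![1, 5, 0, 6, 7, 2, 3, 4] i)) (hy.comp (by decide)) f_1_5 f_1_0 f_0_6 f_6_7 f_1_2 f_2_3 f_3_4
      · have f_1_6 : T.a (y 1) (y 6) ≠ 0 := e
        have f_6_1 : T.a (y 6) (y 1) ≠ 0 := nsymm T f_1_6
        clear e ha
        exact (excl_D4t T h2 y hy ![1, 0, 2, 5, 6] (by decide) (by norm_num) f_1_0 f_1_2 f_1_5 f_1_6).elim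
      · have f_2_6 : T.a (y 2) (y 6) ≠ 0 := e
        have f_6_2 : T.a (y 6) (y 2) ≠ 0 := nsymm T f_2_6
        clear e ha
        exact (excl_D5t T h2 y hy ![0, 5, 1, 2, 3, 6] (by decide) (by norm_num) f_0_1 f_5_1 f_1_2 f_2_3 f_2_6).elim
      · have f_3_6 : T.a (y 3) (y 6) ≠ 0 := e
        have f_6_3 : T.a (y 6) (y 3) ≠ 0 := nsymm T f_3_6
        clear e ha
        exact (excl_D6t T h2 y hy ![0, 5, 1, 2, 3, 4, 6] (by decide) (by norm_num) f_0_1 f_5_1 f_1_2 f_2_3 f_3_4 f_3_6).elim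
      · have f_4_6 : T.a (y 4) (y 6) ≠ 0 := e
        have f_6_4 : T.a (y 6) (y 4) ≠ 0 := nsymm T f_4_6
        clear e ha
        obtain ⟨a, ha, e⟩ := hpar 7 (by norm_num) (by norm_num)
        have hc : a = 0 ∨ a = 1 ∨ a = 2 ∨ a = 3 ∨ a = 4 ∨ a = 5 ∨ a = 6 := by omega
        rcases hc with rfl | rfl | rfl | rfl | rfl | rfl | rfl
        · have f_0_7 : T.a (y 0) (y 7) ≠ 0 := e
          have f_7_0 : T.a (y 7) (y 0) ≠ 0 := nsymm T f_0_7
          clear e ha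
          exact shape8_T124 T h2 (fun i => y (![1, 5, 0, 7, 2, 3, 4, 6] i)) (hy.comp (by decide)) f_1_5 f_1_0 f_0_7 f_1_2 f_2_3 f_3_4 f_4_6
        · have f_1_7 : T.a (y 1) (y 7) ≠ 0 := e
          have f_7_1 : T.a (y 7) (y 1) ≠ 0 := nsymm T f_1_7
          clear e ha
          exact (excl_D4t T h2 y hy ![1, 0, 2, 5, 7] (by decide) (by norm_num) f_1_0 f_1_2 f_1_5 f_1_7).elim
        · have f_2_7 : T.a (y 2) (y 7) ≠ 0 := e
          have f_7_2 : T.a (y 7) (y 2) ≠ 0 := nsymm T f_2_7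
          clear e ha
          exact (excl_D5t T h2 y hy ![0, 5, 1, 2, 3, 7] (by decide) (by norm_num) f_0_1 f_5_1 f_1_2 f_2_3 f_2_7).elim
        · have f_3_7 : T.a (y 3) (y 7) ≠ 0 := e
          have f_7_3 : T.a (y 7) (y 3) ≠ 0 := nsymm T f_3_7
          clear e ha
          exact (excl_D6t T h2 y hy ![0, 5, 1, 2, 3, 4, 7] (by decide) (by norm_num) f_0_1 f_5_1 f_1_2 f_2_3 f_3_4 f_3_7).elim
        · have f_4_7 : T.a (y 4) (y 7) ≠ 0 := e
          have f_7_4 : T.a (y 7) (y 4) ≠ 0 := nsymm T f_4_7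
          clear e ha
          exact shape8_Dt T h2 (fun i => y (![0, 5, 1, 2, 3, 4, 6, 7] i)) (hy.comp (by decide)) f_0_1 f_5_1 f_1_2 f_2_3 f_3_4 f_4_6 f_4_7
        · have f_5_7 : T.a (y 5) (y 7) ≠ 0 := e
          have f_7_5 : T.a (y 7) (y 5) ≠ 0 := nsymm T f_5_7
          clear e ha
          exact shape8_T124 T h2 (fun i => y (![1, 0, 5, 7, 2, 3, 4, 6] i)) (hy.comp (by decide)) f_1_0 f_1_5 f_5_7 f_1_2 f_2_3 f_3_4 f_4_6
        · have f_6_7 : T.a (y 6) (y 7) ≠ 0 := e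
          have f_7_6 : T.a (y 7) (y 6) ≠ 0 := nsymm T f_6_7
          clear e ha
          exact shape8_D T h2 (fun i => y (![1, 0, 5, 2, 3, 4, 6, 7] i)) (hy.comp (by decide)) f_1_0 f_1_5 f_1_2 f_2_3 f_3_4 f_4_6 f_6_7
      · have f_5_6 : T.a (y 5) (y 6) ≠ 0 := e
        have f_6_5 : T.a (y 6) (y 5) ≠ 0 := nsymm T f_5_6
        clear e ha
        obtain ⟨a, ha, e⟩ := hpar 7 (by norm_num) (by norm_num)
        have hc : a = 0 ∨ a = 1 ∨ a = 2 ∨ a = 3 ∨ a = 4 ∨ a = 5 ∨ a = 6 := by omega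
        rcases hc with rfl | rfl | rfl | rfl | rfl | rfl | rfl
        · have f_0_7 : T.a (y 0) (y 7) ≠ 0 := e
          have f_7_0 : T.a (y 7) (y 0) ≠ 0 := nsymm T f_0_7
          clear e ha
          exact (excl_E6t T h2 y hy ![1, 0, 7, 2, 3, 5, 6] (by decide) (by norm_num) f_1_0 f_0_7 f_1_2 f_2_3 f_1_5 f_5_6).elim
        · have f_1_7 : T.a (y 1) (y 7) ≠ 0 := e
          have f_7_1 : T.a (y 7) (y 1) ≠ 0 := nsymm T f_1_7
          clear e ha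
          exact (excl_D4t T h2 y hy ![1, 0, 2, 5, 7] (by decide) (by norm_num) f_1_0 f_1_2 f_1_5 f_1_7).elim
        · have f_2_7 : T.a (y 2) (y 7) ≠ 0 := e
          have f_7_2 : T.a (y 7) (y 2) ≠ 0 := nsymm T f_2_7
          clear e ha
          exact (excl_D5t T h2 y hy ![0, 5, 1, 2, 3, 7] (by decide) (by norm_num) f_0_1 f_5_1 f_1_2 f_2_3 f_2_7).elim
        · have f_3_7 : T.a (y 3) (y 7) ≠ 0 := e
          have f_7_3 : T.a (y 7) (y 3) ≠ 0 := nsymm T f_3_7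
          clear e ha
          exact (excl_D6t T h2 y hy ![0, 5, 1, 2, 3, 4, 7] (by decide) (by norm_num) f_0_1 f_5_1 f_1_2 f_2_3 f_3_4 f_3_7).elim
        · have f_4_7 : T.a (y 4) (y 7) ≠ 0 := e
          have f_7_4 : T.a (y 7) (y 4) ≠ 0 := nsymm T f_4_7
          clear e ha
          exact shape8_T124 T h2 (fun i => y (![1, 0, 5, 6, 2, 3, 4, 7] i)) (hy.comp (by decide)) f_1_0 f_1_5 f_5_6 f_1_2 f_2_3 f_3_4 f_4_7
        · have f_5_7 : T.a (y 5) (y 7) ≠ 0 := e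
          have f_7_5 : T.a (y 7) (y 5) ≠ 0 := nsymm T f_5_7
          clear e ha
          exact (excl_D5t T h2 y hy ![0, 2, 1, 5, 6, 7] (by decide) (by norm_num) f_0_1 f_2_1 f_1_5 f_5_6 f_5_7).elim
        · have f_6_7 : T.a (y 6) (y 7) ≠ 0 := e
          have f_7_6 : T.a (y 7) (y 6) ≠ 0 := nsymm T f_6_7
          clear e ha
          exact shape8_T133 T h2 (fun i => y (![1, 0, 2, 3, 4, 5, 6, 7] i)) (hy.comp (by decide)) f_1_0 f_1_2 f_2_3 f_3_4 f_1_5 f_5_6 f_6_7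
    · have f_2_5 : T.a (y 2) (y 5) ≠ 0 := e
      have f_5_2 : T.a (y 5) (y 2) ≠ 0 := nsymm T f_2_5
      clear e ha
      obtain ⟨a, ha, e⟩ := hpar 6 (by norm_num) (by norm_num)
      have hc : a = 0 ∨ a = 1 ∨ a = 2 ∨ a = 3 ∨ a = 4 ∨ a = 5 := by omega
      rcases hc with rfl | rfl | rfl | rfl | rfl | rfl
      · have f_0_6 : T.a (y 0) (y 6) ≠ 0 := e
        have f_6_0 : T.a (y 6) (y 0) ≠ 0 := nsymm T f_0_6
        clear e ha
        obtain ⟨a, ha, e⟩ := hpar 7 (by norm_num) (by norm_num)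
        have hc : a = 0 ∨ a = 1 ∨ a = 2 ∨ a = 3 ∨ a = 4 ∨ a = 5 ∨ a = 6 := by omega
        rcases hc with rfl | rfl | rfl | rfl | rfl | rfl | rfl
        · have f_0_7 : T.a (y 0) (y 7) ≠ 0 := e
          have f_7_0 : T.a (y 7) (y 0) ≠ 0 := nsymm T f_0_7
          clear e ha
          exact (excl_D6t T h2 y hy ![3, 5, 2, 1, 0, 6, 7] (by decide) (by norm_num) f_3_2 f_5_2 f_2_1 f_1_0 f_0_6 f_0_7).elim
        · have f_1_7 : T.a (y 1) (y 7) ≠ 0 := e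
          have f_7_1 : T.a (y 7) (y 1) ≠ 0 := nsymm T f_1_7
          clear e ha
          exact (excl_D5t T h2 y hy ![0, 7, 1, 2, 3, 5] (by decide) (by norm_num) f_0_1 f_7_1 f_1_2 f_2_3 f_2_5).elim
        · have f_2_7 : T.a (y 2) (y 7) ≠ 0 := e
          have f_7_2 : T.a (y 7) (y 2) ≠ 0 := nsymm T f_2_7
          clear e ha
          exact (excl_D4t T h2 y hy ![2, 1, 3, 5, 7] (by decide) (by norm_num) f_2_1 f_2_3 f_2_5 f_2_7).elim
        · have f_3_7 : T.a (y 3) (y 7) ≠ 0 := e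
          have f_7_3 : T.a (y 7) (y 3) ≠ 0 := nsymm T f_3_7
          clear e ha
          exact (excl_D5t T h2 y hy ![1, 5, 2, 3, 4, 7] (by decide) (by norm_num) f_1_2 f_5_2 f_2_3 f_3_4 f_3_7).elim
        · have f_4_7 : T.a (y 4) (y 7) ≠ 0 := e
          have f_7_4 : T.a (y 7) (y 4) ≠ 0 := nsymm T f_4_7
          clear e ha
          exact shape8_T133 T h2 (fun i => y (![2, 5, 1, 0, 6, 3, 4, 7] i)) (hy.comp (by decide)) f_2_5 f_2_1 f_1_0 f_0_6 f_2_3 f_3_4 f_4_7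
        · have f_5_7 : T.a (y 5) (y 7) ≠ 0 := e
          have f_7_5 : T.a (y 7) (y 5) ≠ 0 := nsymm T f_5_7
          clear e ha
          exact (excl_E6t T h2 y hy ![2, 1, 0, 3, 4, 5, 7] (by decide) (by norm_num) f_2_1 f_1_0 f_2_3 f_3_4 f_2_5 f_5_7).elim
        · have f_6_7 : T.a (y 6) (y 7) ≠ 0 := e
          have f_7_6 : T.a (y 7) (y 6) ≠ 0 := nsymm T f_6_7
          clear e ha
          exact shape8_T124 T h2 (fun i => y (![2, 5, 3, 4, 1, 0, 6, 7] i)) (hy.comp (by decide)) f_2_5 f_2_3 f_3_4 f_2_1 f_1_0 f_0_6 f_6_7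
      · have f_1_6 : T.a (y 1) (y 6) ≠ 0 := e
        have f_6_1 : T.a (y 6) (y 1) ≠ 0 := nsymm T f_1_6
        clear e ha
        exact (excl_D5t T h2 y hy ![0, 6, 1, 2, 3, 5] (by decide) (by norm_num) f_0_1 f_6_1 f_1_2 f_2_3 f_2_5).elim
      · have f_2_6 : T.a (y 2) (y 6) ≠ 0 := e
        have f_6_2 : T.a (y 6) (y 2) ≠ 0 := nsymm T f_2_6
        clear e ha
        exact (excl_D4t T h2 y hy ![2, 1, 3, 5, 6] (by decide) (by norm_num) f_2_1 f_2_3 f_2_5 f_2_6).elim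
      · have f_3_6 : T.a (y 3) (y 6) ≠ 0 := e
        have f_6_3 : T.a (y 6) (y 3) ≠ 0 := nsymm T f_3_6
        clear e ha
        exact (excl_D5t T h2 y hy ![1, 5, 2, 3, 4, 6] (by decide) (by norm_num) f_1_2 f_5_2 f_2_3 f_3_4 f_3_6).elim
      · have f_4_6 : T.a (y 4) (y 6) ≠ 0 := e
        have f_6_4 : T.a (y 6) (y 4) ≠ 0 := nsymm T f_4_6
        clear e ha
        obtain ⟨a, ha, e⟩ := hpar 7 (by norm_num) (by norm_num)
        have hc : a = 0 ∨ a = 1 ∨ a = 2 ∨ a = 3 ∨ a = 4 ∨ a = 5 ∨ a = 6 := by omega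
        rcases hc with rfl | rfl | rfl | rfl | rfl | rfl | rfl
        · have f_0_7 : T.a (y 0) (y 7) ≠ 0 := e
          have f_7_0 : T.a (y 7) (y 0) ≠ 0 := nsymm T f_0_7
          clear e ha
          exact shape8_T133 T h2 (fun i => y (![2, 5, 1, 0, 7, 3, 4, 6] i)) (hy.comp (by decide)) f_2_5 f_2_1 f_1_0 f_0_7 f_2_3 f_3_4 f_4_6
        · have f_1_7 : T.a (y 1) (y 7) ≠ 0 := e
          have f_7_1 : T.a (y 7) (y 1) ≠ 0 := nsymm T f_1_7
          clear e ha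
          exact (excl_D5t T h2 y hy ![0, 7, 1, 2, 3, 5] (by decide) (by norm_num) f_0_1 f_7_1 f_1_2 f_2_3 f_2_5).elim
        · have f_2_7 : T.a (y 2) (y 7) ≠ 0 := e
          have f_7_2 : T.a (y 7) (y 2) ≠ 0 := nsymm T f_2_7
          clear e ha
          exact (excl_D4t T h2 y hy ![2, 1, 3, 5, 7] (by decide) (by norm_num) f_2_1 f_2_3 f_2_5 f_2_7).elim
        · have f_3_7 : T.a (y 3) (y 7) ≠ 0 := e
          have f_7_3 : T.a (y 7) (y 3) ≠ 0 := nsymm T f_3_7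
          clear e ha
          exact (excl_D5t T h2 y hy ![1, 5, 2, 3, 4, 7] (by decide) (by norm_num) f_1_2 f_5_2 f_2_3 f_3_4 f_3_7).elim
        · have f_4_7 : T.a (y 4) (y 7) ≠ 0 := e
          have f_7_4 : T.a (y 7) (y 4) ≠ 0 := nsymm T f_4_7
          clear e ha
          exact (excl_D6t T h2 y hy ![1, 5, 2, 3, 4, 6, 7] (by decide) (by norm_num) f_1_2 f_5_2 f_2_3 f_3_4 f_4_6 f_4_7).elim
        · have f_5_7 : T.a (y 5) (y 7) ≠ 0 := e
          have f_7_5 : T.a (y 7) (y 5) ≠ 0 := nsymm T f_5_7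
          clear e ha
          exact (excl_E6t T h2 y hy ![2, 1, 0, 3, 4, 5, 7] (by decide) (by norm_num) f_2_1 f_1_0 f_2_3 f_3_4 f_2_5 f_5_7).elim
        · have f_6_7 : T.a (y 6) (y 7) ≠ 0 := e
          have f_7_6 : T.a (y 7) (y 6) ≠ 0 := nsymm T f_6_7
          clear e ha
          exact shape8_T124 T h2 (fun i => y (![2, 5, 1, 0, 3, 4, 6, 7] i)) (hy.comp (by decide)) f_2_5 f_2_1 f_1_0 f_2_3 f_3_4 f_4_6 f_6_7
      · have f_5_6 : T.a (y 5) (y 6) ≠ 0 := e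
        have f_6_5 : T.a (y 6) (y 5) ≠ 0 := nsymm T f_5_6
        clear e ha
        exact (excl_E6t T h2 y hy ![2, 1, 0, 3, 4, 5, 6] (by decide) (by norm_num) f_2_1 f_1_0 f_2_3 f_3_4 f_2_5 f_5_6).elim
    · have f_3_5 : T.a (y 3) (y 5) ≠ 0 := e
      have f_5_3 : T.a (y 5) (y 3) ≠ 0 := nsymm T f_3_5
      clear e ha
      obtain ⟨a, ha, e⟩ := hpar 6 (by norm_num) (by norm_num)
      have hc : a = 0 ∨ a = 1 ∨ a = 2 ∨ a = 3 ∨ a = 4 ∨ a = 5 := by omega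
      rcases hc with rfl | rfl | rfl | rfl | rfl | rfl
      · have f_0_6 : T.a (y 0) (y 6) ≠ 0 := e
        have f_6_0 : T.a (y 6) (y 0) ≠ 0 := nsymm T f_0_6
        clear e ha
        obtain ⟨a, ha, e⟩ := hpar 7 (by norm_num) (by norm_num)
        have hc : a = 0 ∨ a = 1 ∨ a = 2 ∨ a = 3 ∨ a = 4 ∨ a = 5 ∨ a = 6 := by omega
        rcases hc with rfl | rfl | rfl | rfl | rfl | rfl | rfl
        · have f_0_7 : T.a (y 0) (y 7) ≠ 0 := e
          have f_7_0 : T.a (y 7) (y 0) ≠ 0 := nsymm T f_0_7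
          clear e ha
          exact shape8_Dt T h2 (fun i => y (![4, 5, 3, 2, 1, 0, 6, 7] i)) (hy.comp (by decide)) f_4_3 f_5_3 f_3_2 f_2_1 f_1_0 f_0_6 f_0_7
        · have f_1_7 : T.a (y 1) (y 7) ≠ 0 := e
          have f_7_1 : T.a (y 7) (y 1) ≠ 0 := nsymm T f_1_7
          clear e ha
          exact (excl_D6t T h2 y hy ![0, 7, 1, 2, 3, 4, 5] (by decide) (by norm_num) f_0_1 f_7_1 f_1_2 f_2_3 f_3_4 f_3_5).elim
        · have f_2_7 : T.a (y 2) (y 7) ≠ 0 := e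
          have f_7_2 : T.a (y 7) (y 2) ≠ 0 := nsymm T f_2_7
          clear e ha
          exact (excl_D5t T h2 y hy ![1, 7, 2, 3, 4, 5] (by decide) (by norm_num) f_1_2 f_7_2 f_2_3 f_3_4 f_3_5).elim
        · have f_3_7 : T.a (y 3) (y 7) ≠ 0 := e
          have f_7_3 : T.a (y 7) (y 3) ≠ 0 := nsymm T f_3_7
          clear e ha
          exact (excl_D4t T h2 y hy ![3, 2, 4, 5, 7] (by decide) (by norm_num) f_3_2 f_3_4 f_3_5 f_3_7).elim
        · have f_4_7 : T.a (y 4) (y 7) ≠ 0 := e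
          have f_7_4 : T.a (y 7) (y 4) ≠ 0 := nsymm T f_4_7
          clear e ha
          exact shape8_T124 T h2 (fun i => y (![3, 5, 4, 7, 2, 1, 0, 6] i)) (hy.comp (by decide)) f_3_5 f_3_4 f_4_7 f_3_2 f_2_1 f_1_0 f_0_6
        · have f_5_7 : T.a (y 5) (y 7) ≠ 0 := e
          have f_7_5 : T.a (y 7) (y 5) ≠ 0 := nsymm T f_5_7
          clear e ha
          exact shape8_T124 T h2 (fun i => y (![3, 4, 5, 7, 2, 1, 0, 6] i)) (hy.comp (by decide)) f_3_4 f_3_5 f_5_7 f_3_2 f_2_1 f_1_0 f_0_6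
        · have f_6_7 : T.a (y 6) (y 7) ≠ 0 := e
          have f_7_6 : T.a (y 7) (y 6) ≠ 0 := nsymm T f_6_7
          clear e ha
          exact shape8_D T h2 (fun i => y (![3, 4, 5, 2, 1, 0, 6, 7] i)) (hy.comp (by decide)) f_3_4 f_3_5 f_3_2 f_2_1 f_1_0 f_0_6 f_6_7
      · have f_1_6 : T.a (y 1) (y 6) ≠ 0 := e
        have f_6_1 : T.a (y 6) (y 1) ≠ 0 := nsymm T f_1_6
        clear e ha
        exact (excl_D6t T h2 y hy ![0, 6, 1, 2, 3, 4, 5] (by decide) (by norm_num) f_0_1 f_6_1 f_1_2 f_2_3 f_3_4 f_3_5).elim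
      · have f_2_6 : T.a (y 2) (y 6) ≠ 0 := e
        have f_6_2 : T.a (y 6) (y 2) ≠ 0 := nsymm T f_2_6
        clear e ha
        exact (excl_D5t T h2 y hy ![1, 6, 2, 3, 4, 5] (by decide) (by norm_num) f_1_2 f_6_2 f_2_3 f_3_4 f_3_5).elim
      · have f_3_6 : T.a (y 3) (y 6) ≠ 0 := e
        have f_6_3 : T.a (y 6) (y 3) ≠ 0 := nsymm T f_3_6
        clear e ha
        exact (excl_D4t T h2 y hy ![3, 2, 4, 5, 6] (by decide) (by norm_num) f_3_2 f_3_4 f_3_5 f_3_6).elim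
      · have f_4_6 : T.a (y 4) (y 6) ≠ 0 := e
        have f_6_4 : T.a (y 6) (y 4) ≠ 0 := nsymm T f_4_6
        clear e ha
        obtain ⟨a, ha, e⟩ := hpar 7 (by norm_num) (by norm_num)
        have hc : a = 0 ∨ a = 1 ∨ a = 2 ∨ a = 3 ∨ a = 4 ∨ a = 5 ∨ a = 6 := by omega
        rcases hc with rfl | rfl | rfl | rfl | rfl | rfl | rfl
        · have f_0_7 : T.a (y 0) (y 7) ≠ 0 := e
          have f_7_0 : T.a (y 7) (y 0) ≠ 0 := nsymm T f_0_7
          clear e ha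
          exact shape8_T124 T h2 (fun i => y (![3, 5, 4, 6, 2, 1, 0, 7] i)) (hy.comp (by decide)) f_3_5 f_3_4 f_4_6 f_3_2 f_2_1 f_1_0 f_0_7
        · have f_1_7 : T.a (y 1) (y 7) ≠ 0 := e
          have f_7_1 : T.a (y 7) (y 1) ≠ 0 := nsymm T f_1_7
          clear e ha
          exact (excl_D6t T h2 y hy ![0, 7, 1, 2, 3, 4, 5] (by decide) (by norm_num) f_0_1 f_7_1 f_1_2 f_2_3 f_3_4 f_3_5).elim
        · have f_2_7 : T.a (y 2) (y 7) ≠ 0 := e
          have f_7_2 : T.a (y 7) (y 2) ≠ 0 := nsymm T f_2_7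
          clear e ha
          exact (excl_D5t T h2 y hy ![1, 7, 2, 3, 4, 5] (by decide) (by norm_num) f_1_2 f_7_2 f_2_3 f_3_4 f_3_5).elim
        · have f_3_7 : T.a (y 3) (y 7) ≠ 0 := e
          have f_7_3 : T.a (y 7) (y 3) ≠ 0 := nsymm T f_3_7
          clear e ha
          exact (excl_D4t T h2 y hy ![3, 2, 4, 5, 7] (by decide) (by norm_num) f_3_2 f_3_4 f_3_5 f_3_7).elim
        · have f_4_7 : T.a (y 4) (y 7) ≠ 0 := e
          have f_7_4 : T.a (y 7) (y 4) ≠ 0 := nsymm T f_4_7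
          clear e ha
          exact (excl_D5t T h2 y hy ![2, 5, 3, 4, 6, 7] (by decide) (by norm_num) f_2_3 f_5_3 f_3_4 f_4_6 f_4_7).elim
        · have f_5_7 : T.a (y 5) (y 7) ≠ 0 := e
          have f_7_5 : T.a (y 7) (y 5) ≠ 0 := nsymm T f_5_7
          clear e ha
          exact (excl_E6t T h2 y hy ![3, 2, 1, 4, 6, 5, 7] (by decide) (by norm_num) f_3_2 f_2_1 f_3_4 f_4_6 f_3_5 f_5_7).elim
        · have f_6_7 : T.a (y 6) (y 7) ≠ 0 := e
          have f_7_6 : T.a (y 7) (y 6) ≠ 0 := nsymm T f_6_7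
          clear e ha
          exact shape8_T133 T h2 (fun i => y (![3, 5, 2, 1, 0, 4, 6, 7] i)) (hy.comp (by decide)) f_3_5 f_3_2 f_2_1 f_1_0 f_3_4 f_4_6 f_6_7
      · have f_5_6 : T.a (y 5) (y 6) ≠ 0 := e
        have f_6_5 : T.a (y 6) (y 5) ≠ 0 := nsymm T f_5_6
        clear e ha
        obtain ⟨a, ha, e⟩ := hpar 7 (by norm_num) (by norm_num)
        have hc : a = 0 ∨ a = 1 ∨ a = 2 ∨ a = 3 ∨ a = 4 ∨ a = 5 ∨ a = 6 := by omega
        rcases hc with rfl | rfl | rfl | rfl | rfl | rfl | rfl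
        · have f_0_7 : T.a (y 0) (y 7) ≠ 0 := e
          have f_7_0 : T.a (y 7) (y 0) ≠ 0 := nsymm T f_0_7
          clear e ha
          exact shape8_T124 T h2 (fun i => y (![3, 4, 5, 6, 2, 1, 0, 7] i)) (hy.comp (by decide)) f_3_4 f_3_5 f_5_6 f_3_2 f_2_1 f_1_0 f_0_7
        · have f_1_7 : T.a (y 1) (y 7) ≠ 0 := e
          have f_7_1 : T.a (y 7) (y 1) ≠ 0 := nsymm T f_1_7
          clear e ha
          exact (excl_D6t T h2 y hy ![0, 7, 1, 2, 3, 4, 5] (by decide) (by norm_num) f_0_1 f_7_1 f_1_2 f_2_3 f_3_4 f_3_5).elim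
        · have f_2_7 : T.a (y 2) (y 7) ≠ 0 := e
          have f_7_2 : T.a (y 7) (y 2) ≠ 0 := nsymm T f_2_7
          clear e ha
          exact (excl_D5t T h2 y hy ![1, 7, 2, 3, 4, 5] (by decide) (by norm_num) f_1_2 f_7_2 f_2_3 f_3_4 f_3_5).elim
        · have f_3_7 : T.a (y 3) (y 7) ≠ 0 := e
          have f_7_3 : T.a (y 7) (y 3) ≠ 0 := nsymm T f_3_7
          clear e ha
          exact (excl_D4t T h2 y hy ![3, 2, 4, 5, 7] (by decide) (by norm_num) f_3_2 f_3_4 f_3_5 f_3_7).elim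
        · have f_4_7 : T.a (y 4) (y 7) ≠ 0 := e
          have f_7_4 : T.a (y 7) (y 4) ≠ 0 := nsymm T f_4_7
          clear e ha
          exact (excl_E6t T h2 y hy ![3, 2, 1, 4, 7, 5, 6] (by decide) (by norm_num) f_3_2 f_2_1 f_3_4 f_4_7 f_3_5 f_5_6).elim
        · have f_5_7 : T.a (y 5) (y 7) ≠ 0 := e
          have f_7_5 : T.a (y 7) (y 5) ≠ 0 := nsymm T f_5_7
          clear e ha
          exact (excl_D5t T h2 y hy ![2, 4, 3, 5, 6, 7] (by decide) (by norm_num) f_2_3 f_4_3 f_3_5 f_5_6 f_5_7).elim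
        · have f_6_7 : T.a (y 6) (y 7) ≠ 0 := e
          have f_7_6 : T.a (y 7) (y 6) ≠ 0 := nsymm T f_6_7
          clear e ha
          exact shape8_T133 T h2 (fun i => y (![3, 4, 2, 1, 0, 5, 6, 7] i)) (hy.comp (by decide)) f_3_4 f_3_2 f_2_1 f_1_0 f_3_5 f_5_6 f_6_7
    · have f_4_5 : T.a (y 4) (y 5) ≠ 0 := e
      have f_5_4 : T.a (y 5) (y 4) ≠ 0 := nsymm T f_4_5
      clear e ha
      obtain ⟨a, ha, e⟩ := hpar 6 (by norm_num) (by norm_num)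
      have hc : a = 0 ∨ a = 1 ∨ a = 2 ∨ a = 3 ∨ a = 4 ∨ a = 5 := by omega
      rcases hc with rfl | rfl | rfl | rfl | rfl | rfl
      · have f_0_6 : T.a (y 0) (y 6) ≠ 0 := e
        have f_6_0 : T.a (y 6) (y 0) ≠ 0 := nsymm T f_0_6
        clear e ha
        obtain ⟨a, ha, e⟩ := hpar 7 (by norm_num) (by norm_num)
        have hc : a = 0 ∨ a = 1 ∨ a = 2 ∨ a = 3 ∨ a = 4 ∨ a = 5 ∨ a = 6 := by omega
        rcases hc with rfl | rfl | rfl | rfl | rfl | rfl | rfl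
        · have f_0_7 : T.a (y 0) (y 7) ≠ 0 := e
          have f_7_0 : T.a (y 7) (y 0) ≠ 0 := nsymm T f_0_7
          clear e ha
          exact shape8_D T h2 (fun i => y (![0, 6, 7, 1, 2, 3, 4, 5] i)) (hy.comp (by decide)) f_0_6 f_0_7 f_0_1 f_1_2 f_2_3 f_3_4 f_4_5
        · have f_1_7 : T.a (y 1) (y 7) ≠ 0 := e
          have f_7_1 : T.a (y 7) (y 1) ≠ 0 := nsymm T f_1_7
          clear e ha
          exact shape8_T124 T h2 (fun i => y (![1, 7, 0, 6, 2, 3, 4, 5] i)) (hy.comp (by decide)) f_1_7 f_1_0 f_0_6 f_1_2 f_2_3 f_3_4 f_4_5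
        · have f_2_7 : T.a (y 2) (y 7) ≠ 0 := e
          have f_7_2 : T.a (y 7) (y 2) ≠ 0 := nsymm T f_2_7
          clear e ha
          exact shape8_T133 T h2 (fun i => y (![2, 7, 1, 0, 6, 3, 4, 5] i)) (hy.comp (by decide)) f_2_7 f_2_1 f_1_0 f_0_6 f_2_3 f_3_4 f_4_5
        · have f_3_7 : T.a (y 3) (y 7) ≠ 0 := e
          have f_7_3 : T.a (y 7) (y 3) ≠ 0 := nsymm T f_3_7
          clear e ha
          exact shape8_T124 T h2 (fun i => y (![3, 7, 4, 5, 2, 1, 0, 6] i)) (hy.comp (by decide)) f_3_7 f_3_4 f_4_5 f_3_2 f_2_1 f_1_0 f_0_6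
        · have f_4_7 : T.a (y 4) (y 7) ≠ 0 := e
          have f_7_4 : T.a (y 7) (y 4) ≠ 0 := nsymm T f_4_7
          clear e ha
          exact shape8_D T h2 (fun i => y (![4, 5, 7, 3, 2, 1, 0, 6] i)) (hy.comp (by decide)) f_4_5 f_4_7 f_4_3 f_3_2 f_2_1 f_1_0 f_0_6
        · have f_5_7 : T.a (y 5) (y 7) ≠ 0 := e
          have f_7_5 : T.a (y 7) (y 5) ≠ 0 := nsymm T f_5_7
          clear e ha
          exact shape8_path T h2 (fun i => y (![6, 0, 1, 2, 3, 4, 5, 7] i)) (hy.comp (by decide)) f_6_0 f_0_1 f_1_2 f_2_3 f_3_4 f_4_5 f_5_7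
        · have f_6_7 : T.a (y 6) (y 7) ≠ 0 := e
          have f_7_6 : T.a (y 7) (y 6) ≠ 0 := nsymm T f_6_7
          clear e ha
          exact shape8_path T h2 (fun i => y (![5, 4, 3, 2, 1, 0, 6, 7] i)) (hy.comp (by decide)) f_5_4 f_4_3 f_3_2 f_2_1 f_1_0 f_0_6 f_6_7
      · have f_1_6 : T.a (y 1) (y 6) ≠ 0 := e
        have f_6_1 : T.a (y 6) (y 1) ≠ 0 := nsymm T f_1_6
        clear e ha
        obtain ⟨a, ha, e⟩ := hpar 7 (by norm_num) (by norm_num)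
        have hc : a = 0 ∨ a = 1 ∨ a = 2 ∨ a = 3 ∨ a = 4 ∨ a = 5 ∨ a = 6 := by omega
        rcases hc with rfl | rfl | rfl | rfl | rfl | rfl | rfl
        · have f_0_7 : T.a (y 0) (y 7) ≠ 0 := e
          have f_7_0 : T.a (y 7) (y 0) ≠ 0 := nsymm T f_0_7
          clear e ha
          exact shape8_T124 T h2 (fun i => y (![1, 6, 0, 7, 2, 3, 4, 5] i)) (hy.comp (by decide)) f_1_6 f_1_0 f_0_7 f_1_2 f_2_3 f_3_4 f_4_5
        · have f_1_7 : T.a (y 1) (y 7) ≠ 0 := e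
          have f_7_1 : T.a (y 7) (y 1) ≠ 0 := nsymm T f_1_7
          clear e ha
          exact (excl_D4t T h2 y hy ![1, 0, 2, 6, 7] (by decide) (by norm_num) f_1_0 f_1_2 f_1_6 f_1_7).elim
        · have f_2_7 : T.a (y 2) (y 7) ≠ 0 := e
          have f_7_2 : T.a (y 7) (y 2) ≠ 0 := nsymm T f_2_7
          clear e ha
          exact (excl_D5t T h2 y hy ![0, 6, 1, 2, 3, 7] (by decide) (by norm_num) f_0_1 f_6_1 f_1_2 f_2_3 f_2_7).elim
        · have f_3_7 : T.a (y 3) (y 7) ≠ 0 := e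
          have f_7_3 : T.a (y 7) (y 3) ≠ 0 := nsymm T f_3_7
          clear e ha
          exact (excl_D6t T h2 y hy ![0, 6, 1, 2, 3, 4, 7] (by decide) (by norm_num) f_0_1 f_6_1 f_1_2 f_2_3 f_3_4 f_3_7).elim
        · have f_4_7 : T.a (y 4) (y 7) ≠ 0 := e
          have f_7_4 : T.a (y 7) (y 4) ≠ 0 := nsymm T f_4_7
          clear e ha
          exact shape8_Dt T h2 (fun i => y (![0, 6, 1, 2, 3, 4, 5, 7] i)) (hy.comp (by decide)) f_0_1 f_6_1 f_1_2 f_2_3 f_3_4 f_4_5 f_4_7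
        · have f_5_7 : T.a (y 5) (y 7) ≠ 0 := e
          have f_7_5 : T.a (y 7) (y 5) ≠ 0 := nsymm T f_5_7
          clear e ha
          exact shape8_D T h2 (fun i => y (![1, 0, 6, 2, 3, 4, 5, 7] i)) (hy.comp (by decide)) f_1_0 f_1_6 f_1_2 f_2_3 f_3_4 f_4_5 f_5_7
        · have f_6_7 : T.a (y 6) (y 7) ≠ 0 := e
          have f_7_6 : T.a (y 7) (y 6) ≠ 0 := nsymm T f_6_7
          clear e ha
          exact shape8_T124 T h2 (fun i => y (![1, 0, 6, 7, 2, 3, 4, 5] i)) (hy.comp (by decide)) f_1_0 f_1_6 f_6_7 f_1_2 f_2_3 f_3_4 f_4_5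
      · have f_2_6 : T.a (y 2) (y 6) ≠ 0 := e
        have f_6_2 : T.a (y 6) (y 2) ≠ 0 := nsymm T f_2_6
        clear e ha
        obtain ⟨a, ha, e⟩ := hpar 7 (by norm_num) (by norm_num)
        have hc : a = 0 ∨ a = 1 ∨ a = 2 ∨ a = 3 ∨ a = 4 ∨ a = 5 ∨ a = 6 := by omega
        rcases hc with rfl | rfl | rfl | rfl | rfl | rfl | rfl
        · have f_0_7 : T.a (y 0) (y 7) ≠ 0 := e
          have f_7_0 : T.a (y 7) (y 0) ≠ 0 := nsymm T f_0_7
          clear e ha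
          exact shape8_T133 T h2 (fun i => y (![2, 6, 1, 0, 7, 3, 4, 5] i)) (hy.comp (by decide)) f_2_6 f_2_1 f_1_0 f_0_7 f_2_3 f_3_4 f_4_5
        · have f_1_7 : T.a (y 1) (y 7) ≠ 0 := e
          have f_7_1 : T.a (y 7) (y 1) ≠ 0 := nsymm T f_1_7
          clear e ha
          exact (excl_D5t T h2 y hy ![0, 7, 1, 2, 3, 6] (by decide) (by norm_num) f_0_1 f_7_1 f_1_2 f_2_3 f_2_6).elim
        · have f_2_7 : T.a (y 2) (y 7) ≠ 0 := e
          have f_7_2 : T.a (y 7) (y 2) ≠ 0 := nsymm T f_2_7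
          clear e ha
          exact (excl_D4t T h2 y hy ![2, 1, 3, 6, 7] (by decide) (by norm_num) f_2_1 f_2_3 f_2_6 f_2_7).elim
        · have f_3_7 : T.a (y 3) (y 7) ≠ 0 := e
          have f_7_3 : T.a (y 7) (y 3) ≠ 0 := nsymm T f_3_7
          clear e ha
          exact (excl_D5t T h2 y hy ![1, 6, 2, 3, 4, 7] (by decide) (by norm_num) f_1_2 f_6_2 f_2_3 f_3_4 f_3_7).elim
        · have f_4_7 : T.a (y 4) (y 7) ≠ 0 := e
          have f_7_4 : T.a (y 7) (y 4) ≠ 0 := nsymm T f_4_7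
          clear e ha
          exact (excl_D6t T h2 y hy ![1, 6, 2, 3, 4, 5, 7] (by decide) (by norm_num) f_1_2 f_6_2 f_2_3 f_3_4 f_4_5 f_4_7).elim
        · have f_5_7 : T.a (y 5) (y 7) ≠ 0 := e
          have f_7_5 : T.a (y 7) (y 5) ≠ 0 := nsymm T f_5_7
          clear e ha
          exact shape8_T124 T h2 (fun i => y (![2, 6, 1, 0, 3, 4, 5, 7] i)) (hy.comp (by decide)) f_2_6 f_2_1 f_1_0 f_2_3 f_3_4 f_4_5 f_5_7
        · have f_6_7 : T.a (y 6) (y 7) ≠ 0 := e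
          have f_7_6 : T.a (y 7) (y 6) ≠ 0 := nsymm T f_6_7
          clear e ha
          exact (excl_E6t T h2 y hy ![2, 1, 0, 3, 4, 6, 7] (by decide) (by norm_num) f_2_1 f_1_0 f_2_3 f_3_4 f_2_6 f_6_7).elim
      · have f_3_6 : T.a (y 3) (y 6) ≠ 0 := e
        have f_6_3 : T.a (y 6) (y 3) ≠ 0 := nsymm T f_3_6
        clear e ha
        obtain ⟨a, ha, e⟩ := hpar 7 (by norm_num) (by norm_num)
        have hc : a = 0 ∨ a = 1 ∨ a = 2 ∨ a = 3 ∨ a = 4 ∨ a = 5 ∨ a = 6 := by omega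
        rcases hc with rfl | rfl | rfl | rfl | rfl | rfl | rfl
        · have f_0_7 : T.a (y 0) (y 7) ≠ 0 := e
          have f_7_0 : T.a (y 7) (y 0) ≠ 0 := nsymm T f_0_7
          clear e ha
          exact shape8_T124 T h2 (fun i => y (![3, 6, 4, 5, 2, 1, 0, 7] i)) (hy.comp (by decide)) f_3_6 f_3_4 f_4_5 f_3_2 f_2_1 f_1_0 f_0_7
        · have f_1_7 : T.a (y 1) (y 7) ≠ 0 := e
          have f_7_1 : T.a (y 7) (y 1) ≠ 0 := nsymm T f_1_7
          clear e ha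
          exact (excl_D6t T h2 y hy ![0, 7, 1, 2, 3, 4, 6] (by decide) (by norm_num) f_0_1 f_7_1 f_1_2 f_2_3 f_3_4 f_3_6).elim
        · have f_2_7 : T.a (y 2) (y 7) ≠ 0 := e
          have f_7_2 : T.a (y 7) (y 2) ≠ 0 := nsymm T f_2_7
          clear e ha
          exact (excl_D5t T h2 y hy ![1, 7, 2, 3, 4, 6] (by decide) (by norm_num) f_1_2 f_7_2 f_2_3 f_3_4 f_3_6).elim
        · have f_3_7 : T.a (y 3) (y 7) ≠ 0 := e
          have f_7_3 : T.a (y 7) (y 3) ≠ 0 := nsymm T f_3_7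
          clear e ha
          exact (excl_D4t T h2 y hy ![3, 2, 4, 6, 7] (by decide) (by norm_num) f_3_2 f_3_4 f_3_6 f_3_7).elim
        · have f_4_7 : T.a (y 4) (y 7) ≠ 0 := e
          have f_7_4 : T.a (y 7) (y 4) ≠ 0 := nsymm T f_4_7
          clear e ha
          exact (excl_D5t T h2 y hy ![2, 6, 3, 4, 5, 7] (by decide) (by norm_num) f_2_3 f_6_3 f_3_4 f_4_5 f_4_7).elim
        · have f_5_7 : T.a (y 5) (y 7) ≠ 0 := e
          have f_7_5 : T.a (y 7) (y 5) ≠ 0 := nsymm T f_5_7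
          clear e ha
          exact shape8_T133 T h2 (fun i => y (![3, 6, 2, 1, 0, 4, 5, 7] i)) (hy.comp (by decide)) f_3_6 f_3_2 f_2_1 f_1_0 f_3_4 f_4_5 f_5_7
        · have f_6_7 : T.a (y 6) (y 7) ≠ 0 := e
          have f_7_6 : T.a (y 7) (y 6) ≠ 0 := nsymm T f_6_7
          clear e ha
          exact (excl_E6t T h2 y hy ![3, 2, 1, 4, 5, 6, 7] (by decide) (by norm_num) f_3_2 f_2_1 f_3_4 f_4_5 f_3_6 f_6_7).elim
      · have f_4_6 : T.a (y 4) (y 6) ≠ 0 := e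
        have f_6_4 : T.a (y 6) (y 4) ≠ 0 := nsymm T f_4_6
        clear e ha
        obtain ⟨a, ha, e⟩ := hpar 7 (by norm_num) (by norm_num)
        have hc : a = 0 ∨ a = 1 ∨ a = 2 ∨ a = 3 ∨ a = 4 ∨ a = 5 ∨ a = 6 := by omega
        rcases hc with rfl | rfl | rfl | rfl | rfl | rfl | rfl
        · have f_0_7 : T.a (y 0) (y 7) ≠ 0 := e
          have f_7_0 : T.a (y 7) (y 0) ≠ 0 := nsymm T f_0_7
          clear e ha
          exact shape8_D T h2 (fun i => y (![4, 5, 6, 3, 2, 1, 0, 7] i)) (hy.comp (by decide)) f_4_5 f_4_6 f_4_3 f_3_2 f_2_1 f_1_0 f_0_7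
        · have f_1_7 : T.a (y 1) (y 7) ≠ 0 := e
          have f_7_1 : T.a (y 7) (y 1) ≠ 0 := nsymm T f_1_7
          clear e ha
          exact shape8_Dt T h2 (fun i => y (![0, 7, 1, 2, 3, 4, 5, 6] i)) (hy.comp (by decide)) f_0_1 f_7_1 f_1_2 f_2_3 f_3_4 f_4_5 f_4_6
        · have f_2_7 : T.a (y 2) (y 7) ≠ 0 := e
          have f_7_2 : T.a (y 7) (y 2) ≠ 0 := nsymm T f_2_7
          clear e ha
          exact (excl_D6t T h2 y hy ![1, 7, 2, 3, 4, 5, 6] (by decide) (by norm_num) f_1_2 f_7_2 f_2_3 f_3_4 f_4_5 f_4_6).elim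
        · have f_3_7 : T.a (y 3) (y 7) ≠ 0 := e
          have f_7_3 : T.a (y 7) (y 3) ≠ 0 := nsymm T f_3_7
          clear e ha
          exact (excl_D5t T h2 y hy ![2, 7, 3, 4, 5, 6] (by decide) (by norm_num) f_2_3 f_7_3 f_3_4 f_4_5 f_4_6).elim
        · have f_4_7 : T.a (y 4) (y 7) ≠ 0 := e
          have f_7_4 : T.a (y 7) (y 4) ≠ 0 := nsymm T f_4_7
          clear e ha
          exact (excl_D4t T h2 y hy ![4, 3, 5, 6, 7] (by decide) (by norm_num) f_4_3 f_4_5 f_4_6 f_4_7).elim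
        · have f_5_7 : T.a (y 5) (y 7) ≠ 0 := e
          have f_7_5 : T.a (y 7) (y 5) ≠ 0 := nsymm T f_5_7
          clear e ha
          exact shape8_T124 T h2 (fun i => y (![4, 6, 5, 7, 3, 2, 1, 0] i)) (hy.comp (by decide)) f_4_6 f_4_5 f_5_7 f_4_3 f_3_2 f_2_1 f_1_0
        · have f_6_7 : T.a (y 6) (y 7) ≠ 0 := e
          have f_7_6 : T.a (y 7) (y 6) ≠ 0 := nsymm T f_6_7
          clear e ha
          exact shape8_T124 T h2 (fun i => y (![4, 5, 6, 7, 3, 2, 1, 0] i)) (hy.comp (by decide)) f_4_5 f_4_6 f_6_7 f_4_3 f_3_2 f_2_1 f_1_0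
      · have f_5_6 : T.a (y 5) (y 6) ≠ 0 := e
        have f_6_5 : T.a (y 6) (y 5) ≠ 0 := nsymm T f_5_6
        clear e ha
        obtain ⟨a, ha, e⟩ := hpar 7 (by norm_num) (by norm_num)
        have hc : a = 0 ∨ a = 1 ∨ a = 2 ∨ a = 3 ∨ a = 4 ∨ a = 5 ∨ a = 6 := by omega
        rcases hc with rfl | rfl | rfl | rfl | rfl | rfl | rfl
        · have f_0_7 : T.a (y 0) (y 7) ≠ 0 := e
          have f_7_0 : T.a (y 7) (y 0) ≠ 0 := nsymm T f_0_7
          clear e ha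
          exact shape8_path T h2 (fun i => y (![6, 5, 4, 3, 2, 1, 0, 7] i)) (hy.comp (by decide)) f_6_5 f_5_4 f_4_3 f_3_2 f_2_1 f_1_0 f_0_7
        · have f_1_7 : T.a (y 1) (y 7) ≠ 0 := e
          have f_7_1 : T.a (y 7) (y 1) ≠ 0 := nsymm T f_1_7
          clear e ha
          exact shape8_D T h2 (fun i => y (![1, 0, 7, 2, 3, 4, 5, 6] i)) (hy.comp (by decide)) f_1_0 f_1_7 f_1_2 f_2_3 f_3_4 f_4_5 f_5_6
        · have f_2_7 : T.a (y 2) (y 7) ≠ 0 := e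
          have f_7_2 : T.a (y 7) (y 2) ≠ 0 := nsymm T f_2_7
          clear e ha
          exact shape8_T124 T h2 (fun i => y (![2, 7, 1, 0, 3, 4, 5, 6] i)) (hy.comp (by decide)) f_2_7 f_2_1 f_1_0 f_2_3 f_3_4 f_4_5 f_5_6
        · have f_3_7 : T.a (y 3) (y 7) ≠ 0 := e
          have f_7_3 : T.a (y 7) (y 3) ≠ 0 := nsymm T f_3_7
          clear e ha
          exact shape8_T133 T h2 (fun i => y (![3, 7, 2, 1, 0, 4, 5, 6] i)) (hy.comp (by decide)) f_3_7 f_3_2 f_2_1 f_1_0 f_3_4 f_4_5 f_5_6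
        · have f_4_7 : T.a (y 4) (y 7) ≠ 0 := e
          have f_7_4 : T.a (y 7) (y 4) ≠ 0 := nsymm T f_4_7
          clear e ha
          exact shape8_T124 T h2 (fun i => y (![4, 7, 5, 6, 3, 2, 1, 0] i)) (hy.comp (by decide)) f_4_7 f_4_5 f_5_6 f_4_3 f_3_2 f_2_1 f_1_0
        · have f_5_7 : T.a (y 5) (y 7) ≠ 0 := e
          have f_7_5 : T.a (y 7) (y 5) ≠ 0 := nsymm T f_5_7
          clear e ha
          exact shape8_D T h2 (fun i => y (![5, 6, 7, 4, 3, 2, 1, 0] i)) (hy.comp (by decide)) f_5_6 f_5_7 f_5_4 f_4_3 f_3_2 f_2_1 f_1_0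
        · have f_6_7 : T.a (y 6) (y 7) ≠ 0 := e
          have f_7_6 : T.a (y 7) (y 6) ≠ 0 := nsymm T f_6_7
          clear e ha
          exact shape8_path T h2 (fun i => y (![0, 1, 2, 3, 4, 5, 6, 7] i)) (hy.comp (by decide)) f_0_1 f_1_2 f_2_3 f_3_4 f_4_5 f_5_6 f_6_7

theorem disp8_011 (T : Models.NumericalType 8) (h2 : ∀ i, T.IsMinusTwo i)
    (y : Fin 8 → Fin 8) (hy : Function.Injective y)
    (hpar : ∀ (k : ℕ) (hk : k < 8), 0 < k → ∃ (a : ℕ) (ha : a < k), T.a (y ⟨a, by omega⟩) (y ⟨k, hk⟩) ≠ 0)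
    (f_0_1 : T.a (y 0) (y 1) ≠ 0) (f_1_0 : T.a (y 1) (y 0) ≠ 0) (f_1_2 : T.a (y 1) (y 2) ≠ 0) (f_2_1 : T.a (y 2) (y 1) ≠ 0) (f_1_3 : T.a (y 1) (y 3) ≠ 0) (f_3_1 : T.a (y 3) (y 1) ≠ 0) : Goal8 T := by
  obtain ⟨a, ha, e⟩ := hpar 4 (by norm_num) (by norm_num)
  have hc : a = 0 ∨ a = 1 ∨ a = 2 ∨ a = 3 := by omega
  rcases hc with rfl | rfl | rfl | rfl
  · have f_0_4 : T.a (y 0) (y 4) ≠ 0 := e
    have f_4_0 : T.a (y 4) (y 0) ≠ 0 := nsymm T f_0_4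
    clear e ha
    obtain ⟨a, ha, e⟩ := hpar 5 (by norm_num) (by norm_num)
    have hc : a = 0 ∨ a = 1 ∨ a = 2 ∨ a = 3 ∨ a = 4 := by omega
    rcases hc with rfl | rfl | rfl | rfl | rfl
    · have f_0_5 : T.a (y 0) (y 5) ≠ 0 := e
      have f_5_0 : T.a (y 5) (y 0) ≠ 0 := nsymm T f_0_5
      clear e ha
      exact (excl_D5t T h2 y hy ![2, 3, 1, 0, 4, 5] (by decide) (by norm_num) f_2_1 f_3_1 f_1_0 f_0_4 f_0_5).elim
    · have f_1_5 : T.a (y 1) (y 5) ≠ 0 := e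
      have f_5_1 : T.a (y 5) (y 1) ≠ 0 := nsymm T f_1_5
      clear e ha
      exact (excl_D4t T h2 y hy ![1, 0, 2, 3, 5] (by decide) (by norm_num) f_1_0 f_1_2 f_1_3 f_1_5).elim
    · have f_2_5 : T.a (y 2) (y 5) ≠ 0 := e
      have f_5_2 : T.a (y 5) (y 2) ≠ 0 := nsymm T f_2_5
      clear e ha
      obtain ⟨a, ha, e⟩ := hpar 6 (by norm_num) (by norm_num)
      have hc : a = 0 ∨ a = 1 ∨ a = 2 ∨ a = 3 ∨ a = 4 ∨ a = 5 := by omega
      rcases hc with rfl | rfl | rfl | rfl | rfl | rfl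
      · have f_0_6 : T.a (y 0) (y 6) ≠ 0 := e
        have f_6_0 : T.a (y 6) (y 0) ≠ 0 := nsymm T f_0_6
        clear e ha
        exact (excl_D5t T h2 y hy ![2, 3, 1, 0, 4, 6] (by decide) (by norm_num) f_2_1 f_3_1 f_1_0 f_0_4 f_0_6).elim
      · have f_1_6 : T.a (y 1) (y 6) ≠ 0 := e
        have f_6_1 : T.a (y 6) (y 1) ≠ 0 := nsymm T f_1_6
        clear e ha
        exact (excl_D4t T h2 y hy ![1, 0, 2, 3, 6] (by decide) (by norm_num) f_1_0 f_1_2 f_1_3 f_1_6).elim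
      · have f_2_6 : T.a (y 2) (y 6) ≠ 0 := e
        have f_6_2 : T.a (y 6) (y 2) ≠ 0 := nsymm T f_2_6
        clear e ha
        exact (excl_D5t T h2 y hy ![0, 3, 1, 2, 5, 6] (by decide) (by norm_num) f_0_1 f_3_1 f_1_2 f_2_5 f_2_6).elim
      · have f_3_6 : T.a (y 3) (y 6) ≠ 0 := e
        have f_6_3 : T.a (y 6) (y 3) ≠ 0 := nsymm T f_3_6
        clear e ha
        exact (excl_E6t T h2 y hy ![1, 0, 4, 2, 5, 3, 6] (by decide) (by norm_num) f_1_0 f_0_4 f_1_2 f_2_5 f_1_3 f_3_6).elim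
      · have f_4_6 : T.a (y 4) (y 6) ≠ 0 := e
        have f_6_4 : T.a (y 6) (y 4) ≠ 0 := nsymm T f_4_6
        clear e ha
        obtain ⟨a, ha, e⟩ := hpar 7 (by norm_num) (by norm_num)
        have hc : a = 0 ∨ a = 1 ∨ a = 2 ∨ a = 3 ∨ a = 4 ∨ a = 5 ∨ a = 6 := by omega
        rcases hc with rfl | rfl | rfl | rfl | rfl | rfl | rfl
        · have f_0_7 : T.a (y 0) (y 7) ≠ 0 := e
          have f_7_0 : T.a (y 7) (y 0) ≠ 0 := nsymm T f_0_7
          clear e ha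
          exact (excl_D5t T h2 y hy ![2, 3, 1, 0, 4, 7] (by decide) (by norm_num) f_2_1 f_3_1 f_1_0 f_0_4 f_0_7).elim
        · have f_1_7 : T.a (y 1) (y 7) ≠ 0 := e
          have f_7_1 : T.a (y 7) (y 1) ≠ 0 := nsymm T f_1_7
          clear e ha
          exact (excl_D4t T h2 y hy ![1, 0, 2, 3, 7] (by decide) (by norm_num) f_1_0 f_1_2 f_1_3 f_1_7).elim
        · have f_2_7 : T.a (y 2) (y 7) ≠ 0 := e
          have f_7_2 : T.a (y 7) (y 2) ≠ 0 := nsymm T f_2_7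
          clear e ha
          exact (excl_D5t T h2 y hy ![0, 3, 1, 2, 5, 7] (by decide) (by norm_num) f_0_1 f_3_1 f_1_2 f_2_5 f_2_7).elim
        · have f_3_7 : T.a (y 3) (y 7) ≠ 0 := e
          have f_7_3 : T.a (y 7) (y 3) ≠ 0 := nsymm T f_3_7
          clear e ha
          exact (excl_E6t T h2 y hy ![1, 0, 4, 2, 5, 3, 7] (by decide) (by norm_num) f_1_0 f_0_4 f_1_2 f_2_5 f_1_3 f_3_7).elim
        · have f_4_7 : T.a (y 4) (y 7) ≠ 0 := e
          have f_7_4 : T.a (y 7) (y 4) ≠ 0 := nsymm T f_4_7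
          clear e ha
          exact (excl_D6t T h2 y hy ![2, 3, 1, 0, 4, 6, 7] (by decide) (by norm_num) f_2_1 f_3_1 f_1_0 f_0_4 f_4_6 f_4_7).elim
        · have f_5_7 : T.a (y 5) (y 7) ≠ 0 := e
          have f_7_5 : T.a (y 7) (y 5) ≠ 0 := nsymm T f_5_7
          clear e ha
          exact shape8_T133 T h2 (fun i => y (![1, 3, 0, 4, 6, 2, 5, 7] i)) (hy.comp (by decide)) f_1_3 f_1_0 f_0_4 f_4_6 f_1_2 f_2_5 f_5_7
        · have f_6_7 : T.a (y 6) (y 7) ≠ 0 := e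
          have f_7_6 : T.a (y 7) (y 6) ≠ 0 := nsymm T f_6_7
          clear e ha
          exact shape8_T124 T h2 (fun i => y (![1, 3, 2, 5, 0, 4, 6, 7] i)) (hy.comp (by decide)) f_1_3 f_1_2 f_2_5 f_1_0 f_0_4 f_4_6 f_6_7
      · have f_5_6 : T.a (y 5) (y 6) ≠ 0 := e
        have f_6_5 : T.a (y 6) (y 5) ≠ 0 := nsymm T f_5_6
        clear e ha
        obtain ⟨a, ha, e⟩ := hpar 7 (by norm_num) (by norm_num)
        have hc : a = 0 ∨ a = 1 ∨ a = 2 ∨ a = 3 ∨ a = 4 ∨ a = 5 ∨ a = 6 := by omega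
        rcases hc with rfl | rfl | rfl | rfl | rfl | rfl | rfl
        · have f_0_7 : T.a (y 0) (y 7) ≠ 0 := e
          have f_7_0 : T.a (y 7) (y 0) ≠ 0 := nsymm T f_0_7
          clear e ha
          exact (excl_D5t T h2 y hy ![2, 3, 1, 0, 4, 7] (by decide) (by norm_num) f_2_1 f_3_1 f_1_0 f_0_4 f_0_7).elim
        · have f_1_7 : T.a (y 1) (y 7) ≠ 0 := e
          have f_7_1 : T.a (y 7) (y 1) ≠ 0 := nsymm T f_1_7
          clear e ha
          exact (excl_D4t T h2 y hy ![1, 0, 2, 3, 7] (by decide) (by norm_num) f_1_0 f_1_2 f_1_3 f_1_7).elim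
        · have f_2_7 : T.a (y 2) (y 7) ≠ 0 := e
          have f_7_2 : T.a (y 7) (y 2) ≠ 0 := nsymm T f_2_7
          clear e ha
          exact (excl_D5t T h2 y hy ![0, 3, 1, 2, 5, 7] (by decide) (by norm_num) f_0_1 f_3_1 f_1_2 f_2_5 f_2_7).elim
        · have f_3_7 : T.a (y 3) (y 7) ≠ 0 := e
          have f_7_3 : T.a (y 7) (y 3) ≠ 0 := nsymm T f_3_7
          clear e ha
          exact (excl_E6t T h2 y hy ![1, 0, 4, 2, 5, 3, 7] (by decide) (by norm_num) f_1_0 f_0_4 f_1_2 f_2_5 f_1_3 f_3_7).elim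
        · have f_4_7 : T.a (y 4) (y 7) ≠ 0 := e
          have f_7_4 : T.a (y 7) (y 4) ≠ 0 := nsymm T f_4_7
          clear e ha
          exact shape8_T133 T h2 (fun i => y (![1, 3, 0, 4, 7, 2, 5, 6] i)) (hy.comp (by decide)) f_1_3 f_1_0 f_0_4 f_4_7 f_1_2 f_2_5 f_5_6
        · have f_5_7 : T.a (y 5) (y 7) ≠ 0 := e
          have f_7_5 : T.a (y 7) (y 5) ≠ 0 := nsymm T f_5_7
          clear e ha
          exact (excl_D6t T h2 y hy ![0, 3, 1, 2, 5, 6, 7] (by decide) (by norm_num) f_0_1 f_3_1 f_1_2 f_2_5 f_5_6 f_5_7).elim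
        · have f_6_7 : T.a (y 6) (y 7) ≠ 0 := e
          have f_7_6 : T.a (y 7) (y 6) ≠ 0 := nsymm T f_6_7
          clear e ha
          exact shape8_T124 T h2 (fun i => y (![1, 3, 0, 4, 2, 5, 6, 7] i)) (hy.comp (by decide)) f_1_3 f_1_0 f_0_4 f_1_2 f_2_5 f_5_6 f_6_7
    · have f_3_5 : T.a (y 3) (y 5) ≠ 0 := e
      have f_5_3 : T.a (y 5) (y 3) ≠ 0 := nsymm T f_3_5
      clear e ha
      obtain ⟨a, ha, e⟩ := hpar 6 (by norm_num) (by norm_num)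
      have hc : a = 0 ∨ a = 1 ∨ a = 2 ∨ a = 3 ∨ a = 4 ∨ a = 5 := by omega
      rcases hc with rfl | rfl | rfl | rfl | rfl | rfl
      · have f_0_6 : T.a (y 0) (y 6) ≠ 0 := e
        have f_6_0 : T.a (y 6) (y 0) ≠ 0 := nsymm T f_0_6
        clear e ha
        exact (excl_D5t T h2 y hy ![2, 3, 1, 0, 4, 6] (by decide) (by norm_num) f_2_1 f_3_1 f_1_0 f_0_4 f_0_6).elim
      · have f_1_6 : T.a (y 1) (y 6) ≠ 0 := e
        have f_6_1 : T.a (y 6) (y 1) ≠ 0 := nsymm T f_1_6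
        clear e ha
        exact (excl_D4t T h2 y hy ![1, 0, 2, 3, 6] (by decide) (by norm_num) f_1_0 f_1_2 f_1_3 f_1_6).elim
      · have f_2_6 : T.a (y 2) (y 6) ≠ 0 := e
        have f_6_2 : T.a (y 6) (y 2) ≠ 0 := nsymm T f_2_6
        clear e ha
        exact (excl_E6t T h2 y hy ![1, 0, 4, 2, 6, 3, 5] (by decide) (by norm_num) f_1_0 f_0_4 f_1_2 f_2_6 f_1_3 f_3_5).elim
      · have f_3_6 : T.a (y 3) (y 6) ≠ 0 := e
        have f_6_3 : T.a (y 6) (y 3) ≠ 0 := nsymm T f_3_6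
        clear e ha
        exact (excl_D5t T h2 y hy ![0, 2, 1, 3, 5, 6] (by decide) (by norm_num) f_0_1 f_2_1 f_1_3 f_3_5 f_3_6).elim
      · have f_4_6 : T.a (y 4) (y 6) ≠ 0 := e
        have f_6_4 : T.a (y 6) (y 4) ≠ 0 := nsymm T f_4_6
        clear e ha
        obtain ⟨a, ha, e⟩ := hpar 7 (by norm_num) (by norm_num)
        have hc : a = 0 ∨ a = 1 ∨ a = 2 ∨ a = 3 ∨ a = 4 ∨ a = 5 ∨ a = 6 := by omega
        rcases hc with rfl | rfl | rfl | rfl | rfl | rfl | rfl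
        · have f_0_7 : T.a (y 0) (y 7) ≠ 0 := e
          have f_7_0 : T.a (y 7) (y 0) ≠ 0 := nsymm T f_0_7
          clear e ha
          exact (excl_D5t T h2 y hy ![2, 3, 1, 0, 4, 7] (by decide) (by norm_num) f_2_1 f_3_1 f_1_0 f_0_4 f_0_7).elim
        · have f_1_7 : T.a (y 1) (y 7) ≠ 0 := e
          have f_7_1 : T.a (y 7) (y 1) ≠ 0 := nsymm T f_1_7
          clear e ha
          exact (excl_D4t T h2 y hy ![1, 0, 2, 3, 7] (by decide) (by norm_num) f_1_0 f_1_2 f_1_3 f_1_7).elim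
        · have f_2_7 : T.a (y 2) (y 7) ≠ 0 := e
          have f_7_2 : T.a (y 7) (y 2) ≠ 0 := nsymm T f_2_7
          clear e ha
          exact (excl_E6t T h2 y hy ![1, 0, 4, 2, 7, 3, 5] (by decide) (by norm_num) f_1_0 f_0_4 f_1_2 f_2_7 f_1_3 f_3_5).elim
        · have f_3_7 : T.a (y 3) (y 7) ≠ 0 := e
          have f_7_3 : T.a (y 7) (y 3) ≠ 0 := nsymm T f_3_7
          clear e ha
          exact (excl_D5t T h2 y hy ![0, 2, 1, 3, 5, 7] (by decide) (by norm_num) f_0_1 f_2_1 f_1_3 f_3_5 f_3_7).elim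
        · have f_4_7 : T.a (y 4) (y 7) ≠ 0 := e
          have f_7_4 : T.a (y 7) (y 4) ≠ 0 := nsymm T f_4_7
          clear e ha
          exact (excl_D6t T h2 y hy ![2, 3, 1, 0, 4, 6, 7] (by decide) (by norm_num) f_2_1 f_3_1 f_1_0 f_0_4 f_4_6 f_4_7).elim
        · have f_5_7 : T.a (y 5) (y 7) ≠ 0 := e
          have f_7_5 : T.a (y 7) (y 5) ≠ 0 := nsymm T f_5_7
          clear e ha
          exact shape8_T133 T h2 (fun i => y (![1, 2, 0, 4, 6, 3, 5, 7] i)) (hy.comp (by decide)) f_1_2 f_1_0 f_0_4 f_4_6 f_1_3 f_3_5 f_5_7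
        · have f_6_7 : T.a (y 6) (y 7) ≠ 0 := e
          have f_7_6 : T.a (y 7) (y 6) ≠ 0 := nsymm T f_6_7
          clear e ha
          exact shape8_T124 T h2 (fun i => y (![1, 2, 3, 5, 0, 4, 6, 7] i)) (hy.comp (by decide)) f_1_2 f_1_3 f_3_5 f_1_0 f_0_4 f_4_6 f_6_7
      · have f_5_6 : T.a (y 5) (y 6) ≠ 0 := e
        have f_6_5 : T.a (y 6) (y 5) ≠ 0 := nsymm T f_5_6
        clear e ha
        obtain ⟨a, ha, e⟩ := hpar 7 (by norm_num) (by norm_num)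
        have hc : a = 0 ∨ a = 1 ∨ a = 2 ∨ a = 3 ∨ a = 4 ∨ a = 5 ∨ a = 6 := by omega
        rcases hc with rfl | rfl | rfl | rfl | rfl | rfl | rfl
        · have f_0_7 : T.a (y 0) (y 7) ≠ 0 := e
          have f_7_0 : T.a (y 7) (y 0) ≠ 0 := nsymm T f_0_7
          clear e ha
          exact (excl_D5t T h2 y hy ![2, 3, 1, 0, 4, 7] (by decide) (by norm_num) f_2_1 f_3_1 f_1_0 f_0_4 f_0_7).elim
        · have f_1_7 : T.a (y 1) (y 7) ≠ 0 := e
          have f_7_1 : T.a (y 7) (y 1) ≠ 0 := nsymm T f_1_7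
          clear e ha
          exact (excl_D4t T h2 y hy ![1, 0, 2, 3, 7] (by decide) (by norm_num) f_1_0 f_1_2 f_1_3 f_1_7).elim
        · have f_2_7 : T.a (y 2) (y 7) ≠ 0 := e
          have f_7_2 : T.a (y 7) (y 2) ≠ 0 := nsymm T f_2_7
          clear e ha
          exact (excl_E6t T h2 y hy ![1, 0, 4, 2, 7, 3, 5] (by decide) (by norm_num) f_1_0 f_0_4 f_1_2 f_2_7 f_1_3 f_3_5).elim
        · have f_3_7 : T.a (y 3) (y 7) ≠ 0 := e
          have f_7_3 : T.a (y 7) (y 3) ≠ 0 := nsymm T f_3_7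
          clear e ha
          exact (excl_D5t T h2 y hy ![0, 2, 1, 3, 5, 7] (by decide) (by norm_num) f_0_1 f_2_1 f_1_3 f_3_5 f_3_7).elim
        · have f_4_7 : T.a (y 4) (y 7) ≠ 0 := e
          have f_7_4 : T.a (y 7) (y 4) ≠ 0 := nsymm T f_4_7
          clear e ha
          exact shape8_T133 T h2 (fun i => y (![1, 2, 0, 4, 7, 3, 5, 6] i)) (hy.comp (by decide)) f_1_2 f_1_0 f_0_4 f_4_7 f_1_3 f_3_5 f_5_6
        · have f_5_7 : T.a (y 5) (y 7) ≠ 0 := e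
          have f_7_5 : T.a (y 7) (y 5) ≠ 0 := nsymm T f_5_7
          clear e ha
          exact (excl_D6t T h2 y hy ![0, 2, 1, 3, 5, 6, 7] (by decide) (by norm_num) f_0_1 f_2_1 f_1_3 f_3_5 f_5_6 f_5_7).elim
        · have f_6_7 : T.a (y 6) (y 7) ≠ 0 := e
          have f_7_6 : T.a (y 7) (y 6) ≠ 0 := nsymm T f_6_7
          clear e ha
          exact shape8_T124 T h2 (fun i => y (![1, 2, 0, 4, 3, 5, 6, 7] i)) (hy.comp (by decide)) f_1_2 f_1_0 f_0_4 f_1_3 f_3_5 f_5_6 f_6_7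
    · have f_4_5 : T.a (y 4) (y 5) ≠ 0 := e
      have f_5_4 : T.a (y 5) (y 4) ≠ 0 := nsymm T f_4_5
      clear e ha
      obtain ⟨a, ha, e⟩ := hpar 6 (by norm_num) (by norm_num)
      have hc : a = 0 ∨ a = 1 ∨ a = 2 ∨ a = 3 ∨ a = 4 ∨ a = 5 := by omega
      rcases hc with rfl | rfl | rfl | rfl | rfl | rfl
      · have f_0_6 : T.a (y 0) (y 6) ≠ 0 := e
        have f_6_0 : T.a (y 6) (y 0) ≠ 0 := nsymm T f_0_6
        clear e ha
        exact (excl_D5t T h2 y hy ![2, 3, 1, 0, 4, 6] (by decide) (by norm_num) f_2_1 f_3_1 f_1_0 f_0_4 f_0_6).elim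
      · have f_1_6 : T.a (y 1) (y 6) ≠ 0 := e
        have f_6_1 : T.a (y 6) (y 1) ≠ 0 := nsymm T f_1_6
        clear e ha
        exact (excl_D4t T h2 y hy ![1, 0, 2, 3, 6] (by decide) (by norm_num) f_1_0 f_1_2 f_1_3 f_1_6).elim
      · have f_2_6 : T.a (y 2) (y 6) ≠ 0 := e
        have f_6_2 : T.a (y 6) (y 2) ≠ 0 := nsymm T f_2_6
        clear e ha
        obtain ⟨a, ha, e⟩ := hpar 7 (by norm_num) (by norm_num)
        have hc : a = 0 ∨ a = 1 ∨ a = 2 ∨ a = 3 ∨ a = 4 ∨ a = 5 ∨ a = 6 := by omega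
        rcases hc with rfl | rfl | rfl | rfl | rfl | rfl | rfl
        · have f_0_7 : T.a (y 0) (y 7) ≠ 0 := e
          have f_7_0 : T.a (y 7) (y 0) ≠ 0 := nsymm T f_0_7
          clear e ha
          exact (excl_D5t T h2 y hy ![2, 3, 1, 0, 4, 7] (by decide) (by norm_num) f_2_1 f_3_1 f_1_0 f_0_4 f_0_7).elim
        · have f_1_7 : T.a (y 1) (y 7) ≠ 0 := e
          have f_7_1 : T.a (y 7) (y 1) ≠ 0 := nsymm T f_1_7
          clear e ha
          exact (excl_D4t T h2 y hy ![1, 0, 2, 3, 7] (by decide) (by norm_num) f_1_0 f_1_2 f_1_3 f_1_7).elim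
        · have f_2_7 : T.a (y 2) (y 7) ≠ 0 := e
          have f_7_2 : T.a (y 7) (y 2) ≠ 0 := nsymm T f_2_7
          clear e ha
          exact (excl_D5t T h2 y hy ![0, 3, 1, 2, 6, 7] (by decide) (by norm_num) f_0_1 f_3_1 f_1_2 f_2_6 f_2_7).elim
        · have f_3_7 : T.a (y 3) (y 7) ≠ 0 := e
          have f_7_3 : T.a (y 7) (y 3) ≠ 0 := nsymm T f_3_7
          clear e ha
          exact (excl_E6t T h2 y hy ![1, 0, 4, 2, 6, 3, 7] (by decide) (by norm_num) f_1_0 f_0_4 f_1_2 f_2_6 f_1_3 f_3_7).elim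
        · have f_4_7 : T.a (y 4) (y 7) ≠ 0 := e
          have f_7_4 : T.a (y 7) (y 4) ≠ 0 := nsymm T f_4_7
          clear e ha
          exact (excl_D6t T h2 y hy ![2, 3, 1, 0, 4, 5, 7] (by decide) (by norm_num) f_2_1 f_3_1 f_1_0 f_0_4 f_4_5 f_4_7).elim
        · have f_5_7 : T.a (y 5) (y 7) ≠ 0 := e
          have f_7_5 : T.a (y 7) (y 5) ≠ 0 := nsymm T f_5_7
          clear e ha
          exact shape8_T124 T h2 (fun i => y (![1, 3, 2, 6, 0, 4, 5, 7] i)) (hy.comp (by decide)) f_1_3 f_1_2 f_2_6 f_1_0 f_0_4 f_4_5 f_5_7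
        · have f_6_7 : T.a (y 6) (y 7) ≠ 0 := e
          have f_7_6 : T.a (y 7) (y 6) ≠ 0 := nsymm T f_6_7
          clear e ha
          exact shape8_T133 T h2 (fun i => y (![1, 3, 0, 4, 5, 2, 6, 7] i)) (hy.comp (by decide)) f_1_3 f_1_0 f_0_4 f_4_5 f_1_2 f_2_6 f_6_7
      · have f_3_6 : T.a (y 3) (y 6) ≠ 0 := e
        have f_6_3 : T.a (y 6) (y 3) ≠ 0 := nsymm T f_3_6
        clear e ha
        obtain ⟨a, ha, e⟩ := hpar 7 (by norm_num) (by norm_num)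
        have hc : a = 0 ∨ a = 1 ∨ a = 2 ∨ a = 3 ∨ a = 4 ∨ a = 5 ∨ a = 6 := by omega
        rcases hc with rfl | rfl | rfl | rfl | rfl | rfl | rfl
        · have f_0_7 : T.a (y 0) (y 7) ≠ 0 := e
          have f_7_0 : T.a (y 7) (y 0) ≠ 0 := nsymm T f_0_7
          clear e ha
          exact (excl_D5t T h2 y hy ![2, 3, 1, 0, 4, 7] (by decide) (by norm_num) f_2_1 f_3_1 f_1_0 f_0_4 f_0_7).elim
        · have f_1_7 : T.a (y 1) (y 7) ≠ 0 := e
          have f_7_1 : T.a (y 7) (y 1) ≠ 0 := nsymm T f_1_7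
          clear e ha
          exact (excl_D4t T h2 y hy ![1, 0, 2, 3, 7] (by decide) (by norm_num) f_1_0 f_1_2 f_1_3 f_1_7).elim
        · have f_2_7 : T.a (y 2) (y 7) ≠ 0 := e
          have f_7_2 : T.a (y 7) (y 2) ≠ 0 := nsymm T f_2_7
          clear e ha
          exact (excl_E6t T h2 y hy ![1, 0, 4, 2, 7, 3, 6] (by decide) (by norm_num) f_1_0 f_0_4 f_1_2 f_2_7 f_1_3 f_3_6).elim
        · have f_3_7 : T.a (y 3) (y 7) ≠ 0 := e
          have f_7_3 : T.a (y 7) (y 3) ≠ 0 := nsymm T f_3_7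
          clear e ha
          exact (excl_D5t T h2 y hy ![0, 2, 1, 3, 6, 7] (by decide) (by norm_num) f_0_1 f_2_1 f_1_3 f_3_6 f_3_7).elim
        · have f_4_7 : T.a (y 4) (y 7) ≠ 0 := e
          have f_7_4 : T.a (y 7) (y 4) ≠ 0 := nsymm T f_4_7
          clear e ha
          exact (excl_D6t T h2 y hy ![2, 3, 1, 0, 4, 5, 7] (by decide) (by norm_num) f_2_1 f_3_1 f_1_0 f_0_4 f_4_5 f_4_7).elim
        · have f_5_7 : T.a (y 5) (y 7) ≠ 0 := e
          have f_7_5 : T.a (y 7) (y 5) ≠ 0 := nsymm T f_5_7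
          clear e ha
          exact shape8_T124 T h2 (fun i => y (![1, 2, 3, 6, 0, 4, 5, 7] i)) (hy.comp (by decide)) f_1_2 f_1_3 f_3_6 f_1_0 f_0_4 f_4_5 f_5_7
        · have f_6_7 : T.a (y 6) (y 7) ≠ 0 := e
          have f_7_6 : T.a (y 7) (y 6) ≠ 0 := nsymm T f_6_7
          clear e ha
          exact shape8_T133 T h2 (fun i => y (![1, 2, 0, 4, 5, 3, 6, 7] i)) (hy.comp (by decide)) f_1_2 f_1_0 f_0_4 f_4_5 f_1_3 f_3_6 f_6_7
      · have f_4_6 : T.a (y 4) (y 6) ≠ 0 := e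
        have f_6_4 : T.a (y 6) (y 4) ≠ 0 := nsymm T f_4_6
        clear e ha
        exact (excl_D6t T h2 y hy ![2, 3, 1, 0, 4, 5, 6] (by decide) (by norm_num) f_2_1 f_3_1 f_1_0 f_0_4 f_4_5 f_4_6).elim
      · have f_5_6 : T.a (y 5) (y 6) ≠ 0 := e
        have f_6_5 : T.a (y 6) (y 5) ≠ 0 := nsymm T f_5_6
        clear e ha
        obtain ⟨a, ha, e⟩ := hpar 7 (by norm_num) (by norm_num)
        have hc : a = 0 ∨ a = 1 ∨ a = 2 ∨ a = 3 ∨ a = 4 ∨ a = 5 ∨ a = 6 := by omega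
        rcases hc with rfl | rfl | rfl | rfl | rfl | rfl | rfl
        · have f_0_7 : T.a (y 0) (y 7) ≠ 0 := e
          have f_7_0 : T.a (y 7) (y 0) ≠ 0 := nsymm T f_0_7
          clear e ha
          exact (excl_D5t T h2 y hy ![2, 3, 1, 0, 4, 7] (by decide) (by norm_num) f_2_1 f_3_1 f_1_0 f_0_4 f_0_7).elim
        · have f_1_7 : T.a (y 1) (y 7) ≠ 0 := e
          have f_7_1 : T.a (y 7) (y 1) ≠ 0 := nsymm T f_1_7
          clear e ha
          exact (excl_D4t T h2 y hy ![1, 0, 2, 3, 7] (by decide) (by norm_num) f_1_0 f_1_2 f_1_3 f_1_7).elim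
        · have f_2_7 : T.a (y 2) (y 7) ≠ 0 := e
          have f_7_2 : T.a (y 7) (y 2) ≠ 0 := nsymm T f_2_7
          clear e ha
          exact shape8_T124 T h2 (fun i => y (![1, 3, 2, 7, 0, 4, 5, 6] i)) (hy.comp (by decide)) f_1_3 f_1_2 f_2_7 f_1_0 f_0_4 f_4_5 f_5_6
        · have f_3_7 : T.a (y 3) (y 7) ≠ 0 := e
          have f_7_3 : T.a (y 7) (y 3) ≠ 0 := nsymm T f_3_7
          clear e ha
          exact shape8_T124 T h2 (fun i => y (![1, 2, 3, 7, 0, 4, 5, 6] i)) (hy.comp (by decide)) f_1_2 f_1_3 f_3_7 f_1_0 f_0_4 f_4_5 f_5_6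
        · have f_4_7 : T.a (y 4) (y 7) ≠ 0 := e
          have f_7_4 : T.a (y 7) (y 4) ≠ 0 := nsymm T f_4_7
          clear e ha
          exact (excl_D6t T h2 y hy ![2, 3, 1, 0, 4, 5, 7] (by decide) (by norm_num) f_2_1 f_3_1 f_1_0 f_0_4 f_4_5 f_4_7).elim
        · have f_5_7 : T.a (y 5) (y 7) ≠ 0 := e
          have f_7_5 : T.a (y 7) (y 5) ≠ 0 := nsymm T f_5_7
          clear e ha
          exact shape8_Dt T h2 (fun i => y (![2, 3, 1, 0, 4, 5, 6, 7] i)) (hy.comp (by decide)) f_2_1 f_3_1 f_1_0 f_0_4 f_4_5 f_5_6 f_5_7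
        · have f_6_7 : T.a (y 6) (y 7) ≠ 0 := e
          have f_7_6 : T.a (y 7) (y 6) ≠ 0 := nsymm T f_6_7
          clear e ha
          exact shape8_D T h2 (fun i => y (![1, 2, 3, 0, 4, 5, 6, 7] i)) (hy.comp (by decide)) f_1_2 f_1_3 f_1_0 f_0_4 f_4_5 f_5_6 f_6_7
  · have f_1_4 : T.a (y 1) (y 4) ≠ 0 := e
    have f_4_1 : T.a (y 4) (y 1) ≠ 0 := nsymm T f_1_4
    clear e ha
    exact (excl_D4t T h2 y hy ![1, 0, 2, 3, 4] (by decide) (by norm_num) f_1_0 f_1_2 f_1_3 f_1_4).elim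
  · have f_2_4 : T.a (y 2) (y 4) ≠ 0 := e
    have f_4_2 : T.a (y 4) (y 2) ≠ 0 := nsymm T f_2_4
    clear e ha
    obtain ⟨a, ha, e⟩ := hpar 5 (by norm_num) (by norm_num)
    have hc : a = 0 ∨ a = 1 ∨ a = 2 ∨ a = 3 ∨ a = 4 := by omega
    rcases hc with rfl | rfl | rfl | rfl | rfl
    · have f_0_5 : T.a (y 0) (y 5) ≠ 0 := e
      have f_5_0 : T.a (y 5) (y 0) ≠ 0 := nsymm T f_0_5
      clear e ha
      obtain ⟨a, ha, e⟩ := hpar 6 (by norm_num) (by norm_num)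
      have hc : a = 0 ∨ a = 1 ∨ a = 2 ∨ a = 3 ∨ a = 4 ∨ a = 5 := by omega
      rcases hc with rfl | rfl | rfl | rfl | rfl | rfl
      · have f_0_6 : T.a (y 0) (y 6) ≠ 0 := e
        have f_6_0 : T.a (y 6) (y 0) ≠ 0 := nsymm T f_0_6
        clear e ha
        exact (excl_D5t T h2 y hy ![2, 3, 1, 0, 5, 6] (by decide) (by norm_num) f_2_1 f_3_1 f_1_0 f_0_5 f_0_6).elim
      · have f_1_6 : T.a (y 1) (y 6) ≠ 0 := e
        have f_6_1 : T.a (y 6) (y 1) ≠ 0 := nsymm T f_1_6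
        clear e ha
        exact (excl_D4t T h2 y hy ![1, 0, 2, 3, 6] (by decide) (by norm_num) f_1_0 f_1_2 f_1_3 f_1_6).elim
      · have f_2_6 : T.a (y 2) (y 6) ≠ 0 := e
        have f_6_2 : T.a (y 6) (y 2) ≠ 0 := nsymm T f_2_6
        clear e ha
        exact (excl_D5t T h2 y hy ![0, 3, 1, 2, 4, 6] (by decide) (by norm_num) f_0_1 f_3_1 f_1_2 f_2_4 f_2_6).elim
      · have f_3_6 : T.a (y 3) (y 6) ≠ 0 := e
        have f_6_3 : T.a (y 6) (y 3) ≠ 0 := nsymm T f_3_6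
        clear e ha
        exact (excl_E6t T h2 y hy ![1, 0, 5, 2, 4, 3, 6] (by decide) (by norm_num) f_1_0 f_0_5 f_1_2 f_2_4 f_1_3 f_3_6).elim
      · have f_4_6 : T.a (y 4) (y 6) ≠ 0 := e
        have f_6_4 : T.a (y 6) (y 4) ≠ 0 := nsymm T f_4_6
        clear e ha
        obtain ⟨a, ha, e⟩ := hpar 7 (by norm_num) (by norm_num)
        have hc : a = 0 ∨ a = 1 ∨ a = 2 ∨ a = 3 ∨ a = 4 ∨ a = 5 ∨ a = 6 := by omega
        rcases hc with rfl | rfl | rfl | rfl | rfl | rfl | rfl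
        · have f_0_7 : T.a (y 0) (y 7) ≠ 0 := e
          have f_7_0 : T.a (y 7) (y 0) ≠ 0 := nsymm T f_0_7
          clear e ha
          exact (excl_D5t T h2 y hy ![2, 3, 1, 0, 5, 7] (by decide) (by norm_num) f_2_1 f_3_1 f_1_0 f_0_5 f_0_7).elim
        · have f_1_7 : T.a (y 1) (y 7) ≠ 0 := e
          have f_7_1 : T.a (y 7) (y 1) ≠ 0 := nsymm T f_1_7
          clear e ha
          exact (excl_D4t T h2 y hy ![1, 0, 2, 3, 7] (by decide) (by norm_num) f_1_0 f_1_2 f_1_3 f_1_7).elim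
        · have f_2_7 : T.a (y 2) (y 7) ≠ 0 := e
          have f_7_2 : T.a (y 7) (y 2) ≠ 0 := nsymm T f_2_7
          clear e ha
          exact (excl_D5t T h2 y hy ![0, 3, 1, 2, 4, 7] (by decide) (by norm_num) f_0_1 f_3_1 f_1_2 f_2_4 f_2_7).elim
        · have f_3_7 : T.a (y 3) (y 7) ≠ 0 := e
          have f_7_3 : T.a (y 7) (y 3) ≠ 0 := nsymm T f_3_7
          clear e ha
          exact (excl_E6t T h2 y hy ![1, 0, 5, 2, 4, 3, 7] (by decide) (by norm_num) f_1_0 f_0_5 f_1_2 f_2_4 f_1_3 f_3_7).elim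
        · have f_4_7 : T.a (y 4) (y 7) ≠ 0 := e
          have f_7_4 : T.a (y 7) (y 4) ≠ 0 := nsymm T f_4_7
          clear e ha
          exact (excl_D6t T h2 y hy ![0, 3, 1, 2, 4, 6, 7] (by decide) (by norm_num) f_0_1 f_3_1 f_1_2 f_2_4 f_4_6 f_4_7).elim
        · have f_5_7 : T.a (y 5) (y 7) ≠ 0 := e
          have f_7_5 : T.a (y 7) (y 5) ≠ 0 := nsymm T f_5_7
          clear e ha
          exact shape8_T133 T h2 (fun i => y (![1, 3, 0, 5, 7, 2, 4, 6] i)) (hy.comp (by decide)) f_1_3 f_1_0 f_0_5 f_5_7 f_1_2 f_2_4 f_4_6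
        · have f_6_7 : T.a (y 6) (y 7) ≠ 0 := e
          have f_7_6 : T.a (y 7) (y 6) ≠ 0 := nsymm T f_6_7
          clear e ha
          exact shape8_T124 T h2 (fun i => y (![1, 3, 0, 5, 2, 4, 6, 7] i)) (hy.comp (by decide)) f_1_3 f_1_0 f_0_5 f_1_2 f_2_4 f_4_6 f_6_7
      · have f_5_6 : T.a (y 5) (y 6) ≠ 0 := e
        have f_6_5 : T.a (y 6) (y 5) ≠ 0 := nsymm T f_5_6
        clear e ha
        obtain ⟨a, ha, e⟩ := hpar 7 (by norm_num) (by norm_num)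
        have hc : a = 0 ∨ a = 1 ∨ a = 2 ∨ a = 3 ∨ a = 4 ∨ a = 5 ∨ a = 6 := by omega
        rcases hc with rfl | rfl | rfl | rfl | rfl | rfl | rfl
        · have f_0_7 : T.a (y 0) (y 7) ≠ 0 := e
          have f_7_0 : T.a (y 7) (y 0) ≠ 0 := nsymm T f_0_7
          clear e ha
          exact (excl_D5t T h2 y hy ![2, 3, 1, 0, 5, 7] (by decide) (by norm_num) f_2_1 f_3_1 f_1_0 f_0_5 f_0_7).elim
        · have f_1_7 : T.a (y 1) (y 7) ≠ 0 := e
          have f_7_1 : T.a (y 7) (y 1) ≠ 0 := nsymm T f_1_7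
          clear e ha
          exact (excl_D4t T h2 y hy ![1, 0, 2, 3, 7] (by decide) (by norm_num) f_1_0 f_1_2 f_1_3 f_1_7).elim
        · have f_2_7 : T.a (y 2) (y 7) ≠ 0 := e
          have f_7_2 : T.a (y 7) (y 2) ≠ 0 := nsymm T f_2_7
          clear e ha
          exact (excl_D5t T h2 y hy ![0, 3, 1, 2, 4, 7] (by decide) (by norm_num) f_0_1 f_3_1 f_1_2 f_2_4 f_2_7).elim
        · have f_3_7 : T.a (y 3) (y 7) ≠ 0 := e
          have f_7_3 : T.a (y 7) (y 3) ≠ 0 := nsymm T f_3_7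
          clear e ha
          exact (excl_E6t T h2 y hy ![1, 0, 5, 2, 4, 3, 7] (by decide) (by norm_num) f_1_0 f_0_5 f_1_2 f_2_4 f_1_3 f_3_7).elim
        · have f_4_7 : T.a (y 4) (y 7) ≠ 0 := e
          have f_7_4 : T.a (y 7) (y 4) ≠ 0 := nsymm T f_4_7
          clear e ha
          exact shape8_T133 T h2 (fun i => y (![1, 3, 0, 5, 6, 2, 4, 7] i)) (hy.comp (by decide)) f_1_3 f_1_0 f_0_5 f_5_6 f_1_2 f_2_4 f_4_7
        · have f_5_7 : T.a (y 5) (y 7) ≠ 0 := e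
          have f_7_5 : T.a (y 7) (y 5) ≠ 0 := nsymm T f_5_7
          clear e ha
          exact (excl_D6t T h2 y hy ![2, 3, 1, 0, 5, 6, 7] (by decide) (by norm_num) f_2_1 f_3_1 f_1_0 f_0_5 f_5_6 f_5_7).elim
        · have f_6_7 : T.a (y 6) (y 7) ≠ 0 := e
          have f_7_6 : T.a (y 7) (y 6) ≠ 0 := nsymm T f_6_7
          clear e ha
          exact shape8_T124 T h2 (fun i => y (![1, 3, 2, 4, 0, 5, 6, 7] i)) (hy.comp (by decide)) f_1_3 f_1_2 f_2_4 f_1_0 f_0_5 f_5_6 f_6_7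
    · have f_1_5 : T.a (y 1) (y 5) ≠ 0 := e
      have f_5_1 : T.a (y 5) (y 1) ≠ 0 := nsymm T f_1_5
      clear e ha
      exact (excl_D4t T h2 y hy ![1, 0, 2, 3, 5] (by decide) (by norm_num) f_1_0 f_1_2 f_1_3 f_1_5).elim
    · have f_2_5 : T.a (y 2) (y 5) ≠ 0 := e
      have f_5_2 : T.a (y 5) (y 2) ≠ 0 := nsymm T f_2_5
      clear e ha
      exact (excl_D5t T h2 y hy ![0, 3, 1, 2, 4, 5] (by decide) (by norm_num) f_0_1 f_3_1 f_1_2 f_2_4 f_2_5).elim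
    · have f_3_5 : T.a (y 3) (y 5) ≠ 0 := e
      have f_5_3 : T.a (y 5) (y 3) ≠ 0 := nsymm T f_3_5
      clear e ha
      obtain ⟨a, ha, e⟩ := hpar 6 (by norm_num) (by norm_num)
      have hc : a = 0 ∨ a = 1 ∨ a = 2 ∨ a = 3 ∨ a = 4 ∨ a = 5 := by omega
      rcases hc with rfl | rfl | rfl | rfl | rfl | rfl
      · have f_0_6 : T.a (y 0) (y 6) ≠ 0 := e
        have f_6_0 : T.a (y 6) (y 0) ≠ 0 := nsymm T f_0_6
        clear e ha
        exact (excl_E6t T h2 y hy ![1, 0, 6, 2, 4, 3, 5] (by decide) (by norm_num) f_1_0 f_0_6 f_1_2 f_2_4 f_1_3 f_3_5).elim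
      · have f_1_6 : T.a (y 1) (y 6) ≠ 0 := e
        have f_6_1 : T.a (y 6) (y 1) ≠ 0 := nsymm T f_1_6
        clear e ha
        exact (excl_D4t T h2 y hy ![1, 0, 2, 3, 6] (by decide) (by norm_num) f_1_0 f_1_2 f_1_3 f_1_6).elim
      · have f_2_6 : T.a (y 2) (y 6) ≠ 0 := e
        have f_6_2 : T.a (y 6) (y 2) ≠ 0 := nsymm T f_2_6
        clear e ha
        exact (excl_D5t T h2 y hy ![0, 3, 1, 2, 4, 6] (by decide) (by norm_num) f_0_1 f_3_1 f_1_2 f_2_4 f_2_6).elim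
      · have f_3_6 : T.a (y 3) (y 6) ≠ 0 := e
        have f_6_3 : T.a (y 6) (y 3) ≠ 0 := nsymm T f_3_6
        clear e ha
        exact (excl_D5t T h2 y hy ![0, 2, 1, 3, 5, 6] (by decide) (by norm_num) f_0_1 f_2_1 f_1_3 f_3_5 f_3_6).elim
      · have f_4_6 : T.a (y 4) (y 6) ≠ 0 := e
        have f_6_4 : T.a (y 6) (y 4) ≠ 0 := nsymm T f_4_6
        clear e ha
        obtain ⟨a, ha, e⟩ := hpar 7 (by norm_num) (by norm_num)
        have hc : a = 0 ∨ a = 1 ∨ a = 2 ∨ a = 3 ∨ a = 4 ∨ a = 5 ∨ a = 6 := by omega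
        rcases hc with rfl | rfl | rfl | rfl | rfl | rfl | rfl
        · have f_0_7 : T.a (y 0) (y 7) ≠ 0 := e
          have f_7_0 : T.a (y 7) (y 0) ≠ 0 := nsymm T f_0_7
          clear e ha
          exact (excl_E6t T h2 y hy ![1, 0, 7, 2, 4, 3, 5] (by decide) (by norm_num) f_1_0 f_0_7 f_1_2 f_2_4 f_1_3 f_3_5).elim
        · have f_1_7 : T.a (y 1) (y 7) ≠ 0 := e
          have f_7_1 : T.a (y 7) (y 1) ≠ 0 := nsymm T f_1_7
          clear e ha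
          exact (excl_D4t T h2 y hy ![1, 0, 2, 3, 7] (by decide) (by norm_num) f_1_0 f_1_2 f_1_3 f_1_7).elim
        · have f_2_7 : T.a (y 2) (y 7) ≠ 0 := e
          have f_7_2 : T.a (y 7) (y 2) ≠ 0 := nsymm T f_2_7
          clear e ha
          exact (excl_D5t T h2 y hy ![0, 3, 1, 2, 4, 7] (by decide) (by norm_num) f_0_1 f_3_1 f_1_2 f_2_4 f_2_7).elim
        · have f_3_7 : T.a (y 3) (y 7) ≠ 0 := e
          have f_7_3 : T.a (y 7) (y 3) ≠ 0 := nsymm T f_3_7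
          clear e ha
          exact (excl_D5t T h2 y hy ![0, 2, 1, 3, 5, 7] (by decide) (by norm_num) f_0_1 f_2_1 f_1_3 f_3_5 f_3_7).elim
        · have f_4_7 : T.a (y 4) (y 7) ≠ 0 := e
          have f_7_4 : T.a (y 7) (y 4) ≠ 0 := nsymm T f_4_7
          clear e ha
          exact (excl_D6t T h2 y hy ![0, 3, 1, 2, 4, 6, 7] (by decide) (by norm_num) f_0_1 f_3_1 f_1_2 f_2_4 f_4_6 f_4_7).elim
        · have f_5_7 : T.a (y 5) (y 7) ≠ 0 := e
          have f_7_5 : T.a (y 7) (y 5) ≠ 0 := nsymm T f_5_7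
          clear e ha
          exact shape8_T133 T h2 (fun i => y (![1, 0, 2, 4, 6, 3, 5, 7] i)) (hy.comp (by decide)) f_1_0 f_1_2 f_2_4 f_4_6 f_1_3 f_3_5 f_5_7
        · have f_6_7 : T.a (y 6) (y 7) ≠ 0 := e
          have f_7_6 : T.a (y 7) (y 6) ≠ 0 := nsymm T f_6_7
          clear e ha
          exact shape8_T124 T h2 (fun i => y (![1, 0, 3, 5, 2, 4, 6, 7] i)) (hy.comp (by decide)) f_1_0 f_1_3 f_3_5 f_1_2 f_2_4 f_4_6 f_6_7
      · have f_5_6 : T.a (y 5) (y 6) ≠ 0 := e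
        have f_6_5 : T.a (y 6) (y 5) ≠ 0 := nsymm T f_5_6
        clear e ha
        obtain ⟨a, ha, e⟩ := hpar 7 (by norm_num) (by norm_num)
        have hc : a = 0 ∨ a = 1 ∨ a = 2 ∨ a = 3 ∨ a = 4 ∨ a = 5 ∨ a = 6 := by omega
        rcases hc with rfl | rfl | rfl | rfl | rfl | rfl | rfl
        · have f_0_7 : T.a (y 0) (y 7) ≠ 0 := e
          have f_7_0 : T.a (y 7) (y 0) ≠ 0 := nsymm T f_0_7
          clear e ha
          exact (excl_E6t T h2 y hy ![1, 0, 7, 2, 4, 3, 5] (by decide) (by norm_num) f_1_0 f_0_7 f_1_2 f_2_4 f_1_3 f_3_5).elim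
        · have f_1_7 : T.a (y 1) (y 7) ≠ 0 := e
          have f_7_1 : T.a (y 7) (y 1) ≠ 0 := nsymm T f_1_7
          clear e ha
          exact (excl_D4t T h2 y hy ![1, 0, 2, 3, 7] (by decide) (by norm_num) f_1_0 f_1_2 f_1_3 f_1_7).elim
        · have f_2_7 : T.a (y 2) (y 7) ≠ 0 := e
          have f_7_2 : T.a (y 7) (y 2) ≠ 0 := nsymm T f_2_7
          clear e ha
          exact (excl_D5t T h2 y hy ![0, 3, 1, 2, 4, 7] (by decide) (by norm_num) f_0_1 f_3_1 f_1_2 f_2_4 f_2_7).elim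
        · have f_3_7 : T.a (y 3) (y 7) ≠ 0 := e
          have f_7_3 : T.a (y 7) (y 3) ≠ 0 := nsymm T f_3_7
          clear e ha
          exact (excl_D5t T h2 y hy ![0, 2, 1, 3, 5, 7] (by decide) (by norm_num) f_0_1 f_2_1 f_1_3 f_3_5 f_3_7).elim
        · have f_4_7 : T.a (y 4) (y 7) ≠ 0 := e
          have f_7_4 : T.a (y 7) (y 4) ≠ 0 := nsymm T f_4_7
          clear e ha
          exact shape8_T133 T h2 (fun i => y (![1, 0, 2, 4, 7, 3, 5, 6] i)) (hy.comp (by decide)) f_1_0 f_1_2 f_2_4 f_4_7 f_1_3 f_3_5 f_5_6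
        · have f_5_7 : T.a (y 5) (y 7) ≠ 0 := e
          have f_7_5 : T.a (y 7) (y 5) ≠ 0 := nsymm T f_5_7
          clear e ha
          exact (excl_D6t T h2 y hy ![0, 2, 1, 3, 5, 6, 7] (by decide) (by norm_num) f_0_1 f_2_1 f_1_3 f_3_5 f_5_6 f_5_7).elim
        · have f_6_7 : T.a (y 6) (y 7) ≠ 0 := e
          have f_7_6 : T.a (y 7) (y 6) ≠ 0 := nsymm T f_6_7
          clear e ha
          exact shape8_T124 T h2 (fun i => y (![1, 0, 2, 4, 3, 5, 6, 7] i)) (hy.comp (by decide)) f_1_0 f_1_2 f_2_4 f_1_3 f_3_5 f_5_6 f_6_7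
    · have f_4_5 : T.a (y 4) (y 5) ≠ 0 := e
      have f_5_4 : T.a (y 5) (y 4) ≠ 0 := nsymm T f_4_5
      clear e ha
      obtain ⟨a, ha, e⟩ := hpar 6 (by norm_num) (by norm_num)
      have hc : a = 0 ∨ a = 1 ∨ a = 2 ∨ a = 3 ∨ a = 4 ∨ a = 5 := by omega
      rcases hc with rfl | rfl | rfl | rfl | rfl | rfl
      · have f_0_6 : T.a (y 0) (y 6) ≠ 0 := e
        have f_6_0 : T.a (y 6) (y 0) ≠ 0 := nsymm T f_0_6
        clear e ha
        obtain ⟨a, ha, e⟩ := hpar 7 (by norm_num) (by norm_num)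
        have hc : a = 0 ∨ a = 1 ∨ a = 2 ∨ a = 3 ∨ a = 4 ∨ a = 5 ∨ a = 6 := by omega
        rcases hc with rfl | rfl | rfl | rfl | rfl | rfl | rfl
        · have f_0_7 : T.a (y 0) (y 7) ≠ 0 := e
          have f_7_0 : T.a (y 7) (y 0) ≠ 0 := nsymm T f_0_7
          clear e ha
          exact (excl_D5t T h2 y hy ![2, 3, 1, 0, 6, 7] (by decide) (by norm_num) f_2_1 f_3_1 f_1_0 f_0_6 f_0_7).elim
        · have f_1_7 : T.a (y 1) (y 7) ≠ 0 := e
          have f_7_1 : T.a (y 7) (y 1) ≠ 0 := nsymm T f_1_7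
          clear e ha
          exact (excl_D4t T h2 y hy ![1, 0, 2, 3, 7] (by decide) (by norm_num) f_1_0 f_1_2 f_1_3 f_1_7).elim
        · have f_2_7 : T.a (y 2) (y 7) ≠ 0 := e
          have f_7_2 : T.a (y 7) (y 2) ≠ 0 := nsymm T f_2_7
          clear e ha
          exact (excl_D5t T h2 y hy ![0, 3, 1, 2, 4, 7] (by decide) (by norm_num) f_0_1 f_3_1 f_1_2 f_2_4 f_2_7).elim
        · have f_3_7 : T.a (y 3) (y 7) ≠ 0 := e
          have f_7_3 : T.a (y 7) (y 3) ≠ 0 := nsymm T f_3_7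
          clear e ha
          exact (excl_E6t T h2 y hy ![1, 0, 6, 2, 4, 3, 7] (by decide) (by norm_num) f_1_0 f_0_6 f_1_2 f_2_4 f_1_3 f_3_7).elim
        · have f_4_7 : T.a (y 4) (y 7) ≠ 0 := e
          have f_7_4 : T.a (y 7) (y 4) ≠ 0 := nsymm T f_4_7
          clear e ha
          exact (excl_D6t T h2 y hy ![0, 3, 1, 2, 4, 5, 7] (by decide) (by norm_num) f_0_1 f_3_1 f_1_2 f_2_4 f_4_5 f_4_7).elim
        · have f_5_7 : T.a (y 5) (y 7) ≠ 0 := e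
          have f_7_5 : T.a (y 7) (y 5) ≠ 0 := nsymm T f_5_7
          clear e ha
          exact shape8_T124 T h2 (fun i => y (![1, 3, 0, 6, 2, 4, 5, 7] i)) (hy.comp (by decide)) f_1_3 f_1_0 f_0_6 f_1_2 f_2_4 f_4_5 f_5_7
        · have f_6_7 : T.a (y 6) (y 7) ≠ 0 := e
          have f_7_6 : T.a (y 7) (y 6) ≠ 0 := nsymm T f_6_7
          clear e ha
          exact shape8_T133 T h2 (fun i => y (![1, 3, 0, 6, 7, 2, 4, 5] i)) (hy.comp (by decide)) f_1_3 f_1_0 f_0_6 f_6_7 f_1_2 f_2_4 f_4_5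
      · have f_1_6 : T.a (y 1) (y 6) ≠ 0 := e
        have f_6_1 : T.a (y 6) (y 1) ≠ 0 := nsymm T f_1_6
        clear e ha
        exact (excl_D4t T h2 y hy ![1, 0, 2, 3, 6] (by decide) (by norm_num) f_1_0 f_1_2 f_1_3 f_1_6).elim
      · have f_2_6 : T.a (y 2) (y 6) ≠ 0 := e
        have f_6_2 : T.a (y 6) (y 2) ≠ 0 := nsymm T f_2_6
        clear e ha
        exact (excl_D5t T h2 y hy ![0, 3, 1, 2, 4, 6] (by decide) (by norm_num) f_0_1 f_3_1 f_1_2 f_2_4 f_2_6).elim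
      · have f_3_6 : T.a (y 3) (y 6) ≠ 0 := e
        have f_6_3 : T.a (y 6) (y 3) ≠ 0 := nsymm T f_3_6
        clear e ha
        obtain ⟨a, ha, e⟩ := hpar 7 (by norm_num) (by norm_num)
        have hc : a = 0 ∨ a = 1 ∨ a = 2 ∨ a = 3 ∨ a = 4 ∨ a = 5 ∨ a = 6 := by omega
        rcases hc with rfl | rfl | rfl | rfl | rfl | rfl | rfl
        · have f_0_7 : T.a (y 0) (y 7) ≠ 0 := e
          have f_7_0 : T.a (y 7) (y 0) ≠ 0 := nsymm T f_0_7
          clear e ha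
          exact (excl_E6t T h2 y hy ![1, 0, 7, 2, 4, 3, 6] (by decide) (by norm_num) f_1_0 f_0_7 f_1_2 f_2_4 f_1_3 f_3_6).elim
        · have f_1_7 : T.a (y 1) (y 7) ≠ 0 := e
          have f_7_1 : T.a (y 7) (y 1) ≠ 0 := nsymm T f_1_7
          clear e ha
          exact (excl_D4t T h2 y hy ![1, 0, 2, 3, 7] (by decide) (by norm_num) f_1_0 f_1_2 f_1_3 f_1_7).elim
        · have f_2_7 : T.a (y 2) (y 7) ≠ 0 := e
          have f_7_2 : T.a (y 7) (y 2) ≠ 0 := nsymm T f_2_7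
          clear e ha
          exact (excl_D5t T h2 y hy ![0, 3, 1, 2, 4, 7] (by decide) (by norm_num) f_0_1 f_3_1 f_1_2 f_2_4 f_2_7).elim
        · have f_3_7 : T.a (y 3) (y 7) ≠ 0 := e
          have f_7_3 : T.a (y 7) (y 3) ≠ 0 := nsymm T f_3_7
          clear e ha
          exact (excl_D5t T h2 y hy ![0, 2, 1, 3, 6, 7] (by decide) (by norm_num) f_0_1 f_2_1 f_1_3 f_3_6 f_3_7).elim
        · have f_4_7 : T.a (y 4) (y 7) ≠ 0 := e
          have f_7_4 : T.a (y 7) (y 4) ≠ 0 := nsymm T f_4_7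
          clear e ha
          exact (excl_D6t T h2 y hy ![0, 3, 1, 2, 4, 5, 7] (by decide) (by norm_num) f_0_1 f_3_1 f_1_2 f_2_4 f_4_5 f_4_7).elim
        · have f_5_7 : T.a (y 5) (y 7) ≠ 0 := e
          have f_7_5 : T.a (y 7) (y 5) ≠ 0 := nsymm T f_5_7
          clear e ha
          exact shape8_T124 T h2 (fun i => y (![1, 0, 3, 6, 2, 4, 5, 7] i)) (hy.comp (by decide)) f_1_0 f_1_3 f_3_6 f_1_2 f_2_4 f_4_5 f_5_7
        · have f_6_7 : T.a (y 6) (y 7) ≠ 0 := e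
          have f_7_6 : T.a (y 7) (y 6) ≠ 0 := nsymm T f_6_7
          clear e ha
          exact shape8_T133 T h2 (fun i => y (![1, 0, 2, 4, 5, 3, 6, 7] i)) (hy.comp (by decide)) f_1_0 f_1_2 f_2_4 f_4_5 f_1_3 f_3_6 f_6_7
      · have f_4_6 : T.a (y 4) (y 6) ≠ 0 := e
        have f_6_4 : T.a (y 6) (y 4) ≠ 0 := nsymm T f_4_6
        clear e ha
        exact (excl_D6t T h2 y hy ![0, 3, 1, 2, 4, 5, 6] (by decide) (by norm_num) f_0_1 f_3_1 f_1_2 f_2_4 f_4_5 f_4_6).elim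
      · have f_5_6 : T.a (y 5) (y 6) ≠ 0 := e
        have f_6_5 : T.a (y 6) (y 5) ≠ 0 := nsymm T f_5_6
        clear e ha
        obtain ⟨a, ha, e⟩ := hpar 7 (by norm_num) (by norm_num)
        have hc : a = 0 ∨ a = 1 ∨ a = 2 ∨ a = 3 ∨ a = 4 ∨ a = 5 ∨ a = 6 := by omega
        rcases hc with rfl | rfl | rfl | rfl | rfl | rfl | rfl
        · have f_0_7 : T.a (y 0) (y 7) ≠ 0 := e
          have f_7_0 : T.a (y 7) (y 0) ≠ 0 := nsymm T f_0_7
          clear e ha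
          exact shape8_T124 T h2 (fun i => y (![1, 3, 0, 7, 2, 4, 5, 6] i)) (hy.comp (by decide)) f_1_3 f_1_0 f_0_7 f_1_2 f_2_4 f_4_5 f_5_6
        · have f_1_7 : T.a (y 1) (y 7) ≠ 0 := e
          have f_7_1 : T.a (y 7) (y 1) ≠ 0 := nsymm T f_1_7
          clear e ha
          exact (excl_D4t T h2 y hy ![1, 0, 2, 3, 7] (by decide) (by norm_num) f_1_0 f_1_2 f_1_3 f_1_7).elim
        · have f_2_7 : T.a (y 2) (y 7) ≠ 0 := e
          have f_7_2 : T.a (y 7) (y 2) ≠ 0 := nsymm T f_2_7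
          clear e ha
          exact (excl_D5t T h2 y hy ![0, 3, 1, 2, 4, 7] (by decide) (by norm_num) f_0_1 f_3_1 f_1_2 f_2_4 f_2_7).elim
        · have f_3_7 : T.a (y 3) (y 7) ≠ 0 := e
          have f_7_3 : T.a (y 7) (y 3) ≠ 0 := nsymm T f_3_7
          clear e ha
          exact shape8_T124 T h2 (fun i => y (![1, 0, 3, 7, 2, 4, 5, 6] i)) (hy.comp (by decide)) f_1_0 f_1_3 f_3_7 f_1_2 f_2_4 f_4_5 f_5_6
        · have f_4_7 : T.a (y 4) (y 7) ≠ 0 := e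
          have f_7_4 : T.a (y 7) (y 4) ≠ 0 := nsymm T f_4_7
          clear e ha
          exact (excl_D6t T h2 y hy ![0, 3, 1, 2, 4, 5, 7] (by decide) (by norm_num) f_0_1 f_3_1 f_1_2 f_2_4 f_4_5 f_4_7).elim
        · have f_5_7 : T.a (y 5) (y 7) ≠ 0 := e
          have f_7_5 : T.a (y 7) (y 5) ≠ 0 := nsymm T f_5_7
          clear e ha
          exact shape8_Dt T h2 (fun i => y (![0, 3, 1, 2, 4, 5, 6, 7] i)) (hy.comp (by decide)) f_0_1 f_3_1 f_1_2 f_2_4 f_4_5 f_5_6 f_5_7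
        · have f_6_7 : T.a (y 6) (y 7) ≠ 0 := e
          have f_7_6 : T.a (y 7) (y 6) ≠ 0 := nsymm T f_6_7
          clear e ha
          exact shape8_D T h2 (fun i => y (![1, 0, 3, 2, 4, 5, 6, 7] i)) (hy.comp (by decide)) f_1_0 f_1_3 f_1_2 f_2_4 f_4_5 f_5_6 f_6_7
  · have f_3_4 : T.a (y 3) (y 4) ≠ 0 := e
    have f_4_3 : T.a (y 4) (y 3) ≠ 0 := nsymm T f_3_4
    clear e ha
    obtain ⟨a, ha, e⟩ := hpar 5 (by norm_num) (by norm_num)
    have hc : a = 0 ∨ a = 1 ∨ a = 2 ∨ a = 3 ∨ a = 4 := by omega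
    rcases hc with rfl | rfl | rfl | rfl | rfl
    · have f_0_5 : T.a (y 0) (y 5) ≠ 0 := e
      have f_5_0 : T.a (y 5) (y 0) ≠ 0 := nsymm T f_0_5
      clear e ha
      obtain ⟨a, ha, e⟩ := hpar 6 (by norm_num) (by norm_num)
      have hc : a = 0 ∨ a = 1 ∨ a = 2 ∨ a = 3 ∨ a = 4 ∨ a = 5 := by omega
      rcases hc with rfl | rfl | rfl | rfl | rfl | rfl
      · have f_0_6 : T.a (y 0) (y 6) ≠ 0 := e
        have f_6_0 : T.a (y 6) (y 0) ≠ 0 := nsymm T f_0_6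
        clear e ha
        exact (excl_D5t T h2 y hy ![2, 3, 1, 0, 5, 6] (by decide) (by norm_num) f_2_1 f_3_1 f_1_0 f_0_5 f_0_6).elim
      · have f_1_6 : T.a (y 1) (y 6) ≠ 0 := e
        have f_6_1 : T.a (y 6) (y 1) ≠ 0 := nsymm T f_1_6
        clear e ha
        exact (excl_D4t T h2 y hy ![1, 0, 2, 3, 6] (by decide) (by norm_num) f_1_0 f_1_2 f_1_3 f_1_6).elim
      · have f_2_6 : T.a (y 2) (y 6) ≠ 0 := e
        have f_6_2 : T.a (y 6) (y 2) ≠ 0 := nsymm T f_2_6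
        clear e ha
        exact (excl_E6t T h2 y hy ![1, 0, 5, 2, 6, 3, 4] (by decide) (by norm_num) f_1_0 f_0_5 f_1_2 f_2_6 f_1_3 f_3_4).elim
      · have f_3_6 : T.a (y 3) (y 6) ≠ 0 := e
        have f_6_3 : T.a (y 6) (y 3) ≠ 0 := nsymm T f_3_6
        clear e ha
        exact (excl_D5t T h2 y hy ![0, 2, 1, 3, 4, 6] (by decide) (by norm_num) f_0_1 f_2_1 f_1_3 f_3_4 f_3_6).elim
      · have f_4_6 : T.a (y 4) (y 6) ≠ 0 := e
        have f_6_4 : T.a (y 6) (y 4) ≠ 0 := nsymm T f_4_6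
        clear e ha
        obtain ⟨a, ha, e⟩ := hpar 7 (by norm_num) (by norm_num)
        have hc : a = 0 ∨ a = 1 ∨ a = 2 ∨ a = 3 ∨ a = 4 ∨ a = 5 ∨ a = 6 := by omega
        rcases hc with rfl | rfl | rfl | rfl | rfl | rfl | rfl
        · have f_0_7 : T.a (y 0) (y 7) ≠ 0 := e
          have f_7_0 : T.a (y 7) (y 0) ≠ 0 := nsymm T f_0_7
          clear e ha
          exact (excl_D5t T h2 y hy ![2, 3, 1, 0, 5, 7] (by decide) (by norm_num) f_2_1 f_3_1 f_1_0 f_0_5 f_0_7).elim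
        · have f_1_7 : T.a (y 1) (y 7) ≠ 0 := e
          have f_7_1 : T.a (y 7) (y 1) ≠ 0 := nsymm T f_1_7
          clear e ha
          exact (excl_D4t T h2 y hy ![1, 0, 2, 3, 7] (by decide) (by norm_num) f_1_0 f_1_2 f_1_3 f_1_7).elim
        · have f_2_7 : T.a (y 2) (y 7) ≠ 0 := e
          have f_7_2 : T.a (y 7) (y 2) ≠ 0 := nsymm T f_2_7
          clear e ha
          exact (excl_E6t T h2 y hy ![1, 0, 5, 2, 7, 3, 4] (by decide) (by norm_num) f_1_0 f_0_5 f_1_2 f_2_7 f_1_3 f_3_4).elim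
        · have f_3_7 : T.a (y 3) (y 7) ≠ 0 := e
          have f_7_3 : T.a (y 7) (y 3) ≠ 0 := nsymm T f_3_7
          clear e ha
          exact (excl_D5t T h2 y hy ![0, 2, 1, 3, 4, 7] (by decide) (by norm_num) f_0_1 f_2_1 f_1_3 f_3_4 f_3_7).elim
        · have f_4_7 : T.a (y 4) (y 7) ≠ 0 := e
          have f_7_4 : T.a (y 7) (y 4) ≠ 0 := nsymm T f_4_7
          clear e ha
          exact (excl_D6t T h2 y hy ![0, 2, 1, 3, 4, 6, 7] (by decide) (by norm_num) f_0_1 f_2_1 f_1_3 f_3_4 f_4_6 f_4_7).elim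
        · have f_5_7 : T.a (y 5) (y 7) ≠ 0 := e
          have f_7_5 : T.a (y 7) (y 5) ≠ 0 := nsymm T f_5_7
          clear e ha
          exact shape8_T133 T h2 (fun i => y (![1, 2, 0, 5, 7, 3, 4, 6] i)) (hy.comp (by decide)) f_1_2 f_1_0 f_0_5 f_5_7 f_1_3 f_3_4 f_4_6
        · have f_6_7 : T.a (y 6) (y 7) ≠ 0 := e
          have f_7_6 : T.a (y 7) (y 6) ≠ 0 := nsymm T f_6_7
          clear e ha
          exact shape8_T124 T h2 (fun i => y (![1, 2, 0, 5, 3, 4, 6, 7] i)) (hy.comp (by decide)) f_1_2 f_1_0 f_0_5 f_1_3 f_3_4 f_4_6 f_6_7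
      · have f_5_6 : T.a (y 5) (y 6) ≠ 0 := e
        have f_6_5 : T.a (y 6) (y 5) ≠ 0 := nsymm T f_5_6
        clear e ha
        obtain ⟨a, ha, e⟩ := hpar 7 (by norm_num) (by norm_num)
        have hc : a = 0 ∨ a = 1 ∨ a = 2 ∨ a = 3 ∨ a = 4 ∨ a = 5 ∨ a = 6 := by omega
        rcases hc with rfl | rfl | rfl | rfl | rfl | rfl | rfl
        · have f_0_7 : T.a (y 0) (y 7) ≠ 0 := e
          have f_7_0 : T.a (y 7) (y 0) ≠ 0 := nsymm T f_0_7
          clear e ha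
          exact (excl_D5t T h2 y hy ![2, 3, 1, 0, 5, 7] (by decide) (by norm_num) f_2_1 f_3_1 f_1_0 f_0_5 f_0_7).elim
        · have f_1_7 : T.a (y 1) (y 7) ≠ 0 := e
          have f_7_1 : T.a (y 7) (y 1) ≠ 0 := nsymm T f_1_7
          clear e ha
          exact (excl_D4t T h2 y hy ![1, 0, 2, 3, 7] (by decide) (by norm_num) f_1_0 f_1_2 f_1_3 f_1_7).elim
        · have f_2_7 : T.a (y 2) (y 7) ≠ 0 := e
          have f_7_2 : T.a (y 7) (y 2) ≠ 0 := nsymm T f_2_7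
          clear e ha
          exact (excl_E6t T h2 y hy ![1, 0, 5, 2, 7, 3, 4] (by decide) (by norm_num) f_1_0 f_0_5 f_1_2 f_2_7 f_1_3 f_3_4).elim
        · have f_3_7 : T.a (y 3) (y 7) ≠ 0 := e
          have f_7_3 : T.a (y 7) (y 3) ≠ 0 := nsymm T f_3_7
          clear e ha
          exact (excl_D5t T h2 y hy ![0, 2, 1, 3, 4, 7] (by decide) (by norm_num) f_0_1 f_2_1 f_1_3 f_3_4 f_3_7).elim
        · have f_4_7 : T.a (y 4) (y 7) ≠ 0 := e
          have f_7_4 : T.a (y 7) (y 4) ≠ 0 := nsymm T f_4_7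
          clear e ha
          exact shape8_T133 T h2 (fun i => y (![1, 2, 0, 5, 6, 3, 4, 7] i)) (hy.comp (by decide)) f_1_2 f_1_0 f_0_5 f_5_6 f_1_3 f_3_4 f_4_7
        · have f_5_7 : T.a (y 5) (y 7) ≠ 0 := e
          have f_7_5 : T.a (y 7) (y 5) ≠ 0 := nsymm T f_5_7
          clear e ha
          exact (excl_D6t T h2 y hy ![2, 3, 1, 0, 5, 6, 7] (by decide) (by norm_num) f_2_1 f_3_1 f_1_0 f_0_5 f_5_6 f_5_7).elim
        · have f_6_7 : T.a (y 6) (y 7) ≠ 0 := e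
          have f_7_6 : T.a (y 7) (y 6) ≠ 0 := nsymm T f_6_7
          clear e ha
          exact shape8_T124 T h2 (fun i => y (![1, 2, 3, 4, 0, 5, 6, 7] i)) (hy.comp (by decide)) f_1_2 f_1_3 f_3_4 f_1_0 f_0_5 f_5_6 f_6_7
    · have f_1_5 : T.a (y 1) (y 5) ≠ 0 := e
      have f_5_1 : T.a (y 5) (y 1) ≠ 0 := nsymm T f_1_5
      clear e ha
      exact (excl_D4t T h2 y hy ![1, 0, 2, 3, 5] (by decide) (by norm_num) f_1_0 f_1_2 f_1_3 f_1_5).elim
    · have f_2_5 : T.a (y 2) (y 5) ≠ 0 := e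
      have f_5_2 : T.a (y 5) (y 2) ≠ 0 := nsymm T f_2_5
      clear e ha
      obtain ⟨a, ha, e⟩ := hpar 6 (by norm_num) (by norm_num)
      have hc : a = 0 ∨ a = 1 ∨ a = 2 ∨ a = 3 ∨ a = 4 ∨ a = 5 := by omega
      rcases hc with rfl | rfl | rfl | rfl | rfl | rfl
      · have f_0_6 : T.a (y 0) (y 6) ≠ 0 := e
        have f_6_0 : T.a (y 6) (y 0) ≠ 0 := nsymm T f_0_6
        clear e ha
        exact (excl_E6t T h2 y hy ![1, 0, 6, 2, 5, 3, 4] (by decide) (by norm_num) f_1_0 f_0_6 f_1_2 f_2_5 f_1_3 f_3_4).elim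
      · have f_1_6 : T.a (y 1) (y 6) ≠ 0 := e
        have f_6_1 : T.a (y 6) (y 1) ≠ 0 := nsymm T f_1_6
        clear e ha
        exact (excl_D4t T h2 y hy ![1, 0, 2, 3, 6] (by decide) (by norm_num) f_1_0 f_1_2 f_1_3 f_1_6).elim
      · have f_2_6 : T.a (y 2) (y 6) ≠ 0 := e
        have f_6_2 : T.a (y 6) (y 2) ≠ 0 := nsymm T f_2_6
        clear e ha
        exact (excl_D5t T h2 y hy ![0, 3, 1, 2, 5, 6] (by decide) (by norm_num) f_0_1 f_3_1 f_1_2 f_2_5 f_2_6).elim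
      · have f_3_6 : T.a (y 3) (y 6) ≠ 0 := e
        have f_6_3 : T.a (y 6) (y 3) ≠ 0 := nsymm T f_3_6
        clear e ha
        exact (excl_D5t T h2 y hy ![0, 2, 1, 3, 4, 6] (by decide) (by norm_num) f_0_1 f_2_1 f_1_3 f_3_4 f_3_6).elim
      · have f_4_6 : T.a (y 4) (y 6) ≠ 0 := e
        have f_6_4 : T.a (y 6) (y 4) ≠ 0 := nsymm T f_4_6
        clear e ha
        obtain ⟨a, ha, e⟩ := hpar 7 (by norm_num) (by norm_num)
        have hc : a = 0 ∨ a = 1 ∨ a = 2 ∨ a = 3 ∨ a = 4 ∨ a = 5 ∨ a = 6 := by omega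
        rcases hc with rfl | rfl | rfl | rfl | rfl | rfl | rfl
        · have f_0_7 : T.a (y 0) (y 7) ≠ 0 := e
          have f_7_0 : T.a (y 7) (y 0) ≠ 0 := nsymm T f_0_7
          clear e ha
          exact (excl_E6t T h2 y hy ![1, 0, 7, 2, 5, 3, 4] (by decide) (by norm_num) f_1_0 f_0_7 f_1_2 f_2_5 f_1_3 f_3_4).elim
        · have f_1_7 : T.a (y 1) (y 7) ≠ 0 := e
          have f_7_1 : T.a (y 7) (y 1) ≠ 0 := nsymm T f_1_7
          clear e ha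
          exact (excl_D4t T h2 y hy ![1, 0, 2, 3, 7] (by decide) (by norm_num) f_1_0 f_1_2 f_1_3 f_1_7).elim
        · have f_2_7 : T.a (y 2) (y 7) ≠ 0 := e
          have f_7_2 : T.a (y 7) (y 2) ≠ 0 := nsymm T f_2_7
          clear e ha
          exact (excl_D5t T h2 y hy ![0, 3, 1, 2, 5, 7] (by decide) (by norm_num) f_0_1 f_3_1 f_1_2 f_2_5 f_2_7).elim
        · have f_3_7 : T.a (y 3) (y 7) ≠ 0 := e
          have f_7_3 : T.a (y 7) (y 3) ≠ 0 := nsymm T f_3_7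
          clear e ha
          exact (excl_D5t T h2 y hy ![0, 2, 1, 3, 4, 7] (by decide) (by norm_num) f_0_1 f_2_1 f_1_3 f_3_4 f_3_7).elim
        · have f_4_7 : T.a (y 4) (y 7) ≠ 0 := e
          have f_7_4 : T.a (y 7) (y 4) ≠ 0 := nsymm T f_4_7
          clear e ha
          exact (excl_D6t T h2 y hy ![0, 2, 1, 3, 4, 6, 7] (by decide) (by norm_num) f_0_1 f_2_1 f_1_3 f_3_4 f_4_6 f_4_7).elim
        · have f_5_7 : T.a (y 5) (y 7) ≠ 0 := e
          have f_7_5 : T.a (y 7) (y 5) ≠ 0 := nsymm T f_5_7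
          clear e ha
          exact shape8_T133 T h2 (fun i => y (![1, 0, 2, 5, 7, 3, 4, 6] i)) (hy.comp (by decide)) f_1_0 f_1_2 f_2_5 f_5_7 f_1_3 f_3_4 f_4_6
        · have f_6_7 : T.a (y 6) (y 7) ≠ 0 := e
          have f_7_6 : T.a (y 7) (y 6) ≠ 0 := nsymm T f_6_7
          clear e ha
          exact shape8_T124 T h2 (fun i => y (![1, 0, 2, 5, 3, 4, 6, 7] i)) (hy.comp (by decide)) f_1_0 f_1_2 f_2_5 f_1_3 f_3_4 f_4_6 f_6_7
      · have f_5_6 : T.a (y 5) (y 6) ≠ 0 := e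
        have f_6_5 : T.a (y 6) (y 5) ≠ 0 := nsymm T f_5_6
        clear e ha
        obtain ⟨a, ha, e⟩ := hpar 7 (by norm_num) (by norm_num)
        have hc : a = 0 ∨ a = 1 ∨ a = 2 ∨ a = 3 ∨ a = 4 ∨ a = 5 ∨ a = 6 := by omega
        rcases hc with rfl | rfl | rfl | rfl | rfl | rfl | rfl
        · have f_0_7 : T.a (y 0) (y 7) ≠ 0 := e
          have f_7_0 : T.a (y 7) (y 0) ≠ 0 := nsymm T f_0_7
          clear e ha
          exact (excl_E6t T h2 y hy ![1, 0, 7, 2, 5, 3, 4] (by decide) (by norm_num) f_1_0 f_0_7 f_1_2 f_2_5 f_1_3 f_3_4).elim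
        · have f_1_7 : T.a (y 1) (y 7) ≠ 0 := e
          have f_7_1 : T.a (y 7) (y 1) ≠ 0 := nsymm T f_1_7
          clear e ha
          exact (excl_D4t T h2 y hy ![1, 0, 2, 3, 7] (by decide) (by norm_num) f_1_0 f_1_2 f_1_3 f_1_7).elim
        · have f_2_7 : T.a (y 2) (y 7) ≠ 0 := e
          have f_7_2 : T.a (y 7) (y 2) ≠ 0 := nsymm T f_2_7
          clear e ha
          exact (excl_D5t T h2 y hy ![0, 3, 1, 2, 5, 7] (by decide) (by norm_num) f_0_1 f_3_1 f_1_2 f_2_5 f_2_7).elim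
        · have f_3_7 : T.a (y 3) (y 7) ≠ 0 := e
          have f_7_3 : T.a (y 7) (y 3) ≠ 0 := nsymm T f_3_7
          clear e ha
          exact (excl_D5t T h2 y hy ![0, 2, 1, 3, 4, 7] (by decide) (by norm_num) f_0_1 f_2_1 f_1_3 f_3_4 f_3_7).elim
        · have f_4_7 : T.a (y 4) (y 7) ≠ 0 := e
          have f_7_4 : T.a (y 7) (y 4) ≠ 0 := nsymm T f_4_7
          clear e ha
          exact shape8_T133 T h2 (fun i => y (![1, 0, 2, 5, 6, 3, 4, 7] i)) (hy.comp (by decide)) f_1_0 f_1_2 f_2_5 f_5_6 f_1_3 f_3_4 f_4_7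
        · have f_5_7 : T.a (y 5) (y 7) ≠ 0 := e
          have f_7_5 : T.a (y 7) (y 5) ≠ 0 := nsymm T f_5_7
          clear e ha
          exact (excl_D6t T h2 y hy ![0, 3, 1, 2, 5, 6, 7] (by decide) (by norm_num) f_0_1 f_3_1 f_1_2 f_2_5 f_5_6 f_5_7).elim
        · have f_6_7 : T.a (y 6) (y 7) ≠ 0 := e
          have f_7_6 : T.a (y 7) (y 6) ≠ 0 := nsymm T f_6_7
          clear e ha
          exact shape8_T124 T h2 (fun i => y (![1, 0, 3, 4, 2, 5, 6, 7] i)) (hy.comp (by decide)) f_1_0 f_1_3 f_3_4 f_1_2 f_2_5 f_5_6 f_6_7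
    · have f_3_5 : T.a (y 3) (y 5) ≠ 0 := e
      have f_5_3 : T.a (y 5) (y 3) ≠ 0 := nsymm T f_3_5
      clear e ha
      exact (excl_D5t T h2 y hy ![0, 2, 1, 3, 4, 5] (by decide) (by norm_num) f_0_1 f_2_1 f_1_3 f_3_4 f_3_5).elim
    · have f_4_5 : T.a (y 4) (y 5) ≠ 0 := e
      have f_5_4 : T.a (y 5) (y 4) ≠ 0 := nsymm T f_4_5
      clear e ha
      obtain ⟨a, ha, e⟩ := hpar 6 (by norm_num) (by norm_num)
      have hc : a = 0 ∨ a = 1 ∨ a = 2 ∨ a = 3 ∨ a = 4 ∨ a = 5 := by omega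
      rcases hc with rfl | rfl | rfl | rfl | rfl | rfl
      · have f_0_6 : T.a (y 0) (y 6) ≠ 0 := e
        have f_6_0 : T.a (y 6) (y 0) ≠ 0 := nsymm T f_0_6
        clear e ha
        obtain ⟨a, ha, e⟩ := hpar 7 (by norm_num) (by norm_num)
        have hc : a = 0 ∨ a = 1 ∨ a = 2 ∨ a = 3 ∨ a = 4 ∨ a = 5 ∨ a = 6 := by omega
        rcases hc with rfl | rfl | rfl | rfl | rfl | rfl | rfl
        · have f_0_7 : T.a (y 0) (y 7) ≠ 0 := e
          have f_7_0 : T.a (y 7) (y 0) ≠ 0 := nsymm T f_0_7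
          clear e ha
          exact (excl_D5t T h2 y hy ![2, 3, 1, 0, 6, 7] (by decide) (by norm_num) f_2_1 f_3_1 f_1_0 f_0_6 f_0_7).elim
        · have f_1_7 : T.a (y 1) (y 7) ≠ 0 := e
          have f_7_1 : T.a (y 7) (y 1) ≠ 0 := nsymm T f_1_7
          clear e ha
          exact (excl_D4t T h2 y hy ![1, 0, 2, 3, 7] (by decide) (by norm_num) f_1_0 f_1_2 f_1_3 f_1_7).elim
        · have f_2_7 : T.a (y 2) (y 7) ≠ 0 := e
          have f_7_2 : T.a (y 7) (y 2) ≠ 0 := nsymm T f_2_7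
          clear e ha
          exact (excl_E6t T h2 y hy ![1, 0, 6, 2, 7, 3, 4] (by decide) (by norm_num) f_1_0 f_0_6 f_1_2 f_2_7 f_1_3 f_3_4).elim
        · have f_3_7 : T.a (y 3) (y 7) ≠ 0 := e
          have f_7_3 : T.a (y 7) (y 3) ≠ 0 := nsymm T f_3_7
          clear e ha
          exact (excl_D5t T h2 y hy ![0, 2, 1, 3, 4, 7] (by decide) (by norm_num) f_0_1 f_2_1 f_1_3 f_3_4 f_3_7).elim
        · have f_4_7 : T.a (y 4) (y 7) ≠ 0 := e
          have f_7_4 : T.a (y 7) (y 4) ≠ 0 := nsymm T f_4_7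
          clear e ha
          exact (excl_D6t T h2 y hy ![0, 2, 1, 3, 4, 5, 7] (by decide) (by norm_num) f_0_1 f_2_1 f_1_3 f_3_4 f_4_5 f_4_7).elim
        · have f_5_7 : T.a (y 5) (y 7) ≠ 0 := e
          have f_7_5 : T.a (y 7) (y 5) ≠ 0 := nsymm T f_5_7
          clear e ha
          exact shape8_T124 T h2 (fun i => y (![1, 2, 0, 6, 3, 4, 5, 7] i)) (hy.comp (by decide)) f_1_2 f_1_0 f_0_6 f_1_3 f_3_4 f_4_5 f_5_7
        · have f_6_7 : T.a (y 6) (y 7) ≠ 0 := e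
          have f_7_6 : T.a (y 7) (y 6) ≠ 0 := nsymm T f_6_7
          clear e ha
          exact shape8_T133 T h2 (fun i => y (![1, 2, 0, 6, 7, 3, 4, 5] i)) (hy.comp (by decide)) f_1_2 f_1_0 f_0_6 f_6_7 f_1_3 f_3_4 f_4_5
      · have f_1_6 : T.a (y 1) (y 6) ≠ 0 := e
        have f_6_1 : T.a (y 6) (y 1) ≠ 0 := nsymm T f_1_6
        clear e ha
        exact (excl_D4t T h2 y hy ![1, 0, 2, 3, 6] (by decide) (by norm_num) f_1_0 f_1_2 f_1_3 f_1_6).elim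
      · have f_2_6 : T.a (y 2) (y 6) ≠ 0 := e
        have f_6_2 : T.a (y 6) (y 2) ≠ 0 := nsymm T f_2_6
        clear e ha
        obtain ⟨a, ha, e⟩ := hpar 7 (by norm_num) (by norm_num)
        have hc : a = 0 ∨ a = 1 ∨ a = 2 ∨ a = 3 ∨ a = 4 ∨ a = 5 ∨ a = 6 := by omega
        rcases hc with rfl | rfl | rfl | rfl | rfl | rfl | rfl
        · have f_0_7 : T.a (y 0) (y 7) ≠ 0 := e
          have f_7_0 : T.a (y 7) (y 0) ≠ 0 := nsymm T f_0_7
          clear e ha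
          exact (excl_E6t T h2 y hy ![1, 0, 7, 2, 6, 3, 4] (by decide) (by norm_num) f_1_0 f_0_7 f_1_2 f_2_6 f_1_3 f_3_4).elim
        · have f_1_7 : T.a (y 1) (y 7) ≠ 0 := e
          have f_7_1 : T.a (y 7) (y 1) ≠ 0 := nsymm T f_1_7
          clear e ha
          exact (excl_D4t T h2 y hy ![1, 0, 2, 3, 7] (by decide) (by norm_num) f_1_0 f_1_2 f_1_3 f_1_7).elim
        · have f_2_7 : T.a (y 2) (y 7) ≠ 0 := e
          have f_7_2 : T.a (y 7) (y 2) ≠ 0 := nsymm T f_2_7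
          clear e ha
          exact (excl_D5t T h2 y hy ![0, 3, 1, 2, 6, 7] (by decide) (by norm_num) f_0_1 f_3_1 f_1_2 f_2_6 f_2_7).elim
        · have f_3_7 : T.a (y 3) (y 7) ≠ 0 := e
          have f_7_3 : T.a (y 7) (y 3) ≠ 0 := nsymm T f_3_7
          clear e ha
          exact (excl_D5t T h2 y hy ![0, 2, 1, 3, 4, 7] (by decide) (by norm_num) f_0_1 f_2_1 f_1_3 f_3_4 f_3_7).elim
        · have f_4_7 : T.a (y 4) (y 7) ≠ 0 := e
          have f_7_4 : T.a (y 7) (y 4) ≠ 0 := nsymm T f_4_7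
          clear e ha
          exact (excl_D6t T h2 y hy ![0, 2, 1, 3, 4, 5, 7] (by decide) (by norm_num) f_0_1 f_2_1 f_1_3 f_3_4 f_4_5 f_4_7).elim
        · have f_5_7 : T.a (y 5) (y 7) ≠ 0 := e
          have f_7_5 : T.a (y 7) (y 5) ≠ 0 := nsymm T f_5_7
          clear e ha
          exact shape8_T124 T h2 (fun i => y (![1, 0, 2, 6, 3, 4, 5, 7] i)) (hy.comp (by decide)) f_1_0 f_1_2 f_2_6 f_1_3 f_3_4 f_4_5 f_5_7
        · have f_6_7 : T.a (y 6) (y 7) ≠ 0 := e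
          have f_7_6 : T.a (y 7) (y 6) ≠ 0 := nsymm T f_6_7
          clear e ha
          exact shape8_T133 T h2 (fun i => y (![1, 0, 2, 6, 7, 3, 4, 5] i)) (hy.comp (by decide)) f_1_0 f_1_2 f_2_6 f_6_7 f_1_3 f_3_4 f_4_5
      · have f_3_6 : T.a (y 3) (y 6) ≠ 0 := e
        have f_6_3 : T.a (y 6) (y 3) ≠ 0 := nsymm T f_3_6
        clear e ha
        exact (excl_D5t T h2 y hy ![0, 2, 1, 3, 4, 6] (by decide) (by norm_num) f_0_1 f_2_1 f_1_3 f_3_4 f_3_6).elim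
      · have f_4_6 : T.a (y 4) (y 6) ≠ 0 := e
        have f_6_4 : T.a (y 6) (y 4) ≠ 0 := nsymm T f_4_6
        clear e ha
        exact (excl_D6t T h2 y hy ![0, 2, 1, 3, 4, 5, 6] (by decide) (by norm_num) f_0_1 f_2_1 f_1_3 f_3_4 f_4_5 f_4_6).elim
      · have f_5_6 : T.a (y 5) (y 6) ≠ 0 := e
        have f_6_5 : T.a (y 6) (y 5) ≠ 0 := nsymm T f_5_6
        clear e ha
        obtain ⟨a, ha, e⟩ := hpar 7 (by norm_num) (by norm_num)
        have hc : a = 0 ∨ a = 1 ∨ a = 2 ∨ a = 3 ∨ a = 4 ∨ a = 5 ∨ a = 6 := by omega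
        rcases hc with rfl | rfl | rfl | rfl | rfl | rfl | rfl
        · have f_0_7 : T.a (y 0) (y 7) ≠ 0 := e
          have f_7_0 : T.a (y 7) (y 0) ≠ 0 := nsymm T f_0_7
          clear e ha
          exact shape8_T124 T h2 (fun i => y (![1, 2, 0, 7, 3, 4, 5, 6] i)) (hy.comp (by decide)) f_1_2 f_1_0 f_0_7 f_1_3 f_3_4 f_4_5 f_5_6
        · have f_1_7 : T.a (y 1) (y 7) ≠ 0 := e
          have f_7_1 : T.a (y 7) (y 1) ≠ 0 := nsymm T f_1_7
          clear e ha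
          exact (excl_D4t T h2 y hy ![1, 0, 2, 3, 7] (by decide) (by norm_num) f_1_0 f_1_2 f_1_3 f_1_7).elim
        · have f_2_7 : T.a (y 2) (y 7) ≠ 0 := e
          have f_7_2 : T.a (y 7) (y 2) ≠ 0 := nsymm T f_2_7
          clear e ha
          exact shape8_T124 T h2 (fun i => y (![1, 0, 2, 7, 3, 4, 5, 6] i)) (hy.comp (by decide)) f_1_0 f_1_2 f_2_7 f_1_3 f_3_4 f_4_5 f_5_6
        · have f_3_7 : T.a (y 3) (y 7) ≠ 0 := e
          have f_7_3 : T.a (y 7) (y 3) ≠ 0 := nsymm T f_3_7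
          clear e ha
          exact (excl_D5t T h2 y hy ![0, 2, 1, 3, 4, 7] (by decide) (by norm_num) f_0_1 f_2_1 f_1_3 f_3_4 f_3_7).elim
        · have f_4_7 : T.a (y 4) (y 7) ≠ 0 := e
          have f_7_4 : T.a (y 7) (y 4) ≠ 0 := nsymm T f_4_7
          clear e ha
          exact (excl_D6t T h2 y hy ![0, 2, 1, 3, 4, 5, 7] (by decide) (by norm_num) f_0_1 f_2_1 f_1_3 f_3_4 f_4_5 f_4_7).elim
        · have f_5_7 : T.a (y 5) (y 7) ≠ 0 := e
          have f_7_5 : T.a (y 7) (y 5) ≠ 0 := nsymm T f_5_7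
          clear e ha
          exact shape8_Dt T h2 (fun i => y (![0, 2, 1, 3, 4, 5, 6, 7] i)) (hy.comp (by decide)) f_0_1 f_2_1 f_1_3 f_3_4 f_4_5 f_5_6 f_5_7
        · have f_6_7 : T.a (y 6) (y 7) ≠ 0 := e
          have f_7_6 : T.a (y 7) (y 6) ≠ 0 := nsymm T f_6_7
          clear e ha
          exact shape8_D T h2 (fun i => y (![1, 0, 2, 3, 4, 5, 6, 7] i)) (hy.comp (by decide)) f_1_0 f_1_2 f_1_3 f_3_4 f_4_5 f_5_6 f_6_7

end Groth.Agent.H3.Gen
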