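import Groth.Agent.H3.G8Disp0
import Groth.Agent.H3.G8Disp1

set_option autoImplicit false
set_option linter.unusedVariables false
set_option linter.unusedTactic false
set_option linter.unreachableTactic false

namespace Groth.Agent.H3.Gen
open Groth.Agent.H3 Groth.Agent.H2

theorem dispatch8 (T : Models.NumericalType 8) (h2 : ∀ i, T.IsMinusTwo i) : Goal8 T := by
  obtain ⟨y, hy, hpar⟩ := exists_growth T
  obtain ⟨a, ha, e⟩ := hpar 1 (by norm_num) (by norm_num)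
  obtain rfl : a = 0 := by omega
  have f_0_1 : T.a (y 0) (y 1) ≠ 0 := e
  have f_1_0 : T.a (y 1) (y 0) ≠ 0 := nsymm T f_0_1
  clear e ha
  obtain ⟨a, ha, e⟩ := hpar 2 (by norm_num) (by norm_num)
  have hc : a = 0 ∨ a = 1 := by omega
  rcases hc with rfl | rfl
  · have f_0_2 : T.a (y 0) (y 2) ≠ 0 := e
    have f_2_0 : T.a (y 2) (y 0) ≠ 0 := nsymm T f_0_2
    clear e ha
    obtain ⟨a, ha, e⟩ := hpar 3 (by norm_num) (by norm_num)
    have hc : a = 0 ∨ a = 1 ∨ a = 2 := by omega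
    rcases hc with rfl | rfl | rfl
    · have f_0_3 : T.a (y 0) (y 3) ≠ 0 := e
      have f_3_0 : T.a (y 3) (y 0) ≠ 0 := nsymm T f_0_3
      clear e ha
      exact disp8_000 T h2 y hy hpar f_0_1 f_1_0 f_0_2 f_2_0 f_0_3 f_3_0
    · have f_1_3 : T.a (y 1) (y 3) ≠ 0 := e
      have f_3_1 : T.a (y 3) (y 1) ≠ 0 := nsymm T f_1_3
      clear e ha
      exact disp8_001 T h2 y hy hpar f_0_1 f_1_0 f_0_2 f_2_0 f_1_3 f_3_1
    · have f_2_3 : T.a (y 2) (y 3) ≠ 0 := e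
      have f_3_2 : T.a (y 3) (y 2) ≠ 0 := nsymm T f_2_3
      clear e ha
      exact disp8_002 T h2 y hy hpar f_0_1 f_1_0 f_0_2 f_2_0 f_2_3 f_3_2
  · have f_1_2 : T.a (y 1) (y 2) ≠ 0 := e
    have f_2_1 : T.a (y 2) (y 1) ≠ 0 := nsymm T f_1_2
    clear e ha
    obtain ⟨a, ha, e⟩ := hpar 3 (by norm_num) (by norm_num)
    have hc : a = 0 ∨ a = 1 ∨ a = 2 := by omega
    rcases hc with rfl | rfl | rfl
    · have f_0_3 : T.a (y 0) (y 3) ≠ 0 := e
      have f_3_0 : T.a (y 3) (y 0) ≠ 0 := nsymm T f_0_3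
      clear e ha
      exact disp8_010 T h2 y hy hpar f_0_1 f_1_0 f_1_2 f_2_1 f_0_3 f_3_0
    · have f_1_3 : T.a (y 1) (y 3) ≠ 0 := e
      have f_3_1 : T.a (y 3) (y 1) ≠ 0 := nsymm T f_1_3
      clear e ha
      exact disp8_011 T h2 y hy hpar f_0_1 f_1_0 f_1_2 f_2_1 f_1_3 f_3_1
    · have f_2_3 : T.a (y 2) (y 3) ≠ 0 := e
      have f_3_2 : T.a (y 3) (y 2) ≠ 0 := nsymm T f_2_3
      clear e ha
      exact disp8_012 T h2 y hy hpar f_0_1 f_1_0 f_1_2 f_2_1 f_2_3 f_3_2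

end Groth.Agent.H3.Gen
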