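import Groth.Agent.H3.G9Disp0
import Groth.Agent.H3.G9Disp1
import Groth.Agent.H3.G9Disp2
import Groth.Agent.H3.G9Disp3

set_option autoImplicit false
set_option linter.unusedVariables false
set_option linter.unusedTactic false
set_option linter.unreachableTactic false

namespace Groth.Agent.H3.Gen
open Groth.Agent.H3 Groth.Agent.H2

theorem dispatch9 (T : Models.NumericalType 9) (h2 : ∀ i, T.IsMinusTwo i) : Goal9 T := by
  obtain ⟨y, hy, hpar⟩ := exists_growth T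
  obtain ⟨a, ha, e⟩ := hpar 1 (by norm_num) (by norm_num)
  obtain rfl : a = 0 := by omega
  have f_0_1 : T.a (y 0) (y 1) ≠ 0 := e
  have f_1_0 : T.a (y 1) (y 0) ≠ 0 := nsymm T f_0_1
  clear e ha
  obtain ⟨a, ha, e⟩ := hpar 2 (by norm_num) (by norm_num)
  have hc : a = 0 ∨ a = 1 := by omega
  rcases hc with rfl | rfl
  · have f_0_2 : T.a (y 0) (y 2) ≠ 0 := e
    have f_2_0 : T.a (y 2) (y 0) ≠ 0 := nsymm T f_0_2
    clear e ha
    obtain ⟨a, ha, e⟩ := hpar 3 (by norm_num) (by norm_num)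
    have hc : a = 0 ∨ a = 1 ∨ a = 2 := by omega
    rcases hc with rfl | rfl | rfl
    · have f_0_3 : T.a (y 0) (y 3) ≠ 0 := e
      have f_3_0 : T.a (y 3) (y 0) ≠ 0 := nsymm T f_0_3
      clear e ha
      obtain ⟨a, ha, e⟩ := hpar 4 (by norm_num) (by norm_num)
      have hc : a = 0 ∨ a = 1 ∨ a = 2 ∨ a = 3 := by omega
      rcases hc with rfl | rfl | rfl | rfl
      · have f_0_4 : T.a (y 0) (y 4) ≠ 0 := e
        have f_4_0 : T.a (y 4) (y 0) ≠ 0 := nsymm T f_0_4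
        clear e ha
        exact (excl_D4t T h2 y hy ![0, 1, 2, 3, 4] (by decide) (by norm_num) f_0_1 f_0_2 f_0_3 f_0_4).elim
      · have f_1_4 : T.a (y 1) (y 4) ≠ 0 := e
        have f_4_1 : T.a (y 4) (y 1) ≠ 0 := nsymm T f_1_4
        clear e ha
        exact disp9_0001 T h2 y hy hpar f_0_1 f_1_0 f_0_2 f_2_0 f_0_3 f_3_0 f_1_4 f_4_1
      · have f_2_4 : T.a (y 2) (y 4) ≠ 0 := e
        have f_4_2 : T.a (y 4) (y 2) ≠ 0 := nsymm T f_2_4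
        clear e ha
        exact disp9_0002 T h2 y hy hpar f_0_1 f_1_0 f_0_2 f_2_0 f_0_3 f_3_0 f_2_4 f_4_2
      · have f_3_4 : T.a (y 3) (y 4) ≠ 0 := e
        have f_4_3 : T.a (y 4) (y 3) ≠ 0 := nsymm T f_3_4
        clear e ha
        exact disp9_0003 T h2 y hy hpar f_0_1 f_1_0 f_0_2 f_2_0 f_0_3 f_3_0 f_3_4 f_4_3
    · have f_1_3 : T.a (y 1) (y 3) ≠ 0 := e
      have f_3_1 : T.a (y 3) (y 1) ≠ 0 := nsymm T f_1_3
      clear e ha
      obtain ⟨a, ha, e⟩ := hpar 4 (by norm_num) (by norm_num)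
      have hc : a = 0 ∨ a = 1 ∨ a = 2 ∨ a = 3 := by omega
      rcases hc with rfl | rfl | rfl | rfl
      · have f_0_4 : T.a (y 0) (y 4) ≠ 0 := e
        have f_4_0 : T.a (y 4) (y 0) ≠ 0 := nsymm T f_0_4
        clear e ha
        exact disp9_0010 T h2 y hy hpar f_0_1 f_1_0 f_0_2 f_2_0 f_1_3 f_3_1 f_0_4 f_4_0
      · have f_1_4 : T.a (y 1) (y 4) ≠ 0 := e
        have f_4_1 : T.a (y 4) (y 1) ≠ 0 := nsymm T f_1_4
        clear e ha
        exact disp9_0011 T h2 y hy hpar f_0_1 f_1_0 f_0_2 f_2_0 f_1_3 f_3_1 f_1_4 f_4_1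
      · have f_2_4 : T.a (y 2) (y 4) ≠ 0 := e
        have f_4_2 : T.a (y 4) (y 2) ≠ 0 := nsymm T f_2_4
        clear e ha
        exact disp9_0012 T h2 y hy hpar f_0_1 f_1_0 f_0_2 f_2_0 f_1_3 f_3_1 f_2_4 f_4_2
      · have f_3_4 : T.a (y 3) (y 4) ≠ 0 := e
        have f_4_3 : T.a (y 4) (y 3) ≠ 0 := nsymm T f_3_4
        clear e ha
        exact disp9_0013 T h2 y hy hpar f_0_1 f_1_0 f_0_2 f_2_0 f_1_3 f_3_1 f_3_4 f_4_3
    · have f_2_3 : T.a (y 2) (y 3) ≠ 0 := e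
      have f_3_2 : T.a (y 3) (y 2) ≠ 0 := nsymm T f_2_3
      clear e ha
      obtain ⟨a, ha, e⟩ := hpar 4 (by norm_num) (by norm_num)
      have hc : a = 0 ∨ a = 1 ∨ a = 2 ∨ a = 3 := by omega
      rcases hc with rfl | rfl | rfl | rfl
      · have f_0_4 : T.a (y 0) (y 4) ≠ 0 := e
        have f_4_0 : T.a (y 4) (y 0) ≠ 0 := nsymm T f_0_4
        clear e ha
        exact disp9_0020 T h2 y hy hpar f_0_1 f_1_0 f_0_2 f_2_0 f_2_3 f_3_2 f_0_4 f_4_0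
      · have f_1_4 : T.a (y 1) (y 4) ≠ 0 := e
        have f_4_1 : T.a (y 4) (y 1) ≠ 0 := nsymm T f_1_4
        clear e ha
        exact disp9_0021 T h2 y hy hpar f_0_1 f_1_0 f_0_2 f_2_0 f_2_3 f_3_2 f_1_4 f_4_1
      · have f_2_4 : T.a (y 2) (y 4) ≠ 0 := e
        have f_4_2 : T.a (y 4) (y 2) ≠ 0 := nsymm T f_2_4
        clear e ha
        exact disp9_0022 T h2 y hy hpar f_0_1 f_1_0 f_0_2 f_2_0 f_2_3 f_3_2 f_2_4 f_4_2
      · have f_3_4 : T.a (y 3) (y 4) ≠ 0 := e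
        have f_4_3 : T.a (y 4) (y 3) ≠ 0 := nsymm T f_3_4
        clear e ha
        exact disp9_0023 T h2 y hy hpar f_0_1 f_1_0 f_0_2 f_2_0 f_2_3 f_3_2 f_3_4 f_4_3
  · have f_1_2 : T.a (y 1) (y 2) ≠ 0 := e
    have f_2_1 : T.a (y 2) (y 1) ≠ 0 := nsymm T f_1_2
    clear e ha
    obtain ⟨a, ha, e⟩ := hpar 3 (by norm_num) (by norm_num)
    have hc : a = 0 ∨ a = 1 ∨ a = 2 := by omega
    rcases hc with rfl | rfl | rfl
    · have f_0_3 : T.a (y 0) (y 3) ≠ 0 := e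
      have f_3_0 : T.a (y 3) (y 0) ≠ 0 := nsymm T f_0_3
      clear e ha
      obtain ⟨a, ha, e⟩ := hpar 4 (by norm_num) (by norm_num)
      have hc : a = 0 ∨ a = 1 ∨ a = 2 ∨ a = 3 := by omega
      rcases hc with rfl | rfl | rfl | rfl
      · have f_0_4 : T.a (y 0) (y 4) ≠ 0 := e
        have f_4_0 : T.a (y 4) (y 0) ≠ 0 := nsymm T f_0_4
        clear e ha
        exact disp9_0100 T h2 y hy hpar f_0_1 f_1_0 f_1_2 f_2_1 f_0_3 f_3_0 f_0_4 f_4_0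
      · have f_1_4 : T.a (y 1) (y 4) ≠ 0 := e
        have f_4_1 : T.a (y 4) (y 1) ≠ 0 := nsymm T f_1_4
        clear e ha
        exact disp9_0101 T h2 y hy hpar f_0_1 f_1_0 f_1_2 f_2_1 f_0_3 f_3_0 f_1_4 f_4_1
      · have f_2_4 : T.a (y 2) (y 4) ≠ 0 := e
        have f_4_2 : T.a (y 4) (y 2) ≠ 0 := nsymm T f_2_4
        clear e ha
        exact disp9_0102 T h2 y hy hpar f_0_1 f_1_0 f_1_2 f_2_1 f_0_3 f_3_0 f_2_4 f_4_2
      · have f_3_4 : T.a (y 3) (y 4) ≠ 0 := e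
        have f_4_3 : T.a (y 4) (y 3) ≠ 0 := nsymm T f_3_4
        clear e ha
        exact disp9_0103 T h2 y hy hpar f_0_1 f_1_0 f_1_2 f_2_1 f_0_3 f_3_0 f_3_4 f_4_3
    · have f_1_3 : T.a (y 1) (y 3) ≠ 0 := e
      have f_3_1 : T.a (y 3) (y 1) ≠ 0 := nsymm T f_1_3
      clear e ha
      obtain ⟨a, ha, e⟩ := hpar 4 (by norm_num) (by norm_num)
      have hc : a = 0 ∨ a = 1 ∨ a = 2 ∨ a = 3 := by omega
      rcases hc with rfl | rfl | rfl | rfl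
      · have f_0_4 : T.a (y 0) (y 4) ≠ 0 := e
        have f_4_0 : T.a (y 4) (y 0) ≠ 0 := nsymm T f_0_4
        clear e ha
        exact disp9_0110 T h2 y hy hpar f_0_1 f_1_0 f_1_2 f_2_1 f_1_3 f_3_1 f_0_4 f_4_0
      · have f_1_4 : T.a (y 1) (y 4) ≠ 0 := e
        have f_4_1 : T.a (y 4) (y 1) ≠ 0 := nsymm T f_1_4
        clear e ha
        exact (excl_D4t T h2 y hy ![1, 0, 2, 3, 4] (by decide) (by norm_num) f_1_0 f_1_2 f_1_3 f_1_4).elim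
      · have f_2_4 : T.a (y 2) (y 4) ≠ 0 := e
        have f_4_2 : T.a (y 4) (y 2) ≠ 0 := nsymm T f_2_4
        clear e ha
        exact disp9_0112 T h2 y hy hpar f_0_1 f_1_0 f_1_2 f_2_1 f_1_3 f_3_1 f_2_4 f_4_2
      · have f_3_4 : T.a (y 3) (y 4) ≠ 0 := e
        have f_4_3 : T.a (y 4) (y 3) ≠ 0 := nsymm T f_3_4
        clear e ha
        exact disp9_0113 T h2 y hy hpar f_0_1 f_1_0 f_1_2 f_2_1 f_1_3 f_3_1 f_3_4 f_4_3
    · have f_2_3 : T.a (y 2) (y 3) ≠ 0 := e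
      have f_3_2 : T.a (y 3) (y 2) ≠ 0 := nsymm T f_2_3
      clear e ha
      obtain ⟨a, ha, e⟩ := hpar 4 (by norm_num) (by norm_num)
      have hc : a = 0 ∨ a = 1 ∨ a = 2 ∨ a = 3 := by omega
      rcases hc with rfl | rfl | rfl | rfl
      · have f_0_4 : T.a (y 0) (y 4) ≠ 0 := e
        have f_4_0 : T.a (y 4) (y 0) ≠ 0 := nsymm T f_0_4
        clear e ha
        exact disp9_0120 T h2 y hy hpar f_0_1 f_1_0 f_1_2 f_2_1 f_2_3 f_3_2 f_0_4 f_4_0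
      · have f_1_4 : T.a (y 1) (y 4) ≠ 0 := e
        have f_4_1 : T.a (y 4) (y 1) ≠ 0 := nsymm T f_1_4
        clear e ha
        exact disp9_0121 T h2 y hy hpar f_0_1 f_1_0 f_1_2 f_2_1 f_2_3 f_3_2 f_1_4 f_4_1
      · have f_2_4 : T.a (y 2) (y 4) ≠ 0 := e
        have f_4_2 : T.a (y 4) (y 2) ≠ 0 := nsymm T f_2_4
        clear e ha
        exact disp9_0122 T h2 y hy hpar f_0_1 f_1_0 f_1_2 f_2_1 f_2_3 f_3_2 f_2_4 f_4_2
      · have f_3_4 : T.a (y 3) (y 4) ≠ 0 := e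
        have f_4_3 : T.a (y 4) (y 3) ≠ 0 := nsymm T f_3_4
        clear e ha
        exact disp9_0123 T h2 y hy hpar f_0_1 f_1_0 f_1_2 f_2_1 f_2_3 f_3_2 f_3_4 f_4_3

end Groth.Agent.H3.Gen
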