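import Groth.Agent.H3.NumGen

set_option autoImplicit false
set_option linter.unusedVariables false
set_option linter.unusedTactic false
set_option linter.unreachableTactic false
set_option linter.unnecessarySeqFocus false

namespace Groth.Agent.H3.Gen
open Groth.Agent.H3 Groth.Agent.H2

def Goal9 (T : Models.NumericalType 9) : Prop :=
  ∃ (σ : Equiv.Perm (Fin 9)) (m w : ℤ),
      ((T.m (σ 0) = m ∧ T.m (σ 1) = m ∧ T.m (σ 2) = m ∧ T.m (σ 3) = m ∧ T.m (σ 4) = m ∧ T.m (σ 5) = m ∧ T.m (σ 6) = m ∧ T.m (σ 7) = m ∧ T.m (σ 8) = m ∧ T.w (σ 0) = w ∧ T.w (σ 1) = w ∧ T.w (σ 2) = w ∧ T.w (σ 3) = w ∧ T.w (σ 4) = w ∧ T.w (σ 5) = w ∧ T.w (σ 6) = w ∧ T.w (σ 7) = w ∧ T.w (σ 8) = w ∧ T.a (σ 0) (σ 0) = -2 * w ∧ T.a (σ 0) (σ 1) = w ∧ T.a (σ 0) (σ 2) = 0 ∧ T.a (σ 0) (σ 3) = 0 ∧ T.a (σ 0) (σ 4) = 0 ∧ T.a (σ 0) (σ 5) = 0 ∧ T.a (σ 0) (σ 6) = 0 ∧ T.a (σ 0) (σ 7) = 0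 ∧ T.a (σ 0) (σ 8) = w ∧ T.a (σ 1) (σ 1) = -2 * w ∧ T.a (σ 1) (σ 2) = w ∧ T.a (σ 1) (σ 3) = 0 ∧ T.a (σ 1) (σ 4) = 0 ∧ T.a (σ 1) (σ 5) = 0 ∧ T.a (σ 1) (σ 6) = 0 ∧ T.a (σ 1) (σ 7) = 0 ∧ T.a (σ 1) (σ 8) = 0 ∧ T.a (σ 2) (σ 2) = -2 * w ∧ T.a (σ 2) (σ 3) = w ∧ T.a (σ 2) (σ 4) = 0 ∧ T.a (σ 2) (σ 5) = 0 ∧ T.a (σ 2) (σ 6) = 0 ∧ T.a (σ 2) (σ 7) = 0 ∧ T.a (σ 2) (σ 8) = 0 ∧ T.a (σ 3) (σ 3) = -2 * w ∧ T.a (σ 3) (σ 4) = w ∧ T.a (σ 3) (σ 5) = 0 ∧ T.a (σ 3) (σ 6) = 0 ∧ T.a (σ 3) (σ 7) = 0 ∧ T.a (σ 3) (σ 8) = 0 ∧ T.a (σ 4) (σ 4) = -2 * w ∧ T.a (σ 4) (σ 5) = w ∧ T.a (σ 4) (σ 6) = 0 ∧ T.a (σ 4) (σ 7) = 0 ∧ T.a (σ 4) (σ 8) = 0 ∧ T.a (σ 5) (σ 5) = -2 * w ∧ T.a (σ 5) (σ 6) = w ∧ T.a (σ 5) (σ 7) = 0 ∧ T.a (σ 5) (σ 8) = 0 ∧ T.a (σ 6) (σ 6) = -2 * w ∧ T.a (σ 6) (σ 7) = w ∧ T.a (σ 6) (σ 8) = 0 ∧ T.a (σ 7) (σ 7) = -2 * w ∧ T.a (σ 7) (σ 8) = w ∧ T.a (σ 8) (σ 8) = -2 *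 w) ∨
      (T.m (σ 0) = 2 * m ∧ T.m (σ 1) = 2 * m ∧ T.m (σ 2) = 2 * m ∧ T.m (σ 3) = 2 * m ∧ T.m (σ 4) = 2 * m ∧ T.m (σ 5) = 2 * m ∧ T.m (σ 6) = 2 * m ∧ T.m (σ 7) = 2 * m ∧ T.m (σ 8) = m ∧ T.w (σ 0) = w ∧ T.w (σ 1) = 2 * w ∧ T.w (σ 2) = 2 * w ∧ T.w (σ 3) = 2 * w ∧ T.w (σ 4) = 2 * w ∧ T.w (σ 5) = 2 * w ∧ T.w (σ 6) = 2 * w ∧ T.w (σ 7) = 2 * w ∧ T.w (σ 8) = 4 * w ∧ T.a (σ 0) (σ 0) = -2 * w ∧ T.a (σ 0) (σ 1) = 2 * w ∧ T.a (σ 0) (σ 2) = 0 ∧ T.a (σ 0) (σ 3) = 0 ∧ T.a (σ 0) (σ 4) = 0 ∧ T.a (σ 0) (σ 5) = 0 ∧ T.a (σ 0) (σ 6) = 0 ∧ T.a (σ 0) (σ 7) = 0 ∧ T.a (σ 0) (σ 8) = 0 ∧ T.a (σ 1) (σ 1) = -4 * w ∧ T.a (σ 1) (σ 2) = 2 * w ∧ T.a (σ 1) (σ 3) = 0 ∧ T.a (σ 1) (σ 4) = 0 ∧ T.a (σ 1) (σ 5) = 0 ∧ T.a (σ 1) (σ 6) = 0 ∧ T.a (σ 1) (σ 7) = 0 ∧ T.a (σ 1) (σ 8) = 0 ∧ T.a (σ 2) (σ 2) = -4 * w ∧ T.a (σ 2) (σ 3) = 2 * w ∧ T.a (σ 2) (σ 4) = 0 ∧ T.a (σ 2) (σ 5) = 0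 ∧ T.a (σ 2) (σ 6) = 0 ∧ T.a (σ 2) (σ 7) = 0 ∧ T.a (σ 2) (σ 8) = 0 ∧ T.a (σ 3) (σ 3) = -4 * w ∧ T.a (σ 3) (σ 4) = 2 * w ∧ T.a (σ 3) (σ 5) = 0 ∧ T.a (σ 3) (σ 6) = 0 ∧ T.a (σ 3) (σ 7) = 0 ∧ T.a (σ 3) (σ 8) = 0 ∧ T.a (σ 4) (σ 4) = -4 * w ∧ T.a (σ 4) (σ 5) = 2 * w ∧ T.a (σ 4) (σ 6) = 0 ∧ T.a (σ 4) (σ 7) = 0 ∧ T.a (σ 4) (σ 8) = 0 ∧ T.a (σ 5) (σ 5) = -4 * w ∧ T.a (σ 5) (σ 6) = 2 * w ∧ T.a (σ 5) (σ 7) = 0 ∧ T.a (σ 5) (σ 8) = 0 ∧ T.a (σ 6) (σ 6) = -4 * w ∧ T.a (σ 6) (σ 7) = 2 * w ∧ T.a (σ 6) (σ 8) = 0 ∧ T.a (σ 7) (σ 7) = -4 * w ∧ T.a (σ 7) (σ 8) = 4 * w ∧ T.a (σ 8) (σ 8) = -8 * w) ∨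
      (T.m (σ 0) = m ∧ T.m (σ 1) = m ∧ T.m (σ 2) = m ∧ T.m (σ 3) = m ∧ T.m (σ 4) = m ∧ T.m (σ 5) = m ∧ T.m (σ 6) = m ∧ T.m (σ 7) = m ∧ T.m (σ 8) = m ∧ T.w (σ 0) = w ∧ T.w (σ 1) = 2 * w ∧ T.w (σ 2) = 2 * w ∧ T.w (σ 3) = 2 * w ∧ T.w (σ 4) = 2 * w ∧ T.w (σ 5) = 2 * w ∧ T.w (σ 6) = 2 * w ∧ T.w (σ 7) = 2 * w ∧ T.w (σ 8) = w ∧ T.a (σ 0) (σ 0) = -2 * w ∧ T.a (σ 0) (σ 1) = 2 * w ∧ T.a (σ 0) (σ 2) = 0 ∧ T.a (σ 0) (σ 3) = 0 ∧ T.a (σ 0) (σ 4) = 0 ∧ T.a (σ 0) (σ 5) = 0 ∧ T.a (σ 0) (σ 6) = 0 ∧ T.a (σ 0) (σ 7) = 0 ∧ T.a (σ 0) (σ 8) = 0 ∧ T.a (σ 1) (σ 1) = -4 * w ∧ T.a (σ 1) (σ 2) = 2 * w ∧ T.a (σ 1) (σ 3) = 0 ∧ T.a (σ 1) (σ 4) = 0 ∧ T.a (σ 1) (σ 5) = 0 ∧ T.a (σ 1) (σ 6) = 0 ∧ T.a (σ 1) (σ 7) = 0 ∧ T.a (σ 1) (σ 8) = 0 ∧ T.a (σ 2) (σ 2) = -4 * w ∧ T.a (σ 2) (σ 3) = 2 * w ∧ T.a (σ 2) (σ 4) = 0 ∧ T.a (σ 2) (σ 5) = 0 ∧ T.a (σ 2) (σ 6) = 0 ∧ T.a (σ 2) (σ 7) =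 0 ∧ T.a (σ 2) (σ 8) = 0 ∧ T.a (σ 3) (σ 3) = -4 * w ∧ T.a (σ 3) (σ 4) = 2 * w ∧ T.a (σ 3) (σ 5) = 0 ∧ T.a (σ 3) (σ 6) = 0 ∧ T.a (σ 3) (σ 7) = 0 ∧ T.a (σ 3) (σ 8) = 0 ∧ T.a (σ 4) (σ 4) = -4 * w ∧ T.a (σ 4) (σ 5) = 2 * w ∧ T.a (σ 4) (σ 6) = 0 ∧ T.a (σ 4) (σ 7) = 0 ∧ T.a (σ 4) (σ 8) = 0 ∧ T.a (σ 5) (σ 5) = -4 * w ∧ T.a (σ 5) (σ 6) = 2 * w ∧ T.a (σ 5) (σ 7) = 0 ∧ T.a (σ 5) (σ 8) = 0 ∧ T.a (σ 6) (σ 6) = -4 * w ∧ T.a (σ 6) (σ 7) = 2 * w ∧ T.a (σ 6) (σ 8) = 0 ∧ T.a (σ 7) (σ 7) = -4 * w ∧ T.a (σ 7) (σ 8) = 2 * w ∧ T.a (σ 8) (σ 8) = -2 * w) ∨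
      (T.m (σ 0) = m ∧ T.m (σ 1) = 2 * m ∧ T.m (σ 2) = 2 * m ∧ T.m (σ 3) = 2 * m ∧ T.m (σ 4) = 2 * m ∧ T.m (σ 5) = 2 * m ∧ T.m (σ 6) = 2 * m ∧ T.m (σ 7) = 2 * m ∧ T.m (σ 8) = m ∧ T.w (σ 0) = 2 * w ∧ T.w (σ 1) = w ∧ T.w (σ 2) = w ∧ T.w (σ 3) = w ∧ T.w (σ 4) = w ∧ T.w (σ 5) = w ∧ T.w (σ 6) = w ∧ T.w (σ 7) = w ∧ T.w (σ 8) = 2 * w ∧ T.a (σ 0) (σ 0) = -4 * w ∧ T.a (σ 0) (σ 1) = 2 * w ∧ T.a (σ 0) (σ 2) = 0 ∧ T.a (σ 0) (σ 3) = 0 ∧ T.a (σ 0) (σ 4) = 0 ∧ T.a (σ 0) (σ 5) = 0 ∧ T.a (σ 0) (σ 6) = 0 ∧ T.a (σ 0) (σ 7) = 0 ∧ T.a (σ 0) (σ 8) = 0 ∧ T.a (σ 1) (σ 1) = -2 * w ∧ T.a (σ 1) (σ 2) = w ∧ T.a (σ 1) (σ 3) = 0 ∧ T.a (σ 1) (σ 4) = 0 ∧ T.a (σ 1) (σ 5) = 0 ∧ T.a (σ 1) (σ 6) = 0 ∧ T.a (σ 1) (σ 7) = 0 ∧ T.a (σ 1) (σ 8) = 0 ∧ T.a (σ 2) (σ 2) = -2 * w ∧ T.a (σ 2) (σ 3) = w ∧ T.a (σ 2) (σ 4) = 0 ∧ T.a (σ 2) (σ 5) = 0 ∧ T.a (σ 2) (σ 6) = 0 ∧ T.a (σ 2) (σ 7) =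 0 ∧ T.a (σ 2) (σ 8) = 0 ∧ T.a (σ 3) (σ 3) = -2 * w ∧ T.a (σ 3) (σ 4) = w ∧ T.a (σ 3) (σ 5) = 0 ∧ T.a (σ 3) (σ 6) = 0 ∧ T.a (σ 3) (σ 7) = 0 ∧ T.a (σ 3) (σ 8) = 0 ∧ T.a (σ 4) (σ 4) = -2 * w ∧ T.a (σ 4) (σ 5) = w ∧ T.a (σ 4) (σ 6) = 0 ∧ T.a (σ 4) (σ 7) = 0 ∧ T.a (σ 4) (σ 8) = 0 ∧ T.a (σ 5) (σ 5) = -2 * w ∧ T.a (σ 5) (σ 6) = w ∧ T.a (σ 5) (σ 7) = 0 ∧ T.a (σ 5) (σ 8) = 0 ∧ T.a (σ 6) (σ 6) = -2 * w ∧ T.a (σ 6) (σ 7) = w ∧ T.a (σ 6) (σ 8) = 0 ∧ T.a (σ 7) (σ 7) = -2 * w ∧ T.a (σ 7) (σ 8) = 2 * w ∧ T.a (σ 8) (σ 8) = -4 * w) ∨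
      (T.m (σ 0) = m ∧ T.m (σ 1) = 2 * m ∧ T.m (σ 2) = 2 * m ∧ T.m (σ 3) = 2 * m ∧ T.m (σ 4) = 2 * m ∧ T.m (σ 5) = 2 * m ∧ T.m (σ 6) = 2 * m ∧ T.m (σ 7) = m ∧ T.m (σ 8) = m ∧ T.w (σ 0) = 2 * w ∧ T.w (σ 1) = w ∧ T.w (σ 2) = w ∧ T.w (σ 3) = w ∧ T.w (σ 4) = w ∧ T.w (σ 5) = w ∧ T.w (σ 6) = w ∧ T.w (σ 7) = w ∧ T.w (σ 8) = w ∧ T.a (σ 0) (σ 0) = -4 * w ∧ T.a (σ 0) (σ 1) = 2 * w ∧ T.a (σ 0) (σ 2) = 0 ∧ T.a (σ 0) (σ 3) = 0 ∧ T.a (σ 0) (σ 4) = 0 ∧ T.a (σ 0) (σ 5) = 0 ∧ T.a (σ 0) (σ 6) = 0 ∧ T.a (σ 0) (σ 7) = 0 ∧ T.a (σ 0) (σ 8) = 0 ∧ T.a (σ 1) (σ 1) = -2 * w ∧ T.a (σ 1) (σ 2) = w ∧ T.a (σ 1) (σ 3) = 0 ∧ T.a (σ 1) (σ 4) = 0 ∧ T.a (σ 1) (σ 5) = 0 ∧ T.a (σ 1) (σ 6) = 0 ∧ T.a (σ 1) (σ 7) = 0 ∧ T.a (σ 1) (σ 8) = 0 ∧ T.a (σ 2) (σ 2) = -2 * w ∧ T.a (σ 2) (σ 3) = w ∧ T.a (σ 2) (σ 4) = 0 ∧ T.a (σ 2) (σ 5) = 0 ∧ T.a (σ 2) (σ 6) = 0 ∧ T.a (σ 2) (σ 7) = 0 ∧ T.a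 (σ 2) (σ 8) = 0 ∧ T.a (σ 3) (σ 3) = -2 * w ∧ T.a (σ 3) (σ 4) = w ∧ T.a (σ 3) (σ 5) = 0 ∧ T.a (σ 3) (σ 6) = 0 ∧ T.a (σ 3) (σ 7) = 0 ∧ T.a (σ 3) (σ 8) = 0 ∧ T.a (σ 4) (σ 4) = -2 * w ∧ T.a (σ 4) (σ 5) = w ∧ T.a (σ 4) (σ 6) = 0 ∧ T.a (σ 4) (σ 7) = 0 ∧ T.a (σ 4) (σ 8) = 0 ∧ T.a (σ 5) (σ 5) = -2 * w ∧ T.a (σ 5) (σ 6) = w ∧ T.a (σ 5) (σ 7) = 0 ∧ T.a (σ 5) (σ 8) = 0 ∧ T.a (σ 6) (σ 6) = -2 * w ∧ T.a (σ 6) (σ 7) = w ∧ T.a (σ 6) (σ 8) = w ∧ T.a (σ 7) (σ 7) = -2 * w ∧ T.a (σ 7) (σ 8) = 0 ∧ T.a (σ 8) (σ 8) = -2 * w) ∨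
      (T.m (σ 0) = 2 * m ∧ T.m (σ 1) = 2 * m ∧ T.m (σ 2) = 2 * m ∧ T.m (σ 3) = 2 * m ∧ T.m (σ 4) = 2 * m ∧ T.m (σ 5) = 2 * m ∧ T.m (σ 6) = 2 * m ∧ T.m (σ 7) = m ∧ T.m (σ 8) = m ∧ T.w (σ 0) = w ∧ T.w (σ 1) = 2 * w ∧ T.w (σ 2) = 2 * w ∧ T.w (σ 3) = 2 * w ∧ T.w (σ 4) = 2 * w ∧ T.w (σ 5) = 2 * w ∧ T.w (σ 6) = 2 * w ∧ T.w (σ 7) = 2 * w ∧ T.w (σ 8) = 2 * w ∧ T.a (σ 0) (σ 0) = -2 * w ∧ T.a (σ 0) (σ 1) = 2 * w ∧ T.a (σ 0) (σ 2) = 0 ∧ T.a (σ 0) (σ 3) = 0 ∧ T.a (σ 0) (σ 4) = 0 ∧ T.a (σ 0) (σ 5) = 0 ∧ T.a (σ 0) (σ 6) = 0 ∧ T.a (σ 0) (σ 7) = 0 ∧ T.a (σ 0) (σ 8) = 0 ∧ T.a (σ 1) (σ 1) = -4 * w ∧ T.a (σ 1) (σ 2) = 2 * w ∧ T.a (σ 1) (σ 3) = 0 ∧ T.a (σ 1) (σ 4) = 0 ∧ T.a (σ 1) (σ 5) = 0 ∧ T.a (σ 1) (σ 6) = 0 ∧ T.a (σ 1) (σ 7) = 0 ∧ T.a (σ 1) (σ 8) = 0 ∧ T.a (σ 2) (σ 2) = -4 * w ∧ T.a (σ 2) (σ 3) = 2 * w ∧ T.a (σ 2) (σ 4) = 0 ∧ T.a (σ 2) (σ 5) = 0 ∧ T.a (σ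 2) (σ 6) = 0 ∧ T.a (σ 2) (σ 7) = 0 ∧ T.a (σ 2) (σ 8) = 0 ∧ T.a (σ 3) (σ 3) = -4 * w ∧ T.a (σ 3) (σ 4) = 2 * w ∧ T.a (σ 3) (σ 5) = 0 ∧ T.a (σ 3) (σ 6) = 0 ∧ T.a (σ 3) (σ 7) = 0 ∧ T.a (σ 3) (σ 8) = 0 ∧ T.a (σ 4) (σ 4) = -4 * w ∧ T.a (σ 4) (σ 5) = 2 * w ∧ T.a (σ 4) (σ 6) = 0 ∧ T.a (σ 4) (σ 7) = 0 ∧ T.a (σ 4) (σ 8) = 0 ∧ T.a (σ 5) (σ 5) = -4 * w ∧ T.a (σ 5) (σ 6) = 2 * w ∧ T.a (σ 5) (σ 7) = 0 ∧ T.a (σ 5) (σ 8) = 0 ∧ T.a (σ 6) (σ 6) = -4 * w ∧ T.a (σ 6) (σ 7) = 2 * w ∧ T.a (σ 6) (σ 8) = 2 * w ∧ T.a (σ 7) (σ 7) = -4 * w ∧ T.a (σ 7) (σ 8) = 0 ∧ T.a (σ 8) (σ 8) = -4 * w) ∨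
      (T.m (σ 0) = m ∧ T.m (σ 1) = m ∧ T.m (σ 2) = 2 * m ∧ T.m (σ 3) = 2 * m ∧ T.m (σ 4) = 2 * m ∧ T.m (σ 5) = 2 * m ∧ T.m (σ 6) = 2 * m ∧ T.m (σ 7) = m ∧ T.m (σ 8) = m ∧ T.w (σ 0) = w ∧ T.w (σ 1) = w ∧ T.w (σ 2) = w ∧ T.w (σ 3) = w ∧ T.w (σ 4) = w ∧ T.w (σ 5) = w ∧ T.w (σ 6) = w ∧ T.w (σ 7) = w ∧ T.w (σ 8) = w ∧ T.a (σ 0) (σ 0) = -2 * w ∧ T.a (σ 0) (σ 1) = 0 ∧ T.a (σ 0) (σ 2) = w ∧ T.a (σ 0) (σ 3) = 0 ∧ T.a (σ 0) (σ 4) = 0 ∧ T.a (σ 0) (σ 5) = 0 ∧ T.a (σ 0) (σ 6) = 0 ∧ T.a (σ 0) (σ 7) = 0 ∧ T.a (σ 0) (σ 8) = 0 ∧ T.a (σ 1) (σ 1) = -2 * w ∧ T.a (σ 1) (σ 2) = w ∧ T.a (σ 1) (σ 3) = 0 ∧ T.a (σ 1) (σ 4) = 0 ∧ T.a (σ 1) (σ 5) = 0 ∧ T.a (σ 1) (σ 6) = 0 ∧ T.a (σ 1) (σ 7) = 0 ∧ T.a (σ 1) (σ 8) = 0 ∧ T.a (σ 2) (σ 2) = -2 * w ∧ T.a (σ 2) (σ 3) = w ∧ T.a (σ 2) (σ 4) = 0 ∧ T.a (σ 2) (σ 5) = 0 ∧ T.a (σ 2) (σ 6) = 0 ∧ T.a (σ 2) (σ 7) = 0 ∧ T.a (σ 2) (σ 8)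 = 0 ∧ T.a (σ 3) (σ 3) = -2 * w ∧ T.a (σ 3) (σ 4) = w ∧ T.a (σ 3) (σ 5) = 0 ∧ T.a (σ 3) (σ 6) = 0 ∧ T.a (σ 3) (σ 7) = 0 ∧ T.a (σ 3) (σ 8) = 0 ∧ T.a (σ 4) (σ 4) = -2 * w ∧ T.a (σ 4) (σ 5) = w ∧ T.a (σ 4) (σ 6) = 0 ∧ T.a (σ 4) (σ 7) = 0 ∧ T.a (σ 4) (σ 8) = 0 ∧ T.a (σ 5) (σ 5) = -2 * w ∧ T.a (σ 5) (σ 6) = w ∧ T.a (σ 5) (σ 7) = 0 ∧ T.a (σ 5) (σ 8) = 0 ∧ T.a (σ 6) (σ 6) = -2 * w ∧ T.a (σ 6) (σ 7) = w ∧ T.a (σ 6) (σ 8) = w ∧ T.a (σ 7) (σ 7) = -2 * w ∧ T.a (σ 7) (σ 8) = 0 ∧ T.a (σ 8) (σ 8) = -2 * w) ∨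
      (T.m (σ 0) = m ∧ T.m (σ 1) = 2 * m ∧ T.m (σ 2) = 3 * m ∧ T.m (σ 3) = 4 * m ∧ T.m (σ 4) = 5 * m ∧ T.m (σ 5) = 6 * m ∧ T.m (σ 6) = 4 * m ∧ T.m (σ 7) = 2 * m ∧ T.m (σ 8) = 3 * m ∧ T.w (σ 0) = w ∧ T.w (σ 1) = w ∧ T.w (σ 2) = w ∧ T.w (σ 3) = w ∧ T.w (σ 4) = w ∧ T.w (σ 5) = w ∧ T.w (σ 6) = w ∧ T.w (σ 7) = w ∧ T.w (σ 8) = w ∧ T.a (σ 0) (σ 0) = -2 * w ∧ T.a (σ 0) (σ 1) = w ∧ T.a (σ 0) (σ 2) = 0 ∧ T.a (σ 0) (σ 3) = 0 ∧ T.a (σ 0) (σ 4) = 0 ∧ T.a (σ 0) (σ 5) = 0 ∧ T.a (σ 0) (σ 6) = 0 ∧ T.a (σ 0) (σ 7) = 0 ∧ T.a (σ 0) (σ 8) = 0 ∧ T.a (σ 1) (σ 1) = -2 * w ∧ T.a (σ 1) (σ 2) = w ∧ T.a (σ 1) (σ 3) = 0 ∧ T.a (σ 1) (σ 4) = 0 ∧ T.a (σ 1) (σ 5) = 0 ∧ T.a (σ 1) (σ 6) = 0 ∧ T.a (σ 1) (σ 7) = 0 ∧ T.a (σ 1) (σ 8) = 0 ∧ T.a (σ 2) (σ 2) = -2 * w ∧ T.a (σ 2) (σ 3) = w ∧ T.a (σ 2) (σ 4) = 0 ∧ T.a (σ 2) (σ 5) = 0 ∧ T.a (σ 2) (σ 6) = 0 ∧ T.a (σ 2) (σ 7) = 0 ∧ T.a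 (σ 2) (σ 8) = 0 ∧ T.a (σ 3) (σ 3) = -2 * w ∧ T.a (σ 3) (σ 4) = w ∧ T.a (σ 3) (σ 5) = 0 ∧ T.a (σ 3) (σ 6) = 0 ∧ T.a (σ 3) (σ 7) = 0 ∧ T.a (σ 3) (σ 8) = 0 ∧ T.a (σ 4) (σ 4) = -2 * w ∧ T.a (σ 4) (σ 5) = w ∧ T.a (σ 4) (σ 6) = 0 ∧ T.a (σ 4) (σ 7) = 0 ∧ T.a (σ 4) (σ 8) = 0 ∧ T.a (σ 5) (σ 5) = -2 * w ∧ T.a (σ 5) (σ 6) = w ∧ T.a (σ 5) (σ 7) = 0 ∧ T.a (σ 5) (σ 8) = w ∧ T.a (σ 6) (σ 6) = -2 * w ∧ T.a (σ 6) (σ 7) = w ∧ T.a (σ 6) (σ 8) = 0 ∧ T.a (σ 7) (σ 7) = -2 * w ∧ T.a (σ 7) (σ 8) = 0 ∧ T.a (σ 8) (σ 8) = -2 * w))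

theorem row9 (T : Models.NumericalType 9) (z : Fin 9 → Fin 9) (hz : Function.Injective z) (x : Fin 9) :
    T.a x (z 0) * T.m (z 0) + T.a x (z 1) * T.m (z 1) + T.a x (z 2) * T.m (z 2) + T.a x (z 3) * T.m (z 3) + T.a x (z 4) * T.m (z 4) + T.a x (z 5) * T.m (z 5) + T.a x (z 6) * T.m (z 6) + T.a x (z 7) * T.m (z 7) + T.a x (z 8) * T.m (z 8) = 0 := by
  have h := congrFun T.mulVec_m x
  simp only [Matrix.mulVec, dotProduct, Pi.zero_apply] at h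
  have hb : Function.Bijective z := Finite.injective_iff_bijective.mp hz
  have e1 := (Equiv.ofBijective z hb).sum_comp (fun j => T.a x j * T.m j)
  simp only [Equiv.ofBijective_apply] at e1
  rw [sum9] at e1
  rw [e1]
  exact h

theorem shape9_cycle (T : Models.NumericalType 9) (h2 : ∀ i, T.IsMinusTwo i)
    (z : Fin 9 → Fin 9) (hz : Function.Injective z)
    (e_0_1 : T.a (z 0) (z 1) ≠ 0) (e_1_2 : T.a (z 1) (z 2) ≠ 0) (e_2_3 : T.a (z 2) (z 3) ≠ 0) (e_3_4 : T.a (z 3) (z 4) ≠ 0) (e_4_5 : T.a (z 4) (z 5) ≠ 0) (e_5_6 : T.a (z 5) (z 6) ≠ 0) (e_6_7 : T.a (z 6) (z 7) ≠ 0) (e_7_8 : T.a (z 7) (z 8) ≠ 0) (e_0_8 : T.a (z 0) (z 8) ≠ 0) : Goal9 T := by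
  have e_1_0 : T.a (z 1) (z 0) ≠ 0 := nsymm T e_0_1
  have e_2_1 : T.a (z 2) (z 1) ≠ 0 := nsymm T e_1_2
  have e_3_2 : T.a (z 3) (z 2) ≠ 0 := nsymm T e_2_3
  have e_4_3 : T.a (z 4) (z 3) ≠ 0 := nsymm T e_3_4
  have e_5_4 : T.a (z 5) (z 4) ≠ 0 := nsymm T e_4_5
  have e_6_5 : T.a (z 6) (z 5) ≠ 0 := nsymm T e_5_6
  have e_7_6 : T.a (z 7) (z 6) ≠ 0 := nsymm T e_6_7
  have e_8_7 : T.a (z 8) (z 7) ≠ 0 := nsymm T e_7_8
  have e_8_0 : T.a (z 8) (z 0) ≠ 0 := nsymm T e_0_8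
  have z_0_2 : T.a (z 0) (z 2) = 0 := nocycList T h2 z hz [0, 1, 2] (by decide) (by decide) (by decide)
    (List.IsChain.cons_cons e_0_1 (List.IsChain.cons_cons e_1_2 (List.IsChain.singleton _))) 0 2 rfl rfl
  have z_2_0 : T.a (z 2) (z 0) = 0 := zsymm T z_0_2
  have z_0_3 : T.a (z 0) (z 3) = 0 := nocycList T h2 z hz [0, 1, 2, 3] (by decide) (by decide) (by decide)
    (List.IsChain.cons_cons e_0_1 (List.IsChain.cons_cons e_1_2 (List.IsChain.cons_cons e_2_3 (List.IsChain.singleton _)))) 0 3 rfl rfl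
  have z_3_0 : T.a (z 3) (z 0) = 0 := zsymm T z_0_3
  have z_0_4 : T.a (z 0) (z 4) = 0 := nocycList T h2 z hz [0, 1, 2, 3, 4] (by decide) (by decide) (by decide)
    (List.IsChain.cons_cons e_0_1 (List.IsChain.cons_cons e_1_2 (List.IsChain.cons_cons e_2_3 (List.IsChain.cons_cons e_3_4 (List.IsChain.singleton _))))) 0 4 rfl rfl
  have z_4_0 : T.a (z 4) (z 0) = 0 := zsymm T z_0_4
  have z_0_5 : T.a (z 0) (z 5) = 0 := nocycList T h2 z hz [0, 8, 7, 6, 5] (by decide) (by decide) (by decide)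
    (List.IsChain.cons_cons e_0_8 (List.IsChain.cons_cons e_8_7 (List.IsChain.cons_cons e_7_6 (List.IsChain.cons_cons e_6_5 (List.IsChain.singleton _))))) 0 5 rfl rfl
  have z_5_0 : T.a (z 5) (z 0) = 0 := zsymm T z_0_5
  have z_0_6 : T.a (z 0) (z 6) = 0 := nocycList T h2 z hz [0, 8, 7, 6] (by decide) (by decide) (by decide)
    (List.IsChain.cons_cons e_0_8 (List.IsChain.cons_cons e_8_7 (List.IsChain.cons_cons e_7_6 (List.IsChain.singleton _)))) 0 6 rfl rfl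
  have z_6_0 : T.a (z 6) (z 0) = 0 := zsymm T z_0_6
  have z_0_7 : T.a (z 0) (z 7) = 0 := nocycList T h2 z hz [0, 8, 7] (by decide) (by decide) (by decide)
    (List.IsChain.cons_cons e_0_8 (List.IsChain.cons_cons e_8_7 (List.IsChain.singleton _))) 0 7 rfl rfl
  have z_7_0 : T.a (z 7) (z 0) = 0 := zsymm T z_0_7
  have z_1_3 : T.a (z 1) (z 3) = 0 := nocycList T h2 z hz [1, 2, 3] (by decide) (by decide) (by decide)
    (List.IsChain.cons_cons e_1_2 (List.IsChain.cons_cons e_2_3 (List.IsChain.singleton _))) 1 3 rfl rfl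
  have z_3_1 : T.a (z 3) (z 1) = 0 := zsymm T z_1_3
  have z_1_4 : T.a (z 1) (z 4) = 0 := nocycList T h2 z hz [1, 2, 3, 4] (by decide) (by decide) (by decide)
    (List.IsChain.cons_cons e_1_2 (List.IsChain.cons_cons e_2_3 (List.IsChain.cons_cons e_3_4 (List.IsChain.singleton _)))) 1 4 rfl rfl
  have z_4_1 : T.a (z 4) (z 1) = 0 := zsymm T z_1_4
  have z_1_5 : T.a (z 1) (z 5) = 0 := nocycList T h2 z hz [1, 2, 3, 4, 5] (by decide) (by decide) (by decide)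
    (List.IsChain.cons_cons e_1_2 (List.IsChain.cons_cons e_2_3 (List.IsChain.cons_cons e_3_4 (List.IsChain.cons_cons e_4_5 (List.IsChain.singleton _))))) 1 5 rfl rfl
  have z_5_1 : T.a (z 5) (z 1) = 0 := zsymm T z_1_5
  have z_1_6 : T.a (z 1) (z 6) = 0 := nocycList T h2 z hz [1, 0, 8, 7, 6] (by decide) (by decide) (by decide)
    (List.IsChain.cons_cons e_1_0 (List.IsChain.cons_cons e_0_8 (List.IsChain.cons_cons e_8_7 (List.IsChain.cons_cons e_7_6 (List.IsChain.singleton _))))) 1 6 rfl rfl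
  have z_6_1 : T.a (z 6) (z 1) = 0 := zsymm T z_1_6
  have z_1_7 : T.a (z 1) (z 7) = 0 := nocycList T h2 z hz [1, 0, 8, 7] (by decide) (by decide) (by decide)
    (List.IsChain.cons_cons e_1_0 (List.IsChain.cons_cons e_0_8 (List.IsChain.cons_cons e_8_7 (List.IsChain.singleton _)))) 1 7 rfl rfl
  have z_7_1 : T.a (z 7) (z 1) = 0 := zsymm T z_1_7
  have z_1_8 : T.a (z 1) (z 8) = 0 := nocycList T h2 z hz [1, 0, 8] (by decide) (by decide) (by decide)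
    (List.IsChain.cons_cons e_1_0 (List.IsChain.cons_cons e_0_8 (List.IsChain.singleton _))) 1 8 rfl rfl
  have z_8_1 : T.a (z 8) (z 1) = 0 := zsymm T z_1_8
  have z_2_4 : T.a (z 2) (z 4) = 0 := nocycList T h2 z hz [2, 3, 4] (by decide) (by decide) (by decide)
    (List.IsChain.cons_cons e_2_3 (List.IsChain.cons_cons e_3_4 (List.IsChain.singleton _))) 2 4 rfl rfl
  have z_4_2 : T.a (z 4) (z 2) = 0 := zsymm T z_2_4
  have z_2_5 : T.a (z 2) (z 5) = 0 := nocycList T h2 z hz [2, 3, 4, 5] (by decide) (by decide) (by decide)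
    (List.IsChain.cons_cons e_2_3 (List.IsChain.cons_cons e_3_4 (List.IsChain.cons_cons e_4_5 (List.IsChain.singleton _)))) 2 5 rfl rfl
  have z_5_2 : T.a (z 5) (z 2) = 0 := zsymm T z_2_5
  have z_2_6 : T.a (z 2) (z 6) = 0 := nocycList T h2 z hz [2, 3, 4, 5, 6] (by decide) (by decide) (by decide)
    (List.IsChain.cons_cons e_2_3 (List.IsChain.cons_cons e_3_4 (List.IsChain.cons_cons e_4_5 (List.IsChain.cons_cons e_5_6 (List.IsChain.singleton _))))) 2 6 rfl rfl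
  have z_6_2 : T.a (z 6) (z 2) = 0 := zsymm T z_2_6
  have z_2_7 : T.a (z 2) (z 7) = 0 := nocycList T h2 z hz [2, 1, 0, 8, 7] (by decide) (by decide) (by decide)
    (List.IsChain.cons_cons e_2_1 (List.IsChain.cons_cons e_1_0 (List.IsChain.cons_cons e_0_8 (List.IsChain.cons_cons e_8_7 (List.IsChain.singleton _))))) 2 7 rfl rfl
  have z_7_2 : T.a (z 7) (z 2) = 0 := zsymm T z_2_7
  have z_2_8 : T.a (z 2) (z 8) = 0 := nocycList T h2 z hz [2, 1, 0, 8] (by decide) (by decide) (by decide)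
    (List.IsChain.cons_cons e_2_1 (List.IsChain.cons_cons e_1_0 (List.IsChain.cons_cons e_0_8 (List.IsChain.singleton _)))) 2 8 rfl rfl
  have z_8_2 : T.a (z 8) (z 2) = 0 := zsymm T z_2_8
  have z_3_5 : T.a (z 3) (z 5) = 0 := nocycList T h2 z hz [3, 4, 5] (by decide) (by decide) (by decide)
    (List.IsChain.cons_cons e_3_4 (List.IsChain.cons_cons e_4_5 (List.IsChain.singleton _))) 3 5 rfl rfl
  have z_5_3 : T.a (z 5) (z 3) = 0 := zsymm T z_3_5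
  have z_3_6 : T.a (z 3) (z 6) = 0 := nocycList T h2 z hz [3, 4, 5, 6] (by decide) (by decide) (by decide)
    (List.IsChain.cons_cons e_3_4 (List.IsChain.cons_cons e_4_5 (List.IsChain.cons_cons e_5_6 (List.IsChain.singleton _)))) 3 6 rfl rfl
  have z_6_3 : T.a (z 6) (z 3) = 0 := zsymm T z_3_6
  have z_3_7 : T.a (z 3) (z 7) = 0 := nocycList T h2 z hz [3, 4, 5, 6, 7] (by decide) (by decide) (by decide)
    (List.IsChain.cons_cons e_3_4 (List.IsChain.cons_cons e_4_5 (List.IsChain.cons_cons e_5_6 (List.IsChain.cons_cons e_6_7 (List.IsChain.singleton _))))) 3 7 rfl rfl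
  have z_7_3 : T.a (z 7) (z 3) = 0 := zsymm T z_3_7
  have z_3_8 : T.a (z 3) (z 8) = 0 := nocycList T h2 z hz [3, 2, 1, 0, 8] (by decide) (by decide) (by decide)
    (List.IsChain.cons_cons e_3_2 (List.IsChain.cons_cons e_2_1 (List.IsChain.cons_cons e_1_0 (List.IsChain.cons_cons e_0_8 (List.IsChain.singleton _))))) 3 8 rfl rfl
  have z_8_3 : T.a (z 8) (z 3) = 0 := zsymm T z_3_8
  have z_4_6 : T.a (z 4) (z 6) = 0 := nocycList T h2 z hz [4, 5, 6] (by decide) (by decide) (by decide)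
    (List.IsChain.cons_cons e_4_5 (List.IsChain.cons_cons e_5_6 (List.IsChain.singleton _))) 4 6 rfl rfl
  have z_6_4 : T.a (z 6) (z 4) = 0 := zsymm T z_4_6
  have z_4_7 : T.a (z 4) (z 7) = 0 := nocycList T h2 z hz [4, 5, 6, 7] (by decide) (by decide) (by decide)
    (List.IsChain.cons_cons e_4_5 (List.IsChain.cons_cons e_5_6 (List.IsChain.cons_cons e_6_7 (List.IsChain.singleton _)))) 4 7 rfl rfl
  have z_7_4 : T.a (z 7) (z 4) = 0 := zsymm T z_4_7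
  have z_4_8 : T.a (z 4) (z 8) = 0 := nocycList T h2 z hz [4, 5, 6, 7, 8] (by decide) (by decide) (by decide)
    (List.IsChain.cons_cons e_4_5 (List.IsChain.cons_cons e_5_6 (List.IsChain.cons_cons e_6_7 (List.IsChain.cons_cons e_7_8 (List.IsChain.singleton _))))) 4 8 rfl rfl
  have z_8_4 : T.a (z 8) (z 4) = 0 := zsymm T z_4_8
  have z_5_7 : T.a (z 5) (z 7) = 0 := nocycList T h2 z hz [5, 6, 7] (by decide) (by decide) (by decide)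
    (List.IsChain.cons_cons e_5_6 (List.IsChain.cons_cons e_6_7 (List.IsChain.singleton _))) 5 7 rfl rfl
  have z_7_5 : T.a (z 7) (z 5) = 0 := zsymm T z_5_7
  have z_5_8 : T.a (z 5) (z 8) = 0 := nocycList T h2 z hz [5, 6, 7, 8] (by decide) (by decide) (by decide)
    (List.IsChain.cons_cons e_5_6 (List.IsChain.cons_cons e_6_7 (List.IsChain.cons_cons e_7_8 (List.IsChain.singleton _)))) 5 8 rfl rfl
  have z_8_5 : T.a (z 8) (z 5) = 0 := zsymm T z_5_8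
  have z_6_8 : T.a (z 6) (z 8) = 0 := nocycList T h2 z hz [6, 7, 8] (by decide) (by decide) (by decide)
    (List.IsChain.cons_cons e_6_7 (List.IsChain.cons_cons e_7_8 (List.IsChain.singleton _))) 6 8 rfl rfl
  have z_8_6 : T.a (z 8) (z 6) = 0 := zsymm T z_6_8
  obtain ⟨hp_0_1, hp_1_0⟩ := mid_edge_one T h2 z hz [4, 5, 6, 7, 8, 0, 1, 2] (by decide) (by decide) (by decide)
    (List.IsChain.cons_cons e_4_5 (List.IsChain.cons_cons e_5_6 (List.IsChain.cons_cons e_6_7 (List.IsChain.cons_cons e_7_8 (List.IsChain.cons_cons e_8_0 (List.IsChain.cons_cons e_0_1 (List.IsChain.cons_cons e_1_2 (List.IsChain.singleton _)))))))) 5 (by decide) (by decide) 0 1 rfl rfl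
  obtain ⟨hp_1_2, hp_2_1⟩ := mid_edge_one T h2 z hz [0, 1, 2, 3, 4] (by decide) (by decide) (by decide)
    (List.IsChain.cons_cons e_0_1 (List.IsChain.cons_cons e_1_2 (List.IsChain.cons_cons e_2_3 (List.IsChain.cons_cons e_3_4 (List.IsChain.singleton _))))) 1 (by decide) (by decide) 1 2 rfl rfl
  obtain ⟨hp_2_3, hp_3_2⟩ := mid_edge_one T h2 z hz [0, 1, 2, 3, 4] (by decide) (by decide) (by decide)
    (List.IsChain.cons_cons e_0_1 (List.IsChain.cons_cons e_1_2 (List.IsChain.cons_cons e_2_3 (List.IsChain.cons_cons e_3_4 (List.IsChain.singleton _))))) 2 (by decide) (by decide) 2 3 rfl rfl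
  obtain ⟨hp_3_4, hp_4_3⟩ := mid_edge_one T h2 z hz [0, 1, 2, 3, 4, 5] (by decide) (by decide) (by decide)
    (List.IsChain.cons_cons e_0_1 (List.IsChain.cons_cons e_1_2 (List.IsChain.cons_cons e_2_3 (List.IsChain.cons_cons e_3_4 (List.IsChain.cons_cons e_4_5 (List.IsChain.singleton _)))))) 3 (by decide) (by decide) 3 4 rfl rfl
  obtain ⟨hp_4_5, hp_5_4⟩ := mid_edge_one T h2 z hz [0, 1, 2, 3, 4, 5, 6] (by decide) (by decide) (by decide)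
    (List.IsChain.cons_cons e_0_1 (List.IsChain.cons_cons e_1_2 (List.IsChain.cons_cons e_2_3 (List.IsChain.cons_cons e_3_4 (List.IsChain.cons_cons e_4_5 (List.IsChain.cons_cons e_5_6 (List.IsChain.singleton _))))))) 4 (by decide) (by decide) 4 5 rfl rfl
  obtain ⟨hp_5_6, hp_6_5⟩ := mid_edge_one T h2 z hz [0, 1, 2, 3, 4, 5, 6, 7] (by decide) (by decide) (by decide)
    (List.IsChain.cons_cons e_0_1 (List.IsChain.cons_cons e_1_2 (List.IsChain.cons_cons e_2_3 (List.IsChain.cons_cons e_3_4 (List.IsChain.cons_cons e_4_5 (List.IsChain.cons_cons e_5_6 (List.IsChain.cons_cons e_6_7 (List.IsChain.singleton _)))))))) 5 (by decide) (by decide) 5 6 rfl rfl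
  obtain ⟨hp_6_7, hp_7_6⟩ := mid_edge_one T h2 z hz [1, 2, 3, 4, 5, 6, 7, 8] (by decide) (by decide) (by decide)
    (List.IsChain.cons_cons e_1_2 (List.IsChain.cons_cons e_2_3 (List.IsChain.cons_cons e_3_4 (List.IsChain.cons_cons e_4_5 (List.IsChain.cons_cons e_5_6 (List.IsChain.cons_cons e_6_7 (List.IsChain.cons_cons e_7_8 (List.IsChain.singleton _)))))))) 5 (by decide) (by decide) 6 7 rfl rfl
  obtain ⟨hp_7_8, hp_8_7⟩ := mid_edge_one T h2 z hz [2, 3, 4, 5, 6, 7, 8, 0] (by decide) (by decide) (by decide)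
    (List.IsChain.cons_cons e_2_3 (List.IsChain.cons_cons e_3_4 (List.IsChain.cons_cons e_4_5 (List.IsChain.cons_cons e_5_6 (List.IsChain.cons_cons e_6_7 (List.IsChain.cons_cons e_7_8 (List.IsChain.cons_cons e_8_0 (List.IsChain.singleton _)))))))) 5 (by decide) (by decide) 7 8 rfl rfl
  obtain ⟨hp_0_8, hp_8_0⟩ := mid_edge_one T h2 z hz [1, 0, 8, 7, 6] (by decide) (by decide) (by decide)
    (List.IsChain.cons_cons e_1_0 (List.IsChain.cons_cons e_0_8 (List.IsChain.cons_cons e_8_7 (List.IsChain.cons_cons e_7_6 (List.IsChain.singleton _))))) 1 (by decide) (by decide) 0 8 rfl rfl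
  have we_0_1 := w_pp T (z 0) (z 1)
  have we_1_2 := w_pp T (z 1) (z 2)
  have we_2_3 := w_pp T (z 2) (z 3)
  have we_3_4 := w_pp T (z 3) (z 4)
  have we_4_5 := w_pp T (z 4) (z 5)
  have we_5_6 := w_pp T (z 5) (z 6)
  have we_6_7 := w_pp T (z 6) (z 7)
  have we_7_8 := w_pp T (z 7) (z 8)
  have we_0_8 := w_pp T (z 0) (z 8)
  have r_0 := row9 T z hz (z 0)
  rw [(h2 (z 0)).2, a_eq_pp T (z 0) (z 1), z_0_2, z_0_3, z_0_4, z_0_5, z_0_6, z_0_7, a_eq_pp T (z 0) (z 8)] at r_0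
  have q_0 : pp T (z 0) (z 1) * T.m (z 1) + pp T (z 0) (z 8) * T.m (z 8) = 2 * T.m (z 0) :=
    mul_left_cancel₀ (T.w_pos (z 0)).ne' (by linear_combination r_0)
  clear r_0
  have r_1 := row9 T z hz (z 1)
  rw [a_eq_pp T (z 1) (z 0), (h2 (z 1)).2, a_eq_pp T (z 1) (z 2), z_1_3, z_1_4, z_1_5, z_1_6, z_1_7, z_1_8] at r_1
  have q_1 : pp T (z 1) (z 0) * T.m (z 0) + pp T (z 1) (z 2) * T.m (z 2) = 2 * T.m (z 1) :=
    mul_left_cancel₀ (T.w_pos (z 1)).ne' (by linear_combination r_1)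
  clear r_1
  have r_2 := row9 T z hz (z 2)
  rw [z_2_0, a_eq_pp T (z 2) (z 1), (h2 (z 2)).2, a_eq_pp T (z 2) (z 3), z_2_4, z_2_5, z_2_6, z_2_7, z_2_8] at r_2
  have q_2 : pp T (z 2) (z 1) * T.m (z 1) + pp T (z 2) (z 3) * T.m (z 3) = 2 * T.m (z 2) :=
    mul_left_cancel₀ (T.w_pos (z 2)).ne' (by linear_combination r_2)
  clear r_2
  have r_3 := row9 T z hz (z 3)
  rw [z_3_0, z_3_1, a_eq_pp T (z 3) (z 2), (h2 (z 3)).2, a_eq_pp T (z 3) (z 4), z_3_5, z_3_6, z_3_7, z_3_8] at r_3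
  have q_3 : pp T (z 3) (z 2) * T.m (z 2) + pp T (z 3) (z 4) * T.m (z 4) = 2 * T.m (z 3) :=
    mul_left_cancel₀ (T.w_pos (z 3)).ne' (by linear_combination r_3)
  clear r_3
  have r_4 := row9 T z hz (z 4)
  rw [z_4_0, z_4_1, z_4_2, a_eq_pp T (z 4) (z 3), (h2 (z 4)).2, a_eq_pp T (z 4) (z 5), z_4_6, z_4_7, z_4_8] at r_4
  have q_4 : pp T (z 4) (z 3) * T.m (z 3) + pp T (z 4) (z 5) * T.m (z 5) = 2 * T.m (z 4) :=
    mul_left_cancel₀ (T.w_pos (z 4)).ne' (by linear_combination r_4)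
  clear r_4
  have r_5 := row9 T z hz (z 5)
  rw [z_5_0, z_5_1, z_5_2, z_5_3, a_eq_pp T (z 5) (z 4), (h2 (z 5)).2, a_eq_pp T (z 5) (z 6), z_5_7, z_5_8] at r_5
  have q_5 : pp T (z 5) (z 4) * T.m (z 4) + pp T (z 5) (z 6) * T.m (z 6) = 2 * T.m (z 5) :=
    mul_left_cancel₀ (T.w_pos (z 5)).ne' (by linear_combination r_5)
  clear r_5
  have r_6 := row9 T z hz (z 6)
  rw [z_6_0, z_6_1, z_6_2, z_6_3, z_6_4, a_eq_pp T (z 6) (z 5), (h2 (z 6)).2, a_eq_pp T (z 6) (z 7), z_6_8] at r_6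
  have q_6 : pp T (z 6) (z 5) * T.m (z 5) + pp T (z 6) (z 7) * T.m (z 7) = 2 * T.m (z 6) :=
    mul_left_cancel₀ (T.w_pos (z 6)).ne' (by linear_combination r_6)
  clear r_6
  have r_7 := row9 T z hz (z 7)
  rw [z_7_0, z_7_1, z_7_2, z_7_3, z_7_4, z_7_5, a_eq_pp T (z 7) (z 6), (h2 (z 7)).2, a_eq_pp T (z 7) (z 8)] at r_7
  have q_7 : pp T (z 7) (z 6) * T.m (z 6) + pp T (z 7) (z 8) * T.m (z 8) = 2 * T.m (z 7) :=
    mul_left_cancel₀ (T.w_pos (z 7)).ne' (by linear_combination r_7)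
  clear r_7
  have r_8 := row9 T z hz (z 8)
  rw [a_eq_pp T (z 8) (z 0), z_8_1, z_8_2, z_8_3, z_8_4, z_8_5, z_8_6, a_eq_pp T (z 8) (z 7), (h2 (z 8)).2] at r_8
  have q_8 : pp T (z 8) (z 0) * T.m (z 0) + pp T (z 8) (z 7) * T.m (z 7) = 2 * T.m (z 8) :=
    mul_left_cancel₀ (T.w_pos (z 8)).ne' (by linear_combination r_8)
  clear r_8
  rw [hp_0_1, hp_0_8] at q_0
  rw [hp_1_0, hp_1_2] at q_1
  rw [hp_2_1, hp_2_3] at q_2
  rw [hp_3_2, hp_3_4] at q_3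
  rw [hp_4_3, hp_4_5] at q_4
  rw [hp_5_4, hp_5_6] at q_5
  rw [hp_6_5, hp_6_7] at q_6
  rw [hp_7_6, hp_7_8] at q_7
  rw [hp_8_0, hp_8_7] at q_8
  rw [hp_0_1, hp_1_0] at we_0_1
  rw [hp_1_2, hp_2_1] at we_1_2
  rw [hp_2_3, hp_3_2] at we_2_3
  rw [hp_3_4, hp_4_3] at we_3_4
  rw [hp_4_5, hp_5_4] at we_4_5
  rw [hp_5_6, hp_6_5] at we_5_6
  rw [hp_6_7, hp_7_6] at we_6_7
  rw [hp_7_8, hp_8_7] at we_7_8
  rw [hp_0_8, hp_8_0] at we_0_8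
  obtain ⟨σ, hσ⟩ := permOf (fun i => z (![0, 1, 2, 3, 4, 5, 6, 7, 8] i)) (hz.comp (by decide))
  have s0 : σ 0 = z 0 := hσ 0
  have s1 : σ 1 = z 1 := hσ 1
  have s2 : σ 2 = z 2 := hσ 2
  have s3 : σ 3 = z 3 := hσ 3
  have s4 : σ 4 = z 4 := hσ 4
  have s5 : σ 5 = z 5 := hσ 5
  have s6 : σ 6 = z 6 := hσ 6
  have s7 : σ 7 = z 7 := hσ 7
  have s8 : σ 8 = z 8 := hσ 8
  unfold Goal9
  refine ⟨σ, T.m (z 0), T.w (z 0), Or.inl ⟨?_, ?_, ?_, ?_, ?_, ?_, ?_, ?_, ?_, ?_, ?_, ?_, ?_, ?_, ?_, ?_, ?_, ?_, ?_, ?_, ?_, ?_, ?_, ?_, ?_, ?_, ?_, ?_, ?_, ?_, ?_, ?_, ?_, ?_, ?_, ?_, ?_, ?_, ?_, ?_, ?_, ?_, ?_, ?_, ?_, ?_, ?_, ?_, ?_, ?_, ?_, ?_, ?_, ?_, ?_, ?_, ?_, ?_, ?_, ?_, ?_, ?_, ?_⟩⟩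
  · rw [s0] <;> linarith only [q_0, q_1, q_2, q_3, q_4, q_5, q_6, q_7, q_8]
  · rw [s1] <;> linarith only [q_0, q_1, q_2, q_3, q_4, q_5, q_6, q_7, q_8]
  · rw [s2] <;> linarith only [q_0, q_1, q_2, q_3, q_4, q_5, q_6, q_7, q_8]
  · rw [s3] <;> linarith only [q_0, q_1, q_2, q_3, q_4, q_5, q_6, q_7, q_8]
  · rw [s4] <;> linarith only [q_0, q_1, q_2, q_3, q_4, q_5, q_6, q_7, q_8]
  · rw [s5] <;> linarith only [q_0, q_1, q_2, q_3, q_4, q_5, q_6, q_7, q_8]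
  · rw [s6] <;> linarith only [q_0, q_1, q_2, q_3, q_4, q_5, q_6, q_7, q_8]
  · rw [s7] <;> linarith only [q_0, q_1, q_2, q_3, q_4, q_5, q_6, q_7, q_8]
  · rw [s8] <;> linarith only [q_0, q_1, q_2, q_3, q_4, q_5, q_6, q_7, q_8]
  · rw [s0] <;> linarith only [we_0_1, we_1_2, we_2_3, we_3_4, we_4_5, we_5_6, we_6_7, we_7_8, we_0_8]
  · rw [s1] <;> linarith only [we_0_1, we_1_2, we_2_3, we_3_4, we_4_5, we_5_6, we_6_7, we_7_8, we_0_8]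
  · rw [s2] <;> linarith only [we_0_1, we_1_2, we_2_3, we_3_4, we_4_5, we_5_6, we_6_7, we_7_8, we_0_8]
  · rw [s3] <;> linarith only [we_0_1, we_1_2, we_2_3, we_3_4, we_4_5, we_5_6, we_6_7, we_7_8, we_0_8]
  · rw [s4] <;> linarith only [we_0_1, we_1_2, we_2_3, we_3_4, we_4_5, we_5_6, we_6_7, we_7_8, we_0_8]
  · rw [s5] <;> linarith only [we_0_1, we_1_2, we_2_3, we_3_4, we_4_5, we_5_6, we_6_7, we_7_8, we_0_8]
  · rw [s6] <;> linarith only [we_0_1, we_1_2, we_2_3, we_3_4, we_4_5, we_5_6, we_6_7, we_7_8, we_0_8]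
  · rw [s7] <;> linarith only [we_0_1, we_1_2, we_2_3, we_3_4, we_4_5, we_5_6, we_6_7, we_7_8, we_0_8]
  · rw [s8] <;> linarith only [we_0_1, we_1_2, we_2_3, we_3_4, we_4_5, we_5_6, we_6_7, we_7_8, we_0_8]
  · rw [s0, (h2 (z 0)).2] <;> linarith only [we_0_1, we_1_2, we_2_3, we_3_4, we_4_5, we_5_6, we_6_7, we_7_8, we_0_8]
  · rw [s0, s1, a_eq_pp T (z 0) (z 1), hp_0_1] <;> linarith only [we_0_1, we_1_2, we_2_3, we_3_4, we_4_5, we_5_6, we_6_7, we_7_8, we_0_8]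
  · rw [s0, s2, z_0_2]
  · rw [s0, s3, z_0_3]
  · rw [s0, s4, z_0_4]
  · rw [s0, s5, z_0_5]
  · rw [s0, s6, z_0_6]
  · rw [s0, s7, z_0_7]
  · rw [s0, s8, a_eq_pp T (z 0) (z 8), hp_0_8] <;> linarith only [we_0_1, we_1_2, we_2_3, we_3_4, we_4_5, we_5_6, we_6_7, we_7_8, we_0_8]
  · rw [s1, (h2 (z 1)).2] <;> linarith only [we_0_1, we_1_2, we_2_3, we_3_4, we_4_5, we_5_6, we_6_7, we_7_8, we_0_8]
  · rw [s1, s2, a_eq_pp T (z 1) (z 2), hp_1_2] <;> linarith only [we_0_1, we_1_2, we_2_3, we_3_4, we_4_5, we_5_6, we_6_7, we_7_8, we_0_8]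
  · rw [s1, s3, z_1_3]
  · rw [s1, s4, z_1_4]
  · rw [s1, s5, z_1_5]
  · rw [s1, s6, z_1_6]
  · rw [s1, s7, z_1_7]
  · rw [s1, s8, z_1_8]
  · rw [s2, (h2 (z 2)).2] <;> linarith only [we_0_1, we_1_2, we_2_3, we_3_4, we_4_5, we_5_6, we_6_7, we_7_8, we_0_8]
  · rw [s2, s3, a_eq_pp T (z 2) (z 3), hp_2_3] <;> linarith only [we_0_1, we_1_2, we_2_3, we_3_4, we_4_5, we_5_6, we_6_7, we_7_8, we_0_8]
  · rw [s2, s4, z_2_4]
  · rw [s2, s5, z_2_5]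
  · rw [s2, s6, z_2_6]
  · rw [s2, s7, z_2_7]
  · rw [s2, s8, z_2_8]
  · rw [s3, (h2 (z 3)).2] <;> linarith only [we_0_1, we_1_2, we_2_3, we_3_4, we_4_5, we_5_6, we_6_7, we_7_8, we_0_8]
  · rw [s3, s4, a_eq_pp T (z 3) (z 4), hp_3_4] <;> linarith only [we_0_1, we_1_2, we_2_3, we_3_4, we_4_5, we_5_6, we_6_7, we_7_8, we_0_8]
  · rw [s3, s5, z_3_5]
  · rw [s3, s6, z_3_6]
  · rw [s3, s7, z_3_7]
  · rw [s3, s8, z_3_8]
  · rw [s4, (h2 (z 4)).2] <;> linarith only [we_0_1, we_1_2, we_2_3, we_3_4, we_4_5, we_5_6, we_6_7, we_7_8, we_0_8]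
  · rw [s4, s5, a_eq_pp T (z 4) (z 5), hp_4_5] <;> linarith only [we_0_1, we_1_2, we_2_3, we_3_4, we_4_5, we_5_6, we_6_7, we_7_8, we_0_8]
  · rw [s4, s6, z_4_6]
  · rw [s4, s7, z_4_7]
  · rw [s4, s8, z_4_8]
  · rw [s5, (h2 (z 5)).2] <;> linarith only [we_0_1, we_1_2, we_2_3, we_3_4, we_4_5, we_5_6, we_6_7, we_7_8, we_0_8]
  · rw [s5, s6, a_eq_pp T (z 5) (z 6), hp_5_6] <;> linarith only [we_0_1, we_1_2, we_2_3, we_3_4, we_4_5, we_5_6, we_6_7, we_7_8, we_0_8]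
  · rw [s5, s7, z_5_7]
  · rw [s5, s8, z_5_8]
  · rw [s6, (h2 (z 6)).2] <;> linarith only [we_0_1, we_1_2, we_2_3, we_3_4, we_4_5, we_5_6, we_6_7, we_7_8, we_0_8]
  · rw [s6, s7, a_eq_pp T (z 6) (z 7), hp_6_7] <;> linarith only [we_0_1, we_1_2, we_2_3, we_3_4, we_4_5, we_5_6, we_6_7, we_7_8, we_0_8]
  · rw [s6, s8, z_6_8]
  · rw [s7, (h2 (z 7)).2] <;> linarith only [we_0_1, we_1_2, we_2_3, we_3_4, we_4_5, we_5_6, we_6_7, we_7_8, we_0_8]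
  · rw [s7, s8, a_eq_pp T (z 7) (z 8), hp_7_8] <;> linarith only [we_0_1, we_1_2, we_2_3, we_3_4, we_4_5, we_5_6, we_6_7, we_7_8, we_0_8]
  · rw [s8, (h2 (z 8)).2] <;> linarith only [we_0_1, we_1_2, we_2_3, we_3_4, we_4_5, we_5_6, we_6_7, we_7_8, we_0_8]

theorem shape9_D (T : Models.NumericalType 9) (h2 : ∀ i, T.IsMinusTwo i)
    (z : Fin 9 → Fin 9) (hz : Function.Injective z)
    (e_0_1 : T.a (z 0) (z 1) ≠ 0) (e_0_2 : T.a (z 0) (z 2) ≠ 0) (e_0_3 : T.a (z 0) (z 3) ≠ 0) (e_3_4 : T.a (z 3) (z 4) ≠ 0) (e_4_5 : T.a (z 4) (z 5) ≠ 0) (e_5_6 : T.a (z 5) (z 6) ≠ 0) (e_6_7 : T.a (z 6) (z 7) ≠ 0) (e_7_8 : T.a (z 7) (z 8) ≠ 0) : Goal9 T := by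
  have e_1_0 : T.a (z 1) (z 0) ≠ 0 := nsymm T e_0_1
  have e_2_0 : T.a (z 2) (z 0) ≠ 0 := nsymm T e_0_2
  have e_3_0 : T.a (z 3) (z 0) ≠ 0 := nsymm T e_0_3
  have e_4_3 : T.a (z 4) (z 3) ≠ 0 := nsymm T e_3_4
  have e_5_4 : T.a (z 5) (z 4) ≠ 0 := nsymm T e_4_5
  have e_6_5 : T.a (z 6) (z 5) ≠ 0 := nsymm T e_5_6
  have e_7_6 : T.a (z 7) (z 6) ≠ 0 := nsymm T e_6_7
  have e_8_7 : T.a (z 8) (z 7) ≠ 0 := nsymm T e_7_8
  have z_0_4 : T.a (z 0) (z 4) = 0 := nocycList T h2 z hz [0, 3, 4] (by decide) (by decide) (by decide)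
    (List.IsChain.cons_cons e_0_3 (List.IsChain.cons_cons e_3_4 (List.IsChain.singleton _))) 0 4 rfl rfl
  have z_4_0 : T.a (z 4) (z 0) = 0 := zsymm T z_0_4
  have z_0_5 : T.a (z 0) (z 5) = 0 := nocycList T h2 z hz [0, 3, 4, 5] (by decide) (by decide) (by decide)
    (List.IsChain.cons_cons e_0_3 (List.IsChain.cons_cons e_3_4 (List.IsChain.cons_cons e_4_5 (List.IsChain.singleton _)))) 0 5 rfl rfl
  have z_5_0 : T.a (z 5) (z 0) = 0 := zsymm T z_0_5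
  have z_0_6 : T.a (z 0) (z 6) = 0 := nocycList T h2 z hz [0, 3, 4, 5, 6] (by decide) (by decide) (by decide)
    (List.IsChain.cons_cons e_0_3 (List.IsChain.cons_cons e_3_4 (List.IsChain.cons_cons e_4_5 (List.IsChain.cons_cons e_5_6 (List.IsChain.singleton _))))) 0 6 rfl rfl
  have z_6_0 : T.a (z 6) (z 0) = 0 := zsymm T z_0_6
  have z_0_7 : T.a (z 0) (z 7) = 0 := nocycList T h2 z hz [0, 3, 4, 5, 6, 7] (by decide) (by decide) (by decide)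
    (List.IsChain.cons_cons e_0_3 (List.IsChain.cons_cons e_3_4 (List.IsChain.cons_cons e_4_5 (List.IsChain.cons_cons e_5_6 (List.IsChain.cons_cons e_6_7 (List.IsChain.singleton _)))))) 0 7 rfl rfl
  have z_7_0 : T.a (z 7) (z 0) = 0 := zsymm T z_0_7
  have z_0_8 : T.a (z 0) (z 8) = 0 := nocycList T h2 z hz [0, 3, 4, 5, 6, 7, 8] (by decide) (by decide) (by decide)
    (List.IsChain.cons_cons e_0_3 (List.IsChain.cons_cons e_3_4 (List.IsChain.cons_cons e_4_5 (List.IsChain.cons_cons e_5_6 (List.IsChain.cons_cons e_6_7 (List.IsChain.cons_cons e_7_8 (List.IsChain.singleton _))))))) 0 8 rfl rfl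
  have z_8_0 : T.a (z 8) (z 0) = 0 := zsymm T z_0_8
  have z_1_2 : T.a (z 1) (z 2) = 0 := nocycList T h2 z hz [1, 0, 2] (by decide) (by decide) (by decide)
    (List.IsChain.cons_cons e_1_0 (List.IsChain.cons_cons e_0_2 (List.IsChain.singleton _))) 1 2 rfl rfl
  have z_2_1 : T.a (z 2) (z 1) = 0 := zsymm T z_1_2
  have z_1_3 : T.a (z 1) (z 3) = 0 := nocycList T h2 z hz [1, 0, 3] (by decide) (by decide) (by decide)
    (List.IsChain.cons_cons e_1_0 (List.IsChain.cons_cons e_0_3 (List.IsChain.singleton _))) 1 3 rfl rfl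
  have z_3_1 : T.a (z 3) (z 1) = 0 := zsymm T z_1_3
  have z_1_4 : T.a (z 1) (z 4) = 0 := nocycList T h2 z hz [1, 0, 3, 4] (by decide) (by decide) (by decide)
    (List.IsChain.cons_cons e_1_0 (List.IsChain.cons_cons e_0_3 (List.IsChain.cons_cons e_3_4 (List.IsChain.singleton _)))) 1 4 rfl rfl
  have z_4_1 : T.a (z 4) (z 1) = 0 := zsymm T z_1_4
  have z_1_5 : T.a (z 1) (z 5) = 0 := nocycList T h2 z hz [1, 0, 3, 4, 5] (by decide) (by decide) (by decide)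
    (List.IsChain.cons_cons e_1_0 (List.IsChain.cons_cons e_0_3 (List.IsChain.cons_cons e_3_4 (List.IsChain.cons_cons e_4_5 (List.IsChain.singleton _))))) 1 5 rfl rfl
  have z_5_1 : T.a (z 5) (z 1) = 0 := zsymm T z_1_5
  have z_1_6 : T.a (z 1) (z 6) = 0 := nocycList T h2 z hz [1, 0, 3, 4, 5, 6] (by decide) (by decide) (by decide)
    (List.IsChain.cons_cons e_1_0 (List.IsChain.cons_cons e_0_3 (List.IsChain.cons_cons e_3_4 (List.IsChain.cons_cons e_4_5 (List.IsChain.cons_cons e_5_6 (List.IsChain.singleton _)))))) 1 6 rfl rfl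
  have z_6_1 : T.a (z 6) (z 1) = 0 := zsymm T z_1_6
  have z_1_7 : T.a (z 1) (z 7) = 0 := nocycList T h2 z hz [1, 0, 3, 4, 5, 6, 7] (by decide) (by decide) (by decide)
    (List.IsChain.cons_cons e_1_0 (List.IsChain.cons_cons e_0_3 (List.IsChain.cons_cons e_3_4 (List.IsChain.cons_cons e_4_5 (List.IsChain.cons_cons e_5_6 (List.IsChain.cons_cons e_6_7 (List.IsChain.singleton _))))))) 1 7 rfl rfl
  have z_7_1 : T.a (z 7) (z 1) = 0 := zsymm T z_1_7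
  have z_1_8 : T.a (z 1) (z 8) = 0 := nocycList T h2 z hz [1, 0, 3, 4, 5, 6, 7, 8] (by decide) (by decide) (by decide)
    (List.IsChain.cons_cons e_1_0 (List.IsChain.cons_cons e_0_3 (List.IsChain.cons_cons e_3_4 (List.IsChain.cons_cons e_4_5 (List.IsChain.cons_cons e_5_6 (List.IsChain.cons_cons e_6_7 (List.IsChain.cons_cons e_7_8 (List.IsChain.singleton _)))))))) 1 8 rfl rfl
  have z_8_1 : T.a (z 8) (z 1) = 0 := zsymm T z_1_8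
  have z_2_3 : T.a (z 2) (z 3) = 0 := nocycList T h2 z hz [2, 0, 3] (by decide) (by decide) (by decide)
    (List.IsChain.cons_cons e_2_0 (List.IsChain.cons_cons e_0_3 (List.IsChain.singleton _))) 2 3 rfl rfl
  have z_3_2 : T.a (z 3) (z 2) = 0 := zsymm T z_2_3
  have z_2_4 : T.a (z 2) (z 4) = 0 := nocycList T h2 z hz [2, 0, 3, 4] (by decide) (by decide) (by decide)
    (List.IsChain.cons_cons e_2_0 (List.IsChain.cons_cons e_0_3 (List.IsChain.cons_cons e_3_4 (List.IsChain.singleton _)))) 2 4 rfl rfl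
  have z_4_2 : T.a (z 4) (z 2) = 0 := zsymm T z_2_4
  have z_2_5 : T.a (z 2) (z 5) = 0 := nocycList T h2 z hz [2, 0, 3, 4, 5] (by decide) (by decide) (by decide)
    (List.IsChain.cons_cons e_2_0 (List.IsChain.cons_cons e_0_3 (List.IsChain.cons_cons e_3_4 (List.IsChain.cons_cons e_4_5 (List.IsChain.singleton _))))) 2 5 rfl rfl
  have z_5_2 : T.a (z 5) (z 2) = 0 := zsymm T z_2_5
  have z_2_6 : T.a (z 2) (z 6) = 0 := nocycList T h2 z hz [2, 0, 3, 4, 5, 6] (by decide) (by decide) (by decide)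
    (List.IsChain.cons_cons e_2_0 (List.IsChain.cons_cons e_0_3 (List.IsChain.cons_cons e_3_4 (List.IsChain.cons_cons e_4_5 (List.IsChain.cons_cons e_5_6 (List.IsChain.singleton _)))))) 2 6 rfl rfl
  have z_6_2 : T.a (z 6) (z 2) = 0 := zsymm T z_2_6
  have z_2_7 : T.a (z 2) (z 7) = 0 := nocycList T h2 z hz [2, 0, 3, 4, 5, 6, 7] (by decide) (by decide) (by decide)
    (List.IsChain.cons_cons e_2_0 (List.IsChain.cons_cons e_0_3 (List.IsChain.cons_cons e_3_4 (List.IsChain.cons_cons e_4_5 (List.IsChain.cons_cons e_5_6 (List.IsChain.cons_cons e_6_7 (List.IsChain.singleton _))))))) 2 7 rfl rfl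
  have z_7_2 : T.a (z 7) (z 2) = 0 := zsymm T z_2_7
  have z_2_8 : T.a (z 2) (z 8) = 0 := nocycList T h2 z hz [2, 0, 3, 4, 5, 6, 7, 8] (by decide) (by decide) (by decide)
    (List.IsChain.cons_cons e_2_0 (List.IsChain.cons_cons e_0_3 (List.IsChain.cons_cons e_3_4 (List.IsChain.cons_cons e_4_5 (List.IsChain.cons_cons e_5_6 (List.IsChain.cons_cons e_6_7 (List.IsChain.cons_cons e_7_8 (List.IsChain.singleton _)))))))) 2 8 rfl rfl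
  have z_8_2 : T.a (z 8) (z 2) = 0 := zsymm T z_2_8
  have z_3_5 : T.a (z 3) (z 5) = 0 := nocycList T h2 z hz [3, 4, 5] (by decide) (by decide) (by decide)
    (List.IsChain.cons_cons e_3_4 (List.IsChain.cons_cons e_4_5 (List.IsChain.singleton _))) 3 5 rfl rfl
  have z_5_3 : T.a (z 5) (z 3) = 0 := zsymm T z_3_5
  have z_3_6 : T.a (z 3) (z 6) = 0 := nocycList T h2 z hz [3, 4, 5, 6] (by decide) (by decide) (by decide)
    (List.IsChain.cons_cons e_3_4 (List.IsChain.cons_cons e_4_5 (List.IsChain.cons_cons e_5_6 (List.IsChain.singleton _)))) 3 6 rfl rfl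
  have z_6_3 : T.a (z 6) (z 3) = 0 := zsymm T z_3_6
  have z_3_7 : T.a (z 3) (z 7) = 0 := nocycList T h2 z hz [3, 4, 5, 6, 7] (by decide) (by decide) (by decide)
    (List.IsChain.cons_cons e_3_4 (List.IsChain.cons_cons e_4_5 (List.IsChain.cons_cons e_5_6 (List.IsChain.cons_cons e_6_7 (List.IsChain.singleton _))))) 3 7 rfl rfl
  have z_7_3 : T.a (z 7) (z 3) = 0 := zsymm T z_3_7
  have z_3_8 : T.a (z 3) (z 8) = 0 := nocycList T h2 z hz [3, 4, 5, 6, 7, 8] (by decide) (by decide) (by decide)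
    (List.IsChain.cons_cons e_3_4 (List.IsChain.cons_cons e_4_5 (List.IsChain.cons_cons e_5_6 (List.IsChain.cons_cons e_6_7 (List.IsChain.cons_cons e_7_8 (List.IsChain.singleton _)))))) 3 8 rfl rfl
  have z_8_3 : T.a (z 8) (z 3) = 0 := zsymm T z_3_8
  have z_4_6 : T.a (z 4) (z 6) = 0 := nocycList T h2 z hz [4, 5, 6] (by decide) (by decide) (by decide)
    (List.IsChain.cons_cons e_4_5 (List.IsChain.cons_cons e_5_6 (List.IsChain.singleton _))) 4 6 rfl rfl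
  have z_6_4 : T.a (z 6) (z 4) = 0 := zsymm T z_4_6
  have z_4_7 : T.a (z 4) (z 7) = 0 := nocycList T h2 z hz [4, 5, 6, 7] (by decide) (by decide) (by decide)
    (List.IsChain.cons_cons e_4_5 (List.IsChain.cons_cons e_5_6 (List.IsChain.cons_cons e_6_7 (List.IsChain.singleton _)))) 4 7 rfl rfl
  have z_7_4 : T.a (z 7) (z 4) = 0 := zsymm T z_4_7
  have z_4_8 : T.a (z 4) (z 8) = 0 := nocycList T h2 z hz [4, 5, 6, 7, 8] (by decide) (by decide) (by decide)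
    (List.IsChain.cons_cons e_4_5 (List.IsChain.cons_cons e_5_6 (List.IsChain.cons_cons e_6_7 (List.IsChain.cons_cons e_7_8 (List.IsChain.singleton _))))) 4 8 rfl rfl
  have z_8_4 : T.a (z 8) (z 4) = 0 := zsymm T z_4_8
  have z_5_7 : T.a (z 5) (z 7) = 0 := nocycList T h2 z hz [5, 6, 7] (by decide) (by decide) (by decide)
    (List.IsChain.cons_cons e_5_6 (List.IsChain.cons_cons e_6_7 (List.IsChain.singleton _))) 5 7 rfl rfl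
  have z_7_5 : T.a (z 7) (z 5) = 0 := zsymm T z_5_7
  have z_5_8 : T.a (z 5) (z 8) = 0 := nocycList T h2 z hz [5, 6, 7, 8] (by decide) (by decide) (by decide)
    (List.IsChain.cons_cons e_5_6 (List.IsChain.cons_cons e_6_7 (List.IsChain.cons_cons e_7_8 (List.IsChain.singleton _)))) 5 8 rfl rfl
  have z_8_5 : T.a (z 8) (z 5) = 0 := zsymm T z_5_8
  have z_6_8 : T.a (z 6) (z 8) = 0 := nocycList T h2 z hz [6, 7, 8] (by decide) (by decide) (by decide)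
    (List.IsChain.cons_cons e_6_7 (List.IsChain.cons_cons e_7_8 (List.IsChain.singleton _))) 6 8 rfl rfl
  have z_8_6 : T.a (z 8) (z 6) = 0 := zsymm T z_6_8
  obtain ⟨hp_0_1, hp_1_0, hp_0_2, hp_2_0, hp_0_3, hp_3_0⟩ := branch_one T h2 z hz (by norm_num) 0 1 2 3 (by decide) e_0_1 e_0_2 e_0_3
  obtain ⟨hp_3_4, hp_4_3⟩ := mid_edge_one T h2 z hz [0, 3, 4, 5, 6] (by decide) (by decide) (by decide)
    (List.IsChain.cons_cons e_0_3 (List.IsChain.cons_cons e_3_4 (List.IsChain.cons_cons e_4_5 (List.IsChain.cons_cons e_5_6 (List.IsChain.singleton _))))) 1 (by decide) (by decide) 3 4 rfl rfl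
  obtain ⟨hp_4_5, hp_5_4⟩ := mid_edge_one T h2 z hz [0, 3, 4, 5, 6] (by decide) (by decide) (by decide)
    (List.IsChain.cons_cons e_0_3 (List.IsChain.cons_cons e_3_4 (List.IsChain.cons_cons e_4_5 (List.IsChain.cons_cons e_5_6 (List.IsChain.singleton _))))) 2 (by decide) (by decide) 4 5 rfl rfl
  obtain ⟨hp_5_6, hp_6_5⟩ := mid_edge_one T h2 z hz [0, 3, 4, 5, 6, 7] (by decide) (by decide) (by decide)
    (List.IsChain.cons_cons e_0_3 (List.IsChain.cons_cons e_3_4 (List.IsChain.cons_cons e_4_5 (List.IsChain.cons_cons e_5_6 (List.IsChain.cons_cons e_6_7 (List.IsChain.singleton _)))))) 3 (by decide) (by decide) 5 6 rfl rfl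
  obtain ⟨hp_6_7, hp_7_6⟩ := mid_edge_one T h2 z hz [0, 3, 4, 5, 6, 7, 8] (by decide) (by decide) (by decide)
    (List.IsChain.cons_cons e_0_3 (List.IsChain.cons_cons e_3_4 (List.IsChain.cons_cons e_4_5 (List.IsChain.cons_cons e_5_6 (List.IsChain.cons_cons e_6_7 (List.IsChain.cons_cons e_7_8 (List.IsChain.singleton _))))))) 4 (by decide) (by decide) 6 7 rfl rfl
  have we_0_1 := w_pp T (z 0) (z 1)
  have we_0_2 := w_pp T (z 0) (z 2)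
  have we_0_3 := w_pp T (z 0) (z 3)
  have we_3_4 := w_pp T (z 3) (z 4)
  have we_4_5 := w_pp T (z 4) (z 5)
  have we_5_6 := w_pp T (z 5) (z 6)
  have we_6_7 := w_pp T (z 6) (z 7)
  have we_7_8 := w_pp T (z 7) (z 8)
  have r_0 := row9 T z hz (z 0)
  rw [(h2 (z 0)).2, a_eq_pp T (z 0) (z 1), a_eq_pp T (z 0) (z 2), a_eq_pp T (z 0) (z 3), z_0_4, z_0_5, z_0_6, z_0_7, z_0_8] at r_0
  have q_0 : pp T (z 0) (z 1) * T.m (z 1) + pp T (z 0) (z 2) * T.m (z 2) + pp T (z 0) (z 3) * T.m (z 3) = 2 * T.m (z 0) :=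
    mul_left_cancel₀ (T.w_pos (z 0)).ne' (by linear_combination r_0)
  clear r_0
  have r_1 := row9 T z hz (z 1)
  rw [a_eq_pp T (z 1) (z 0), (h2 (z 1)).2, z_1_2, z_1_3, z_1_4, z_1_5, z_1_6, z_1_7, z_1_8] at r_1
  have q_1 : pp T (z 1) (z 0) * T.m (z 0) = 2 * T.m (z 1) :=
    mul_left_cancel₀ (T.w_pos (z 1)).ne' (by linear_combination r_1)
  clear r_1
  have r_2 := row9 T z hz (z 2)
  rw [a_eq_pp T (z 2) (z 0), z_2_1, (h2 (z 2)).2, z_2_3, z_2_4, z_2_5, z_2_6, z_2_7, z_2_8] at r_2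
  have q_2 : pp T (z 2) (z 0) * T.m (z 0) = 2 * T.m (z 2) :=
    mul_left_cancel₀ (T.w_pos (z 2)).ne' (by linear_combination r_2)
  clear r_2
  have r_3 := row9 T z hz (z 3)
  rw [a_eq_pp T (z 3) (z 0), z_3_1, z_3_2, (h2 (z 3)).2, a_eq_pp T (z 3) (z 4), z_3_5, z_3_6, z_3_7, z_3_8] at r_3
  have q_3 : pp T (z 3) (z 0) * T.m (z 0) + pp T (z 3) (z 4) * T.m (z 4) = 2 * T.m (z 3) :=
    mul_left_cancel₀ (T.w_pos (z 3)).ne' (by linear_combination r_3)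
  clear r_3
  have r_4 := row9 T z hz (z 4)
  rw [z_4_0, z_4_1, z_4_2, a_eq_pp T (z 4) (z 3), (h2 (z 4)).2, a_eq_pp T (z 4) (z 5), z_4_6, z_4_7, z_4_8] at r_4
  have q_4 : pp T (z 4) (z 3) * T.m (z 3) + pp T (z 4) (z 5) * T.m (z 5) = 2 * T.m (z 4) :=
    mul_left_cancel₀ (T.w_pos (z 4)).ne' (by linear_combination r_4)
  clear r_4
  have r_5 := row9 T z hz (z 5)
  rw [z_5_0, z_5_1, z_5_2, z_5_3, a_eq_pp T (z 5) (z 4), (h2 (z 5)).2, a_eq_pp T (z 5) (z 6), z_5_7, z_5_8] at r_5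
  have q_5 : pp T (z 5) (z 4) * T.m (z 4) + pp T (z 5) (z 6) * T.m (z 6) = 2 * T.m (z 5) :=
    mul_left_cancel₀ (T.w_pos (z 5)).ne' (by linear_combination r_5)
  clear r_5
  have r_6 := row9 T z hz (z 6)
  rw [z_6_0, z_6_1, z_6_2, z_6_3, z_6_4, a_eq_pp T (z 6) (z 5), (h2 (z 6)).2, a_eq_pp T (z 6) (z 7), z_6_8] at r_6
  have q_6 : pp T (z 6) (z 5) * T.m (z 5) + pp T (z 6) (z 7) * T.m (z 7) = 2 * T.m (z 6) :=
    mul_left_cancel₀ (T.w_pos (z 6)).ne' (by linear_combination r_6)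
  clear r_6
  have r_7 := row9 T z hz (z 7)
  rw [z_7_0, z_7_1, z_7_2, z_7_3, z_7_4, z_7_5, a_eq_pp T (z 7) (z 6), (h2 (z 7)).2, a_eq_pp T (z 7) (z 8)] at r_7
  have q_7 : pp T (z 7) (z 6) * T.m (z 6) + pp T (z 7) (z 8) * T.m (z 8) = 2 * T.m (z 7) :=
    mul_left_cancel₀ (T.w_pos (z 7)).ne' (by linear_combination r_7)
  clear r_7
  have r_8 := row9 T z hz (z 8)
  rw [z_8_0, z_8_1, z_8_2, z_8_3, z_8_4, z_8_5, z_8_6, a_eq_pp T (z 8) (z 7), (h2 (z 8)).2] at r_8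
  have q_8 : pp T (z 8) (z 7) * T.m (z 7) = 2 * T.m (z 8) :=
    mul_left_cancel₀ (T.w_pos (z 8)).ne' (by linear_combination r_8)
  clear r_8
  rcases edge_cases T h2 z hz [0, 3, 4, 5, 6, 7, 8] (by decide) (by decide) (by decide)
    (List.IsChain.cons_cons e_0_3 (List.IsChain.cons_cons e_3_4 (List.IsChain.cons_cons e_4_5 (List.IsChain.cons_cons e_5_6 (List.IsChain.cons_cons e_6_7 (List.IsChain.cons_cons e_7_8 (List.IsChain.singleton _))))))) 5 (by decide) 7 8 rfl rfl with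
    ⟨hp_7_8, hp_8_7⟩ | ⟨hp_7_8, hp_8_7⟩ | ⟨hp_7_8, hp_8_7⟩
  · skip
    rw [hp_0_1, hp_0_2, hp_0_3] at q_0
    rw [hp_1_0] at q_1
    rw [hp_2_0] at q_2
    rw [hp_3_0, hp_3_4] at q_3
    rw [hp_4_3, hp_4_5] at q_4
    rw [hp_5_4, hp_5_6] at q_5
    rw [hp_6_5, hp_6_7] at q_6
    rw [hp_7_6, hp_7_8] at q_7
    rw [hp_8_7] at q_8
    rw [hp_0_1, hp_1_0] at we_0_1
    rw [hp_0_2, hp_2_0] at we_0_2
    rw [hp_0_3, hp_3_0] at we_0_3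
    rw [hp_3_4, hp_4_3] at we_3_4
    rw [hp_4_5, hp_5_4] at we_4_5
    rw [hp_5_6, hp_6_5] at we_5_6
    rw [hp_6_7, hp_7_6] at we_6_7
    rw [hp_7_8, hp_8_7] at we_7_8
    exfalso; linarith only [q_0, q_1, q_2, q_3, q_4, q_5, q_6, q_7, q_8, T.m_pos (z 0), T.m_pos (z 1), T.m_pos (z 2), T.m_pos (z 3), T.m_pos (z 4), T.m_pos (z 5), T.m_pos (z 6), T.m_pos (z 7), T.m_pos (z 8)]
  · skip
    rw [hp_0_1, hp_0_2, hp_0_3] at q_0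
    rw [hp_1_0] at q_1
    rw [hp_2_0] at q_2
    rw [hp_3_0, hp_3_4] at q_3
    rw [hp_4_3, hp_4_5] at q_4
    rw [hp_5_4, hp_5_6] at q_5
    rw [hp_6_5, hp_6_7] at q_6
    rw [hp_7_6, hp_7_8] at q_7
    rw [hp_8_7] at q_8
    rw [hp_0_1, hp_1_0] at we_0_1
    rw [hp_0_2, hp_2_0] at we_0_2
    rw [hp_0_3, hp_3_0] at we_0_3
    rw [hp_3_4, hp_4_3] at we_3_4
    rw [hp_4_5, hp_5_4] at we_4_5
    rw [hp_5_6, hp_6_5] at we_5_6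
    rw [hp_6_7, hp_7_6] at we_6_7
    rw [hp_7_8, hp_8_7] at we_7_8
    obtain ⟨σ, hσ⟩ := permOf (fun i => z (![8, 7, 6, 5, 4, 3, 0, 1, 2] i)) (hz.comp (by decide))
    have s0 : σ 0 = z 8 := hσ 0
    have s1 : σ 1 = z 7 := hσ 1
    have s2 : σ 2 = z 6 := hσ 2
    have s3 : σ 3 = z 5 := hσ 3
    have s4 : σ 4 = z 4 := hσ 4
    have s5 : σ 5 = z 3 := hσ 5
    have s6 : σ 6 = z 0 := hσ 6
    have s7 : σ 7 = z 1 := hσ 7
    have s8 : σ 8 = z 2 := hσ 8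
    unfold Goal9
    refine ⟨σ, T.m (z 8), T.w (z 7), Or.inr (Or.inr (Or.inr (Or.inr (Or.inl ⟨?_, ?_, ?_, ?_, ?_, ?_, ?_, ?_, ?_, ?_, ?_, ?_, ?_, ?_, ?_, ?_, ?_, ?_, ?_, ?_, ?_, ?_, ?_, ?_, ?_, ?_, ?_, ?_, ?_, ?_, ?_, ?_, ?_, ?_, ?_, ?_, ?_, ?_, ?_, ?_, ?_, ?_, ?_, ?_, ?_, ?_, ?_, ?_, ?_, ?_, ?_, ?_, ?_, ?_, ?_, ?_, ?_, ?_, ?_, ?_, ?_, ?_, ?_⟩))))⟩
    · rw [s0] <;> linarith only [q_0, q_1, q_2, q_3, q_4, q_5, q_6, q_7, q_8]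
    · rw [s1] <;> linarith only [q_0, q_1, q_2, q_3, q_4, q_5, q_6, q_7, q_8]
    · rw [s2] <;> linarith only [q_0, q_1, q_2, q_3, q_4, q_5, q_6, q_7, q_8]
    · rw [s3] <;> linarith only [q_0, q_1, q_2, q_3, q_4, q_5, q_6, q_7, q_8]
    · rw [s4] <;> linarith only [q_0, q_1, q_2, q_3, q_4, q_5, q_6, q_7, q_8]
    · rw [s5] <;> linarith only [q_0, q_1, q_2, q_3, q_4, q_5, q_6, q_7, q_8]
    · rw [s6] <;> linarith only [q_0, q_1, q_2, q_3, q_4, q_5, q_6, q_7, q_8]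
    · rw [s7] <;> linarith only [q_0, q_1, q_2, q_3, q_4, q_5, q_6, q_7, q_8]
    · rw [s8] <;> linarith only [q_0, q_1, q_2, q_3, q_4, q_5, q_6, q_7, q_8]
    · rw [s0] <;> linarith only [we_0_1, we_0_2, we_0_3, we_3_4, we_4_5, we_5_6, we_6_7, we_7_8]
    · rw [s1] <;> linarith only [we_0_1, we_0_2, we_0_3, we_3_4, we_4_5, we_5_6, we_6_7, we_7_8]
    · rw [s2] <;> linarith only [we_0_1, we_0_2, we_0_3, we_3_4, we_4_5, we_5_6, we_6_7, we_7_8]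
    · rw [s3] <;> linarith only [we_0_1, we_0_2, we_0_3, we_3_4, we_4_5, we_5_6, we_6_7, we_7_8]
    · rw [s4] <;> linarith only [we_0_1, we_0_2, we_0_3, we_3_4, we_4_5, we_5_6, we_6_7, we_7_8]
    · rw [s5] <;> linarith only [we_0_1, we_0_2, we_0_3, we_3_4, we_4_5, we_5_6, we_6_7, we_7_8]
    · rw [s6] <;> linarith only [we_0_1, we_0_2, we_0_3, we_3_4, we_4_5, we_5_6, we_6_7, we_7_8]
    · rw [s7] <;> linarith only [we_0_1, we_0_2, we_0_3, we_3_4, we_4_5, we_5_6, we_6_7, we_7_8]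
    · rw [s8] <;> linarith only [we_0_1, we_0_2, we_0_3, we_3_4, we_4_5, we_5_6, we_6_7, we_7_8]
    · rw [s0, (h2 (z 8)).2] <;> linarith only [we_0_1, we_0_2, we_0_3, we_3_4, we_4_5, we_5_6, we_6_7, we_7_8]
    · rw [s0, s1, a_eq_pp T (z 8) (z 7), hp_8_7] <;> linarith only [we_0_1, we_0_2, we_0_3, we_3_4, we_4_5, we_5_6, we_6_7, we_7_8]
    · rw [s0, s2, z_8_6]
    · rw [s0, s3, z_8_5]
    · rw [s0, s4, z_8_4]
    · rw [s0, s5, z_8_3]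
    · rw [s0, s6, z_8_0]
    · rw [s0, s7, z_8_1]
    · rw [s0, s8, z_8_2]
    · rw [s1, (h2 (z 7)).2] <;> linarith only [we_0_1, we_0_2, we_0_3, we_3_4, we_4_5, we_5_6, we_6_7, we_7_8]
    · rw [s1, s2, a_eq_pp T (z 7) (z 6), hp_7_6] <;> linarith only [we_0_1, we_0_2, we_0_3, we_3_4, we_4_5, we_5_6, we_6_7, we_7_8]
    · rw [s1, s3, z_7_5]
    · rw [s1, s4, z_7_4]
    · rw [s1, s5, z_7_3]
    · rw [s1, s6, z_7_0]
    · rw [s1, s7, z_7_1]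
    · rw [s1, s8, z_7_2]
    · rw [s2, (h2 (z 6)).2] <;> linarith only [we_0_1, we_0_2, we_0_3, we_3_4, we_4_5, we_5_6, we_6_7, we_7_8]
    · rw [s2, s3, a_eq_pp T (z 6) (z 5), hp_6_5] <;> linarith only [we_0_1, we_0_2, we_0_3, we_3_4, we_4_5, we_5_6, we_6_7, we_7_8]
    · rw [s2, s4, z_6_4]
    · rw [s2, s5, z_6_3]
    · rw [s2, s6, z_6_0]
    · rw [s2, s7, z_6_1]
    · rw [s2, s8, z_6_2]
    · rw [s3, (h2 (z 5)).2] <;> linarith only [we_0_1, we_0_2, we_0_3, we_3_4, we_4_5, we_5_6, we_6_7, we_7_8]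
    · rw [s3, s4, a_eq_pp T (z 5) (z 4), hp_5_4] <;> linarith only [we_0_1, we_0_2, we_0_3, we_3_4, we_4_5, we_5_6, we_6_7, we_7_8]
    · rw [s3, s5, z_5_3]
    · rw [s3, s6, z_5_0]
    · rw [s3, s7, z_5_1]
    · rw [s3, s8, z_5_2]
    · rw [s4, (h2 (z 4)).2] <;> linarith only [we_0_1, we_0_2, we_0_3, we_3_4, we_4_5, we_5_6, we_6_7, we_7_8]
    · rw [s4, s5, a_eq_pp T (z 4) (z 3), hp_4_3] <;> linarith only [we_0_1, we_0_2, we_0_3, we_3_4, we_4_5, we_5_6, we_6_7, we_7_8]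
    · rw [s4, s6, z_4_0]
    · rw [s4, s7, z_4_1]
    · rw [s4, s8, z_4_2]
    · rw [s5, (h2 (z 3)).2] <;> linarith only [we_0_1, we_0_2, we_0_3, we_3_4, we_4_5, we_5_6, we_6_7, we_7_8]
    · rw [s5, s6, a_eq_pp T (z 3) (z 0), hp_3_0] <;> linarith only [we_0_1, we_0_2, we_0_3, we_3_4, we_4_5, we_5_6, we_6_7, we_7_8]
    · rw [s5, s7, z_3_1]
    · rw [s5, s8, z_3_2]
    · rw [s6, (h2 (z 0)).2] <;> linarith only [we_0_1, we_0_2, we_0_3, we_3_4, we_4_5, we_5_6, we_6_7, we_7_8]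
    · rw [s6, s7, a_eq_pp T (z 0) (z 1), hp_0_1] <;> linarith only [we_0_1, we_0_2, we_0_3, we_3_4, we_4_5, we_5_6, we_6_7, we_7_8]
    · rw [s6, s8, a_eq_pp T (z 0) (z 2), hp_0_2] <;> linarith only [we_0_1, we_0_2, we_0_3, we_3_4, we_4_5, we_5_6, we_6_7, we_7_8]
    · rw [s7, (h2 (z 1)).2] <;> linarith only [we_0_1, we_0_2, we_0_3, we_3_4, we_4_5, we_5_6, we_6_7, we_7_8]
    · rw [s7, s8, z_1_2]
    · rw [s8, (h2 (z 2)).2] <;> linarith only [we_0_1, we_0_2, we_0_3, we_3_4, we_4_5, we_5_6, we_6_7, we_7_8]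
  · skip
    rw [hp_0_1, hp_0_2, hp_0_3] at q_0
    rw [hp_1_0] at q_1
    rw [hp_2_0] at q_2
    rw [hp_3_0, hp_3_4] at q_3
    rw [hp_4_3, hp_4_5] at q_4
    rw [hp_5_4, hp_5_6] at q_5
    rw [hp_6_5, hp_6_7] at q_6
    rw [hp_7_6, hp_7_8] at q_7
    rw [hp_8_7] at q_8
    rw [hp_0_1, hp_1_0] at we_0_1
    rw [hp_0_2, hp_2_0] at we_0_2
    rw [hp_0_3, hp_3_0] at we_0_3
    rw [hp_3_4, hp_4_3] at we_3_4
    rw [hp_4_5, hp_5_4] at we_4_5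
    rw [hp_5_6, hp_6_5] at we_5_6
    rw [hp_6_7, hp_7_6] at we_6_7
    rw [hp_7_8, hp_8_7] at we_7_8
    obtain ⟨σ, hσ⟩ := permOf (fun i => z (![8, 7, 6, 5, 4, 3, 0, 1, 2] i)) (hz.comp (by decide))
    have s0 : σ 0 = z 8 := hσ 0
    have s1 : σ 1 = z 7 := hσ 1
    have s2 : σ 2 = z 6 := hσ 2
    have s3 : σ 3 = z 5 := hσ 3
    have s4 : σ 4 = z 4 := hσ 4
    have s5 : σ 5 = z 3 := hσ 5
    have s6 : σ 6 = z 0 := hσ 6
    have s7 : σ 7 = z 1 := hσ 7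
    have s8 : σ 8 = z 2 := hσ 8
    unfold Goal9
    refine ⟨σ, T.m (z 1), T.w (z 8), Or.inr (Or.inr (Or.inr (Or.inr (Or.inr (Or.inl ⟨?_, ?_, ?_, ?_, ?_, ?_, ?_, ?_, ?_, ?_, ?_, ?_, ?_, ?_, ?_, ?_, ?_, ?_, ?_, ?_, ?_, ?_, ?_, ?_, ?_, ?_, ?_, ?_, ?_, ?_, ?_, ?_, ?_, ?_, ?_, ?_, ?_, ?_, ?_, ?_, ?_, ?_, ?_, ?_, ?_, ?_, ?_, ?_, ?_, ?_, ?_, ?_, ?_, ?_, ?_, ?_, ?_, ?_, ?_, ?_, ?_, ?_, ?_⟩)))))⟩
    · rw [s0] <;> linarith only [q_0, q_1, q_2, q_3, q_4, q_5, q_6, q_7, q_8]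
    · rw [s1] <;> linarith only [q_0, q_1, q_2, q_3, q_4, q_5, q_6, q_7, q_8]
    · rw [s2] <;> linarith only [q_0, q_1, q_2, q_3, q_4, q_5, q_6, q_7, q_8]
    · rw [s3] <;> linarith only [q_0, q_1, q_2, q_3, q_4, q_5, q_6, q_7, q_8]
    · rw [s4] <;> linarith only [q_0, q_1, q_2, q_3, q_4, q_5, q_6, q_7, q_8]
    · rw [s5] <;> linarith only [q_0, q_1, q_2, q_3, q_4, q_5, q_6, q_7, q_8]
    · rw [s6] <;> linarith only [q_0, q_1, q_2, q_3, q_4, q_5, q_6, q_7, q_8]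
    · rw [s7] <;> linarith only [q_0, q_1, q_2, q_3, q_4, q_5, q_6, q_7, q_8]
    · rw [s8] <;> linarith only [q_0, q_1, q_2, q_3, q_4, q_5, q_6, q_7, q_8]
    · rw [s0] <;> linarith only [we_0_1, we_0_2, we_0_3, we_3_4, we_4_5, we_5_6, we_6_7, we_7_8]
    · rw [s1] <;> linarith only [we_0_1, we_0_2, we_0_3, we_3_4, we_4_5, we_5_6, we_6_7, we_7_8]
    · rw [s2] <;> linarith only [we_0_1, we_0_2, we_0_3, we_3_4, we_4_5, we_5_6, we_6_7, we_7_8]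
    · rw [s3] <;> linarith only [we_0_1, we_0_2, we_0_3, we_3_4, we_4_5, we_5_6, we_6_7, we_7_8]
    · rw [s4] <;> linarith only [we_0_1, we_0_2, we_0_3, we_3_4, we_4_5, we_5_6, we_6_7, we_7_8]
    · rw [s5] <;> linarith only [we_0_1, we_0_2, we_0_3, we_3_4, we_4_5, we_5_6, we_6_7, we_7_8]
    · rw [s6] <;> linarith only [we_0_1, we_0_2, we_0_3, we_3_4, we_4_5, we_5_6, we_6_7, we_7_8]
    · rw [s7] <;> linarith only [we_0_1, we_0_2, we_0_3, we_3_4, we_4_5, we_5_6, we_6_7, we_7_8]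
    · rw [s8] <;> linarith only [we_0_1, we_0_2, we_0_3, we_3_4, we_4_5, we_5_6, we_6_7, we_7_8]
    · rw [s0, (h2 (z 8)).2] <;> linarith only [we_0_1, we_0_2, we_0_3, we_3_4, we_4_5, we_5_6, we_6_7, we_7_8]
    · rw [s0, s1, a_eq_pp T (z 8) (z 7), hp_8_7] <;> linarith only [we_0_1, we_0_2, we_0_3, we_3_4, we_4_5, we_5_6, we_6_7, we_7_8]
    · rw [s0, s2, z_8_6]
    · rw [s0, s3, z_8_5]
    · rw [s0, s4, z_8_4]
    · rw [s0, s5, z_8_3]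
    · rw [s0, s6, z_8_0]
    · rw [s0, s7, z_8_1]
    · rw [s0, s8, z_8_2]
    · rw [s1, (h2 (z 7)).2] <;> linarith only [we_0_1, we_0_2, we_0_3, we_3_4, we_4_5, we_5_6, we_6_7, we_7_8]
    · rw [s1, s2, a_eq_pp T (z 7) (z 6), hp_7_6] <;> linarith only [we_0_1, we_0_2, we_0_3, we_3_4, we_4_5, we_5_6, we_6_7, we_7_8]
    · rw [s1, s3, z_7_5]
    · rw [s1, s4, z_7_4]
    · rw [s1, s5, z_7_3]
    · rw [s1, s6, z_7_0]
    · rw [s1, s7, z_7_1]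
    · rw [s1, s8, z_7_2]
    · rw [s2, (h2 (z 6)).2] <;> linarith only [we_0_1, we_0_2, we_0_3, we_3_4, we_4_5, we_5_6, we_6_7, we_7_8]
    · rw [s2, s3, a_eq_pp T (z 6) (z 5), hp_6_5] <;> linarith only [we_0_1, we_0_2, we_0_3, we_3_4, we_4_5, we_5_6, we_6_7, we_7_8]
    · rw [s2, s4, z_6_4]
    · rw [s2, s5, z_6_3]
    · rw [s2, s6, z_6_0]
    · rw [s2, s7, z_6_1]
    · rw [s2, s8, z_6_2]
    · rw [s3, (h2 (z 5)).2] <;> linarith only [we_0_1, we_0_2, we_0_3, we_3_4, we_4_5, we_5_6, we_6_7, we_7_8]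
    · rw [s3, s4, a_eq_pp T (z 5) (z 4), hp_5_4] <;> linarith only [we_0_1, we_0_2, we_0_3, we_3_4, we_4_5, we_5_6, we_6_7, we_7_8]
    · rw [s3, s5, z_5_3]
    · rw [s3, s6, z_5_0]
    · rw [s3, s7, z_5_1]
    · rw [s3, s8, z_5_2]
    · rw [s4, (h2 (z 4)).2] <;> linarith only [we_0_1, we_0_2, we_0_3, we_3_4, we_4_5, we_5_6, we_6_7, we_7_8]
    · rw [s4, s5, a_eq_pp T (z 4) (z 3), hp_4_3] <;> linarith only [we_0_1, we_0_2, we_0_3, we_3_4, we_4_5, we_5_6, we_6_7, we_7_8]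
    · rw [s4, s6, z_4_0]
    · rw [s4, s7, z_4_1]
    · rw [s4, s8, z_4_2]
    · rw [s5, (h2 (z 3)).2] <;> linarith only [we_0_1, we_0_2, we_0_3, we_3_4, we_4_5, we_5_6, we_6_7, we_7_8]
    · rw [s5, s6, a_eq_pp T (z 3) (z 0), hp_3_0] <;> linarith only [we_0_1, we_0_2, we_0_3, we_3_4, we_4_5, we_5_6, we_6_7, we_7_8]
    · rw [s5, s7, z_3_1]
    · rw [s5, s8, z_3_2]
    · rw [s6, (h2 (z 0)).2] <;> linarith only [we_0_1, we_0_2, we_0_3, we_3_4, we_4_5, we_5_6, we_6_7, we_7_8]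
    · rw [s6, s7, a_eq_pp T (z 0) (z 1), hp_0_1] <;> linarith only [we_0_1, we_0_2, we_0_3, we_3_4, we_4_5, we_5_6, we_6_7, we_7_8]
    · rw [s6, s8, a_eq_pp T (z 0) (z 2), hp_0_2] <;> linarith only [we_0_1, we_0_2, we_0_3, we_3_4, we_4_5, we_5_6, we_6_7, we_7_8]
    · rw [s7, (h2 (z 1)).2] <;> linarith only [we_0_1, we_0_2, we_0_3, we_3_4, we_4_5, we_5_6, we_6_7, we_7_8]
    · rw [s7, s8, z_1_2]
    · rw [s8, (h2 (z 2)).2] <;> linarith only [we_0_1, we_0_2, we_0_3, we_3_4, we_4_5, we_5_6, we_6_7, we_7_8]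

theorem shape9_Dt (T : Models.NumericalType 9) (h2 : ∀ i, T.IsMinusTwo i)
    (z : Fin 9 → Fin 9) (hz : Function.Injective z)
    (e_0_2 : T.a (z 0) (z 2) ≠ 0) (e_1_2 : T.a (z 1) (z 2) ≠ 0) (e_2_3 : T.a (z 2) (z 3) ≠ 0) (e_3_4 : T.a (z 3) (z 4) ≠ 0) (e_4_5 : T.a (z 4) (z 5) ≠ 0) (e_5_6 : T.a (z 5) (z 6) ≠ 0) (e_6_7 : T.a (z 6) (z 7) ≠ 0) (e_6_8 : T.a (z 6) (z 8) ≠ 0) : Goal9 T := by
  have e_2_0 : T.a (z 2) (z 0) ≠ 0 := nsymm T e_0_2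
  have e_2_1 : T.a (z 2) (z 1) ≠ 0 := nsymm T e_1_2
  have e_3_2 : T.a (z 3) (z 2) ≠ 0 := nsymm T e_2_3
  have e_4_3 : T.a (z 4) (z 3) ≠ 0 := nsymm T e_3_4
  have e_5_4 : T.a (z 5) (z 4) ≠ 0 := nsymm T e_4_5
  have e_6_5 : T.a (z 6) (z 5) ≠ 0 := nsymm T e_5_6
  have e_7_6 : T.a (z 7) (z 6) ≠ 0 := nsymm T e_6_7
  have e_8_6 : T.a (z 8) (z 6) ≠ 0 := nsymm T e_6_8
  have z_0_1 : T.a (z 0) (z 1) = 0 := nocycList T h2 z hz [0, 2, 1] (by decide) (by decide) (by decide)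
    (List.IsChain.cons_cons e_0_2 (List.IsChain.cons_cons e_2_1 (List.IsChain.singleton _))) 0 1 rfl rfl
  have z_1_0 : T.a (z 1) (z 0) = 0 := zsymm T z_0_1
  have z_0_3 : T.a (z 0) (z 3) = 0 := nocycList T h2 z hz [0, 2, 3] (by decide) (by decide) (by decide)
    (List.IsChain.cons_cons e_0_2 (List.IsChain.cons_cons e_2_3 (List.IsChain.singleton _))) 0 3 rfl rfl
  have z_3_0 : T.a (z 3) (z 0) = 0 := zsymm T z_0_3
  have z_0_4 : T.a (z 0) (z 4) = 0 := nocycList T h2 z hz [0, 2, 3, 4] (by decide) (by decide) (by decide)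
    (List.IsChain.cons_cons e_0_2 (List.IsChain.cons_cons e_2_3 (List.IsChain.cons_cons e_3_4 (List.IsChain.singleton _)))) 0 4 rfl rfl
  have z_4_0 : T.a (z 4) (z 0) = 0 := zsymm T z_0_4
  have z_0_5 : T.a (z 0) (z 5) = 0 := nocycList T h2 z hz [0, 2, 3, 4, 5] (by decide) (by decide) (by decide)
    (List.IsChain.cons_cons e_0_2 (List.IsChain.cons_cons e_2_3 (List.IsChain.cons_cons e_3_4 (List.IsChain.cons_cons e_4_5 (List.IsChain.singleton _))))) 0 5 rfl rfl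
  have z_5_0 : T.a (z 5) (z 0) = 0 := zsymm T z_0_5
  have z_0_6 : T.a (z 0) (z 6) = 0 := nocycList T h2 z hz [0, 2, 3, 4, 5, 6] (by decide) (by decide) (by decide)
    (List.IsChain.cons_cons e_0_2 (List.IsChain.cons_cons e_2_3 (List.IsChain.cons_cons e_3_4 (List.IsChain.cons_cons e_4_5 (List.IsChain.cons_cons e_5_6 (List.IsChain.singleton _)))))) 0 6 rfl rfl
  have z_6_0 : T.a (z 6) (z 0) = 0 := zsymm T z_0_6
  have z_0_7 : T.a (z 0) (z 7) = 0 := nocycList T h2 z hz [0, 2, 3, 4, 5, 6, 7] (by decide) (by decide) (by decide)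
    (List.IsChain.cons_cons e_0_2 (List.IsChain.cons_cons e_2_3 (List.IsChain.cons_cons e_3_4 (List.IsChain.cons_cons e_4_5 (List.IsChain.cons_cons e_5_6 (List.IsChain.cons_cons e_6_7 (List.IsChain.singleton _))))))) 0 7 rfl rfl
  have z_7_0 : T.a (z 7) (z 0) = 0 := zsymm T z_0_7
  have z_0_8 : T.a (z 0) (z 8) = 0 := nocycList T h2 z hz [0, 2, 3, 4, 5, 6, 8] (by decide) (by decide) (by decide)
    (List.IsChain.cons_cons e_0_2 (List.IsChain.cons_cons e_2_3 (List.IsChain.cons_cons e_3_4 (List.IsChain.cons_cons e_4_5 (List.IsChain.cons_cons e_5_6 (List.IsChain.cons_cons e_6_8 (List.IsChain.singleton _))))))) 0 8 rfl rfl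
  have z_8_0 : T.a (z 8) (z 0) = 0 := zsymm T z_0_8
  have z_1_3 : T.a (z 1) (z 3) = 0 := nocycList T h2 z hz [1, 2, 3] (by decide) (by decide) (by decide)
    (List.IsChain.cons_cons e_1_2 (List.IsChain.cons_cons e_2_3 (List.IsChain.singleton _))) 1 3 rfl rfl
  have z_3_1 : T.a (z 3) (z 1) = 0 := zsymm T z_1_3
  have z_1_4 : T.a (z 1) (z 4) = 0 := nocycList T h2 z hz [1, 2, 3, 4] (by decide) (by decide) (by decide)
    (List.IsChain.cons_cons e_1_2 (List.IsChain.cons_cons e_2_3 (List.IsChain.cons_cons e_3_4 (List.IsChain.singleton _)))) 1 4 rfl rfl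
  have z_4_1 : T.a (z 4) (z 1) = 0 := zsymm T z_1_4
  have z_1_5 : T.a (z 1) (z 5) = 0 := nocycList T h2 z hz [1, 2, 3, 4, 5] (by decide) (by decide) (by decide)
    (List.IsChain.cons_cons e_1_2 (List.IsChain.cons_cons e_2_3 (List.IsChain.cons_cons e_3_4 (List.IsChain.cons_cons e_4_5 (List.IsChain.singleton _))))) 1 5 rfl rfl
  have z_5_1 : T.a (z 5) (z 1) = 0 := zsymm T z_1_5
  have z_1_6 : T.a (z 1) (z 6) = 0 := nocycList T h2 z hz [1, 2, 3, 4, 5, 6] (by decide) (by decide) (by decide)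
    (List.IsChain.cons_cons e_1_2 (List.IsChain.cons_cons e_2_3 (List.IsChain.cons_cons e_3_4 (List.IsChain.cons_cons e_4_5 (List.IsChain.cons_cons e_5_6 (List.IsChain.singleton _)))))) 1 6 rfl rfl
  have z_6_1 : T.a (z 6) (z 1) = 0 := zsymm T z_1_6
  have z_1_7 : T.a (z 1) (z 7) = 0 := nocycList T h2 z hz [1, 2, 3, 4, 5, 6, 7] (by decide) (by decide) (by decide)
    (List.IsChain.cons_cons e_1_2 (List.IsChain.cons_cons e_2_3 (List.IsChain.cons_cons e_3_4 (List.IsChain.cons_cons e_4_5 (List.IsChain.cons_cons e_5_6 (List.IsChain.cons_cons e_6_7 (List.IsChain.singleton _))))))) 1 7 rfl rfl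
  have z_7_1 : T.a (z 7) (z 1) = 0 := zsymm T z_1_7
  have z_1_8 : T.a (z 1) (z 8) = 0 := nocycList T h2 z hz [1, 2, 3, 4, 5, 6, 8] (by decide) (by decide) (by decide)
    (List.IsChain.cons_cons e_1_2 (List.IsChain.cons_cons e_2_3 (List.IsChain.cons_cons e_3_4 (List.IsChain.cons_cons e_4_5 (List.IsChain.cons_cons e_5_6 (List.IsChain.cons_cons e_6_8 (List.IsChain.singleton _))))))) 1 8 rfl rfl
  have z_8_1 : T.a (z 8) (z 1) = 0 := zsymm T z_1_8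
  have z_2_4 : T.a (z 2) (z 4) = 0 := nocycList T h2 z hz [2, 3, 4] (by decide) (by decide) (by decide)
    (List.IsChain.cons_cons e_2_3 (List.IsChain.cons_cons e_3_4 (List.IsChain.singleton _))) 2 4 rfl rfl
  have z_4_2 : T.a (z 4) (z 2) = 0 := zsymm T z_2_4
  have z_2_5 : T.a (z 2) (z 5) = 0 := nocycList T h2 z hz [2, 3, 4, 5] (by decide) (by decide) (by decide)
    (List.IsChain.cons_cons e_2_3 (List.IsChain.cons_cons e_3_4 (List.IsChain.cons_cons e_4_5 (List.IsChain.singleton _)))) 2 5 rfl rfl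
  have z_5_2 : T.a (z 5) (z 2) = 0 := zsymm T z_2_5
  have z_2_6 : T.a (z 2) (z 6) = 0 := nocycList T h2 z hz [2, 3, 4, 5, 6] (by decide) (by decide) (by decide)
    (List.IsChain.cons_cons e_2_3 (List.IsChain.cons_cons e_3_4 (List.IsChain.cons_cons e_4_5 (List.IsChain.cons_cons e_5_6 (List.IsChain.singleton _))))) 2 6 rfl rfl
  have z_6_2 : T.a (z 6) (z 2) = 0 := zsymm T z_2_6
  have z_2_7 : T.a (z 2) (z 7) = 0 := nocycList T h2 z hz [2, 3, 4, 5, 6, 7] (by decide) (by decide) (by decide)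
    (List.IsChain.cons_cons e_2_3 (List.IsChain.cons_cons e_3_4 (List.IsChain.cons_cons e_4_5 (List.IsChain.cons_cons e_5_6 (List.IsChain.cons_cons e_6_7 (List.IsChain.singleton _)))))) 2 7 rfl rfl
  have z_7_2 : T.a (z 7) (z 2) = 0 := zsymm T z_2_7
  have z_2_8 : T.a (z 2) (z 8) = 0 := nocycList T h2 z hz [2, 3, 4, 5, 6, 8] (by decide) (by decide) (by decide)
    (List.IsChain.cons_cons e_2_3 (List.IsChain.cons_cons e_3_4 (List.IsChain.cons_cons e_4_5 (List.IsChain.cons_cons e_5_6 (List.IsChain.cons_cons e_6_8 (List.IsChain.singleton _)))))) 2 8 rfl rfl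
  have z_8_2 : T.a (z 8) (z 2) = 0 := zsymm T z_2_8
  have z_3_5 : T.a (z 3) (z 5) = 0 := nocycList T h2 z hz [3, 4, 5] (by decide) (by decide) (by decide)
    (List.IsChain.cons_cons e_3_4 (List.IsChain.cons_cons e_4_5 (List.IsChain.singleton _))) 3 5 rfl rfl
  have z_5_3 : T.a (z 5) (z 3) = 0 := zsymm T z_3_5
  have z_3_6 : T.a (z 3) (z 6) = 0 := nocycList T h2 z hz [3, 4, 5, 6] (by decide) (by decide) (by decide)
    (List.IsChain.cons_cons e_3_4 (List.IsChain.cons_cons e_4_5 (List.IsChain.cons_cons e_5_6 (List.IsChain.singleton _)))) 3 6 rfl rfl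
  have z_6_3 : T.a (z 6) (z 3) = 0 := zsymm T z_3_6
  have z_3_7 : T.a (z 3) (z 7) = 0 := nocycList T h2 z hz [3, 4, 5, 6, 7] (by decide) (by decide) (by decide)
    (List.IsChain.cons_cons e_3_4 (List.IsChain.cons_cons e_4_5 (List.IsChain.cons_cons e_5_6 (List.IsChain.cons_cons e_6_7 (List.IsChain.singleton _))))) 3 7 rfl rfl
  have z_7_3 : T.a (z 7) (z 3) = 0 := zsymm T z_3_7
  have z_3_8 : T.a (z 3) (z 8) = 0 := nocycList T h2 z hz [3, 4, 5, 6, 8] (by decide) (by decide) (by decide)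
    (List.IsChain.cons_cons e_3_4 (List.IsChain.cons_cons e_4_5 (List.IsChain.cons_cons e_5_6 (List.IsChain.cons_cons e_6_8 (List.IsChain.singleton _))))) 3 8 rfl rfl
  have z_8_3 : T.a (z 8) (z 3) = 0 := zsymm T z_3_8
  have z_4_6 : T.a (z 4) (z 6) = 0 := nocycList T h2 z hz [4, 5, 6] (by decide) (by decide) (by decide)
    (List.IsChain.cons_cons e_4_5 (List.IsChain.cons_cons e_5_6 (List.IsChain.singleton _))) 4 6 rfl rfl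
  have z_6_4 : T.a (z 6) (z 4) = 0 := zsymm T z_4_6
  have z_4_7 : T.a (z 4) (z 7) = 0 := nocycList T h2 z hz [4, 5, 6, 7] (by decide) (by decide) (by decide)
    (List.IsChain.cons_cons e_4_5 (List.IsChain.cons_cons e_5_6 (List.IsChain.cons_cons e_6_7 (List.IsChain.singleton _)))) 4 7 rfl rfl
  have z_7_4 : T.a (z 7) (z 4) = 0 := zsymm T z_4_7
  have z_4_8 : T.a (z 4) (z 8) = 0 := nocycList T h2 z hz [4, 5, 6, 8] (by decide) (by decide) (by decide)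
    (List.IsChain.cons_cons e_4_5 (List.IsChain.cons_cons e_5_6 (List.IsChain.cons_cons e_6_8 (List.IsChain.singleton _)))) 4 8 rfl rfl
  have z_8_4 : T.a (z 8) (z 4) = 0 := zsymm T z_4_8
  have z_5_7 : T.a (z 5) (z 7) = 0 := nocycList T h2 z hz [5, 6, 7] (by decide) (by decide) (by decide)
    (List.IsChain.cons_cons e_5_6 (List.IsChain.cons_cons e_6_7 (List.IsChain.singleton _))) 5 7 rfl rfl
  have z_7_5 : T.a (z 7) (z 5) = 0 := zsymm T z_5_7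
  have z_5_8 : T.a (z 5) (z 8) = 0 := nocycList T h2 z hz [5, 6, 8] (by decide) (by decide) (by decide)
    (List.IsChain.cons_cons e_5_6 (List.IsChain.cons_cons e_6_8 (List.IsChain.singleton _))) 5 8 rfl rfl
  have z_8_5 : T.a (z 8) (z 5) = 0 := zsymm T z_5_8
  have z_7_8 : T.a (z 7) (z 8) = 0 := nocycList T h2 z hz [7, 6, 8] (by decide) (by decide) (by decide)
    (List.IsChain.cons_cons e_7_6 (List.IsChain.cons_cons e_6_8 (List.IsChain.singleton _))) 7 8 rfl rfl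
  have z_8_7 : T.a (z 8) (z 7) = 0 := zsymm T z_7_8
  obtain ⟨hp_2_0, hp_0_2, hp_2_1, hp_1_2, hp_2_3, hp_3_2⟩ := branch_one T h2 z hz (by norm_num) 2 0 1 3 (by decide) e_2_0 e_2_1 e_2_3
  obtain ⟨hp_6_5, hp_5_6, hp_6_7, hp_7_6, hp_6_8, hp_8_6⟩ := branch_one T h2 z hz (by norm_num) 6 5 7 8 (by decide) e_6_5 e_6_7 e_6_8
  obtain ⟨hp_3_4, hp_4_3⟩ := mid_edge_one T h2 z hz [0, 2, 3, 4, 5] (by decide) (by decide) (by decide)
    (List.IsChain.cons_cons e_0_2 (List.IsChain.cons_cons e_2_3 (List.IsChain.cons_cons e_3_4 (List.IsChain.cons_cons e_4_5 (List.IsChain.singleton _))))) 2 (by decide) (by decide) 3 4 rfl rfl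
  obtain ⟨hp_4_5, hp_5_4⟩ := mid_edge_one T h2 z hz [0, 2, 3, 4, 5, 6] (by decide) (by decide) (by decide)
    (List.IsChain.cons_cons e_0_2 (List.IsChain.cons_cons e_2_3 (List.IsChain.cons_cons e_3_4 (List.IsChain.cons_cons e_4_5 (List.IsChain.cons_cons e_5_6 (List.IsChain.singleton _)))))) 3 (by decide) (by decide) 4 5 rfl rfl
  have we_0_2 := w_pp T (z 0) (z 2)
  have we_1_2 := w_pp T (z 1) (z 2)
  have we_2_3 := w_pp T (z 2) (z 3)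
  have we_3_4 := w_pp T (z 3) (z 4)
  have we_4_5 := w_pp T (z 4) (z 5)
  have we_5_6 := w_pp T (z 5) (z 6)
  have we_6_7 := w_pp T (z 6) (z 7)
  have we_6_8 := w_pp T (z 6) (z 8)
  have r_0 := row9 T z hz (z 0)
  rw [(h2 (z 0)).2, z_0_1, a_eq_pp T (z 0) (z 2), z_0_3, z_0_4, z_0_5, z_0_6, z_0_7, z_0_8] at r_0
  have q_0 : pp T (z 0) (z 2) * T.m (z 2) = 2 * T.m (z 0) :=
    mul_left_cancel₀ (T.w_pos (z 0)).ne' (by linear_combination r_0)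
  clear r_0
  have r_1 := row9 T z hz (z 1)
  rw [z_1_0, (h2 (z 1)).2, a_eq_pp T (z 1) (z 2), z_1_3, z_1_4, z_1_5, z_1_6, z_1_7, z_1_8] at r_1
  have q_1 : pp T (z 1) (z 2) * T.m (z 2) = 2 * T.m (z 1) :=
    mul_left_cancel₀ (T.w_pos (z 1)).ne' (by linear_combination r_1)
  clear r_1
  have r_2 := row9 T z hz (z 2)
  rw [a_eq_pp T (z 2) (z 0), a_eq_pp T (z 2) (z 1), (h2 (z 2)).2, a_eq_pp T (z 2) (z 3), z_2_4, z_2_5, z_2_6, z_2_7, z_2_8] at r_2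
  have q_2 : pp T (z 2) (z 0) * T.m (z 0) + pp T (z 2) (z 1) * T.m (z 1) + pp T (z 2) (z 3) * T.m (z 3) = 2 * T.m (z 2) :=
    mul_left_cancel₀ (T.w_pos (z 2)).ne' (by linear_combination r_2)
  clear r_2
  have r_3 := row9 T z hz (z 3)
  rw [z_3_0, z_3_1, a_eq_pp T (z 3) (z 2), (h2 (z 3)).2, a_eq_pp T (z 3) (z 4), z_3_5, z_3_6, z_3_7, z_3_8] at r_3
  have q_3 : pp T (z 3) (z 2) * T.m (z 2) + pp T (z 3) (z 4) * T.m (z 4) = 2 * T.m (z 3) :=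
    mul_left_cancel₀ (T.w_pos (z 3)).ne' (by linear_combination r_3)
  clear r_3
  have r_4 := row9 T z hz (z 4)
  rw [z_4_0, z_4_1, z_4_2, a_eq_pp T (z 4) (z 3), (h2 (z 4)).2, a_eq_pp T (z 4) (z 5), z_4_6, z_4_7, z_4_8] at r_4
  have q_4 : pp T (z 4) (z 3) * T.m (z 3) + pp T (z 4) (z 5) * T.m (z 5) = 2 * T.m (z 4) :=
    mul_left_cancel₀ (T.w_pos (z 4)).ne' (by linear_combination r_4)
  clear r_4
  have r_5 := row9 T z hz (z 5)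
  rw [z_5_0, z_5_1, z_5_2, z_5_3, a_eq_pp T (z 5) (z 4), (h2 (z 5)).2, a_eq_pp T (z 5) (z 6), z_5_7, z_5_8] at r_5
  have q_5 : pp T (z 5) (z 4) * T.m (z 4) + pp T (z 5) (z 6) * T.m (z 6) = 2 * T.m (z 5) :=
    mul_left_cancel₀ (T.w_pos (z 5)).ne' (by linear_combination r_5)
  clear r_5
  have r_6 := row9 T z hz (z 6)
  rw [z_6_0, z_6_1, z_6_2, z_6_3, z_6_4, a_eq_pp T (z 6) (z 5), (h2 (z 6)).2, a_eq_pp T (z 6) (z 7), a_eq_pp T (z 6) (z 8)] at r_6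
  have q_6 : pp T (z 6) (z 5) * T.m (z 5) + pp T (z 6) (z 7) * T.m (z 7) + pp T (z 6) (z 8) * T.m (z 8) = 2 * T.m (z 6) :=
    mul_left_cancel₀ (T.w_pos (z 6)).ne' (by linear_combination r_6)
  clear r_6
  have r_7 := row9 T z hz (z 7)
  rw [z_7_0, z_7_1, z_7_2, z_7_3, z_7_4, z_7_5, a_eq_pp T (z 7) (z 6), (h2 (z 7)).2, z_7_8] at r_7
  have q_7 : pp T (z 7) (z 6) * T.m (z 6) = 2 * T.m (z 7) :=
    mul_left_cancel₀ (T.w_pos (z 7)).ne' (by linear_combination r_7)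
  clear r_7
  have r_8 := row9 T z hz (z 8)
  rw [z_8_0, z_8_1, z_8_2, z_8_3, z_8_4, z_8_5, a_eq_pp T (z 8) (z 6), z_8_7, (h2 (z 8)).2] at r_8
  have q_8 : pp T (z 8) (z 6) * T.m (z 6) = 2 * T.m (z 8) :=
    mul_left_cancel₀ (T.w_pos (z 8)).ne' (by linear_combination r_8)
  clear r_8
  rw [hp_0_2] at q_0
  rw [hp_1_2] at q_1
  rw [hp_2_0, hp_2_1, hp_2_3] at q_2
  rw [hp_3_2, hp_3_4] at q_3
  rw [hp_4_3, hp_4_5] at q_4
  rw [hp_5_4, hp_5_6] at q_5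
  rw [hp_6_5, hp_6_7, hp_6_8] at q_6
  rw [hp_7_6] at q_7
  rw [hp_8_6] at q_8
  rw [hp_0_2, hp_2_0] at we_0_2
  rw [hp_1_2, hp_2_1] at we_1_2
  rw [hp_2_3, hp_3_2] at we_2_3
  rw [hp_3_4, hp_4_3] at we_3_4
  rw [hp_4_5, hp_5_4] at we_4_5
  rw [hp_5_6, hp_6_5] at we_5_6
  rw [hp_6_7, hp_7_6] at we_6_7
  rw [hp_6_8, hp_8_6] at we_6_8
  obtain ⟨σ, hσ⟩ := permOf (fun i => z (![0, 1, 2, 3, 4, 5, 6, 7, 8] i)) (hz.comp (by decide))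
  have s0 : σ 0 = z 0 := hσ 0
  have s1 : σ 1 = z 1 := hσ 1
  have s2 : σ 2 = z 2 := hσ 2
  have s3 : σ 3 = z 3 := hσ 3
  have s4 : σ 4 = z 4 := hσ 4
  have s5 : σ 5 = z 5 := hσ 5
  have s6 : σ 6 = z 6 := hσ 6
  have s7 : σ 7 = z 7 := hσ 7
  have s8 : σ 8 = z 8 := hσ 8
  unfold Goal9
  refine ⟨σ, T.m (z 0), T.w (z 0), Or.inr (Or.inr (Or.inr (Or.inr (Or.inr (Or.inr (Or.inl ⟨?_, ?_, ?_, ?_, ?_, ?_, ?_, ?_, ?_, ?_, ?_, ?_, ?_, ?_, ?_, ?_, ?_, ?_, ?_, ?_, ?_, ?_, ?_, ?_, ?_, ?_, ?_, ?_, ?_, ?_, ?_, ?_, ?_, ?_, ?_, ?_, ?_, ?_, ?_, ?_, ?_, ?_, ?_, ?_, ?_, ?_, ?_, ?_, ?_, ?_, ?_, ?_, ?_, ?_, ?_, ?_, ?_, ?_, ?_, ?_, ?_, ?_, ?_⟩))))))⟩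
  · rw [s0] <;> linarith only [q_0, q_1, q_2, q_3, q_4, q_5, q_6, q_7, q_8]
  · rw [s1] <;> linarith only [q_0, q_1, q_2, q_3, q_4, q_5, q_6, q_7, q_8]
  · rw [s2] <;> linarith only [q_0, q_1, q_2, q_3, q_4, q_5, q_6, q_7, q_8]
  · rw [s3] <;> linarith only [q_0, q_1, q_2, q_3, q_4, q_5, q_6, q_7, q_8]
  · rw [s4] <;> linarith only [q_0, q_1, q_2, q_3, q_4, q_5, q_6, q_7, q_8]
  · rw [s5] <;> linarith only [q_0, q_1, q_2, q_3, q_4, q_5, q_6, q_7, q_8]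
  · rw [s6] <;> linarith only [q_0, q_1, q_2, q_3, q_4, q_5, q_6, q_7, q_8]
  · rw [s7] <;> linarith only [q_0, q_1, q_2, q_3, q_4, q_5, q_6, q_7, q_8]
  · rw [s8] <;> linarith only [q_0, q_1, q_2, q_3, q_4, q_5, q_6, q_7, q_8]
  · rw [s0] <;> linarith only [we_0_2, we_1_2, we_2_3, we_3_4, we_4_5, we_5_6, we_6_7, we_6_8]
  · rw [s1] <;> linarith only [we_0_2, we_1_2, we_2_3, we_3_4, we_4_5, we_5_6, we_6_7, we_6_8]
  · rw [s2] <;> linarith only [we_0_2, we_1_2, we_2_3, we_3_4, we_4_5, we_5_6, we_6_7, we_6_8]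
  · rw [s3] <;> linarith only [we_0_2, we_1_2, we_2_3, we_3_4, we_4_5, we_5_6, we_6_7, we_6_8]
  · rw [s4] <;> linarith only [we_0_2, we_1_2, we_2_3, we_3_4, we_4_5, we_5_6, we_6_7, we_6_8]
  · rw [s5] <;> linarith only [we_0_2, we_1_2, we_2_3, we_3_4, we_4_5, we_5_6, we_6_7, we_6_8]
  · rw [s6] <;> linarith only [we_0_2, we_1_2, we_2_3, we_3_4, we_4_5, we_5_6, we_6_7, we_6_8]
  · rw [s7] <;> linarith only [we_0_2, we_1_2, we_2_3, we_3_4, we_4_5, we_5_6, we_6_7, we_6_8]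
  · rw [s8] <;> linarith only [we_0_2, we_1_2, we_2_3, we_3_4, we_4_5, we_5_6, we_6_7, we_6_8]
  · rw [s0, (h2 (z 0)).2] <;> linarith only [we_0_2, we_1_2, we_2_3, we_3_4, we_4_5, we_5_6, we_6_7, we_6_8]
  · rw [s0, s1, z_0_1]
  · rw [s0, s2, a_eq_pp T (z 0) (z 2), hp_0_2] <;> linarith only [we_0_2, we_1_2, we_2_3, we_3_4, we_4_5, we_5_6, we_6_7, we_6_8]
  · rw [s0, s3, z_0_3]
  · rw [s0, s4, z_0_4]
  · rw [s0, s5, z_0_5]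
  · rw [s0, s6, z_0_6]
  · rw [s0, s7, z_0_7]
  · rw [s0, s8, z_0_8]
  · rw [s1, (h2 (z 1)).2] <;> linarith only [we_0_2, we_1_2, we_2_3, we_3_4, we_4_5, we_5_6, we_6_7, we_6_8]
  · rw [s1, s2, a_eq_pp T (z 1) (z 2), hp_1_2] <;> linarith only [we_0_2, we_1_2, we_2_3, we_3_4, we_4_5, we_5_6, we_6_7, we_6_8]
  · rw [s1, s3, z_1_3]
  · rw [s1, s4, z_1_4]
  · rw [s1, s5, z_1_5]
  · rw [s1, s6, z_1_6]
  · rw [s1, s7, z_1_7]
  · rw [s1, s8, z_1_8]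
  · rw [s2, (h2 (z 2)).2] <;> linarith only [we_0_2, we_1_2, we_2_3, we_3_4, we_4_5, we_5_6, we_6_7, we_6_8]
  · rw [s2, s3, a_eq_pp T (z 2) (z 3), hp_2_3] <;> linarith only [we_0_2, we_1_2, we_2_3, we_3_4, we_4_5, we_5_6, we_6_7, we_6_8]
  · rw [s2, s4, z_2_4]
  · rw [s2, s5, z_2_5]
  · rw [s2, s6, z_2_6]
  · rw [s2, s7, z_2_7]
  · rw [s2, s8, z_2_8]
  · rw [s3, (h2 (z 3)).2] <;> linarith only [we_0_2, we_1_2, we_2_3, we_3_4, we_4_5, we_5_6, we_6_7, we_6_8]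
  · rw [s3, s4, a_eq_pp T (z 3) (z 4), hp_3_4] <;> linarith only [we_0_2, we_1_2, we_2_3, we_3_4, we_4_5, we_5_6, we_6_7, we_6_8]
  · rw [s3, s5, z_3_5]
  · rw [s3, s6, z_3_6]
  · rw [s3, s7, z_3_7]
  · rw [s3, s8, z_3_8]
  · rw [s4, (h2 (z 4)).2] <;> linarith only [we_0_2, we_1_2, we_2_3, we_3_4, we_4_5, we_5_6, we_6_7, we_6_8]
  · rw [s4, s5, a_eq_pp T (z 4) (z 5), hp_4_5] <;> linarith only [we_0_2, we_1_2, we_2_3, we_3_4, we_4_5, we_5_6, we_6_7, we_6_8]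
  · rw [s4, s6, z_4_6]
  · rw [s4, s7, z_4_7]
  · rw [s4, s8, z_4_8]
  · rw [s5, (h2 (z 5)).2] <;> linarith only [we_0_2, we_1_2, we_2_3, we_3_4, we_4_5, we_5_6, we_6_7, we_6_8]
  · rw [s5, s6, a_eq_pp T (z 5) (z 6), hp_5_6] <;> linarith only [we_0_2, we_1_2, we_2_3, we_3_4, we_4_5, we_5_6, we_6_7, we_6_8]
  · rw [s5, s7, z_5_7]
  · rw [s5, s8, z_5_8]
  · rw [s6, (h2 (z 6)).2] <;> linarith only [we_0_2, we_1_2, we_2_3, we_3_4, we_4_5, we_5_6, we_6_7, we_6_8]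
  · rw [s6, s7, a_eq_pp T (z 6) (z 7), hp_6_7] <;> linarith only [we_0_2, we_1_2, we_2_3, we_3_4, we_4_5, we_5_6, we_6_7, we_6_8]
  · rw [s6, s8, a_eq_pp T (z 6) (z 8), hp_6_8] <;> linarith only [we_0_2, we_1_2, we_2_3, we_3_4, we_4_5, we_5_6, we_6_7, we_6_8]
  · rw [s7, (h2 (z 7)).2] <;> linarith only [we_0_2, we_1_2, we_2_3, we_3_4, we_4_5, we_5_6, we_6_7, we_6_8]
  · rw [s7, s8, z_7_8]
  · rw [s8, (h2 (z 8)).2] <;> linarith only [we_0_2, we_1_2, we_2_3, we_3_4, we_4_5, we_5_6, we_6_7, we_6_8]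

theorem shape9_T125 (T : Models.NumericalType 9) (h2 : ∀ i, T.IsMinusTwo i)
    (z : Fin 9 → Fin 9) (hz : Function.Injective z)
    (e_0_1 : T.a (z 0) (z 1) ≠ 0) (e_0_2 : T.a (z 0) (z 2) ≠ 0) (e_2_3 : T.a (z 2) (z 3) ≠ 0) (e_0_4 : T.a (z 0) (z 4) ≠ 0) (e_4_5 : T.a (z 4) (z 5) ≠ 0) (e_5_6 : T.a (z 5) (z 6) ≠ 0) (e_6_7 : T.a (z 6) (z 7) ≠ 0) (e_7_8 : T.a (z 7) (z 8) ≠ 0) : Goal9 T := by
  have e_1_0 : T.a (z 1) (z 0) ≠ 0 := nsymm T e_0_1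
  have e_2_0 : T.a (z 2) (z 0) ≠ 0 := nsymm T e_0_2
  have e_3_2 : T.a (z 3) (z 2) ≠ 0 := nsymm T e_2_3
  have e_4_0 : T.a (z 4) (z 0) ≠ 0 := nsymm T e_0_4
  have e_5_4 : T.a (z 5) (z 4) ≠ 0 := nsymm T e_4_5
  have e_6_5 : T.a (z 6) (z 5) ≠ 0 := nsymm T e_5_6
  have e_7_6 : T.a (z 7) (z 6) ≠ 0 := nsymm T e_6_7
  have e_8_7 : T.a (z 8) (z 7) ≠ 0 := nsymm T e_7_8
  have z_0_3 : T.a (z 0) (z 3) = 0 := nocycList T h2 z hz [0, 2, 3] (by decide) (by decide) (by decide)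
    (List.IsChain.cons_cons e_0_2 (List.IsChain.cons_cons e_2_3 (List.IsChain.singleton _))) 0 3 rfl rfl
  have z_3_0 : T.a (z 3) (z 0) = 0 := zsymm T z_0_3
  have z_0_5 : T.a (z 0) (z 5) = 0 := nocycList T h2 z hz [0, 4, 5] (by decide) (by decide) (by decide)
    (List.IsChain.cons_cons e_0_4 (List.IsChain.cons_cons e_4_5 (List.IsChain.singleton _))) 0 5 rfl rfl
  have z_5_0 : T.a (z 5) (z 0) = 0 := zsymm T z_0_5
  have z_0_6 : T.a (z 0) (z 6) = 0 := nocycList T h2 z hz [0, 4, 5, 6] (by decide) (by decide) (by decide)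
    (List.IsChain.cons_cons e_0_4 (List.IsChain.cons_cons e_4_5 (List.IsChain.cons_cons e_5_6 (List.IsChain.singleton _)))) 0 6 rfl rfl
  have z_6_0 : T.a (z 6) (z 0) = 0 := zsymm T z_0_6
  have z_0_7 : T.a (z 0) (z 7) = 0 := nocycList T h2 z hz [0, 4, 5, 6, 7] (by decide) (by decide) (by decide)
    (List.IsChain.cons_cons e_0_4 (List.IsChain.cons_cons e_4_5 (List.IsChain.cons_cons e_5_6 (List.IsChain.cons_cons e_6_7 (List.IsChain.singleton _))))) 0 7 rfl rfl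
  have z_7_0 : T.a (z 7) (z 0) = 0 := zsymm T z_0_7
  have z_0_8 : T.a (z 0) (z 8) = 0 := nocycList T h2 z hz [0, 4, 5, 6, 7, 8] (by decide) (by decide) (by decide)
    (List.IsChain.cons_cons e_0_4 (List.IsChain.cons_cons e_4_5 (List.IsChain.cons_cons e_5_6 (List.IsChain.cons_cons e_6_7 (List.IsChain.cons_cons e_7_8 (List.IsChain.singleton _)))))) 0 8 rfl rfl
  have z_8_0 : T.a (z 8) (z 0) = 0 := zsymm T z_0_8
  have z_1_2 : T.a (z 1) (z 2) = 0 := nocycList T h2 z hz [1, 0, 2] (by decide) (by decide) (by decide)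
    (List.IsChain.cons_cons e_1_0 (List.IsChain.cons_cons e_0_2 (List.IsChain.singleton _))) 1 2 rfl rfl
  have z_2_1 : T.a (z 2) (z 1) = 0 := zsymm T z_1_2
  have z_1_3 : T.a (z 1) (z 3) = 0 := nocycList T h2 z hz [1, 0, 2, 3] (by decide) (by decide) (by decide)
    (List.IsChain.cons_cons e_1_0 (List.IsChain.cons_cons e_0_2 (List.IsChain.cons_cons e_2_3 (List.IsChain.singleton _)))) 1 3 rfl rfl
  have z_3_1 : T.a (z 3) (z 1) = 0 := zsymm T z_1_3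
  have z_1_4 : T.a (z 1) (z 4) = 0 := nocycList T h2 z hz [1, 0, 4] (by decide) (by decide) (by decide)
    (List.IsChain.cons_cons e_1_0 (List.IsChain.cons_cons e_0_4 (List.IsChain.singleton _))) 1 4 rfl rfl
  have z_4_1 : T.a (z 4) (z 1) = 0 := zsymm T z_1_4
  have z_1_5 : T.a (z 1) (z 5) = 0 := nocycList T h2 z hz [1, 0, 4, 5] (by decide) (by decide) (by decide)
    (List.IsChain.cons_cons e_1_0 (List.IsChain.cons_cons e_0_4 (List.IsChain.cons_cons e_4_5 (List.IsChain.singleton _)))) 1 5 rfl rfl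
  have z_5_1 : T.a (z 5) (z 1) = 0 := zsymm T z_1_5
  have z_1_6 : T.a (z 1) (z 6) = 0 := nocycList T h2 z hz [1, 0, 4, 5, 6] (by decide) (by decide) (by decide)
    (List.IsChain.cons_cons e_1_0 (List.IsChain.cons_cons e_0_4 (List.IsChain.cons_cons e_4_5 (List.IsChain.cons_cons e_5_6 (List.IsChain.singleton _))))) 1 6 rfl rfl
  have z_6_1 : T.a (z 6) (z 1) = 0 := zsymm T z_1_6
  have z_1_7 : T.a (z 1) (z 7) = 0 := nocycList T h2 z hz [1, 0, 4, 5, 6, 7] (by decide) (by decide) (by decide)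
    (List.IsChain.cons_cons e_1_0 (List.IsChain.cons_cons e_0_4 (List.IsChain.cons_cons e_4_5 (List.IsChain.cons_cons e_5_6 (List.IsChain.cons_cons e_6_7 (List.IsChain.singleton _)))))) 1 7 rfl rfl
  have z_7_1 : T.a (z 7) (z 1) = 0 := zsymm T z_1_7
  have z_1_8 : T.a (z 1) (z 8) = 0 := nocycList T h2 z hz [1, 0, 4, 5, 6, 7, 8] (by decide) (by decide) (by decide)
    (List.IsChain.cons_cons e_1_0 (List.IsChain.cons_cons e_0_4 (List.IsChain.cons_cons e_4_5 (List.IsChain.cons_cons e_5_6 (List.IsChain.cons_cons e_6_7 (List.IsChain.cons_cons e_7_8 (List.IsChain.singleton _))))))) 1 8 rfl rfl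
  have z_8_1 : T.a (z 8) (z 1) = 0 := zsymm T z_1_8
  have z_2_4 : T.a (z 2) (z 4) = 0 := nocycList T h2 z hz [2, 0, 4] (by decide) (by decide) (by decide)
    (List.IsChain.cons_cons e_2_0 (List.IsChain.cons_cons e_0_4 (List.IsChain.singleton _))) 2 4 rfl rfl
  have z_4_2 : T.a (z 4) (z 2) = 0 := zsymm T z_2_4
  have z_2_5 : T.a (z 2) (z 5) = 0 := nocycList T h2 z hz [2, 0, 4, 5] (by decide) (by decide) (by decide)
    (List.IsChain.cons_cons e_2_0 (List.IsChain.cons_cons e_0_4 (List.IsChain.cons_cons e_4_5 (List.IsChain.singleton _)))) 2 5 rfl rfl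
  have z_5_2 : T.a (z 5) (z 2) = 0 := zsymm T z_2_5
  have z_2_6 : T.a (z 2) (z 6) = 0 := nocycList T h2 z hz [2, 0, 4, 5, 6] (by decide) (by decide) (by decide)
    (List.IsChain.cons_cons e_2_0 (List.IsChain.cons_cons e_0_4 (List.IsChain.cons_cons e_4_5 (List.IsChain.cons_cons e_5_6 (List.IsChain.singleton _))))) 2 6 rfl rfl
  have z_6_2 : T.a (z 6) (z 2) = 0 := zsymm T z_2_6
  have z_2_7 : T.a (z 2) (z 7) = 0 := nocycList T h2 z hz [2, 0, 4, 5, 6, 7] (by decide) (by decide) (by decide)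
    (List.IsChain.cons_cons e_2_0 (List.IsChain.cons_cons e_0_4 (List.IsChain.cons_cons e_4_5 (List.IsChain.cons_cons e_5_6 (List.IsChain.cons_cons e_6_7 (List.IsChain.singleton _)))))) 2 7 rfl rfl
  have z_7_2 : T.a (z 7) (z 2) = 0 := zsymm T z_2_7
  have z_2_8 : T.a (z 2) (z 8) = 0 := nocycList T h2 z hz [2, 0, 4, 5, 6, 7, 8] (by decide) (by decide) (by decide)
    (List.IsChain.cons_cons e_2_0 (List.IsChain.cons_cons e_0_4 (List.IsChain.cons_cons e_4_5 (List.IsChain.cons_cons e_5_6 (List.IsChain.cons_cons e_6_7 (List.IsChain.cons_cons e_7_8 (List.IsChain.singleton _))))))) 2 8 rfl rfl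
  have z_8_2 : T.a (z 8) (z 2) = 0 := zsymm T z_2_8
  have z_3_4 : T.a (z 3) (z 4) = 0 := nocycList T h2 z hz [3, 2, 0, 4] (by decide) (by decide) (by decide)
    (List.IsChain.cons_cons e_3_2 (List.IsChain.cons_cons e_2_0 (List.IsChain.cons_cons e_0_4 (List.IsChain.singleton _)))) 3 4 rfl rfl
  have z_4_3 : T.a (z 4) (z 3) = 0 := zsymm T z_3_4
  have z_3_5 : T.a (z 3) (z 5) = 0 := nocycList T h2 z hz [3, 2, 0, 4, 5] (by decide) (by decide) (by decide)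
    (List.IsChain.cons_cons e_3_2 (List.IsChain.cons_cons e_2_0 (List.IsChain.cons_cons e_0_4 (List.IsChain.cons_cons e_4_5 (List.IsChain.singleton _))))) 3 5 rfl rfl
  have z_5_3 : T.a (z 5) (z 3) = 0 := zsymm T z_3_5
  have z_3_6 : T.a (z 3) (z 6) = 0 := nocycList T h2 z hz [3, 2, 0, 4, 5, 6] (by decide) (by decide) (by decide)
    (List.IsChain.cons_cons e_3_2 (List.IsChain.cons_cons e_2_0 (List.IsChain.cons_cons e_0_4 (List.IsChain.cons_cons e_4_5 (List.IsChain.cons_cons e_5_6 (List.IsChain.singleton _)))))) 3 6 rfl rfl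
  have z_6_3 : T.a (z 6) (z 3) = 0 := zsymm T z_3_6
  have z_3_7 : T.a (z 3) (z 7) = 0 := nocycList T h2 z hz [3, 2, 0, 4, 5, 6, 7] (by decide) (by decide) (by decide)
    (List.IsChain.cons_cons e_3_2 (List.IsChain.cons_cons e_2_0 (List.IsChain.cons_cons e_0_4 (List.IsChain.cons_cons e_4_5 (List.IsChain.cons_cons e_5_6 (List.IsChain.cons_cons e_6_7 (List.IsChain.singleton _))))))) 3 7 rfl rfl
  have z_7_3 : T.a (z 7) (z 3) = 0 := zsymm T z_3_7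
  have z_3_8 : T.a (z 3) (z 8) = 0 := nocycList T h2 z hz [3, 2, 0, 4, 5, 6, 7, 8] (by decide) (by decide) (by decide)
    (List.IsChain.cons_cons e_3_2 (List.IsChain.cons_cons e_2_0 (List.IsChain.cons_cons e_0_4 (List.IsChain.cons_cons e_4_5 (List.IsChain.cons_cons e_5_6 (List.IsChain.cons_cons e_6_7 (List.IsChain.cons_cons e_7_8 (List.IsChain.singleton _)))))))) 3 8 rfl rfl
  have z_8_3 : T.a (z 8) (z 3) = 0 := zsymm T z_3_8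
  have z_4_6 : T.a (z 4) (z 6) = 0 := nocycList T h2 z hz [4, 5, 6] (by decide) (by decide) (by decide)
    (List.IsChain.cons_cons e_4_5 (List.IsChain.cons_cons e_5_6 (List.IsChain.singleton _))) 4 6 rfl rfl
  have z_6_4 : T.a (z 6) (z 4) = 0 := zsymm T z_4_6
  have z_4_7 : T.a (z 4) (z 7) = 0 := nocycList T h2 z hz [4, 5, 6, 7] (by decide) (by decide) (by decide)
    (List.IsChain.cons_cons e_4_5 (List.IsChain.cons_cons e_5_6 (List.IsChain.cons_cons e_6_7 (List.IsChain.singleton _)))) 4 7 rfl rfl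
  have z_7_4 : T.a (z 7) (z 4) = 0 := zsymm T z_4_7
  have z_4_8 : T.a (z 4) (z 8) = 0 := nocycList T h2 z hz [4, 5, 6, 7, 8] (by decide) (by decide) (by decide)
    (List.IsChain.cons_cons e_4_5 (List.IsChain.cons_cons e_5_6 (List.IsChain.cons_cons e_6_7 (List.IsChain.cons_cons e_7_8 (List.IsChain.singleton _))))) 4 8 rfl rfl
  have z_8_4 : T.a (z 8) (z 4) = 0 := zsymm T z_4_8
  have z_5_7 : T.a (z 5) (z 7) = 0 := nocycList T h2 z hz [5, 6, 7] (by decide) (by decide) (by decide)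
    (List.IsChain.cons_cons e_5_6 (List.IsChain.cons_cons e_6_7 (List.IsChain.singleton _))) 5 7 rfl rfl
  have z_7_5 : T.a (z 7) (z 5) = 0 := zsymm T z_5_7
  have z_5_8 : T.a (z 5) (z 8) = 0 := nocycList T h2 z hz [5, 6, 7, 8] (by decide) (by decide) (by decide)
    (List.IsChain.cons_cons e_5_6 (List.IsChain.cons_cons e_6_7 (List.IsChain.cons_cons e_7_8 (List.IsChain.singleton _)))) 5 8 rfl rfl
  have z_8_5 : T.a (z 8) (z 5) = 0 := zsymm T z_5_8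
  have z_6_8 : T.a (z 6) (z 8) = 0 := nocycList T h2 z hz [6, 7, 8] (by decide) (by decide) (by decide)
    (List.IsChain.cons_cons e_6_7 (List.IsChain.cons_cons e_7_8 (List.IsChain.singleton _))) 6 8 rfl rfl
  have z_8_6 : T.a (z 8) (z 6) = 0 := zsymm T z_6_8
  obtain ⟨hp_0_1, hp_1_0, hp_0_2, hp_2_0, hp_0_4, hp_4_0⟩ := branch_one T h2 z hz (by norm_num) 0 1 2 4 (by decide) e_0_1 e_0_2 e_0_4
  obtain ⟨hp_4_5, hp_5_4⟩ := mid_edge_one T h2 z hz [0, 4, 5, 6, 7] (by decide) (by decide) (by decide)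
    (List.IsChain.cons_cons e_0_4 (List.IsChain.cons_cons e_4_5 (List.IsChain.cons_cons e_5_6 (List.IsChain.cons_cons e_6_7 (List.IsChain.singleton _))))) 1 (by decide) (by decide) 4 5 rfl rfl
  obtain ⟨hp_5_6, hp_6_5⟩ := mid_edge_one T h2 z hz [0, 4, 5, 6, 7] (by decide) (by decide) (by decide)
    (List.IsChain.cons_cons e_0_4 (List.IsChain.cons_cons e_4_5 (List.IsChain.cons_cons e_5_6 (List.IsChain.cons_cons e_6_7 (List.IsChain.singleton _))))) 2 (by decide) (by decide) 5 6 rfl rfl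
  obtain ⟨hp_6_7, hp_7_6⟩ := mid_edge_one T h2 z hz [0, 4, 5, 6, 7, 8] (by decide) (by decide) (by decide)
    (List.IsChain.cons_cons e_0_4 (List.IsChain.cons_cons e_4_5 (List.IsChain.cons_cons e_5_6 (List.IsChain.cons_cons e_6_7 (List.IsChain.cons_cons e_7_8 (List.IsChain.singleton _)))))) 3 (by decide) (by decide) 6 7 rfl rfl
  have we_0_1 := w_pp T (z 0) (z 1)
  have we_0_2 := w_pp T (z 0) (z 2)
  have we_2_3 := w_pp T (z 2) (z 3)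
  have we_0_4 := w_pp T (z 0) (z 4)
  have we_4_5 := w_pp T (z 4) (z 5)
  have we_5_6 := w_pp T (z 5) (z 6)
  have we_6_7 := w_pp T (z 6) (z 7)
  have we_7_8 := w_pp T (z 7) (z 8)
  have r_0 := row9 T z hz (z 0)
  rw [(h2 (z 0)).2, a_eq_pp T (z 0) (z 1), a_eq_pp T (z 0) (z 2), z_0_3, a_eq_pp T (z 0) (z 4), z_0_5, z_0_6, z_0_7, z_0_8] at r_0
  have q_0 : pp T (z 0) (z 1) * T.m (z 1) + pp T (z 0) (z 2) * T.m (z 2) + pp T (z 0) (z 4) * T.m (z 4) = 2 * T.m (z 0) :=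
    mul_left_cancel₀ (T.w_pos (z 0)).ne' (by linear_combination r_0)
  clear r_0
  have r_1 := row9 T z hz (z 1)
  rw [a_eq_pp T (z 1) (z 0), (h2 (z 1)).2, z_1_2, z_1_3, z_1_4, z_1_5, z_1_6, z_1_7, z_1_8] at r_1
  have q_1 : pp T (z 1) (z 0) * T.m (z 0) = 2 * T.m (z 1) :=
    mul_left_cancel₀ (T.w_pos (z 1)).ne' (by linear_combination r_1)
  clear r_1
  have r_2 := row9 T z hz (z 2)
  rw [a_eq_pp T (z 2) (z 0), z_2_1, (h2 (z 2)).2, a_eq_pp T (z 2) (z 3), z_2_4, z_2_5, z_2_6, z_2_7, z_2_8] at r_2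
  have q_2 : pp T (z 2) (z 0) * T.m (z 0) + pp T (z 2) (z 3) * T.m (z 3) = 2 * T.m (z 2) :=
    mul_left_cancel₀ (T.w_pos (z 2)).ne' (by linear_combination r_2)
  clear r_2
  have r_3 := row9 T z hz (z 3)
  rw [z_3_0, z_3_1, a_eq_pp T (z 3) (z 2), (h2 (z 3)).2, z_3_4, z_3_5, z_3_6, z_3_7, z_3_8] at r_3
  have q_3 : pp T (z 3) (z 2) * T.m (z 2) = 2 * T.m (z 3) :=
    mul_left_cancel₀ (T.w_pos (z 3)).ne' (by linear_combination r_3)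
  clear r_3
  have r_4 := row9 T z hz (z 4)
  rw [a_eq_pp T (z 4) (z 0), z_4_1, z_4_2, z_4_3, (h2 (z 4)).2, a_eq_pp T (z 4) (z 5), z_4_6, z_4_7, z_4_8] at r_4
  have q_4 : pp T (z 4) (z 0) * T.m (z 0) + pp T (z 4) (z 5) * T.m (z 5) = 2 * T.m (z 4) :=
    mul_left_cancel₀ (T.w_pos (z 4)).ne' (by linear_combination r_4)
  clear r_4
  have r_5 := row9 T z hz (z 5)
  rw [z_5_0, z_5_1, z_5_2, z_5_3, a_eq_pp T (z 5) (z 4), (h2 (z 5)).2, a_eq_pp T (z 5) (z 6), z_5_7, z_5_8] at r_5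
  have q_5 : pp T (z 5) (z 4) * T.m (z 4) + pp T (z 5) (z 6) * T.m (z 6) = 2 * T.m (z 5) :=
    mul_left_cancel₀ (T.w_pos (z 5)).ne' (by linear_combination r_5)
  clear r_5
  have r_6 := row9 T z hz (z 6)
  rw [z_6_0, z_6_1, z_6_2, z_6_3, z_6_4, a_eq_pp T (z 6) (z 5), (h2 (z 6)).2, a_eq_pp T (z 6) (z 7), z_6_8] at r_6
  have q_6 : pp T (z 6) (z 5) * T.m (z 5) + pp T (z 6) (z 7) * T.m (z 7) = 2 * T.m (z 6) :=
    mul_left_cancel₀ (T.w_pos (z 6)).ne' (by linear_combination r_6)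
  clear r_6
  have r_7 := row9 T z hz (z 7)
  rw [z_7_0, z_7_1, z_7_2, z_7_3, z_7_4, z_7_5, a_eq_pp T (z 7) (z 6), (h2 (z 7)).2, a_eq_pp T (z 7) (z 8)] at r_7
  have q_7 : pp T (z 7) (z 6) * T.m (z 6) + pp T (z 7) (z 8) * T.m (z 8) = 2 * T.m (z 7) :=
    mul_left_cancel₀ (T.w_pos (z 7)).ne' (by linear_combination r_7)
  clear r_7
  have r_8 := row9 T z hz (z 8)
  rw [z_8_0, z_8_1, z_8_2, z_8_3, z_8_4, z_8_5, z_8_6, a_eq_pp T (z 8) (z 7), (h2 (z 8)).2] at r_8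
  have q_8 : pp T (z 8) (z 7) * T.m (z 7) = 2 * T.m (z 8) :=
    mul_left_cancel₀ (T.w_pos (z 8)).ne' (by linear_combination r_8)
  clear r_8
  rcases edge_cases T h2 z hz [0, 2, 3] (by decide) (by decide) (by decide)
    (List.IsChain.cons_cons e_0_2 (List.IsChain.cons_cons e_2_3 (List.IsChain.singleton _))) 1 (by decide) 2 3 rfl rfl with
    ⟨hp_2_3, hp_3_2⟩ | ⟨hp_2_3, hp_3_2⟩ | ⟨hp_2_3, hp_3_2⟩
  · skip
    rcases edge_cases T h2 z hz [0, 4, 5, 6, 7, 8] (by decide) (by decide) (by decide)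
      (List.IsChain.cons_cons e_0_4 (List.IsChain.cons_cons e_4_5 (List.IsChain.cons_cons e_5_6 (List.IsChain.cons_cons e_6_7 (List.IsChain.cons_cons e_7_8 (List.IsChain.singleton _)))))) 4 (by decide) 7 8 rfl rfl with
      ⟨hp_7_8, hp_8_7⟩ | ⟨hp_7_8, hp_8_7⟩ | ⟨hp_7_8, hp_8_7⟩
    · skip
      rw [hp_0_1, hp_0_2, hp_0_4] at q_0
      rw [hp_1_0] at q_1
      rw [hp_2_0, hp_2_3] at q_2
      rw [hp_3_2] at q_3
      rw [hp_4_0, hp_4_5] at q_4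
      rw [hp_5_4, hp_5_6] at q_5
      rw [hp_6_5, hp_6_7] at q_6
      rw [hp_7_6, hp_7_8] at q_7
      rw [hp_8_7] at q_8
      rw [hp_0_1, hp_1_0] at we_0_1
      rw [hp_0_2, hp_2_0] at we_0_2
      rw [hp_2_3, hp_3_2] at we_2_3
      rw [hp_0_4, hp_4_0] at we_0_4
      rw [hp_4_5, hp_5_4] at we_4_5
      rw [hp_5_6, hp_6_5] at we_5_6
      rw [hp_6_7, hp_7_6] at we_6_7
      rw [hp_7_8, hp_8_7] at we_7_8
      obtain ⟨σ, hσ⟩ := permOf (fun i => z (![8, 7, 6, 5, 4, 0, 2, 3, 1] i)) (hz.comp (by decide))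
      have s0 : σ 0 = z 8 := hσ 0
      have s1 : σ 1 = z 7 := hσ 1
      have s2 : σ 2 = z 6 := hσ 2
      have s3 : σ 3 = z 5 := hσ 3
      have s4 : σ 4 = z 4 := hσ 4
      have s5 : σ 5 = z 0 := hσ 5
      have s6 : σ 6 = z 2 := hσ 6
      have s7 : σ 7 = z 3 := hσ 7
      have s8 : σ 8 = z 1 := hσ 8
      unfold Goal9
      refine ⟨σ, T.m (z 8), T.w (z 8), Or.inr (Or.inr (Or.inr (Or.inr (Or.inr (Or.inr (Or.inr (⟨?_, ?_, ?_, ?_, ?_, ?_, ?_, ?_, ?_, ?_, ?_, ?_, ?_, ?_, ?_, ?_, ?_, ?_, ?_, ?_, ?_, ?_, ?_, ?_, ?_, ?_, ?_, ?_, ?_, ?_, ?_, ?_, ?_, ?_, ?_, ?_, ?_, ?_, ?_, ?_, ?_, ?_, ?_, ?_, ?_, ?_, ?_, ?_, ?_, ?_, ?_, ?_, ?_, ?_, ?_, ?_, ?_, ?_, ?_, ?_, ?_, ?_, ?_⟩)))))))⟩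
      · rw [s0] <;> linarith only [q_0, q_1, q_2, q_3, q_4, q_5, q_6, q_7, q_8]
      · rw [s1] <;> linarith only [q_0, q_1, q_2, q_3, q_4, q_5, q_6, q_7, q_8]
      · rw [s2] <;> linarith only [q_0, q_1, q_2, q_3, q_4, q_5, q_6, q_7, q_8]
      · rw [s3] <;> linarith only [q_0, q_1, q_2, q_3, q_4, q_5, q_6, q_7, q_8]
      · rw [s4] <;> linarith only [q_0, q_1, q_2, q_3, q_4, q_5, q_6, q_7, q_8]
      · rw [s5] <;> linarith only [q_0, q_1, q_2, q_3, q_4, q_5, q_6, q_7, q_8]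
      · rw [s6] <;> linarith only [q_0, q_1, q_2, q_3, q_4, q_5, q_6, q_7, q_8]
      · rw [s7] <;> linarith only [q_0, q_1, q_2, q_3, q_4, q_5, q_6, q_7, q_8]
      · rw [s8] <;> linarith only [q_0, q_1, q_2, q_3, q_4, q_5, q_6, q_7, q_8]
      · rw [s0] <;> linarith only [we_0_1, we_0_2, we_2_3, we_0_4, we_4_5, we_5_6, we_6_7, we_7_8]
      · rw [s1] <;> linarith only [we_0_1, we_0_2, we_2_3, we_0_4, we_4_5, we_5_6, we_6_7, we_7_8]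
      · rw [s2] <;> linarith only [we_0_1, we_0_2, we_2_3, we_0_4, we_4_5, we_5_6, we_6_7, we_7_8]
      · rw [s3] <;> linarith only [we_0_1, we_0_2, we_2_3, we_0_4, we_4_5, we_5_6, we_6_7, we_7_8]
      · rw [s4] <;> linarith only [we_0_1, we_0_2, we_2_3, we_0_4, we_4_5, we_5_6, we_6_7, we_7_8]
      · rw [s5] <;> linarith only [we_0_1, we_0_2, we_2_3, we_0_4, we_4_5, we_5_6, we_6_7, we_7_8]
      · rw [s6] <;> linarith only [we_0_1, we_0_2, we_2_3, we_0_4, we_4_5, we_5_6, we_6_7, we_7_8]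
      · rw [s7] <;> linarith only [we_0_1, we_0_2, we_2_3, we_0_4, we_4_5, we_5_6, we_6_7, we_7_8]
      · rw [s8] <;> linarith only [we_0_1, we_0_2, we_2_3, we_0_4, we_4_5, we_5_6, we_6_7, we_7_8]
      · rw [s0, (h2 (z 8)).2] <;> linarith only [we_0_1, we_0_2, we_2_3, we_0_4, we_4_5, we_5_6, we_6_7, we_7_8]
      · rw [s0, s1, a_eq_pp T (z 8) (z 7), hp_8_7] <;> linarith only [we_0_1, we_0_2, we_2_3, we_0_4, we_4_5, we_5_6, we_6_7, we_7_8]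
      · rw [s0, s2, z_8_6]
      · rw [s0, s3, z_8_5]
      · rw [s0, s4, z_8_4]
      · rw [s0, s5, z_8_0]
      · rw [s0, s6, z_8_2]
      · rw [s0, s7, z_8_3]
      · rw [s0, s8, z_8_1]
      · rw [s1, (h2 (z 7)).2] <;> linarith only [we_0_1, we_0_2, we_2_3, we_0_4, we_4_5, we_5_6, we_6_7, we_7_8]
      · rw [s1, s2, a_eq_pp T (z 7) (z 6), hp_7_6] <;> linarith only [we_0_1, we_0_2, we_2_3, we_0_4, we_4_5, we_5_6, we_6_7, we_7_8]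
      · rw [s1, s3, z_7_5]
      · rw [s1, s4, z_7_4]
      · rw [s1, s5, z_7_0]
      · rw [s1, s6, z_7_2]
      · rw [s1, s7, z_7_3]
      · rw [s1, s8, z_7_1]
      · rw [s2, (h2 (z 6)).2] <;> linarith only [we_0_1, we_0_2, we_2_3, we_0_4, we_4_5, we_5_6, we_6_7, we_7_8]
      · rw [s2, s3, a_eq_pp T (z 6) (z 5), hp_6_5] <;> linarith only [we_0_1, we_0_2, we_2_3, we_0_4, we_4_5, we_5_6, we_6_7, we_7_8]
      · rw [s2, s4, z_6_4]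
      · rw [s2, s5, z_6_0]
      · rw [s2, s6, z_6_2]
      · rw [s2, s7, z_6_3]
      · rw [s2, s8, z_6_1]
      · rw [s3, (h2 (z 5)).2] <;> linarith only [we_0_1, we_0_2, we_2_3, we_0_4, we_4_5, we_5_6, we_6_7, we_7_8]
      · rw [s3, s4, a_eq_pp T (z 5) (z 4), hp_5_4] <;> linarith only [we_0_1, we_0_2, we_2_3, we_0_4, we_4_5, we_5_6, we_6_7, we_7_8]
      · rw [s3, s5, z_5_0]
      · rw [s3, s6, z_5_2]
      · rw [s3, s7, z_5_3]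
      · rw [s3, s8, z_5_1]
      · rw [s4, (h2 (z 4)).2] <;> linarith only [we_0_1, we_0_2, we_2_3, we_0_4, we_4_5, we_5_6, we_6_7, we_7_8]
      · rw [s4, s5, a_eq_pp T (z 4) (z 0), hp_4_0] <;> linarith only [we_0_1, we_0_2, we_2_3, we_0_4, we_4_5, we_5_6, we_6_7, we_7_8]
      · rw [s4, s6, z_4_2]
      · rw [s4, s7, z_4_3]
      · rw [s4, s8, z_4_1]
      · rw [s5, (h2 (z 0)).2] <;> linarith only [we_0_1, we_0_2, we_2_3, we_0_4, we_4_5, we_5_6, we_6_7, we_7_8]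
      · rw [s5, s6, a_eq_pp T (z 0) (z 2), hp_0_2] <;> linarith only [we_0_1, we_0_2, we_2_3, we_0_4, we_4_5, we_5_6, we_6_7, we_7_8]
      · rw [s5, s7, z_0_3]
      · rw [s5, s8, a_eq_pp T (z 0) (z 1), hp_0_1] <;> linarith only [we_0_1, we_0_2, we_2_3, we_0_4, we_4_5, we_5_6, we_6_7, we_7_8]
      · rw [s6, (h2 (z 2)).2] <;> linarith only [we_0_1, we_0_2, we_2_3, we_0_4, we_4_5, we_5_6, we_6_7, we_7_8]
      · rw [s6, s7, a_eq_pp T (z 2) (z 3), hp_2_3] <;> linarith only [we_0_1, we_0_2, we_2_3, we_0_4, we_4_5, we_5_6, we_6_7, we_7_8]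
      · rw [s6, s8, z_2_1]
      · rw [s7, (h2 (z 3)).2] <;> linarith only [we_0_1, we_0_2, we_2_3, we_0_4, we_4_5, we_5_6, we_6_7, we_7_8]
      · rw [s7, s8, z_3_1]
      · rw [s8, (h2 (z 1)).2] <;> linarith only [we_0_1, we_0_2, we_2_3, we_0_4, we_4_5, we_5_6, we_6_7, we_7_8]
    · skip
      rw [hp_0_1, hp_0_2, hp_0_4] at q_0
      rw [hp_1_0] at q_1
      rw [hp_2_0, hp_2_3] at q_2
      rw [hp_3_2] at q_3
      rw [hp_4_0, hp_4_5] at q_4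
      rw [hp_5_4, hp_5_6] at q_5
      rw [hp_6_5, hp_6_7] at q_6
      rw [hp_7_6, hp_7_8] at q_7
      rw [hp_8_7] at q_8
      rw [hp_0_1, hp_1_0] at we_0_1
      rw [hp_0_2, hp_2_0] at we_0_2
      rw [hp_2_3, hp_3_2] at we_2_3
      rw [hp_0_4, hp_4_0] at we_0_4
      rw [hp_4_5, hp_5_4] at we_4_5
      rw [hp_5_6, hp_6_5] at we_5_6
      rw [hp_6_7, hp_7_6] at we_6_7
      rw [hp_7_8, hp_8_7] at we_7_8
      exfalso; linarith only [q_0, q_1, q_2, q_3, q_4, q_5, q_6, q_7, q_8, T.m_pos (z 0), T.m_pos (z 1), T.m_pos (z 2), T.m_pos (z 3), T.m_pos (z 4), T.m_pos (z 5), T.m_pos (z 6), T.m_pos (z 7), T.m_pos (z 8)]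
    · skip
      rw [hp_0_1, hp_0_2, hp_0_4] at q_0
      rw [hp_1_0] at q_1
      rw [hp_2_0, hp_2_3] at q_2
      rw [hp_3_2] at q_3
      rw [hp_4_0, hp_4_5] at q_4
      rw [hp_5_4, hp_5_6] at q_5
      rw [hp_6_5, hp_6_7] at q_6
      rw [hp_7_6, hp_7_8] at q_7
      rw [hp_8_7] at q_8
      rw [hp_0_1, hp_1_0] at we_0_1
      rw [hp_0_2, hp_2_0] at we_0_2
      rw [hp_2_3, hp_3_2] at we_2_3
      rw [hp_0_4, hp_4_0] at we_0_4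
      rw [hp_4_5, hp_5_4] at we_4_5
      rw [hp_5_6, hp_6_5] at we_5_6
      rw [hp_6_7, hp_7_6] at we_6_7
      rw [hp_7_8, hp_8_7] at we_7_8
      exfalso; linarith only [q_0, q_1, q_2, q_3, q_4, q_5, q_6, q_7, q_8, T.m_pos (z 0), T.m_pos (z 1), T.m_pos (z 2), T.m_pos (z 3), T.m_pos (z 4), T.m_pos (z 5), T.m_pos (z 6), T.m_pos (z 7), T.m_pos (z 8)]
  · skip
    rcases edge_cases T h2 z hz [0, 4, 5, 6, 7, 8] (by decide) (by decide) (by decide)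
      (List.IsChain.cons_cons e_0_4 (List.IsChain.cons_cons e_4_5 (List.IsChain.cons_cons e_5_6 (List.IsChain.cons_cons e_6_7 (List.IsChain.cons_cons e_7_8 (List.IsChain.singleton _)))))) 4 (by decide) 7 8 rfl rfl with
      ⟨hp_7_8, hp_8_7⟩ | ⟨hp_7_8, hp_8_7⟩ | ⟨hp_7_8, hp_8_7⟩
    · skip
      rw [hp_0_1, hp_0_2, hp_0_4] at q_0
      rw [hp_1_0] at q_1
      rw [hp_2_0, hp_2_3] at q_2
      rw [hp_3_2] at q_3
      rw [hp_4_0, hp_4_5] at q_4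
      rw [hp_5_4, hp_5_6] at q_5
      rw [hp_6_5, hp_6_7] at q_6
      rw [hp_7_6, hp_7_8] at q_7
      rw [hp_8_7] at q_8
      rw [hp_0_1, hp_1_0] at we_0_1
      rw [hp_0_2, hp_2_0] at we_0_2
      rw [hp_2_3, hp_3_2] at we_2_3
      rw [hp_0_4, hp_4_0] at we_0_4
      rw [hp_4_5, hp_5_4] at we_4_5
      rw [hp_5_6, hp_6_5] at we_5_6
      rw [hp_6_7, hp_7_6] at we_6_7
      rw [hp_7_8, hp_8_7] at we_7_8
      exfalso; linarith only [q_0, q_1, q_2, q_3, q_4, q_5, q_6, q_7, q_8, T.m_pos (z 0), T.m_pos (z 1), T.m_pos (z 2), T.m_pos (z 3), T.m_pos (z 4), T.m_pos (z 5), T.m_pos (z 6), T.m_pos (z 7), T.m_pos (z 8)]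
    · skip
      rw [hp_0_1, hp_0_2, hp_0_4] at q_0
      rw [hp_1_0] at q_1
      rw [hp_2_0, hp_2_3] at q_2
      rw [hp_3_2] at q_3
      rw [hp_4_0, hp_4_5] at q_4
      rw [hp_5_4, hp_5_6] at q_5
      rw [hp_6_5, hp_6_7] at q_6
      rw [hp_7_6, hp_7_8] at q_7
      rw [hp_8_7] at q_8
      rw [hp_0_1, hp_1_0] at we_0_1
      rw [hp_0_2, hp_2_0] at we_0_2
      rw [hp_2_3, hp_3_2] at we_2_3
      rw [hp_0_4, hp_4_0] at we_0_4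
      rw [hp_4_5, hp_5_4] at we_4_5
      rw [hp_5_6, hp_6_5] at we_5_6
      rw [hp_6_7, hp_7_6] at we_6_7
      rw [hp_7_8, hp_8_7] at we_7_8
      exfalso; linarith only [q_0, q_1, q_2, q_3, q_4, q_5, q_6, q_7, q_8, T.m_pos (z 0), T.m_pos (z 1), T.m_pos (z 2), T.m_pos (z 3), T.m_pos (z 4), T.m_pos (z 5), T.m_pos (z 6), T.m_pos (z 7), T.m_pos (z 8)]
    · skip
      rw [hp_0_1, hp_0_2, hp_0_4] at q_0
      rw [hp_1_0] at q_1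
      rw [hp_2_0, hp_2_3] at q_2
      rw [hp_3_2] at q_3
      rw [hp_4_0, hp_4_5] at q_4
      rw [hp_5_4, hp_5_6] at q_5
      rw [hp_6_5, hp_6_7] at q_6
      rw [hp_7_6, hp_7_8] at q_7
      rw [hp_8_7] at q_8
      rw [hp_0_1, hp_1_0] at we_0_1
      rw [hp_0_2, hp_2_0] at we_0_2
      rw [hp_2_3, hp_3_2] at we_2_3
      rw [hp_0_4, hp_4_0] at we_0_4
      rw [hp_4_5, hp_5_4] at we_4_5
      rw [hp_5_6, hp_6_5] at we_5_6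
      rw [hp_6_7, hp_7_6] at we_6_7
      rw [hp_7_8, hp_8_7] at we_7_8
      exfalso; linarith only [q_0, q_1, q_2, q_3, q_4, q_5, q_6, q_7, q_8, T.m_pos (z 0), T.m_pos (z 1), T.m_pos (z 2), T.m_pos (z 3), T.m_pos (z 4), T.m_pos (z 5), T.m_pos (z 6), T.m_pos (z 7), T.m_pos (z 8)]
  · skip
    rcases edge_cases T h2 z hz [0, 4, 5, 6, 7, 8] (by decide) (by decide) (by decide)
      (List.IsChain.cons_cons e_0_4 (List.IsChain.cons_cons e_4_5 (List.IsChain.cons_cons e_5_6 (List.IsChain.cons_cons e_6_7 (List.IsChain.cons_cons e_7_8 (List.IsChain.singleton _)))))) 4 (by decide) 7 8 rfl rfl with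
      ⟨hp_7_8, hp_8_7⟩ | ⟨hp_7_8, hp_8_7⟩ | ⟨hp_7_8, hp_8_7⟩
    · skip
      rw [hp_0_1, hp_0_2, hp_0_4] at q_0
      rw [hp_1_0] at q_1
      rw [hp_2_0, hp_2_3] at q_2
      rw [hp_3_2] at q_3
      rw [hp_4_0, hp_4_5] at q_4
      rw [hp_5_4, hp_5_6] at q_5
      rw [hp_6_5, hp_6_7] at q_6
      rw [hp_7_6, hp_7_8] at q_7
      rw [hp_8_7] at q_8
      rw [hp_0_1, hp_1_0] at we_0_1
      rw [hp_0_2, hp_2_0] at we_0_2
      rw [hp_2_3, hp_3_2] at we_2_3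
      rw [hp_0_4, hp_4_0] at we_0_4
      rw [hp_4_5, hp_5_4] at we_4_5
      rw [hp_5_6, hp_6_5] at we_5_6
      rw [hp_6_7, hp_7_6] at we_6_7
      rw [hp_7_8, hp_8_7] at we_7_8
      exfalso; linarith only [q_0, q_1, q_2, q_3, q_4, q_5, q_6, q_7, q_8, T.m_pos (z 0), T.m_pos (z 1), T.m_pos (z 2), T.m_pos (z 3), T.m_pos (z 4), T.m_pos (z 5), T.m_pos (z 6), T.m_pos (z 7), T.m_pos (z 8)]
    · skip
      rw [hp_0_1, hp_0_2, hp_0_4] at q_0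
      rw [hp_1_0] at q_1
      rw [hp_2_0, hp_2_3] at q_2
      rw [hp_3_2] at q_3
      rw [hp_4_0, hp_4_5] at q_4
      rw [hp_5_4, hp_5_6] at q_5
      rw [hp_6_5, hp_6_7] at q_6
      rw [hp_7_6, hp_7_8] at q_7
      rw [hp_8_7] at q_8
      rw [hp_0_1, hp_1_0] at we_0_1
      rw [hp_0_2, hp_2_0] at we_0_2
      rw [hp_2_3, hp_3_2] at we_2_3
      rw [hp_0_4, hp_4_0] at we_0_4
      rw [hp_4_5, hp_5_4] at we_4_5
      rw [hp_5_6, hp_6_5] at we_5_6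
      rw [hp_6_7, hp_7_6] at we_6_7
      rw [hp_7_8, hp_8_7] at we_7_8
      exfalso; linarith only [q_0, q_1, q_2, q_3, q_4, q_5, q_6, q_7, q_8, T.m_pos (z 0), T.m_pos (z 1), T.m_pos (z 2), T.m_pos (z 3), T.m_pos (z 4), T.m_pos (z 5), T.m_pos (z 6), T.m_pos (z 7), T.m_pos (z 8)]
    · skip
      rw [hp_0_1, hp_0_2, hp_0_4] at q_0
      rw [hp_1_0] at q_1
      rw [hp_2_0, hp_2_3] at q_2
      rw [hp_3_2] at q_3
      rw [hp_4_0, hp_4_5] at q_4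
      rw [hp_5_4, hp_5_6] at q_5
      rw [hp_6_5, hp_6_7] at q_6
      rw [hp_7_6, hp_7_8] at q_7
      rw [hp_8_7] at q_8
      rw [hp_0_1, hp_1_0] at we_0_1
      rw [hp_0_2, hp_2_0] at we_0_2
      rw [hp_2_3, hp_3_2] at we_2_3
      rw [hp_0_4, hp_4_0] at we_0_4
      rw [hp_4_5, hp_5_4] at we_4_5
      rw [hp_5_6, hp_6_5] at we_5_6
      rw [hp_6_7, hp_7_6] at we_6_7
      rw [hp_7_8, hp_8_7] at we_7_8
      exfalso; linarith only [q_0, q_1, q_2, q_3, q_4, q_5, q_6, q_7, q_8, T.m_pos (z 0), T.m_pos (z 1), T.m_pos (z 2), T.m_pos (z 3), T.m_pos (z 4), T.m_pos (z 5), T.m_pos (z 6), T.m_pos (z 7), T.m_pos (z 8)]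

theorem shape9_pathz (T : Models.NumericalType 9) (h2 : ∀ i, T.IsMinusTwo i)
    (z : Fin 9 → Fin 9) (hz : Function.Injective z)
    (e_0_1 : T.a (z 0) (z 1) ≠ 0) (e_1_2 : T.a (z 1) (z 2) ≠ 0) (e_2_3 : T.a (z 2) (z 3) ≠ 0) (e_3_4 : T.a (z 3) (z 4) ≠ 0) (e_4_5 : T.a (z 4) (z 5) ≠ 0) (e_5_6 : T.a (z 5) (z 6) ≠ 0) (e_6_7 : T.a (z 6) (z 7) ≠ 0) (e_7_8 : T.a (z 7) (z 8) ≠ 0) (z_0_8 : T.a (z 0) (z 8) = 0) : Goal9 T := by
  have e_1_0 : T.a (z 1) (z 0) ≠ 0 := nsymm T e_0_1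
  have e_2_1 : T.a (z 2) (z 1) ≠ 0 := nsymm T e_1_2
  have e_3_2 : T.a (z 3) (z 2) ≠ 0 := nsymm T e_2_3
  have e_4_3 : T.a (z 4) (z 3) ≠ 0 := nsymm T e_3_4
  have e_5_4 : T.a (z 5) (z 4) ≠ 0 := nsymm T e_4_5
  have e_6_5 : T.a (z 6) (z 5) ≠ 0 := nsymm T e_5_6
  have e_7_6 : T.a (z 7) (z 6) ≠ 0 := nsymm T e_6_7
  have e_8_7 : T.a (z 8) (z 7) ≠ 0 := nsymm T e_7_8
  have z_0_2 : T.a (z 0) (z 2) = 0 := nocycList T h2 z hz [0, 1, 2] (by decide) (by decide) (by decide)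
    (List.IsChain.cons_cons e_0_1 (List.IsChain.cons_cons e_1_2 (List.IsChain.singleton _))) 0 2 rfl rfl
  have z_2_0 : T.a (z 2) (z 0) = 0 := zsymm T z_0_2
  have z_0_3 : T.a (z 0) (z 3) = 0 := nocycList T h2 z hz [0, 1, 2, 3] (by decide) (by decide) (by decide)
    (List.IsChain.cons_cons e_0_1 (List.IsChain.cons_cons e_1_2 (List.IsChain.cons_cons e_2_3 (List.IsChain.singleton _)))) 0 3 rfl rfl
  have z_3_0 : T.a (z 3) (z 0) = 0 := zsymm T z_0_3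
  have z_0_4 : T.a (z 0) (z 4) = 0 := nocycList T h2 z hz [0, 1, 2, 3, 4] (by decide) (by decide) (by decide)
    (List.IsChain.cons_cons e_0_1 (List.IsChain.cons_cons e_1_2 (List.IsChain.cons_cons e_2_3 (List.IsChain.cons_cons e_3_4 (List.IsChain.singleton _))))) 0 4 rfl rfl
  have z_4_0 : T.a (z 4) (z 0) = 0 := zsymm T z_0_4
  have z_0_5 : T.a (z 0) (z 5) = 0 := nocycList T h2 z hz [0, 1, 2, 3, 4, 5] (by decide) (by decide) (by decide)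
    (List.IsChain.cons_cons e_0_1 (List.IsChain.cons_cons e_1_2 (List.IsChain.cons_cons e_2_3 (List.IsChain.cons_cons e_3_4 (List.IsChain.cons_cons e_4_5 (List.IsChain.singleton _)))))) 0 5 rfl rfl
  have z_5_0 : T.a (z 5) (z 0) = 0 := zsymm T z_0_5
  have z_0_6 : T.a (z 0) (z 6) = 0 := nocycList T h2 z hz [0, 1, 2, 3, 4, 5, 6] (by decide) (by decide) (by decide)
    (List.IsChain.cons_cons e_0_1 (List.IsChain.cons_cons e_1_2 (List.IsChain.cons_cons e_2_3 (List.IsChain.cons_cons e_3_4 (List.IsChain.cons_cons e_4_5 (List.IsChain.cons_cons e_5_6 (List.IsChain.singleton _))))))) 0 6 rfl rfl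
  have z_6_0 : T.a (z 6) (z 0) = 0 := zsymm T z_0_6
  have z_0_7 : T.a (z 0) (z 7) = 0 := nocycList T h2 z hz [0, 1, 2, 3, 4, 5, 6, 7] (by decide) (by decide) (by decide)
    (List.IsChain.cons_cons e_0_1 (List.IsChain.cons_cons e_1_2 (List.IsChain.cons_cons e_2_3 (List.IsChain.cons_cons e_3_4 (List.IsChain.cons_cons e_4_5 (List.IsChain.cons_cons e_5_6 (List.IsChain.cons_cons e_6_7 (List.IsChain.singleton _)))))))) 0 7 rfl rfl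
  have z_7_0 : T.a (z 7) (z 0) = 0 := zsymm T z_0_7
  have z_8_0 : T.a (z 8) (z 0) = 0 := zsymm T z_0_8
  have z_1_3 : T.a (z 1) (z 3) = 0 := nocycList T h2 z hz [1, 2, 3] (by decide) (by decide) (by decide)
    (List.IsChain.cons_cons e_1_2 (List.IsChain.cons_cons e_2_3 (List.IsChain.singleton _))) 1 3 rfl rfl
  have z_3_1 : T.a (z 3) (z 1) = 0 := zsymm T z_1_3
  have z_1_4 : T.a (z 1) (z 4) = 0 := nocycList T h2 z hz [1, 2, 3, 4] (by decide) (by decide) (by decide)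
    (List.IsChain.cons_cons e_1_2 (List.IsChain.cons_cons e_2_3 (List.IsChain.cons_cons e_3_4 (List.IsChain.singleton _)))) 1 4 rfl rfl
  have z_4_1 : T.a (z 4) (z 1) = 0 := zsymm T z_1_4
  have z_1_5 : T.a (z 1) (z 5) = 0 := nocycList T h2 z hz [1, 2, 3, 4, 5] (by decide) (by decide) (by decide)
    (List.IsChain.cons_cons e_1_2 (List.IsChain.cons_cons e_2_3 (List.IsChain.cons_cons e_3_4 (List.IsChain.cons_cons e_4_5 (List.IsChain.singleton _))))) 1 5 rfl rfl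
  have z_5_1 : T.a (z 5) (z 1) = 0 := zsymm T z_1_5
  have z_1_6 : T.a (z 1) (z 6) = 0 := nocycList T h2 z hz [1, 2, 3, 4, 5, 6] (by decide) (by decide) (by decide)
    (List.IsChain.cons_cons e_1_2 (List.IsChain.cons_cons e_2_3 (List.IsChain.cons_cons e_3_4 (List.IsChain.cons_cons e_4_5 (List.IsChain.cons_cons e_5_6 (List.IsChain.singleton _)))))) 1 6 rfl rfl
  have z_6_1 : T.a (z 6) (z 1) = 0 := zsymm T z_1_6
  have z_1_7 : T.a (z 1) (z 7) = 0 := nocycList T h2 z hz [1, 2, 3, 4, 5, 6, 7] (by decide) (by decide) (by decide)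
    (List.IsChain.cons_cons e_1_2 (List.IsChain.cons_cons e_2_3 (List.IsChain.cons_cons e_3_4 (List.IsChain.cons_cons e_4_5 (List.IsChain.cons_cons e_5_6 (List.IsChain.cons_cons e_6_7 (List.IsChain.singleton _))))))) 1 7 rfl rfl
  have z_7_1 : T.a (z 7) (z 1) = 0 := zsymm T z_1_7
  have z_1_8 : T.a (z 1) (z 8) = 0 := nocycList T h2 z hz [1, 2, 3, 4, 5, 6, 7, 8] (by decide) (by decide) (by decide)
    (List.IsChain.cons_cons e_1_2 (List.IsChain.cons_cons e_2_3 (List.IsChain.cons_cons e_3_4 (List.IsChain.cons_cons e_4_5 (List.IsChain.cons_cons e_5_6 (List.IsChain.cons_cons e_6_7 (List.IsChain.cons_cons e_7_8 (List.IsChain.singleton _)))))))) 1 8 rfl rfl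
  have z_8_1 : T.a (z 8) (z 1) = 0 := zsymm T z_1_8
  have z_2_4 : T.a (z 2) (z 4) = 0 := nocycList T h2 z hz [2, 3, 4] (by decide) (by decide) (by decide)
    (List.IsChain.cons_cons e_2_3 (List.IsChain.cons_cons e_3_4 (List.IsChain.singleton _))) 2 4 rfl rfl
  have z_4_2 : T.a (z 4) (z 2) = 0 := zsymm T z_2_4
  have z_2_5 : T.a (z 2) (z 5) = 0 := nocycList T h2 z hz [2, 3, 4, 5] (by decide) (by decide) (by decide)
    (List.IsChain.cons_cons e_2_3 (List.IsChain.cons_cons e_3_4 (List.IsChain.cons_cons e_4_5 (List.IsChain.singleton _)))) 2 5 rfl rfl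
  have z_5_2 : T.a (z 5) (z 2) = 0 := zsymm T z_2_5
  have z_2_6 : T.a (z 2) (z 6) = 0 := nocycList T h2 z hz [2, 3, 4, 5, 6] (by decide) (by decide) (by decide)
    (List.IsChain.cons_cons e_2_3 (List.IsChain.cons_cons e_3_4 (List.IsChain.cons_cons e_4_5 (List.IsChain.cons_cons e_5_6 (List.IsChain.singleton _))))) 2 6 rfl rfl
  have z_6_2 : T.a (z 6) (z 2) = 0 := zsymm T z_2_6
  have z_2_7 : T.a (z 2) (z 7) = 0 := nocycList T h2 z hz [2, 3, 4, 5, 6, 7] (by decide) (by decide) (by decide)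
    (List.IsChain.cons_cons e_2_3 (List.IsChain.cons_cons e_3_4 (List.IsChain.cons_cons e_4_5 (List.IsChain.cons_cons e_5_6 (List.IsChain.cons_cons e_6_7 (List.IsChain.singleton _)))))) 2 7 rfl rfl
  have z_7_2 : T.a (z 7) (z 2) = 0 := zsymm T z_2_7
  have z_2_8 : T.a (z 2) (z 8) = 0 := nocycList T h2 z hz [2, 3, 4, 5, 6, 7, 8] (by decide) (by decide) (by decide)
    (List.IsChain.cons_cons e_2_3 (List.IsChain.cons_cons e_3_4 (List.IsChain.cons_cons e_4_5 (List.IsChain.cons_cons e_5_6 (List.IsChain.cons_cons e_6_7 (List.IsChain.cons_cons e_7_8 (List.IsChain.singleton _))))))) 2 8 rfl rfl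
  have z_8_2 : T.a (z 8) (z 2) = 0 := zsymm T z_2_8
  have z_3_5 : T.a (z 3) (z 5) = 0 := nocycList T h2 z hz [3, 4, 5] (by decide) (by decide) (by decide)
    (List.IsChain.cons_cons e_3_4 (List.IsChain.cons_cons e_4_5 (List.IsChain.singleton _))) 3 5 rfl rfl
  have z_5_3 : T.a (z 5) (z 3) = 0 := zsymm T z_3_5
  have z_3_6 : T.a (z 3) (z 6) = 0 := nocycList T h2 z hz [3, 4, 5, 6] (by decide) (by decide) (by decide)
    (List.IsChain.cons_cons e_3_4 (List.IsChain.cons_cons e_4_5 (List.IsChain.cons_cons e_5_6 (List.IsChain.singleton _)))) 3 6 rfl rfl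
  have z_6_3 : T.a (z 6) (z 3) = 0 := zsymm T z_3_6
  have z_3_7 : T.a (z 3) (z 7) = 0 := nocycList T h2 z hz [3, 4, 5, 6, 7] (by decide) (by decide) (by decide)
    (List.IsChain.cons_cons e_3_4 (List.IsChain.cons_cons e_4_5 (List.IsChain.cons_cons e_5_6 (List.IsChain.cons_cons e_6_7 (List.IsChain.singleton _))))) 3 7 rfl rfl
  have z_7_3 : T.a (z 7) (z 3) = 0 := zsymm T z_3_7
  have z_3_8 : T.a (z 3) (z 8) = 0 := nocycList T h2 z hz [3, 4, 5, 6, 7, 8] (by decide) (by decide) (by decide)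
    (List.IsChain.cons_cons e_3_4 (List.IsChain.cons_cons e_4_5 (List.IsChain.cons_cons e_5_6 (List.IsChain.cons_cons e_6_7 (List.IsChain.cons_cons e_7_8 (List.IsChain.singleton _)))))) 3 8 rfl rfl
  have z_8_3 : T.a (z 8) (z 3) = 0 := zsymm T z_3_8
  have z_4_6 : T.a (z 4) (z 6) = 0 := nocycList T h2 z hz [4, 5, 6] (by decide) (by decide) (by decide)
    (List.IsChain.cons_cons e_4_5 (List.IsChain.cons_cons e_5_6 (List.IsChain.singleton _))) 4 6 rfl rfl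
  have z_6_4 : T.a (z 6) (z 4) = 0 := zsymm T z_4_6
  have z_4_7 : T.a (z 4) (z 7) = 0 := nocycList T h2 z hz [4, 5, 6, 7] (by decide) (by decide) (by decide)
    (List.IsChain.cons_cons e_4_5 (List.IsChain.cons_cons e_5_6 (List.IsChain.cons_cons e_6_7 (List.IsChain.singleton _)))) 4 7 rfl rfl
  have z_7_4 : T.a (z 7) (z 4) = 0 := zsymm T z_4_7
  have z_4_8 : T.a (z 4) (z 8) = 0 := nocycList T h2 z hz [4, 5, 6, 7, 8] (by decide) (by decide) (by decide)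
    (List.IsChain.cons_cons e_4_5 (List.IsChain.cons_cons e_5_6 (List.IsChain.cons_cons e_6_7 (List.IsChain.cons_cons e_7_8 (List.IsChain.singleton _))))) 4 8 rfl rfl
  have z_8_4 : T.a (z 8) (z 4) = 0 := zsymm T z_4_8
  have z_5_7 : T.a (z 5) (z 7) = 0 := nocycList T h2 z hz [5, 6, 7] (by decide) (by decide) (by decide)
    (List.IsChain.cons_cons e_5_6 (List.IsChain.cons_cons e_6_7 (List.IsChain.singleton _))) 5 7 rfl rfl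
  have z_7_5 : T.a (z 7) (z 5) = 0 := zsymm T z_5_7
  have z_5_8 : T.a (z 5) (z 8) = 0 := nocycList T h2 z hz [5, 6, 7, 8] (by decide) (by decide) (by decide)
    (List.IsChain.cons_cons e_5_6 (List.IsChain.cons_cons e_6_7 (List.IsChain.cons_cons e_7_8 (List.IsChain.singleton _)))) 5 8 rfl rfl
  have z_8_5 : T.a (z 8) (z 5) = 0 := zsymm T z_5_8
  have z_6_8 : T.a (z 6) (z 8) = 0 := nocycList T h2 z hz [6, 7, 8] (by decide) (by decide) (by decide)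
    (List.IsChain.cons_cons e_6_7 (List.IsChain.cons_cons e_7_8 (List.IsChain.singleton _))) 6 8 rfl rfl
  have z_8_6 : T.a (z 8) (z 6) = 0 := zsymm T z_6_8
  obtain ⟨hp_1_2, hp_2_1⟩ := mid_edge_one T h2 z hz [0, 1, 2, 3, 4] (by decide) (by decide) (by decide)
    (List.IsChain.cons_cons e_0_1 (List.IsChain.cons_cons e_1_2 (List.IsChain.cons_cons e_2_3 (List.IsChain.cons_cons e_3_4 (List.IsChain.singleton _))))) 1 (by decide) (by decide) 1 2 rfl rfl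
  obtain ⟨hp_2_3, hp_3_2⟩ := mid_edge_one T h2 z hz [0, 1, 2, 3, 4] (by decide) (by decide) (by decide)
    (List.IsChain.cons_cons e_0_1 (List.IsChain.cons_cons e_1_2 (List.IsChain.cons_cons e_2_3 (List.IsChain.cons_cons e_3_4 (List.IsChain.singleton _))))) 2 (by decide) (by decide) 2 3 rfl rfl
  obtain ⟨hp_3_4, hp_4_3⟩ := mid_edge_one T h2 z hz [0, 1, 2, 3, 4, 5] (by decide) (by decide) (by decide)
    (List.IsChain.cons_cons e_0_1 (List.IsChain.cons_cons e_1_2 (List.IsChain.cons_cons e_2_3 (List.IsChain.cons_cons e_3_4 (List.IsChain.cons_cons e_4_5 (List.IsChain.singleton _)))))) 3 (by decide) (by decide) 3 4 rfl rfl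
  obtain ⟨hp_4_5, hp_5_4⟩ := mid_edge_one T h2 z hz [0, 1, 2, 3, 4, 5, 6] (by decide) (by decide) (by decide)
    (List.IsChain.cons_cons e_0_1 (List.IsChain.cons_cons e_1_2 (List.IsChain.cons_cons e_2_3 (List.IsChain.cons_cons e_3_4 (List.IsChain.cons_cons e_4_5 (List.IsChain.cons_cons e_5_6 (List.IsChain.singleton _))))))) 4 (by decide) (by decide) 4 5 rfl rfl
  obtain ⟨hp_5_6, hp_6_5⟩ := mid_edge_one T h2 z hz [0, 1, 2, 3, 4, 5, 6, 7] (by decide) (by decide) (by decide)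
    (List.IsChain.cons_cons e_0_1 (List.IsChain.cons_cons e_1_2 (List.IsChain.cons_cons e_2_3 (List.IsChain.cons_cons e_3_4 (List.IsChain.cons_cons e_4_5 (List.IsChain.cons_cons e_5_6 (List.IsChain.cons_cons e_6_7 (List.IsChain.singleton _)))))))) 5 (by decide) (by decide) 5 6 rfl rfl
  obtain ⟨hp_6_7, hp_7_6⟩ := mid_edge_one T h2 z hz [1, 2, 3, 4, 5, 6, 7, 8] (by decide) (by decide) (by decide)
    (List.IsChain.cons_cons e_1_2 (List.IsChain.cons_cons e_2_3 (List.IsChain.cons_cons e_3_4 (List.IsChain.cons_cons e_4_5 (List.IsChain.cons_cons e_5_6 (List.IsChain.cons_cons e_6_7 (List.IsChain.cons_cons e_7_8 (List.IsChain.singleton _)))))))) 5 (by decide) (by decide) 6 7 rfl rfl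
  have we_0_1 := w_pp T (z 0) (z 1)
  have we_1_2 := w_pp T (z 1) (z 2)
  have we_2_3 := w_pp T (z 2) (z 3)
  have we_3_4 := w_pp T (z 3) (z 4)
  have we_4_5 := w_pp T (z 4) (z 5)
  have we_5_6 := w_pp T (z 5) (z 6)
  have we_6_7 := w_pp T (z 6) (z 7)
  have we_7_8 := w_pp T (z 7) (z 8)
  have r_0 := row9 T z hz (z 0)
  rw [(h2 (z 0)).2, a_eq_pp T (z 0) (z 1), z_0_2, z_0_3, z_0_4, z_0_5, z_0_6, z_0_7, z_0_8] at r_0
  have q_0 : pp T (z 0) (z 1) * T.m (z 1) = 2 * T.m (z 0) :=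
    mul_left_cancel₀ (T.w_pos (z 0)).ne' (by linear_combination r_0)
  clear r_0
  have r_1 := row9 T z hz (z 1)
  rw [a_eq_pp T (z 1) (z 0), (h2 (z 1)).2, a_eq_pp T (z 1) (z 2), z_1_3, z_1_4, z_1_5, z_1_6, z_1_7, z_1_8] at r_1
  have q_1 : pp T (z 1) (z 0) * T.m (z 0) + pp T (z 1) (z 2) * T.m (z 2) = 2 * T.m (z 1) :=
    mul_left_cancel₀ (T.w_pos (z 1)).ne' (by linear_combination r_1)
  clear r_1
  have r_2 := row9 T z hz (z 2)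
  rw [z_2_0, a_eq_pp T (z 2) (z 1), (h2 (z 2)).2, a_eq_pp T (z 2) (z 3), z_2_4, z_2_5, z_2_6, z_2_7, z_2_8] at r_2
  have q_2 : pp T (z 2) (z 1) * T.m (z 1) + pp T (z 2) (z 3) * T.m (z 3) = 2 * T.m (z 2) :=
    mul_left_cancel₀ (T.w_pos (z 2)).ne' (by linear_combination r_2)
  clear r_2
  have r_3 := row9 T z hz (z 3)
  rw [z_3_0, z_3_1, a_eq_pp T (z 3) (z 2), (h2 (z 3)).2, a_eq_pp T (z 3) (z 4), z_3_5, z_3_6, z_3_7, z_3_8] at r_3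
  have q_3 : pp T (z 3) (z 2) * T.m (z 2) + pp T (z 3) (z 4) * T.m (z 4) = 2 * T.m (z 3) :=
    mul_left_cancel₀ (T.w_pos (z 3)).ne' (by linear_combination r_3)
  clear r_3
  have r_4 := row9 T z hz (z 4)
  rw [z_4_0, z_4_1, z_4_2, a_eq_pp T (z 4) (z 3), (h2 (z 4)).2, a_eq_pp T (z 4) (z 5), z_4_6, z_4_7, z_4_8] at r_4
  have q_4 : pp T (z 4) (z 3) * T.m (z 3) + pp T (z 4) (z 5) * T.m (z 5) = 2 * T.m (z 4) :=
    mul_left_cancel₀ (T.w_pos (z 4)).ne' (by linear_combination r_4)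
  clear r_4
  have r_5 := row9 T z hz (z 5)
  rw [z_5_0, z_5_1, z_5_2, z_5_3, a_eq_pp T (z 5) (z 4), (h2 (z 5)).2, a_eq_pp T (z 5) (z 6), z_5_7, z_5_8] at r_5
  have q_5 : pp T (z 5) (z 4) * T.m (z 4) + pp T (z 5) (z 6) * T.m (z 6) = 2 * T.m (z 5) :=
    mul_left_cancel₀ (T.w_pos (z 5)).ne' (by linear_combination r_5)
  clear r_5
  have r_6 := row9 T z hz (z 6)
  rw [z_6_0, z_6_1, z_6_2, z_6_3, z_6_4, a_eq_pp T (z 6) (z 5), (h2 (z 6)).2, a_eq_pp T (z 6) (z 7), z_6_8] at r_6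
  have q_6 : pp T (z 6) (z 5) * T.m (z 5) + pp T (z 6) (z 7) * T.m (z 7) = 2 * T.m (z 6) :=
    mul_left_cancel₀ (T.w_pos (z 6)).ne' (by linear_combination r_6)
  clear r_6
  have r_7 := row9 T z hz (z 7)
  rw [z_7_0, z_7_1, z_7_2, z_7_3, z_7_4, z_7_5, a_eq_pp T (z 7) (z 6), (h2 (z 7)).2, a_eq_pp T (z 7) (z 8)] at r_7
  have q_7 : pp T (z 7) (z 6) * T.m (z 6) + pp T (z 7) (z 8) * T.m (z 8) = 2 * T.m (z 7) :=
    mul_left_cancel₀ (T.w_pos (z 7)).ne' (by linear_combination r_7)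
  clear r_7
  have r_8 := row9 T z hz (z 8)
  rw [z_8_0, z_8_1, z_8_2, z_8_3, z_8_4, z_8_5, z_8_6, a_eq_pp T (z 8) (z 7), (h2 (z 8)).2] at r_8
  have q_8 : pp T (z 8) (z 7) * T.m (z 7) = 2 * T.m (z 8) :=
    mul_left_cancel₀ (T.w_pos (z 8)).ne' (by linear_combination r_8)
  clear r_8
  rcases edge_cases T h2 z hz [0, 1, 2] (by decide) (by decide) (by decide)
    (List.IsChain.cons_cons e_0_1 (List.IsChain.cons_cons e_1_2 (List.IsChain.singleton _))) 0 (by decide) 0 1 rfl rfl with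
    ⟨hp_0_1, hp_1_0⟩ | ⟨hp_0_1, hp_1_0⟩ | ⟨hp_0_1, hp_1_0⟩
  · skip
    rcases edge_cases T h2 z hz [1, 2, 3, 4, 5, 6, 7, 8] (by decide) (by decide) (by decide)
      (List.IsChain.cons_cons e_1_2 (List.IsChain.cons_cons e_2_3 (List.IsChain.cons_cons e_3_4 (List.IsChain.cons_cons e_4_5 (List.IsChain.cons_cons e_5_6 (List.IsChain.cons_cons e_6_7 (List.IsChain.cons_cons e_7_8 (List.IsChain.singleton _)))))))) 6 (by decide) 7 8 rfl rfl with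
      ⟨hp_7_8, hp_8_7⟩ | ⟨hp_7_8, hp_8_7⟩ | ⟨hp_7_8, hp_8_7⟩
    · skip
      rw [hp_0_1] at q_0
      rw [hp_1_0, hp_1_2] at q_1
      rw [hp_2_1, hp_2_3] at q_2
      rw [hp_3_2, hp_3_4] at q_3
      rw [hp_4_3, hp_4_5] at q_4
      rw [hp_5_4, hp_5_6] at q_5
      rw [hp_6_5, hp_6_7] at q_6
      rw [hp_7_6, hp_7_8] at q_7
      rw [hp_8_7] at q_8
      rw [hp_0_1, hp_1_0] at we_0_1
      rw [hp_1_2, hp_2_1] at we_1_2
      rw [hp_2_3, hp_3_2] at we_2_3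
      rw [hp_3_4, hp_4_3] at we_3_4
      rw [hp_4_5, hp_5_4] at we_4_5
      rw [hp_5_6, hp_6_5] at we_5_6
      rw [hp_6_7, hp_7_6] at we_6_7
      rw [hp_7_8, hp_8_7] at we_7_8
      exfalso; linarith only [q_0, q_1, q_2, q_3, q_4, q_5, q_6, q_7, q_8, T.m_pos (z 0), T.m_pos (z 1), T.m_pos (z 2), T.m_pos (z 3), T.m_pos (z 4), T.m_pos (z 5), T.m_pos (z 6), T.m_pos (z 7), T.m_pos (z 8)]
    · skip
      rw [hp_0_1] at q_0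
      rw [hp_1_0, hp_1_2] at q_1
      rw [hp_2_1, hp_2_3] at q_2
      rw [hp_3_2, hp_3_4] at q_3
      rw [hp_4_3, hp_4_5] at q_4
      rw [hp_5_4, hp_5_6] at q_5
      rw [hp_6_5, hp_6_7] at q_6
      rw [hp_7_6, hp_7_8] at q_7
      rw [hp_8_7] at q_8
      rw [hp_0_1, hp_1_0] at we_0_1
      rw [hp_1_2, hp_2_1] at we_1_2
      rw [hp_2_3, hp_3_2] at we_2_3
      rw [hp_3_4, hp_4_3] at we_3_4
      rw [hp_4_5, hp_5_4] at we_4_5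
      rw [hp_5_6, hp_6_5] at we_5_6
      rw [hp_6_7, hp_7_6] at we_6_7
      rw [hp_7_8, hp_8_7] at we_7_8
      exfalso; linarith only [q_0, q_1, q_2, q_3, q_4, q_5, q_6, q_7, q_8, T.m_pos (z 0), T.m_pos (z 1), T.m_pos (z 2), T.m_pos (z 3), T.m_pos (z 4), T.m_pos (z 5), T.m_pos (z 6), T.m_pos (z 7), T.m_pos (z 8)]
    · skip
      rw [hp_0_1] at q_0
      rw [hp_1_0, hp_1_2] at q_1
      rw [hp_2_1, hp_2_3] at q_2
      rw [hp_3_2, hp_3_4] at q_3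
      rw [hp_4_3, hp_4_5] at q_4
      rw [hp_5_4, hp_5_6] at q_5
      rw [hp_6_5, hp_6_7] at q_6
      rw [hp_7_6, hp_7_8] at q_7
      rw [hp_8_7] at q_8
      rw [hp_0_1, hp_1_0] at we_0_1
      rw [hp_1_2, hp_2_1] at we_1_2
      rw [hp_2_3, hp_3_2] at we_2_3
      rw [hp_3_4, hp_4_3] at we_3_4
      rw [hp_4_5, hp_5_4] at we_4_5
      rw [hp_5_6, hp_6_5] at we_5_6
      rw [hp_6_7, hp_7_6] at we_6_7
      rw [hp_7_8, hp_8_7] at we_7_8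
      exfalso; linarith only [q_0, q_1, q_2, q_3, q_4, q_5, q_6, q_7, q_8, T.m_pos (z 0), T.m_pos (z 1), T.m_pos (z 2), T.m_pos (z 3), T.m_pos (z 4), T.m_pos (z 5), T.m_pos (z 6), T.m_pos (z 7), T.m_pos (z 8)]
  · skip
    rcases edge_cases T h2 z hz [1, 2, 3, 4, 5, 6, 7, 8] (by decide) (by decide) (by decide)
      (List.IsChain.cons_cons e_1_2 (List.IsChain.cons_cons e_2_3 (List.IsChain.cons_cons e_3_4 (List.IsChain.cons_cons e_4_5 (List.IsChain.cons_cons e_5_6 (List.IsChain.cons_cons e_6_7 (List.IsChain.cons_cons e_7_8 (List.IsChain.singleton _)))))))) 6 (by decide) 7 8 rfl rfl with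
      ⟨hp_7_8, hp_8_7⟩ | ⟨hp_7_8, hp_8_7⟩ | ⟨hp_7_8, hp_8_7⟩
    · skip
      rw [hp_0_1] at q_0
      rw [hp_1_0, hp_1_2] at q_1
      rw [hp_2_1, hp_2_3] at q_2
      rw [hp_3_2, hp_3_4] at q_3
      rw [hp_4_3, hp_4_5] at q_4
      rw [hp_5_4, hp_5_6] at q_5
      rw [hp_6_5, hp_6_7] at q_6
      rw [hp_7_6, hp_7_8] at q_7
      rw [hp_8_7] at q_8
      rw [hp_0_1, hp_1_0] at we_0_1
      rw [hp_1_2, hp_2_1] at we_1_2
      rw [hp_2_3, hp_3_2] at we_2_3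
      rw [hp_3_4, hp_4_3] at we_3_4
      rw [hp_4_5, hp_5_4] at we_4_5
      rw [hp_5_6, hp_6_5] at we_5_6
      rw [hp_6_7, hp_7_6] at we_6_7
      rw [hp_7_8, hp_8_7] at we_7_8
      exfalso; linarith only [q_0, q_1, q_2, q_3, q_4, q_5, q_6, q_7, q_8, T.m_pos (z 0), T.m_pos (z 1), T.m_pos (z 2), T.m_pos (z 3), T.m_pos (z 4), T.m_pos (z 5), T.m_pos (z 6), T.m_pos (z 7), T.m_pos (z 8)]
    · skip
      rw [hp_0_1] at q_0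
      rw [hp_1_0, hp_1_2] at q_1
      rw [hp_2_1, hp_2_3] at q_2
      rw [hp_3_2, hp_3_4] at q_3
      rw [hp_4_3, hp_4_5] at q_4
      rw [hp_5_4, hp_5_6] at q_5
      rw [hp_6_5, hp_6_7] at q_6
      rw [hp_7_6, hp_7_8] at q_7
      rw [hp_8_7] at q_8
      rw [hp_0_1, hp_1_0] at we_0_1
      rw [hp_1_2, hp_2_1] at we_1_2
      rw [hp_2_3, hp_3_2] at we_2_3
      rw [hp_3_4, hp_4_3] at we_3_4
      rw [hp_4_5, hp_5_4] at we_4_5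
      rw [hp_5_6, hp_6_5] at we_5_6
      rw [hp_6_7, hp_7_6] at we_6_7
      rw [hp_7_8, hp_8_7] at we_7_8
      obtain ⟨σ, hσ⟩ := permOf (fun i => z (![0, 1, 2, 3, 4, 5, 6, 7, 8] i)) (hz.comp (by decide))
      have s0 : σ 0 = z 0 := hσ 0
      have s1 : σ 1 = z 1 := hσ 1
      have s2 : σ 2 = z 2 := hσ 2
      have s3 : σ 3 = z 3 := hσ 3
      have s4 : σ 4 = z 4 := hσ 4
      have s5 : σ 5 = z 5 := hσ 5
      have s6 : σ 6 = z 6 := hσ 6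
      have s7 : σ 7 = z 7 := hσ 7
      have s8 : σ 8 = z 8 := hσ 8
      unfold Goal9
      refine ⟨σ, T.m (z 8), T.w (z 0), Or.inr (Or.inl ⟨?_, ?_, ?_, ?_, ?_, ?_, ?_, ?_, ?_, ?_, ?_, ?_, ?_, ?_, ?_, ?_, ?_, ?_, ?_, ?_, ?_, ?_, ?_, ?_, ?_, ?_, ?_, ?_, ?_, ?_, ?_, ?_, ?_, ?_, ?_, ?_, ?_, ?_, ?_, ?_, ?_, ?_, ?_, ?_, ?_, ?_, ?_, ?_, ?_, ?_, ?_, ?_, ?_, ?_, ?_, ?_, ?_, ?_, ?_, ?_, ?_, ?_, ?_⟩)⟩
      · rw [s0] <;> linarith only [q_0, q_1, q_2, q_3, q_4, q_5, q_6, q_7, q_8]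
      · rw [s1] <;> linarith only [q_0, q_1, q_2, q_3, q_4, q_5, q_6, q_7, q_8]
      · rw [s2] <;> linarith only [q_0, q_1, q_2, q_3, q_4, q_5, q_6, q_7, q_8]
      · rw [s3] <;> linarith only [q_0, q_1, q_2, q_3, q_4, q_5, q_6, q_7, q_8]
      · rw [s4] <;> linarith only [q_0, q_1, q_2, q_3, q_4, q_5, q_6, q_7, q_8]
      · rw [s5] <;> linarith only [q_0, q_1, q_2, q_3, q_4, q_5, q_6, q_7, q_8]
      · rw [s6] <;> linarith only [q_0, q_1, q_2, q_3, q_4, q_5, q_6, q_7, q_8]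
      · rw [s7] <;> linarith only [q_0, q_1, q_2, q_3, q_4, q_5, q_6, q_7, q_8]
      · rw [s8] <;> linarith only [q_0, q_1, q_2, q_3, q_4, q_5, q_6, q_7, q_8]
      · rw [s0] <;> linarith only [we_0_1, we_1_2, we_2_3, we_3_4, we_4_5, we_5_6, we_6_7, we_7_8]
      · rw [s1] <;> linarith only [we_0_1, we_1_2, we_2_3, we_3_4, we_4_5, we_5_6, we_6_7, we_7_8]
      · rw [s2] <;> linarith only [we_0_1, we_1_2, we_2_3, we_3_4, we_4_5, we_5_6, we_6_7, we_7_8]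
      · rw [s3] <;> linarith only [we_0_1, we_1_2, we_2_3, we_3_4, we_4_5, we_5_6, we_6_7, we_7_8]
      · rw [s4] <;> linarith only [we_0_1, we_1_2, we_2_3, we_3_4, we_4_5, we_5_6, we_6_7, we_7_8]
      · rw [s5] <;> linarith only [we_0_1, we_1_2, we_2_3, we_3_4, we_4_5, we_5_6, we_6_7, we_7_8]
      · rw [s6] <;> linarith only [we_0_1, we_1_2, we_2_3, we_3_4, we_4_5, we_5_6, we_6_7, we_7_8]
      · rw [s7] <;> linarith only [we_0_1, we_1_2, we_2_3, we_3_4, we_4_5, we_5_6, we_6_7, we_7_8]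
      · rw [s8] <;> linarith only [we_0_1, we_1_2, we_2_3, we_3_4, we_4_5, we_5_6, we_6_7, we_7_8]
      · rw [s0, (h2 (z 0)).2] <;> linarith only [we_0_1, we_1_2, we_2_3, we_3_4, we_4_5, we_5_6, we_6_7, we_7_8]
      · rw [s0, s1, a_eq_pp T (z 0) (z 1), hp_0_1] <;> linarith only [we_0_1, we_1_2, we_2_3, we_3_4, we_4_5, we_5_6, we_6_7, we_7_8]
      · rw [s0, s2, z_0_2]
      · rw [s0, s3, z_0_3]
      · rw [s0, s4, z_0_4]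
      · rw [s0, s5, z_0_5]
      · rw [s0, s6, z_0_6]
      · rw [s0, s7, z_0_7]
      · rw [s0, s8, z_0_8]
      · rw [s1, (h2 (z 1)).2] <;> linarith only [we_0_1, we_1_2, we_2_3, we_3_4, we_4_5, we_5_6, we_6_7, we_7_8]
      · rw [s1, s2, a_eq_pp T (z 1) (z 2), hp_1_2] <;> linarith only [we_0_1, we_1_2, we_2_3, we_3_4, we_4_5, we_5_6, we_6_7, we_7_8]
      · rw [s1, s3, z_1_3]
      · rw [s1, s4, z_1_4]
      · rw [s1, s5, z_1_5]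
      · rw [s1, s6, z_1_6]
      · rw [s1, s7, z_1_7]
      · rw [s1, s8, z_1_8]
      · rw [s2, (h2 (z 2)).2] <;> linarith only [we_0_1, we_1_2, we_2_3, we_3_4, we_4_5, we_5_6, we_6_7, we_7_8]
      · rw [s2, s3, a_eq_pp T (z 2) (z 3), hp_2_3] <;> linarith only [we_0_1, we_1_2, we_2_3, we_3_4, we_4_5, we_5_6, we_6_7, we_7_8]
      · rw [s2, s4, z_2_4]
      · rw [s2, s5, z_2_5]
      · rw [s2, s6, z_2_6]
      · rw [s2, s7, z_2_7]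
      · rw [s2, s8, z_2_8]
      · rw [s3, (h2 (z 3)).2] <;> linarith only [we_0_1, we_1_2, we_2_3, we_3_4, we_4_5, we_5_6, we_6_7, we_7_8]
      · rw [s3, s4, a_eq_pp T (z 3) (z 4), hp_3_4] <;> linarith only [we_0_1, we_1_2, we_2_3, we_3_4, we_4_5, we_5_6, we_6_7, we_7_8]
      · rw [s3, s5, z_3_5]
      · rw [s3, s6, z_3_6]
      · rw [s3, s7, z_3_7]
      · rw [s3, s8, z_3_8]
      · rw [s4, (h2 (z 4)).2] <;> linarith only [we_0_1, we_1_2, we_2_3, we_3_4, we_4_5, we_5_6, we_6_7, we_7_8]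
      · rw [s4, s5, a_eq_pp T (z 4) (z 5), hp_4_5] <;> linarith only [we_0_1, we_1_2, we_2_3, we_3_4, we_4_5, we_5_6, we_6_7, we_7_8]
      · rw [s4, s6, z_4_6]
      · rw [s4, s7, z_4_7]
      · rw [s4, s8, z_4_8]
      · rw [s5, (h2 (z 5)).2] <;> linarith only [we_0_1, we_1_2, we_2_3, we_3_4, we_4_5, we_5_6, we_6_7, we_7_8]
      · rw [s5, s6, a_eq_pp T (z 5) (z 6), hp_5_6] <;> linarith only [we_0_1, we_1_2, we_2_3, we_3_4, we_4_5, we_5_6, we_6_7, we_7_8]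
      · rw [s5, s7, z_5_7]
      · rw [s5, s8, z_5_8]
      · rw [s6, (h2 (z 6)).2] <;> linarith only [we_0_1, we_1_2, we_2_3, we_3_4, we_4_5, we_5_6, we_6_7, we_7_8]
      · rw [s6, s7, a_eq_pp T (z 6) (z 7), hp_6_7] <;> linarith only [we_0_1, we_1_2, we_2_3, we_3_4, we_4_5, we_5_6, we_6_7, we_7_8]
      · rw [s6, s8, z_6_8]
      · rw [s7, (h2 (z 7)).2] <;> linarith only [we_0_1, we_1_2, we_2_3, we_3_4, we_4_5, we_5_6, we_6_7, we_7_8]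
      · rw [s7, s8, a_eq_pp T (z 7) (z 8), hp_7_8] <;> linarith only [we_0_1, we_1_2, we_2_3, we_3_4, we_4_5, we_5_6, we_6_7, we_7_8]
      · rw [s8, (h2 (z 8)).2] <;> linarith only [we_0_1, we_1_2, we_2_3, we_3_4, we_4_5, we_5_6, we_6_7, we_7_8]
    · skip
      rw [hp_0_1] at q_0
      rw [hp_1_0, hp_1_2] at q_1
      rw [hp_2_1, hp_2_3] at q_2
      rw [hp_3_2, hp_3_4] at q_3
      rw [hp_4_3, hp_4_5] at q_4
      rw [hp_5_4, hp_5_6] at q_5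
      rw [hp_6_5, hp_6_7] at q_6
      rw [hp_7_6, hp_7_8] at q_7
      rw [hp_8_7] at q_8
      rw [hp_0_1, hp_1_0] at we_0_1
      rw [hp_1_2, hp_2_1] at we_1_2
      rw [hp_2_3, hp_3_2] at we_2_3
      rw [hp_3_4, hp_4_3] at we_3_4
      rw [hp_4_5, hp_5_4] at we_4_5
      rw [hp_5_6, hp_6_5] at we_5_6
      rw [hp_6_7, hp_7_6] at we_6_7
      rw [hp_7_8, hp_8_7] at we_7_8
      obtain ⟨σ, hσ⟩ := permOf (fun i => z (![0, 1, 2, 3, 4, 5, 6, 7, 8] i)) (hz.comp (by decide))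
      have s0 : σ 0 = z 0 := hσ 0
      have s1 : σ 1 = z 1 := hσ 1
      have s2 : σ 2 = z 2 := hσ 2
      have s3 : σ 3 = z 3 := hσ 3
      have s4 : σ 4 = z 4 := hσ 4
      have s5 : σ 5 = z 5 := hσ 5
      have s6 : σ 6 = z 6 := hσ 6
      have s7 : σ 7 = z 7 := hσ 7
      have s8 : σ 8 = z 8 := hσ 8
      unfold Goal9
      refine ⟨σ, T.m (z 0), T.w (z 0), Or.inr (Or.inr (Or.inl ⟨?_, ?_, ?_, ?_, ?_, ?_, ?_, ?_, ?_, ?_, ?_, ?_, ?_, ?_, ?_, ?_, ?_, ?_, ?_, ?_, ?_, ?_, ?_, ?_, ?_, ?_, ?_, ?_, ?_, ?_, ?_, ?_, ?_, ?_, ?_, ?_, ?_, ?_, ?_, ?_, ?_, ?_, ?_, ?_, ?_, ?_, ?_, ?_, ?_, ?_, ?_, ?_, ?_, ?_, ?_, ?_, ?_, ?_, ?_, ?_, ?_, ?_, ?_⟩))⟩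
      · rw [s0] <;> linarith only [q_0, q_1, q_2, q_3, q_4, q_5, q_6, q_7, q_8]
      · rw [s1] <;> linarith only [q_0, q_1, q_2, q_3, q_4, q_5, q_6, q_7, q_8]
      · rw [s2] <;> linarith only [q_0, q_1, q_2, q_3, q_4, q_5, q_6, q_7, q_8]
      · rw [s3] <;> linarith only [q_0, q_1, q_2, q_3, q_4, q_5, q_6, q_7, q_8]
      · rw [s4] <;> linarith only [q_0, q_1, q_2, q_3, q_4, q_5, q_6, q_7, q_8]
      · rw [s5] <;> linarith only [q_0, q_1, q_2, q_3, q_4, q_5, q_6, q_7, q_8]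
      · rw [s6] <;> linarith only [q_0, q_1, q_2, q_3, q_4, q_5, q_6, q_7, q_8]
      · rw [s7] <;> linarith only [q_0, q_1, q_2, q_3, q_4, q_5, q_6, q_7, q_8]
      · rw [s8] <;> linarith only [q_0, q_1, q_2, q_3, q_4, q_5, q_6, q_7, q_8]
      · rw [s0] <;> linarith only [we_0_1, we_1_2, we_2_3, we_3_4, we_4_5, we_5_6, we_6_7, we_7_8]
      · rw [s1] <;> linarith only [we_0_1, we_1_2, we_2_3, we_3_4, we_4_5, we_5_6, we_6_7, we_7_8]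
      · rw [s2] <;> linarith only [we_0_1, we_1_2, we_2_3, we_3_4, we_4_5, we_5_6, we_6_7, we_7_8]
      · rw [s3] <;> linarith only [we_0_1, we_1_2, we_2_3, we_3_4, we_4_5, we_5_6, we_6_7, we_7_8]
      · rw [s4] <;> linarith only [we_0_1, we_1_2, we_2_3, we_3_4, we_4_5, we_5_6, we_6_7, we_7_8]
      · rw [s5] <;> linarith only [we_0_1, we_1_2, we_2_3, we_3_4, we_4_5, we_5_6, we_6_7, we_7_8]
      · rw [s6] <;> linarith only [we_0_1, we_1_2, we_2_3, we_3_4, we_4_5, we_5_6, we_6_7, we_7_8]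
      · rw [s7] <;> linarith only [we_0_1, we_1_2, we_2_3, we_3_4, we_4_5, we_5_6, we_6_7, we_7_8]
      · rw [s8] <;> linarith only [we_0_1, we_1_2, we_2_3, we_3_4, we_4_5, we_5_6, we_6_7, we_7_8]
      · rw [s0, (h2 (z 0)).2] <;> linarith only [we_0_1, we_1_2, we_2_3, we_3_4, we_4_5, we_5_6, we_6_7, we_7_8]
      · rw [s0, s1, a_eq_pp T (z 0) (z 1), hp_0_1] <;> linarith only [we_0_1, we_1_2, we_2_3, we_3_4, we_4_5, we_5_6, we_6_7, we_7_8]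
      · rw [s0, s2, z_0_2]
      · rw [s0, s3, z_0_3]
      · rw [s0, s4, z_0_4]
      · rw [s0, s5, z_0_5]
      · rw [s0, s6, z_0_6]
      · rw [s0, s7, z_0_7]
      · rw [s0, s8, z_0_8]
      · rw [s1, (h2 (z 1)).2] <;> linarith only [we_0_1, we_1_2, we_2_3, we_3_4, we_4_5, we_5_6, we_6_7, we_7_8]
      · rw [s1, s2, a_eq_pp T (z 1) (z 2), hp_1_2] <;> linarith only [we_0_1, we_1_2, we_2_3, we_3_4, we_4_5, we_5_6, we_6_7, we_7_8]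
      · rw [s1, s3, z_1_3]
      · rw [s1, s4, z_1_4]
      · rw [s1, s5, z_1_5]
      · rw [s1, s6, z_1_6]
      · rw [s1, s7, z_1_7]
      · rw [s1, s8, z_1_8]
      · rw [s2, (h2 (z 2)).2] <;> linarith only [we_0_1, we_1_2, we_2_3, we_3_4, we_4_5, we_5_6, we_6_7, we_7_8]
      · rw [s2, s3, a_eq_pp T (z 2) (z 3), hp_2_3] <;> linarith only [we_0_1, we_1_2, we_2_3, we_3_4, we_4_5, we_5_6, we_6_7, we_7_8]
      · rw [s2, s4, z_2_4]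
      · rw [s2, s5, z_2_5]
      · rw [s2, s6, z_2_6]
      · rw [s2, s7, z_2_7]
      · rw [s2, s8, z_2_8]
      · rw [s3, (h2 (z 3)).2] <;> linarith only [we_0_1, we_1_2, we_2_3, we_3_4, we_4_5, we_5_6, we_6_7, we_7_8]
      · rw [s3, s4, a_eq_pp T (z 3) (z 4), hp_3_4] <;> linarith only [we_0_1, we_1_2, we_2_3, we_3_4, we_4_5, we_5_6, we_6_7, we_7_8]
      · rw [s3, s5, z_3_5]
      · rw [s3, s6, z_3_6]
      · rw [s3, s7, z_3_7]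
      · rw [s3, s8, z_3_8]
      · rw [s4, (h2 (z 4)).2] <;> linarith only [we_0_1, we_1_2, we_2_3, we_3_4, we_4_5, we_5_6, we_6_7, we_7_8]
      · rw [s4, s5, a_eq_pp T (z 4) (z 5), hp_4_5] <;> linarith only [we_0_1, we_1_2, we_2_3, we_3_4, we_4_5, we_5_6, we_6_7, we_7_8]
      · rw [s4, s6, z_4_6]
      · rw [s4, s7, z_4_7]
      · rw [s4, s8, z_4_8]
      · rw [s5, (h2 (z 5)).2] <;> linarith only [we_0_1, we_1_2, we_2_3, we_3_4, we_4_5, we_5_6, we_6_7, we_7_8]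
      · rw [s5, s6, a_eq_pp T (z 5) (z 6), hp_5_6] <;> linarith only [we_0_1, we_1_2, we_2_3, we_3_4, we_4_5, we_5_6, we_6_7, we_7_8]
      · rw [s5, s7, z_5_7]
      · rw [s5, s8, z_5_8]
      · rw [s6, (h2 (z 6)).2] <;> linarith only [we_0_1, we_1_2, we_2_3, we_3_4, we_4_5, we_5_6, we_6_7, we_7_8]
      · rw [s6, s7, a_eq_pp T (z 6) (z 7), hp_6_7] <;> linarith only [we_0_1, we_1_2, we_2_3, we_3_4, we_4_5, we_5_6, we_6_7, we_7_8]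
      · rw [s6, s8, z_6_8]
      · rw [s7, (h2 (z 7)).2] <;> linarith only [we_0_1, we_1_2, we_2_3, we_3_4, we_4_5, we_5_6, we_6_7, we_7_8]
      · rw [s7, s8, a_eq_pp T (z 7) (z 8), hp_7_8] <;> linarith only [we_0_1, we_1_2, we_2_3, we_3_4, we_4_5, we_5_6, we_6_7, we_7_8]
      · rw [s8, (h2 (z 8)).2] <;> linarith only [we_0_1, we_1_2, we_2_3, we_3_4, we_4_5, we_5_6, we_6_7, we_7_8]
  · skip
    rcases edge_cases T h2 z hz [1, 2, 3, 4, 5, 6, 7, 8] (by decide) (by decide) (by decide)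
      (List.IsChain.cons_cons e_1_2 (List.IsChain.cons_cons e_2_3 (List.IsChain.cons_cons e_3_4 (List.IsChain.cons_cons e_4_5 (List.IsChain.cons_cons e_5_6 (List.IsChain.cons_cons e_6_7 (List.IsChain.cons_cons e_7_8 (List.IsChain.singleton _)))))))) 6 (by decide) 7 8 rfl rfl with
      ⟨hp_7_8, hp_8_7⟩ | ⟨hp_7_8, hp_8_7⟩ | ⟨hp_7_8, hp_8_7⟩
    · skip
      rw [hp_0_1] at q_0
      rw [hp_1_0, hp_1_2] at q_1
      rw [hp_2_1, hp_2_3] at q_2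
      rw [hp_3_2, hp_3_4] at q_3
      rw [hp_4_3, hp_4_5] at q_4
      rw [hp_5_4, hp_5_6] at q_5
      rw [hp_6_5, hp_6_7] at q_6
      rw [hp_7_6, hp_7_8] at q_7
      rw [hp_8_7] at q_8
      rw [hp_0_1, hp_1_0] at we_0_1
      rw [hp_1_2, hp_2_1] at we_1_2
      rw [hp_2_3, hp_3_2] at we_2_3
      rw [hp_3_4, hp_4_3] at we_3_4
      rw [hp_4_5, hp_5_4] at we_4_5
      rw [hp_5_6, hp_6_5] at we_5_6
      rw [hp_6_7, hp_7_6] at we_6_7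
      rw [hp_7_8, hp_8_7] at we_7_8
      exfalso; linarith only [q_0, q_1, q_2, q_3, q_4, q_5, q_6, q_7, q_8, T.m_pos (z 0), T.m_pos (z 1), T.m_pos (z 2), T.m_pos (z 3), T.m_pos (z 4), T.m_pos (z 5), T.m_pos (z 6), T.m_pos (z 7), T.m_pos (z 8)]
    · skip
      rw [hp_0_1] at q_0
      rw [hp_1_0, hp_1_2] at q_1
      rw [hp_2_1, hp_2_3] at q_2
      rw [hp_3_2, hp_3_4] at q_3
      rw [hp_4_3, hp_4_5] at q_4
      rw [hp_5_4, hp_5_6] at q_5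
      rw [hp_6_5, hp_6_7] at q_6
      rw [hp_7_6, hp_7_8] at q_7
      rw [hp_8_7] at q_8
      rw [hp_0_1, hp_1_0] at we_0_1
      rw [hp_1_2, hp_2_1] at we_1_2
      rw [hp_2_3, hp_3_2] at we_2_3
      rw [hp_3_4, hp_4_3] at we_3_4
      rw [hp_4_5, hp_5_4] at we_4_5
      rw [hp_5_6, hp_6_5] at we_5_6
      rw [hp_6_7, hp_7_6] at we_6_7
      rw [hp_7_8, hp_8_7] at we_7_8
      obtain ⟨σ, hσ⟩ := permOf (fun i => z (![0, 1, 2, 3, 4, 5, 6, 7, 8] i)) (hz.comp (by decide))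
      have s0 : σ 0 = z 0 := hσ 0
      have s1 : σ 1 = z 1 := hσ 1
      have s2 : σ 2 = z 2 := hσ 2
      have s3 : σ 3 = z 3 := hσ 3
      have s4 : σ 4 = z 4 := hσ 4
      have s5 : σ 5 = z 5 := hσ 5
      have s6 : σ 6 = z 6 := hσ 6
      have s7 : σ 7 = z 7 := hσ 7
      have s8 : σ 8 = z 8 := hσ 8
      unfold Goal9
      refine ⟨σ, T.m (z 0), T.w (z 1), Or.inr (Or.inr (Or.inr (Or.inl ⟨?_, ?_, ?_, ?_, ?_, ?_, ?_, ?_, ?_, ?_, ?_, ?_, ?_, ?_, ?_, ?_, ?_, ?_, ?_, ?_, ?_, ?_, ?_, ?_, ?_, ?_, ?_, ?_, ?_, ?_, ?_, ?_, ?_, ?_, ?_, ?_, ?_, ?_, ?_, ?_, ?_, ?_, ?_, ?_, ?_, ?_, ?_, ?_, ?_, ?_, ?_, ?_, ?_, ?_, ?_, ?_, ?_, ?_, ?_, ?_, ?_, ?_, ?_⟩)))⟩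
      · rw [s0] <;> linarith only [q_0, q_1, q_2, q_3, q_4, q_5, q_6, q_7, q_8]
      · rw [s1] <;> linarith only [q_0, q_1, q_2, q_3, q_4, q_5, q_6, q_7, q_8]
      · rw [s2] <;> linarith only [q_0, q_1, q_2, q_3, q_4, q_5, q_6, q_7, q_8]
      · rw [s3] <;> linarith only [q_0, q_1, q_2, q_3, q_4, q_5, q_6, q_7, q_8]
      · rw [s4] <;> linarith only [q_0, q_1, q_2, q_3, q_4, q_5, q_6, q_7, q_8]
      · rw [s5] <;> linarith only [q_0, q_1, q_2, q_3, q_4, q_5, q_6, q_7, q_8]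
      · rw [s6] <;> linarith only [q_0, q_1, q_2, q_3, q_4, q_5, q_6, q_7, q_8]
      · rw [s7] <;> linarith only [q_0, q_1, q_2, q_3, q_4, q_5, q_6, q_7, q_8]
      · rw [s8] <;> linarith only [q_0, q_1, q_2, q_3, q_4, q_5, q_6, q_7, q_8]
      · rw [s0] <;> linarith only [we_0_1, we_1_2, we_2_3, we_3_4, we_4_5, we_5_6, we_6_7, we_7_8]
      · rw [s1] <;> linarith only [we_0_1, we_1_2, we_2_3, we_3_4, we_4_5, we_5_6, we_6_7, we_7_8]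
      · rw [s2] <;> linarith only [we_0_1, we_1_2, we_2_3, we_3_4, we_4_5, we_5_6, we_6_7, we_7_8]
      · rw [s3] <;> linarith only [we_0_1, we_1_2, we_2_3, we_3_4, we_4_5, we_5_6, we_6_7, we_7_8]
      · rw [s4] <;> linarith only [we_0_1, we_1_2, we_2_3, we_3_4, we_4_5, we_5_6, we_6_7, we_7_8]
      · rw [s5] <;> linarith only [we_0_1, we_1_2, we_2_3, we_3_4, we_4_5, we_5_6, we_6_7, we_7_8]
      · rw [s6] <;> linarith only [we_0_1, we_1_2, we_2_3, we_3_4, we_4_5, we_5_6, we_6_7, we_7_8]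
      · rw [s7] <;> linarith only [we_0_1, we_1_2, we_2_3, we_3_4, we_4_5, we_5_6, we_6_7, we_7_8]
      · rw [s8] <;> linarith only [we_0_1, we_1_2, we_2_3, we_3_4, we_4_5, we_5_6, we_6_7, we_7_8]
      · rw [s0, (h2 (z 0)).2] <;> linarith only [we_0_1, we_1_2, we_2_3, we_3_4, we_4_5, we_5_6, we_6_7, we_7_8]
      · rw [s0, s1, a_eq_pp T (z 0) (z 1), hp_0_1] <;> linarith only [we_0_1, we_1_2, we_2_3, we_3_4, we_4_5, we_5_6, we_6_7, we_7_8]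
      · rw [s0, s2, z_0_2]
      · rw [s0, s3, z_0_3]
      · rw [s0, s4, z_0_4]
      · rw [s0, s5, z_0_5]
      · rw [s0, s6, z_0_6]
      · rw [s0, s7, z_0_7]
      · rw [s0, s8, z_0_8]
      · rw [s1, (h2 (z 1)).2] <;> linarith only [we_0_1, we_1_2, we_2_3, we_3_4, we_4_5, we_5_6, we_6_7, we_7_8]
      · rw [s1, s2, a_eq_pp T (z 1) (z 2), hp_1_2] <;> linarith only [we_0_1, we_1_2, we_2_3, we_3_4, we_4_5, we_5_6, we_6_7, we_7_8]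
      · rw [s1, s3, z_1_3]
      · rw [s1, s4, z_1_4]
      · rw [s1, s5, z_1_5]
      · rw [s1, s6, z_1_6]
      · rw [s1, s7, z_1_7]
      · rw [s1, s8, z_1_8]
      · rw [s2, (h2 (z 2)).2] <;> linarith only [we_0_1, we_1_2, we_2_3, we_3_4, we_4_5, we_5_6, we_6_7, we_7_8]
      · rw [s2, s3, a_eq_pp T (z 2) (z 3), hp_2_3] <;> linarith only [we_0_1, we_1_2, we_2_3, we_3_4, we_4_5, we_5_6, we_6_7, we_7_8]
      · rw [s2, s4, z_2_4]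
      · rw [s2, s5, z_2_5]
      · rw [s2, s6, z_2_6]
      · rw [s2, s7, z_2_7]
      · rw [s2, s8, z_2_8]
      · rw [s3, (h2 (z 3)).2] <;> linarith only [we_0_1, we_1_2, we_2_3, we_3_4, we_4_5, we_5_6, we_6_7, we_7_8]
      · rw [s3, s4, a_eq_pp T (z 3) (z 4), hp_3_4] <;> linarith only [we_0_1, we_1_2, we_2_3, we_3_4, we_4_5, we_5_6, we_6_7, we_7_8]
      · rw [s3, s5, z_3_5]
      · rw [s3, s6, z_3_6]
      · rw [s3, s7, z_3_7]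
      · rw [s3, s8, z_3_8]
      · rw [s4, (h2 (z 4)).2] <;> linarith only [we_0_1, we_1_2, we_2_3, we_3_4, we_4_5, we_5_6, we_6_7, we_7_8]
      · rw [s4, s5, a_eq_pp T (z 4) (z 5), hp_4_5] <;> linarith only [we_0_1, we_1_2, we_2_3, we_3_4, we_4_5, we_5_6, we_6_7, we_7_8]
      · rw [s4, s6, z_4_6]
      · rw [s4, s7, z_4_7]
      · rw [s4, s8, z_4_8]
      · rw [s5, (h2 (z 5)).2] <;> linarith only [we_0_1, we_1_2, we_2_3, we_3_4, we_4_5, we_5_6, we_6_7, we_7_8]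
      · rw [s5, s6, a_eq_pp T (z 5) (z 6), hp_5_6] <;> linarith only [we_0_1, we_1_2, we_2_3, we_3_4, we_4_5, we_5_6, we_6_7, we_7_8]
      · rw [s5, s7, z_5_7]
      · rw [s5, s8, z_5_8]
      · rw [s6, (h2 (z 6)).2] <;> linarith only [we_0_1, we_1_2, we_2_3, we_3_4, we_4_5, we_5_6, we_6_7, we_7_8]
      · rw [s6, s7, a_eq_pp T (z 6) (z 7), hp_6_7] <;> linarith only [we_0_1, we_1_2, we_2_3, we_3_4, we_4_5, we_5_6, we_6_7, we_7_8]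
      · rw [s6, s8, z_6_8]
      · rw [s7, (h2 (z 7)).2] <;> linarith only [we_0_1, we_1_2, we_2_3, we_3_4, we_4_5, we_5_6, we_6_7, we_7_8]
      · rw [s7, s8, a_eq_pp T (z 7) (z 8), hp_7_8] <;> linarith only [we_0_1, we_1_2, we_2_3, we_3_4, we_4_5, we_5_6, we_6_7, we_7_8]
      · rw [s8, (h2 (z 8)).2] <;> linarith only [we_0_1, we_1_2, we_2_3, we_3_4, we_4_5, we_5_6, we_6_7, we_7_8]
    · skip
      rw [hp_0_1] at q_0
      rw [hp_1_0, hp_1_2] at q_1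
      rw [hp_2_1, hp_2_3] at q_2
      rw [hp_3_2, hp_3_4] at q_3
      rw [hp_4_3, hp_4_5] at q_4
      rw [hp_5_4, hp_5_6] at q_5
      rw [hp_6_5, hp_6_7] at q_6
      rw [hp_7_6, hp_7_8] at q_7
      rw [hp_8_7] at q_8
      rw [hp_0_1, hp_1_0] at we_0_1
      rw [hp_1_2, hp_2_1] at we_1_2
      rw [hp_2_3, hp_3_2] at we_2_3
      rw [hp_3_4, hp_4_3] at we_3_4
      rw [hp_4_5, hp_5_4] at we_4_5
      rw [hp_5_6, hp_6_5] at we_5_6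
      rw [hp_6_7, hp_7_6] at we_6_7
      rw [hp_7_8, hp_8_7] at we_7_8
      obtain ⟨σ, hσ⟩ := permOf (fun i => z (![8, 7, 6, 5, 4, 3, 2, 1, 0] i)) (hz.comp (by decide))
      have s0 : σ 0 = z 8 := hσ 0
      have s1 : σ 1 = z 7 := hσ 1
      have s2 : σ 2 = z 6 := hσ 2
      have s3 : σ 3 = z 5 := hσ 3
      have s4 : σ 4 = z 4 := hσ 4
      have s5 : σ 5 = z 3 := hσ 5
      have s6 : σ 6 = z 2 := hσ 6
      have s7 : σ 7 = z 1 := hσ 7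
      have s8 : σ 8 = z 0 := hσ 8
      unfold Goal9
      refine ⟨σ, T.m (z 0), T.w (z 8), Or.inr (Or.inl ⟨?_, ?_, ?_, ?_, ?_, ?_, ?_, ?_, ?_, ?_, ?_, ?_, ?_, ?_, ?_, ?_, ?_, ?_, ?_, ?_, ?_, ?_, ?_, ?_, ?_, ?_, ?_, ?_, ?_, ?_, ?_, ?_, ?_, ?_, ?_, ?_, ?_, ?_, ?_, ?_, ?_, ?_, ?_, ?_, ?_, ?_, ?_, ?_, ?_, ?_, ?_, ?_, ?_, ?_, ?_, ?_, ?_, ?_, ?_, ?_, ?_, ?_, ?_⟩)⟩
      · rw [s0] <;> linarith only [q_0, q_1, q_2, q_3, q_4, q_5, q_6, q_7, q_8]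
      · rw [s1] <;> linarith only [q_0, q_1, q_2, q_3, q_4, q_5, q_6, q_7, q_8]
      · rw [s2] <;> linarith only [q_0, q_1, q_2, q_3, q_4, q_5, q_6, q_7, q_8]
      · rw [s3] <;> linarith only [q_0, q_1, q_2, q_3, q_4, q_5, q_6, q_7, q_8]
      · rw [s4] <;> linarith only [q_0, q_1, q_2, q_3, q_4, q_5, q_6, q_7, q_8]
      · rw [s5] <;> linarith only [q_0, q_1, q_2, q_3, q_4, q_5, q_6, q_7, q_8]
      · rw [s6] <;> linarith only [q_0, q_1, q_2, q_3, q_4, q_5, q_6, q_7, q_8]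
      · rw [s7] <;> linarith only [q_0, q_1, q_2, q_3, q_4, q_5, q_6, q_7, q_8]
      · rw [s8] <;> linarith only [q_0, q_1, q_2, q_3, q_4, q_5, q_6, q_7, q_8]
      · rw [s0] <;> linarith only [we_0_1, we_1_2, we_2_3, we_3_4, we_4_5, we_5_6, we_6_7, we_7_8]
      · rw [s1] <;> linarith only [we_0_1, we_1_2, we_2_3, we_3_4, we_4_5, we_5_6, we_6_7, we_7_8]
      · rw [s2] <;> linarith only [we_0_1, we_1_2, we_2_3, we_3_4, we_4_5, we_5_6, we_6_7, we_7_8]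
      · rw [s3] <;> linarith only [we_0_1, we_1_2, we_2_3, we_3_4, we_4_5, we_5_6, we_6_7, we_7_8]
      · rw [s4] <;> linarith only [we_0_1, we_1_2, we_2_3, we_3_4, we_4_5, we_5_6, we_6_7, we_7_8]
      · rw [s5] <;> linarith only [we_0_1, we_1_2, we_2_3, we_3_4, we_4_5, we_5_6, we_6_7, we_7_8]
      · rw [s6] <;> linarith only [we_0_1, we_1_2, we_2_3, we_3_4, we_4_5, we_5_6, we_6_7, we_7_8]
      · rw [s7] <;> linarith only [we_0_1, we_1_2, we_2_3, we_3_4, we_4_5, we_5_6, we_6_7, we_7_8]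
      · rw [s8] <;> linarith only [we_0_1, we_1_2, we_2_3, we_3_4, we_4_5, we_5_6, we_6_7, we_7_8]
      · rw [s0, (h2 (z 8)).2] <;> linarith only [we_0_1, we_1_2, we_2_3, we_3_4, we_4_5, we_5_6, we_6_7, we_7_8]
      · rw [s0, s1, a_eq_pp T (z 8) (z 7), hp_8_7] <;> linarith only [we_0_1, we_1_2, we_2_3, we_3_4, we_4_5, we_5_6, we_6_7, we_7_8]
      · rw [s0, s2, z_8_6]
      · rw [s0, s3, z_8_5]
      · rw [s0, s4, z_8_4]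
      · rw [s0, s5, z_8_3]
      · rw [s0, s6, z_8_2]
      · rw [s0, s7, z_8_1]
      · rw [s0, s8, z_8_0]
      · rw [s1, (h2 (z 7)).2] <;> linarith only [we_0_1, we_1_2, we_2_3, we_3_4, we_4_5, we_5_6, we_6_7, we_7_8]
      · rw [s1, s2, a_eq_pp T (z 7) (z 6), hp_7_6] <;> linarith only [we_0_1, we_1_2, we_2_3, we_3_4, we_4_5, we_5_6, we_6_7, we_7_8]
      · rw [s1, s3, z_7_5]
      · rw [s1, s4, z_7_4]
      · rw [s1, s5, z_7_3]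
      · rw [s1, s6, z_7_2]
      · rw [s1, s7, z_7_1]
      · rw [s1, s8, z_7_0]
      · rw [s2, (h2 (z 6)).2] <;> linarith only [we_0_1, we_1_2, we_2_3, we_3_4, we_4_5, we_5_6, we_6_7, we_7_8]
      · rw [s2, s3, a_eq_pp T (z 6) (z 5), hp_6_5] <;> linarith only [we_0_1, we_1_2, we_2_3, we_3_4, we_4_5, we_5_6, we_6_7, we_7_8]
      · rw [s2, s4, z_6_4]
      · rw [s2, s5, z_6_3]
      · rw [s2, s6, z_6_2]
      · rw [s2, s7, z_6_1]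
      · rw [s2, s8, z_6_0]
      · rw [s3, (h2 (z 5)).2] <;> linarith only [we_0_1, we_1_2, we_2_3, we_3_4, we_4_5, we_5_6, we_6_7, we_7_8]
      · rw [s3, s4, a_eq_pp T (z 5) (z 4), hp_5_4] <;> linarith only [we_0_1, we_1_2, we_2_3, we_3_4, we_4_5, we_5_6, we_6_7, we_7_8]
      · rw [s3, s5, z_5_3]
      · rw [s3, s6, z_5_2]
      · rw [s3, s7, z_5_1]
      · rw [s3, s8, z_5_0]
      · rw [s4, (h2 (z 4)).2] <;> linarith only [we_0_1, we_1_2, we_2_3, we_3_4, we_4_5, we_5_6, we_6_7, we_7_8]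
      · rw [s4, s5, a_eq_pp T (z 4) (z 3), hp_4_3] <;> linarith only [we_0_1, we_1_2, we_2_3, we_3_4, we_4_5, we_5_6, we_6_7, we_7_8]
      · rw [s4, s6, z_4_2]
      · rw [s4, s7, z_4_1]
      · rw [s4, s8, z_4_0]
      · rw [s5, (h2 (z 3)).2] <;> linarith only [we_0_1, we_1_2, we_2_3, we_3_4, we_4_5, we_5_6, we_6_7, we_7_8]
      · rw [s5, s6, a_eq_pp T (z 3) (z 2), hp_3_2] <;> linarith only [we_0_1, we_1_2, we_2_3, we_3_4, we_4_5, we_5_6, we_6_7, we_7_8]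
      · rw [s5, s7, z_3_1]
      · rw [s5, s8, z_3_0]
      · rw [s6, (h2 (z 2)).2] <;> linarith only [we_0_1, we_1_2, we_2_3, we_3_4, we_4_5, we_5_6, we_6_7, we_7_8]
      · rw [s6, s7, a_eq_pp T (z 2) (z 1), hp_2_1] <;> linarith only [we_0_1, we_1_2, we_2_3, we_3_4, we_4_5, we_5_6, we_6_7, we_7_8]
      · rw [s6, s8, z_2_0]
      · rw [s7, (h2 (z 1)).2] <;> linarith only [we_0_1, we_1_2, we_2_3, we_3_4, we_4_5, we_5_6, we_6_7, we_7_8]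
      · rw [s7, s8, a_eq_pp T (z 1) (z 0), hp_1_0] <;> linarith only [we_0_1, we_1_2, we_2_3, we_3_4, we_4_5, we_5_6, we_6_7, we_7_8]
      · rw [s8, (h2 (z 0)).2] <;> linarith only [we_0_1, we_1_2, we_2_3, we_3_4, we_4_5, we_5_6, we_6_7, we_7_8]

theorem shape9_path (T : Models.NumericalType 9) (h2 : ∀ i, T.IsMinusTwo i)
    (z : Fin 9 → Fin 9) (hz : Function.Injective z)
    (e_0_1 : T.a (z 0) (z 1) ≠ 0) (e_1_2 : T.a (z 1) (z 2) ≠ 0) (e_2_3 : T.a (z 2) (z 3) ≠ 0) (e_3_4 : T.a (z 3) (z 4) ≠ 0) (e_4_5 : T.a (z 4) (z 5) ≠ 0) (e_5_6 : T.a (z 5) (z 6) ≠ 0) (e_6_7 : T.a (z 6) (z 7) ≠ 0) (e_7_8 : T.a (z 7) (z 8) ≠ 0) : Goal9 T := by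
  by_cases hc : T.a (z 0) (z 8) = 0
  · exact shape9_pathz T h2 z hz e_0_1 e_1_2 e_2_3 e_3_4 e_4_5 e_5_6 e_6_7 e_7_8 hc
  · exact shape9_cycle T h2 z hz e_0_1 e_1_2 e_2_3 e_3_4 e_4_5 e_5_6 e_6_7 e_7_8 hc

end Groth.Agent.H3.Gen
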