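import Mathlib

/-! Descent of locally constant functions on an (infinite) Galois group to a finite level,
and the additive and multiplicative forms of Hilbert's theorem 90 for continuous cocycles. -/

set_option autoImplicit false

namespace Groth.Agent.H3

open scoped Topology Pointwise
open IntermediateField

variable {K L : Type*} [Field K] [Field L] [Algebra K L]

/-- A locally constant function on `Gal(L/K)` is right-invariant under `Gal(L/E)` for some finite
normal `E/K`. -/
theorem exists_finite_normal_invariant [IsGalois K L] {X : Type*} (f : (L ≃ₐ[K] L) → X)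
    (hf : IsLocallyConstant f) :
    ∃ E : IntermediateField K L, FiniteDimensional K E ∧ Normal K E ∧
      ∀ σ τ : L ≃ₐ[K] L, τ ∈ E.fixingSubgroup → f (σ * τ) = f σ := by
  classical
  -- for each σ a finite normal extension E σ
  have h1 : ∀ σ : L ≃ₐ[K] L, ∃ E : IntermediateField K L, FiniteDimensional K E ∧ Normal K E ∧
      (E.fixingSubgroup : Set (L ≃ₐ[K] L)) ⊆ {τ | f (σ * τ) = f σ} := by
    intro σ
    rw [← krullTopology_mem_nhds_one_iff_of_normal]
    have hopen : IsOpen {ρ | f ρ = f σ} := hf.isOpen_fiber (f σ)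
    have hcont : Continuous (fun τ : L ≃ₐ[K] L => σ * τ) := continuous_const.mul continuous_id
    have : IsOpen {τ : L ≃ₐ[K] L | f (σ * τ) = f σ} := hopen.preimage hcont
    exact this.mem_nhds (by simp)
  choose E hfd hnorm hE using h1
  let U : (L ≃ₐ[K] L) → Set (L ≃ₐ[K] L) := fun σ => σ • ((E σ).fixingSubgroup : Set (L ≃ₐ[K] L))
  have hU : ∀ σ, U σ ∈ 𝓝 σ := by
    intro σ
    haveI := hfd σ
    have hop : IsOpen (U σ) := ((E σ).fixingSubgroup_isOpen).smul σ
    apply hop.mem_nhds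
    exact ⟨1, (E σ).fixingSubgroup.one_mem, by simp⟩
  obtain ⟨t, ht⟩ := CompactSpace.elim_nhds_subcover U hU
  let M : IntermediateField K L := ⨆ σ : t, E σ.1
  haveI : ∀ σ : t, FiniteDimensional K (E σ.1) := fun σ => hfd σ.1
  haveI : ∀ σ : t, Normal K (E σ.1) := fun σ => hnorm σ.1
  refine ⟨M, IntermediateField.finiteDimensional_iSup_of_finite, inferInstance, ?_⟩
  intro σ τ hτ
  have hσ : σ ∈ ⋃ x ∈ t, U x := by rw [ht]; trivial
  simp only [Set.mem_iUnion, exists_prop] at hσ
  obtain ⟨ρ, hρt, hρ⟩ := hσ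
  obtain ⟨h, hh, rfl⟩ := hρ
  have hle : E ρ ≤ M := le_iSup (fun σ : t => E σ.1) ⟨ρ, hρt⟩
  have hτ' : τ ∈ (E ρ).fixingSubgroup := IntermediateField.fixingSubgroup_antitone hle hτ
  have e1 : f (ρ * (h * τ)) = f ρ := hE ρ ((E ρ).fixingSubgroup.mul_mem hh hτ')
  have e2 : f (ρ * h) = f ρ := hE ρ hh
  simp only [smul_eq_mul]
  rw [mul_assoc, e1, e2]

/-- A locally constant function `Gal(L/K) → L` factors through a finite Galois level which contains
all its values. -/
theorem exists_finite_galois_factor [IsGalois K L] (f : (L ≃ₐ[K] L) → L)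
    (hf : IsLocallyConstant f) :
    ∃ M : IntermediateField K L, FiniteDimensional K M ∧ IsGalois K M ∧ (∀ σ, f σ ∈ M) ∧
      ∀ σ σ' : L ≃ₐ[K] L, (∀ x ∈ M, σ x = σ' x) → f σ = f σ' := by
  obtain ⟨E, hEfd, hEn, hE⟩ := exists_finite_normal_invariant f hf
  have hfin : (Set.range f).Finite := hf.range_finite
  haveI : FiniteDimensional K (IntermediateField.adjoin K (Set.range f)) := by
    haveI : Finite (Set.range f) := hfin
    exact IntermediateField.finiteDimensional_adjoin
      (fun x _ => (Algebra.IsIntegral.isIntegral x))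
  let M : IntermediateField K L :=
    IntermediateField.normalClosure K (↥(E ⊔ IntermediateField.adjoin K (Set.range f))) L
  have hle : E ⊔ IntermediateField.adjoin K (Set.range f) ≤ M :=
    IntermediateField.le_normalClosure _
  haveI : FiniteDimensional K M := normalClosure.is_finiteDimensional K _ L
  haveI : Normal K M := normalClosure.normal K _ L
  haveI : IsGalois K M := ⟨⟩
  refine ⟨M, inferInstance, inferInstance, ?_, ?_⟩
  · intro σ
    apply hle
    apply (le_sup_right : IntermediateField.adjoin K (Set.range f) ≤ _)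
    exact IntermediateField.subset_adjoin K _ ⟨σ, rfl⟩
  · intro σ σ' h
    have hmem : σ⁻¹ * σ' ∈ E.fixingSubgroup := by
      rw [IntermediateField.mem_fixingSubgroup_iff]
      intro x hx
      have hxM : x ∈ M := hle ((le_sup_left : E ≤ _) hx)
      have := h x hxM
      rw [AlgEquiv.mul_apply, ← this]
      exact σ.symm_apply_apply x
    have := hE σ (σ⁻¹ * σ') hmem
    rw [mul_inv_cancel_left] at this
    exact this.symm

/-- Additive Hilbert 90 for a finite Galois extension. -/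
theorem additive_hilbert90_finite {K M : Type*} [Field K] [Field M] [Algebra K M]
    [FiniteDimensional K M] [IsGalois K M] (a : (M ≃ₐ[K] M) → M)
    (ha : ∀ σ τ : M ≃ₐ[K] M, a (σ * τ) = a σ + σ (a τ)) :
    ∃ y : M, ∀ σ : M ≃ₐ[K] M, a σ = σ y - y := by
  classical
  obtain ⟨θ, hθ⟩ := Algebra.trace_surjective K M 1
  have htr : ∑ τ : M ≃ₐ[K] M, τ θ = 1 := by
    rw [← trace_eq_sum_automorphisms, hθ, map_one]
  let b : M := ∑ τ : M ≃ₐ[K] M, a τ * τ θ
  refine ⟨-b, fun σ => ?_⟩
  have hσb : σ b = b - a σ := by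
    simp only [b, map_sum, map_mul]
    have h1 : ∀ τ : M ≃ₐ[K] M, σ (a τ) * σ (τ θ) = a (σ * τ) * (σ * τ) θ - a σ * (σ * τ) θ := by
      intro τ
      rw [ha σ τ, AlgEquiv.mul_apply]
      ring
    rw [Finset.sum_congr rfl (fun τ _ => h1 τ), Finset.sum_sub_distrib, ← Finset.mul_sum]
    have h2 : ∑ τ : M ≃ₐ[K] M, a (σ * τ) * (σ * τ) θ = ∑ τ : M ≃ₐ[K] M, a τ * τ θ :=
      Fintype.sum_bijective (fun τ => σ * τ) (Group.mulLeft_bijective σ) _ _ (fun _ => rfl)
    have h3 : ∑ τ : M ≃ₐ[K] M, (σ * τ) θ = ∑ τ : M ≃ₐ[K] M, τ θ :=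
      Fintype.sum_bijective (fun τ => σ * τ) (Group.mulLeft_bijective σ) _ _ (fun _ => rfl)
    rw [h2, h3, htr, mul_one]
  rw [map_neg, hσb]
  ring

/-- Additive Hilbert 90 for continuous cocycles on the Galois group of a (possibly infinite) Galois
extension. -/
theorem additive_hilbert90 [IsGalois K L] (a : (L ≃ₐ[K] L) → L)
    (ha : ∀ σ τ : L ≃ₐ[K] L, a (σ * τ) = a σ + σ (a τ)) (hlc : IsLocallyConstant a) :
    ∃ y : L, ∀ σ : L ≃ₐ[K] L, a σ = σ y - y := by
  obtain ⟨M, hfd, hgal, hval, hfac⟩ := exists_finite_galois_factor a hlc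
  have hsurj := AlgEquiv.restrictNormalHom_surjective (F := K) (K₁ := ↥M) (E := L)
  let lift : (M ≃ₐ[K] M) → (L ≃ₐ[K] L) := Function.surjInv hsurj
  have hlift : ∀ ρ, AlgEquiv.restrictNormalHom M (lift ρ) = ρ := Function.surjInv_eq hsurj
  have hres : ∀ (σ : L ≃ₐ[K] L) (x : M), ((AlgEquiv.restrictNormalHom M σ) x : L) = σ x :=
    fun σ x => AlgEquiv.restrictNormalHom_apply M σ x
  have hagree : ∀ σ σ' : L ≃ₐ[K] L, AlgEquiv.restrictNormalHom M σ = AlgEquiv.restrictNormalHom M σ' →
      a σ = a σ' := by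
    intro σ σ' h
    apply hfac
    intro x hx
    rw [← hres σ ⟨x, hx⟩, ← hres σ' ⟨x, hx⟩, h]
  let abar : (M ≃ₐ[K] M) → M := fun ρ => ⟨a (lift ρ), hval _⟩
  have habar : ∀ ρ₁ ρ₂ : M ≃ₐ[K] M, abar (ρ₁ * ρ₂) = abar ρ₁ + ρ₁ (abar ρ₂) := by
    intro ρ₁ ρ₂
    apply Subtype.ext
    simp only [abar, IntermediateField.coe_add]
    have e1 : a (lift (ρ₁ * ρ₂)) = a (lift ρ₁ * lift ρ₂) := by
      apply hagree
      rw [map_mul, hlift, hlift, hlift]
    rw [e1, ha]
    congr 1
    have := hres (lift ρ₁) ⟨a (lift ρ₂), hval _⟩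
    rw [hlift] at this
    exact this.symm
  obtain ⟨y, hy⟩ := additive_hilbert90_finite abar habar
  refine ⟨(y : L), fun σ => ?_⟩
  have e2 : a σ = a (lift (AlgEquiv.restrictNormalHom M σ)) := by
    apply hagree
    rw [hlift]
  have e3 : a (lift (AlgEquiv.restrictNormalHom M σ)) =
      (((AlgEquiv.restrictNormalHom M σ) y : M) : L) - (y : L) := by
    have := congrArg (Subtype.val) (hy (AlgEquiv.restrictNormalHom M σ))
    simpa [abar] using this
  rw [e2, e3, hres]

/-- Hilbert 90 for continuous cocycles on the Galois group of a (possibly infinite) Galois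
extension. -/
theorem hilbert90 [IsGalois K L] (a : (L ≃ₐ[K] L) → Lˣ)
    (ha : ∀ σ τ : L ≃ₐ[K] L, a (σ * τ) = a σ * σ • a τ) (hlc : IsLocallyConstant a) :
    ∃ c : Lˣ, ∀ σ : L ≃ₐ[K] L, a σ = c⁻¹ * σ • c := by
  have hlc' : IsLocallyConstant (fun σ => ((a σ : Lˣ) : L)) := hlc.comp _
  obtain ⟨M, hfd, hgal, hval, hfac⟩ := exists_finite_galois_factor _ hlc'
  have hsurj := AlgEquiv.restrictNormalHom_surjective (F := K) (K₁ := ↥M) (E := L)
  let lift : (M ≃ₐ[K] M) → (L ≃ₐ[K] L) := Function.surjInv hsurj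
  have hlift : ∀ ρ, AlgEquiv.restrictNormalHom M (lift ρ) = ρ := Function.surjInv_eq hsurj
  have hres : ∀ (σ : L ≃ₐ[K] L) (x : M), ((AlgEquiv.restrictNormalHom M σ) x : L) = σ x :=
    fun σ x => AlgEquiv.restrictNormalHom_apply M σ x
  have hagree : ∀ σ σ' : L ≃ₐ[K] L, AlgEquiv.restrictNormalHom M σ = AlgEquiv.restrictNormalHom M σ' →
      a σ = a σ' := by
    intro σ σ' h
    apply Units.ext
    apply hfac
    intro x hx
    rw [← hres σ ⟨x, hx⟩, ← hres σ' ⟨x, hx⟩, h]
  let abar : (M ≃ₐ[K] M) → Mˣ := fun ρ =>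
    Units.mk0 ⟨((a (lift ρ) : Lˣ) : L), hval _⟩ (by
      intro h
      have := congrArg Subtype.val h
      simp at this)
  have habar_val : ∀ ρ, ((abar ρ : M) : L) = (a (lift ρ) : L) := fun ρ => rfl
  have habar : groupCohomology.IsMulCocycle₁ abar := by
    intro ρ₁ ρ₂
    apply Units.ext
    apply Subtype.ext
    rw [Units.val_mul, IntermediateField.coe_mul, habar_val, habar_val]
    have e1 : a (lift (ρ₁ * ρ₂)) = a (lift ρ₁ * lift ρ₂) := by
      apply hagree
      rw [map_mul, hlift, hlift, hlift]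
    rw [e1, ha, Units.val_mul, mul_comm]
    congr 1
    have := hres (lift ρ₁) (abar ρ₂ : M)
    rw [hlift, habar_val] at this
    rw [AlgEquiv.smul_units_def, Units.coe_map, MonoidHom.coe_coe,
      AlgEquiv.smul_units_def, Units.coe_map, MonoidHom.coe_coe]
    exact this.symm
  obtain ⟨β, hβ⟩ := groupCohomology.isMulCoboundary₁_of_isMulCocycle₁_of_aut_to_units abar habar
  let c : Lˣ := Units.map (algebraMap M L).toMonoidHom β
  refine ⟨c, fun σ => ?_⟩
  have e2 : a σ = a (lift (AlgEquiv.restrictNormalHom M σ)) := by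
    apply hagree
    rw [hlift]
  have e3 := hβ (AlgEquiv.restrictNormalHom M σ)
  rw [div_eq_iff_eq_mul] at e3
  have e4 := congrArg (fun u : Mˣ => ((u : M) : L)) e3
  simp only [Units.val_mul, IntermediateField.coe_mul, habar_val] at e4
  rw [AlgEquiv.smul_units_def, Units.coe_map, MonoidHom.coe_coe, hres] at e4
  apply Units.ext
  have hc : (c : L) ≠ 0 := c.ne_zero
  have hcval : (c : L) = ((β : M) : L) := rfl
  have hσc : ((σ • c : Lˣ) : L) = σ (c : L) := rfl
  rw [e2, Units.val_mul, Units.val_inv_eq_inv_val, hσc, eq_inv_mul_iff_mul_eq₀ hc, mul_comm, hcval]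
  exact e4.symm

end Groth.Agent.H3
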