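import Mathlib
import Groth.Prelude.Def_W4c6eohyperellchar2Gc

/-! Basis computations in the explicit Dieudonne module `GcMod c k`. -/

set_option autoImplicit false
universe u

namespace Groth.Agent.H3.GcMod

open W4c6eohyperellchar2

section basic
variable (c : ℕ) (k : Type u) [Field k]

theorem F_fst (v : GcMod c k) (i : Fin c) : (F c k v).1 i = coefX v (2 * (i.val + 1)) ^ 2 := rfl
theorem F_snd (v : GcMod c k) (i : Fin c) :
    (F c k v).2 i = coefX v (2 * (c - (i.val + 1)) + 1) ^ 2 := rfl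
theorem X_fst (n : ℕ) (i : Fin c) : (X c k n).1 i = if i.val + 1 = n then 1 else 0 := rfl
theorem X_snd (n : ℕ) : (X c k n).2 = 0 := rfl
theorem Y_fst (n : ℕ) : (Y c k n).1 = 0 := rfl
theorem Y_snd (n : ℕ) (i : Fin c) : (Y c k n).2 i = if i.val + 1 = n then 1 else 0 := rfl

theorem coefX_X (n m : ℕ) :
    coefX (X c k n) m = if (1 ≤ m ∧ m ≤ c) ∧ m = n then 1 else 0 := by
  unfold coefX
  by_cases h : 1 ≤ m ∧ m ≤ c
  · rw [dif_pos h, X_fst]
    show (if m - 1 + 1 = n then (1 : k) else 0) = if (1 ≤ m ∧ m ≤ c) ∧ m = n then 1 else 0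
    split_ifs <;> first | rfl | (exfalso; omega)
  · rw [dif_neg h, if_neg (fun h' => h h'.1)]

theorem coefY_Y (n m : ℕ) :
    coefY (Y c k n) m = if (1 ≤ m ∧ m ≤ c) ∧ m = n then 1 else 0 := by
  unfold coefY
  by_cases h : 1 ≤ m ∧ m ≤ c
  · rw [dif_pos h, Y_snd]
    show (if m - 1 + 1 = n then (1 : k) else 0) = if (1 ≤ m ∧ m ≤ c) ∧ m = n then 1 else 0
    split_ifs <;> first | rfl | (exfalso; omega)
  · rw [dif_neg h, if_neg (fun h' => h h'.1)]

theorem coefY_X (n m : ℕ) : coefY (X c k n) m = 0 := by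
  unfold coefY
  split_ifs <;> rfl

theorem coefX_Y (n m : ℕ) : coefX (Y c k n) m = 0 := by
  unfold coefX
  split_ifs <;> rfl

theorem F_X_even (m : ℕ) (h : 2 * m ≤ c) : F c k (X c k (2 * m)) = X c k m := by
  refine Prod.ext (funext fun i => ?_) (funext fun i => ?_)
  · have hi := i.isLt
    rw [F_fst, coefX_X, X_fst]
    split_ifs <;> first | (exfalso; omega) | simp
  · have hi := i.isLt
    rw [F_snd, coefX_X, X_snd]
    split_ifs <;> first | (exfalso; omega) | simp

theorem F_X_odd (l : ℕ) (hl : l % 2 = 1) (hlc : l ≤ c) :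
    F c k (X c k l) = Y c k (c - (l - 1) / 2) := by
  refine Prod.ext (funext fun i => ?_) (funext fun i => ?_)
  · have hi := i.isLt
    rw [F_fst, coefX_X, Y_fst]
    split_ifs <;> first | (exfalso; omega) | simp
  · have hi := i.isLt
    rw [F_snd, coefX_X, Y_snd]
    split_ifs <;> first | (exfalso; omega) | simp

theorem F_iter (l : ℕ) : ∀ e : ℕ, 2 ^ e * l ≤ c → (F c k)^[e] (X c k (2 ^ e * l)) = X c k l := by
  intro e
  induction e with
  | zero => intro _; simp
  | succ e ih =>
    intro h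
    have e1 : 2 ^ (e + 1) * l = 2 * (2 ^ e * l) := by ring
    rw [e1] at h
    rw [Function.iterate_succ_apply, e1, F_X_even c k (2 ^ e * l) h, ih (by omega)]

theorem decomp (v : GcMod c k) :
    v = ∑ i : Fin c, (v.1 i • X c k (i.val + 1) + v.2 i • Y c k (i.val + 1)) := by
  refine Prod.ext (funext fun i => ?_) (funext fun i => ?_)
  · rw [Prod.fst_sum, Finset.sum_apply, Finset.sum_eq_single i]
    · show v.1 i = v.1 i * (if i.val + 1 = i.val + 1 then 1 else 0) + v.2 i * 0
      rw [if_pos rfl, mul_one, mul_zero, add_zero]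
    · intro b _ hb
      show v.1 b * (if i.val + 1 = b.val + 1 then 1 else 0) + v.2 b * 0 = 0
      rw [if_neg (fun h => hb (Fin.ext (by omega))), mul_zero, mul_zero, add_zero]
    · intro h; exact absurd (Finset.mem_univ i) h
  · rw [Prod.snd_sum, Finset.sum_apply, Finset.sum_eq_single i]
    · show v.2 i = v.1 i * 0 + v.2 i * (if i.val + 1 = i.val + 1 then 1 else 0)
      rw [if_pos rfl, mul_one, mul_zero, zero_add]
    · intro b _ hb
      show v.1 b * 0 + v.2 b * (if i.val + 1 = b.val + 1 then 1 else 0) = 0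
      rw [if_neg (fun h => hb (Fin.ext (by omega))), mul_zero, mul_zero, add_zero]
    · intro h; exact absurd (Finset.mem_univ i) h

end basic

section perfect
variable (c : ℕ) (k : Type u) [Field k] [CharP k 2] [PerfectRing k 2]

theorem V_fst (v : GcMod c k) : (V c k v).1 = 0 := rfl
theorem V_snd (v : GcMod c k) (i : Fin c) :
    (V c k v).2 i = if (i.val + 1) % 2 = 0 then
      (frobeniusEquiv k 2).symm (coefY v ((i.val + 1) / 2))
      else (frobeniusEquiv k 2).symm (coefX v ((2 * c - i.val) / 2)) := rfl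

theorem V_X (j : ℕ) (h1 : j ≤ c) (h2 : c < 2 * j) :
    V c k (X c k j) = Y c k (2 * c - 2 * j + 1) := by
  refine Prod.ext rfl (funext fun i => ?_)
  have hi := i.isLt
  rw [V_snd, coefY_X, coefX_X, Y_snd]
  split_ifs <;> first | (exfalso; omega) | simp

theorem V_Y (m : ℕ) (h : 2 * m ≤ c) : V c k (Y c k m) = Y c k (2 * m) := by
  refine Prod.ext rfl (funext fun i => ?_)
  have hi := i.isLt
  rw [V_snd, coefY_Y, coefX_Y, Y_snd]
  split_ifs <;> first | (exfalso; omega) | simp

theorem V_iter : ∀ (n m : ℕ), 2 ^ n * m ≤ c → (V c k)^[n] (Y c k m) = Y c k (2 ^ n * m) := by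
  intro n
  induction n with
  | zero => intro m _; simp
  | succ n ih =>
    intro m h
    have e1 : 2 ^ (n + 1) * m = 2 ^ n * (2 * m) := by ring
    rw [e1] at h
    have h2 : 2 * m ≤ c := (Nat.le_mul_of_pos_left (2 * m) (pow_pos two_pos n)).trans h
    rw [Function.iterate_succ_apply, V_Y c k m h2, ih (2 * m) h, e1]

/-- all basis vectors `X_j` lie in an `F`-stable submodule containing the top ones -/
theorem X_mem (N : Submodule k (GcMod c k)) (hF : ∀ v ∈ N, F c k v ∈ N)
    (hX : ∀ j : ℕ, c < 2 * j → j ≤ c → X c k j ∈ N) :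
    ∀ j : ℕ, 1 ≤ j → j ≤ c → X c k j ∈ N := by
  have key : ∀ d j : ℕ, c - j ≤ d → 1 ≤ j → j ≤ c → X c k j ∈ N := by
    intro d
    induction d with
    | zero => intro j hd h1 hjc; exact hX j (by omega) hjc
    | succ d ih =>
      intro j hd h1 hjc
      by_cases h2 : c < 2 * j
      · exact hX j h2 hjc
      · have h3 := hF _ (ih (2 * j) (by omega) (by omega) (by omega))
        rwa [F_X_even c k j (by omega)] at h3
  exact fun j => key c j (by omega)

theorem Y_mem (N : Submodule k (GcMod c k)) (hV : ∀ v ∈ N, V c k v ∈ N)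
    (hX : ∀ j : ℕ, c < 2 * j → j ≤ c → X c k j ∈ N) :
    ∀ m : ℕ, 1 ≤ m → m ≤ c → Y c k m ∈ N := by
  intro m
  induction m using Nat.strong_induction_on with
  | _ m ih =>
    intro h1 hmc
    rcases Nat.even_or_odd' m with ⟨t, rfl | rfl⟩
    · have h3 := hV _ (ih t (by omega) (by omega) (by omega))
      rwa [V_Y c k t (by omega)] at h3
    · have h3 := hV _ (hX (c - t) (by omega) (by omega))
      rw [V_X c k (c - t) (by omega) (by omega)] at h3
      have e : 2 * c - 2 * (c - t) + 1 = 2 * t + 1 := by omega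
      rwa [e] at h3

end perfect

end Groth.Agent.H3.GcMod
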