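import Mathlib

/-! Helper: separating a generic point of an irreducible component from a quasi-compact open. -/

set_option autoImplicit false
universe u

namespace Groth.Agent.H3.GenericAvoid

open AlgebraicGeometry CategoryTheory TopologicalSpace

/-- elements of a minimal prime are nilpotent up to an element outside the prime -/
lemma exists_mul_pow_eq_zero {B : Type u} [CommRing B] (p : Ideal B) (hp : p ∈ minimalPrimes B)
    (x : B) (hx : x ∈ p) : ∃ s, s ∉ p ∧ ∃ N : ℕ, s * x ^ N = 0 := by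
  haveI : p.IsPrime := hp.1.1
  have h := IsLocalization.AtPrime.radical_map_of_mem_minimalPrimes
    (A := Localization.AtPrime p) p ⊥ hp
  have hx' : algebraMap B (Localization.AtPrime p) x ∈
      ((⊥ : Ideal B).map (algebraMap B (Localization.AtPrime p))).radical := by
    rw [h]
    exact Ideal.mem_map_of_mem _ hx
  rw [Ideal.map_bot] at hx'
  obtain ⟨N, hN⟩ := hx'
  rw [Ideal.mem_bot, ← map_pow, IsLocalization.map_eq_zero_iff p.primeCompl] at hN
  obtain ⟨m, hm⟩ := hN
  exact ⟨m.1, m.2, N, hm⟩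

/-- (A-spec) -/
lemma spec_avoid {B : Type u} [CommRing B] (p : PrimeSpectrum B)
    (hp : p.asIdeal ∈ minimalPrimes B) (T : Set (PrimeSpectrum B)) (hTc : IsCompact T)
    (hTo : IsOpen T) (hpT : p ∉ T) :
    ∃ s : B, s ∉ p.asIdeal ∧ Disjoint ((PrimeSpectrum.basicOpen s : Set (PrimeSpectrum B))) T := by
  classical
  obtain ⟨t, rfl⟩ := PrimeSpectrum.isCompact_isOpen_iff.mp ⟨hTc, hTo⟩
  have htp : ∀ f ∈ t, f ∈ p.asIdeal := by
    intro f hf
    have : p ∈ PrimeSpectrum.zeroLocus (t : Set B) := by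
      by_contra hcon
      exact hpT hcon
    exact (PrimeSpectrum.mem_zeroLocus _ _).mp this hf
  choose! sf hsf hN using fun f (hf : f ∈ t) => exists_mul_pow_eq_zero p.asIdeal hp f (htp f hf)
  choose! N hN using hN
  refine ⟨∏ f ∈ t, sf f, ?_, ?_⟩
  · rw [p.isPrime.prod_mem_iff]
    rintro ⟨f, hf, hmem⟩
    exact hsf f hf hmem
  · rw [Set.disjoint_left]
    intro q hq hqT
    have hq' : ∏ f ∈ t, sf f ∉ q.asIdeal := hq
    have : q ∉ PrimeSpectrum.zeroLocus (t : Set B) := hqT
    rw [PrimeSpectrum.mem_zeroLocus, Set.not_subset] at this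
    obtain ⟨f, hft, hfq⟩ := this
    have h1 : sf f ∉ q.asIdeal := fun hmem =>
      hq' (Ideal.mem_of_dvd _ (Finset.dvd_prod_of_mem sf hft) hmem)
    have h2 : sf f * f ^ N f ∉ q.asIdeal := by
      intro hmem
      rcases q.isPrime.mem_or_mem hmem with h | h
      · exact h1 h
      · exact hfq (q.isPrime.mem_of_pow_mem _ h)
    apply h2
    rw [hN f hft]
    exact Ideal.zero_mem _

/-- (A-affine) -/
lemma affine_avoid (Y : Scheme.{u}) [IsAffine Y] (η : Y) (hη : ∀ y : Y, y ⤳ η → y = η)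
    (T : Y.Opens) (hT : IsCompact (T : Set Y)) (hηT : η ∉ T) :
    ∃ s : Γ(Y, ⊤), η ∈ Y.basicOpen s ∧ Disjoint (Y.basicOpen s) T := by
  let φ := Y.toSpecΓ
  let ψ := inv φ
  have hψφ : ∀ y : Y, ψ.base (φ.base y) = y := by
    intro y
    change (φ ≫ ψ).base y = y
    rw [IsIso.hom_inv_id]
    rfl
  have hφψ : ∀ q, φ.base (ψ.base q) = q := by
    intro q
    change (ψ ≫ φ).base q = q
    rw [IsIso.inv_hom_id]
    rfl
  -- minimal prime
  have hmin : (φ.base η).asIdeal ∈ minimalPrimes Γ(Y, ⊤) := by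
    refine ⟨⟨(φ.base η).isPrime, bot_le⟩, ?_⟩
    rintro q ⟨hq, -⟩ hqle
    let q' : PrimeSpectrum Γ(Y, ⊤) := ⟨q, hq⟩
    have h1 : q' ⤳ φ.base η := (PrimeSpectrum.le_iff_specializes q' (φ.base η)).mp hqle
    have h2 : ψ.base q' ⤳ ψ.base (φ.base η) := h1.map ψ.base.hom.continuous
    rw [hψφ] at h2
    have h3 := hη _ h2
    have h4 : q' = φ.base η := by rw [← h3, hφψ]
    rw [← h4]
  let T' : Set (PrimeSpectrum Γ(Y, ⊤)) := ψ.base ⁻¹' (T : Set Y)
  have hT'o : IsOpen T' := T.isOpen.preimage ψ.base.hom.continuous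
  have hT'c : IsCompact T' := by
    have : T' = φ.base '' (T : Set Y) := by
      ext q
      constructor
      · intro hq
        exact ⟨ψ.base q, hq, hφψ q⟩
      · rintro ⟨y, hy, rfl⟩
        show ψ.base (φ.base y) ∈ T
        rw [hψφ]
        exact hy
    rw [this]
    exact hT.image φ.base.hom.continuous
  have hηT' : φ.base η ∉ T' := by
    show ψ.base (φ.base η) ∉ T
    rw [hψφ]
    exact hηT
  obtain ⟨s, hs, hdisj⟩ := spec_avoid (φ.base η) hmin T' hT'c hT'o hηT'
  have hbasic : ∀ y : Y, y ∈ Y.basicOpen s ↔ s ∉ (φ.base y).asIdeal := by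
    intro y
    rw [← Scheme.toSpecΓ_preimage_basicOpen]
    rfl
  refine ⟨s, (hbasic η).mpr hs, ?_⟩
  rw [← Opens.coe_disjoint, Set.disjoint_left]
  intro y hy hyT
  rw [Set.disjoint_left] at hdisj
  apply hdisj ((hbasic y).mp hy)
  show ψ.base (φ.base y) ∈ T
  rw [hψφ]
  exact hyT

lemma exists_affineOpen_mem (X : Scheme.{u}) (x : X) : ∃ V : X.Opens, IsAffineOpen V ∧ x ∈ V := by
  obtain ⟨_, ⟨V, hV : IsAffineOpen V, rfl⟩, hxV, -⟩ :=
    X.isBasis_affineOpens.exists_subset_of_mem_open (Set.mem_univ x) isOpen_univ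
  exact ⟨V, hV, hxV⟩

/-- (A): in a quasi-separated scheme, a generic point of an irreducible component not lying in a
quasi-compact open `U` has an affine open neighbourhood disjoint from `U`. -/
theorem exists_affine_nhd_disjoint (X : Scheme.{u}) [QuasiSeparatedSpace X] (η : X)
    (hη : closure ({η} : Set X) ∈ irreducibleComponents (X : Type u))
    (U : X.Opens) (hU : IsCompact (U : Set X)) (hηU : η ∉ U) :
    ∃ V : X.Opens, IsAffineOpen V ∧ η ∈ V ∧ Disjoint V U := by
  -- no proper generizations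
  have hgen : ∀ y : X, y ⤳ η → y = η := by
    intro y hy
    have h1 : closure ({η} : Set X) ⊆ closure {y} := by
      rw [specializes_iff_closure_subset] at hy
      exact hy
    have h2 : IsIrreducible (closure ({y} : Set X)) := isIrreducible_singleton.closure
    have h3 : closure ({y} : Set X) ⊆ closure {η} := hη.2 h2 h1
    have h4 : closure ({y} : Set X) = closure {η} := subset_antisymm h3 h1
    have h5 : Inseparable y η := by
      rw [inseparable_iff_closure_eq]
      exact h4
    exact h5.eq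
  obtain ⟨V₀, hV₀, hηV₀⟩ := exists_affineOpen_mem X η
  haveI : IsAffine V₀.toScheme := hV₀
  let η' : V₀.toScheme := ⟨η, hηV₀⟩
  have hη' : ∀ y : V₀.toScheme, y ⤳ η' → y = η' := by
    intro y hy
    have h1 : V₀.ι.base y ⤳ V₀.ι.base η' := hy.map V₀.ι.base.hom.continuous
    have h2 := hgen _ h1
    exact V₀.ι.isOpenEmbedding.injective h2
  let T : V₀.toScheme.Opens := V₀.ι ⁻¹ᵁ U
  have hTc : IsCompact (T : Set V₀.toScheme) := by
    have hinter : IsCompact ((U : Set X) ∩ (V₀ : Set X)) :=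
      QuasiSeparatedSpace.inter_isCompact _ _ U.isOpen hU V₀.isOpen hV₀.isCompact
    have : (T : Set V₀.toScheme) = V₀.ι.base ⁻¹' ((U : Set X) ∩ (V₀ : Set X)) := by
      ext y
      constructor
      · intro hy
        exact ⟨hy, y.2⟩
      · intro hy
        exact hy.1
    rw [this]
    refine V₀.ι.isOpenEmbedding.isInducing.isCompact_preimage' hinter ?_
    rw [Scheme.Opens.range_ι]
    exact Set.inter_subset_right
  have hηT : η' ∉ T := hηU
  obtain ⟨s, hηs, hdisj⟩ := affine_avoid V₀.toScheme η' hη' T hTc hηT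
  refine ⟨V₀.ι ''ᵁ (V₀.toScheme.basicOpen s), ?_, ⟨η', hηs, rfl⟩, ?_⟩
  · exact ((isAffineOpen_top V₀.toScheme).basicOpen s).image_of_isOpenImmersion V₀.ι
  · rw [← Opens.coe_disjoint, Set.disjoint_left]
    rintro _ ⟨y, hy, rfl⟩ hyU
    rw [← Opens.coe_disjoint, Set.disjoint_left] at hdisj
    exact hdisj hy hyU

end Groth.Agent.H3.GenericAvoid

namespace Groth.Agent.H3.GenericAvoid

open AlgebraicGeometry CategoryTheory TopologicalSpace

/-- generic points of irreducible components have no proper generizations -/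
lemma eq_of_specializes_generic {X : Type u} [TopologicalSpace X] [T0Space X] (η : X)
    (hη : closure ({η} : Set X) ∈ irreducibleComponents X) (y : X) (hy : y ⤳ η) : y = η := by
  have h1 : closure ({η} : Set X) ⊆ closure {y} := by
    rw [specializes_iff_closure_subset] at hy
    exact hy
  have h2 : IsIrreducible (closure ({y} : Set X)) := isIrreducible_singleton.closure
  have h3 : closure ({y} : Set X) ⊆ closure {η} := hη.2 h2 h1
  have h4 : closure ({y} : Set X) = closure {η} := subset_antisymm h3 h1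
  have h5 : Inseparable y η := by
    rw [inseparable_iff_closure_eq]
    exact h4
  exact h5.eq

/-- two distinct generic points have disjoint open neighbourhoods -/
lemma exists_disjoint_opens (X : Scheme.{u}) [QuasiSeparatedSpace X] (η η' : X)
    (hη : closure ({η} : Set X) ∈ irreducibleComponents (X : Type u))
    (hη' : closure ({η'} : Set X) ∈ irreducibleComponents (X : Type u)) (hne : η ≠ η') :
    ∃ A B : X.Opens, η ∈ A ∧ η' ∈ B ∧ Disjoint A B := by
  have h1 : ¬ (η' ⤳ η) := fun h => hne (eq_of_specializes_generic η hη η' h).symm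
  rw [not_specializes_iff_exists_open] at h1
  obtain ⟨O, hO, hηO, hη'O⟩ := h1
  obtain ⟨_, ⟨D, hD : IsAffineOpen D, rfl⟩, hηD, hDO⟩ :=
    X.isBasis_affineOpens.exists_subset_of_mem_open hηO hO
  obtain ⟨V, _, hη'V, hdisj⟩ := exists_affine_nhd_disjoint X η' hη' D hD.isCompact
    (fun h => hη'O (hDO h))
  exact ⟨D, V, hηD, hη'V, hdisj.symm⟩

theorem exists_pairwise_disjoint_affine (X : Scheme.{u}) [QuasiSeparatedSpace X] {n : ℕ}
    (η : Fin n → X) (hη : ∀ i, closure ({η i} : Set X) ∈ irreducibleComponents (X : Type u))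
    (hinj : Function.Injective η) :
    ∃ U : Fin n → X.Opens, (∀ i, IsAffineOpen (U i) ∧ η i ∈ U i) ∧
      (∀ i j, i ≠ j → Disjoint (U i) (U j)) ∧ IsAffineOpen (⨆ i, U i) := by
  classical
  have hpair : ∀ i j : Fin n, ∃ A B : X.Opens, i ≠ j → (η i ∈ A ∧ η j ∈ B ∧ Disjoint A B) := by
    intro i j
    by_cases hij : i = j
    · exact ⟨⊤, ⊤, fun h => absurd hij h⟩
    · obtain ⟨A, B, h1, h2, h3⟩ := exists_disjoint_opens X (η i) (η j) (hη i) (hη j)
        (fun h => hij (hinj h))
      exact ⟨A, B, fun _ => ⟨h1, h2, h3⟩⟩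
  choose A B hAB using hpair
  let O : Fin n → X.Opens := fun i =>
    ⟨⋂ j, (if j = i then Set.univ else ((A i j : Set X) ∩ (B j i : Set X))),
      isOpen_iInter_of_finite fun j => by
        split_ifs
        · exact isOpen_univ
        · exact (A i j).isOpen.inter (B j i).isOpen⟩
  have hηO : ∀ i, η i ∈ O i := by
    intro i
    show η i ∈ ⋂ j, (if j = i then Set.univ else ((A i j : Set X) ∩ (B j i : Set X)))
    rw [Set.mem_iInter]
    intro j
    split_ifs with hji
    · trivial
    · exact ⟨(hAB i j (Ne.symm hji)).1, (hAB j i hji).2.1⟩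
  have hOdisj : ∀ i j, i ≠ j → Disjoint (O i) (O j) := by
    intro i j hij
    rw [← Opens.coe_disjoint, Set.disjoint_left]
    intro x hxi hxj
    have h1 : x ∈ ⋂ k, (if k = i then Set.univ else ((A i k : Set X) ∩ (B k i : Set X))) := hxi
    have h2 : x ∈ ⋂ k, (if k = j then Set.univ else ((A j k : Set X) ∩ (B k j : Set X))) := hxj
    rw [Set.mem_iInter] at h1 h2
    have h3 := h1 j
    rw [if_neg (Ne.symm hij)] at h3
    have h4 := h2 i
    rw [if_neg hij] at h4
    have hd := (hAB i j hij).2.2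
    rw [← Opens.coe_disjoint, Set.disjoint_left] at hd
    exact hd h3.1 h4.2
  have hU : ∀ i, ∃ U : X.Opens, IsAffineOpen U ∧ η i ∈ U ∧ U ≤ O i := by
    intro i
    obtain ⟨_, ⟨D, hD : IsAffineOpen D, rfl⟩, hηD, hDO⟩ :=
      X.isBasis_affineOpens.exists_subset_of_mem_open (hηO i) (O i).isOpen
    exact ⟨D, hD, hηD, hDO⟩
  choose U hUaff hηU hUO using hU
  have hUdisj : ∀ i j, i ≠ j → Disjoint (U i) (U j) := fun i j hij =>
    (hOdisj i j hij).mono (hUO i) (hUO j)
  refine ⟨U, fun i => ⟨hUaff i, hηU i⟩, hUdisj, ?_⟩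
  exact IsAffineOpen.iSup_of_disjoint hUaff (fun i j hij => hUdisj i j hij)

end Groth.Agent.H3.GenericAvoid
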