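import Mathlib

set_option autoImplicit false
universe u

namespace Groth.Agent.H3.GrMap

section
variable {A : Type u} [CommRing A] {r : ℕ} (I : Ideal A) (c : ℕ)
  (φ : Fin r → (↥(I ^ c) →ₗ[A] A))

open Classical in
/-- extension by zero of `φ j` to all of `A` -/
noncomputable def psi (j : Fin r) (a : A) : A := if h : a ∈ I ^ c then φ j ⟨a, h⟩ else 0

lemma psi_eq (j : Fin r) {a : A} (h : a ∈ I ^ c) : psi I c φ j a = φ j ⟨a, h⟩ := by
  unfold psi
  rw [dif_pos h]

lemma psi_add (j : Fin r) {a b : A} (ha : a ∈ I ^ c) (hb : b ∈ I ^ c) :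
    psi I c φ j (a + b) = psi I c φ j a + psi I c φ j b := by
  rw [psi_eq I c φ j ha, psi_eq I c φ j hb, psi_eq I c φ j (add_mem ha hb), ← map_add]
  rfl

lemma psi_mul (j : Fin r) (a : A) {b : A} (hb : b ∈ I ^ c) :
    psi I c φ j (a * b) = a * psi I c φ j b := by
  rw [psi_eq I c φ j hb, psi_eq I c φ j (Ideal.mul_mem_left _ a hb)]
  have h : (⟨a * b, Ideal.mul_mem_left _ a hb⟩ : ↥(I ^ c)) = a • (⟨b, hb⟩ : ↥(I ^ c)) := rfl
  rw [h, map_smul, smul_eq_mul]

lemma hpow (n : ℕ) : I ^ ((n + 1) * c) = I ^ (n * c) * I ^ c := by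
  rw [add_mul, one_mul, pow_add]

lemma le_c (n : ℕ) : I ^ ((n + 1) * c) ≤ I ^ c :=
  Ideal.pow_le_pow_right (Nat.le_mul_of_pos_left c (Nat.succ_pos n))

lemma psi_mem (j : Fin r) (n : ℕ) {g : A} (hg : g ∈ I ^ (n * c) * I ^ c) :
    psi I c φ j g ∈ I ^ (n * c) := by
  induction hg using Submodule.mul_induction_on' with
  | mem_mul_mem y hy x hx =>
    rw [psi_mul I c φ j y hx]
    exact Ideal.mul_mem_right (psi I c φ j x) (I ^ (n * c)) hy
  | add a ha b hb iha ihb =>
    have hac : a ∈ I ^ c := (Ideal.mul_le_right (I := I ^ (n * c)) (J := I ^ c)) ha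
    have hbc : b ∈ I ^ c := (Ideal.mul_le_right (I := I ^ (n * c)) (J := I ^ c)) hb
    rw [psi_add I c φ j hac hbc]
    exact (I ^ (n * c)).add_mem iha ihb

lemma psi_mem_gen (j : Fin r) (J : Ideal A) {g : A} (hg : g ∈ J * I ^ c) :
    psi I c φ j g ∈ J := by
  induction hg using Submodule.mul_induction_on' with
  | mem_mul_mem y hy x hx =>
    rw [psi_mul I c φ j y hx]
    exact Ideal.mul_mem_right (psi I c φ j x) J hy
  | add a ha b hb iha ihb =>
    have hac : a ∈ I ^ c := (Ideal.mul_le_right (I := J) (J := I ^ c)) ha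
    have hbc : b ∈ I ^ c := (Ideal.mul_le_right (I := J) (J := I ^ c)) hb
    rw [psi_add I c φ j hac hbc]
    exact J.add_mem iha ihb

lemma psi_mem' (j : Fin r) (n : ℕ) {g : A} (hg : g ∈ I ^ ((n + 1) * c)) :
    psi I c φ j g ∈ I ^ (n * c) :=
  psi_mem I c φ j n (hpow I c n ▸ hg)

lemma psi_sum (f : Fin r → A) (hφ : ∀ x : ↥(I ^ c), (x : A) = ∑ j, f j * φ j x)
    {g : A} (hg : g ∈ I ^ c) : g = ∑ j, f j * psi I c φ j g := by
  simp only [psi_eq I c φ _ hg]
  exact hφ ⟨g, hg⟩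

/-- the graded pieces of the algebra map -/
noncomputable def D : ℕ → A → MvPolynomial (Fin r) A
  | 0, a => MvPolynomial.C a
  | (n + 1), a => ∑ j, D n (psi I c φ j a) * MvPolynomial.X j

lemma D_zero (a : A) : D I c φ 0 a = MvPolynomial.C a := rfl

lemma D_succ (n : ℕ) (a : A) :
    D I c φ (n + 1) a = ∑ j, D I c φ n (psi I c φ j a) * MvPolynomial.X j := rfl

lemma D_one {g : A} (hg : g ∈ I ^ c) :
    D I c φ 1 g = ∑ j, MvPolynomial.C (φ j ⟨g, hg⟩) * MvPolynomial.X j := by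
  rw [D_succ]
  simp only [D_zero, psi_eq I c φ _ hg]

lemma D_add (n : ℕ) : ∀ g ∈ I ^ (n * c), ∀ h ∈ I ^ (n * c),
    D I c φ n (g + h) = D I c φ n g + D I c φ n h := by
  induction n with
  | zero =>
    intro g _ h _
    simp [D_zero]
  | succ n ih =>
    intro g hg h hh
    have hgc := le_c I c n hg
    have hhc := le_c I c n hh
    simp only [D_succ]
    rw [← Finset.sum_add_distrib]
    refine Finset.sum_congr rfl (fun j _ => ?_)
    rw [psi_add I c φ j hgc hhc, ih _ (psi_mem' I c φ j n hg) _ (psi_mem' I c φ j n hh), add_mul]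

lemma D_smul (n : ℕ) : ∀ (a : A), ∀ g ∈ I ^ (n * c),
    D I c φ n (a * g) = a • D I c φ n g := by
  induction n with
  | zero =>
    intro a g _
    rw [D_zero, D_zero, MvPolynomial.smul_eq_C_mul, MvPolynomial.C_mul]
  | succ n ih =>
    intro a g hg
    have hgc := le_c I c n hg
    simp only [D_succ]
    rw [Finset.smul_sum]
    refine Finset.sum_congr rfl (fun j _ => ?_)
    rw [psi_mul I c φ j a hgc, ih a _ (psi_mem' I c φ j n hg), smul_mul_assoc]

lemma D_hom (n : ℕ) : ∀ g ∈ I ^ (n * c), (D I c φ n g).IsHomogeneous n := by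
  induction n with
  | zero =>
    intro g _
    exact MvPolynomial.isHomogeneous_C _ _
  | succ n ih =>
    intro g hg
    rw [D_succ]
    exact MvPolynomial.IsHomogeneous.sum _ _ _
      (fun j _ => (ih _ (psi_mem' I c φ j n hg)).mul (MvPolynomial.isHomogeneous_X _ j))

lemma D_mul (n m : ℕ) : ∀ g ∈ I ^ (n * c), ∀ h ∈ I ^ (m * c),
    D I c φ (n + m) (g * h) = D I c φ n g * D I c φ m h := by
  induction n with
  | zero =>
    intro g _ h hh
    rw [Nat.zero_add, D_smul I c φ m g h hh, D_zero, MvPolynomial.smul_eq_C_mul]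
  | succ n ih =>
    intro g hg h hh
    have hnm : n + 1 + m = (n + m) + 1 := by omega
    have hgc := le_c I c n hg
    rw [hnm, D_succ, D_succ, Finset.sum_mul]
    refine Finset.sum_congr rfl (fun j _ => ?_)
    rw [mul_comm g h, psi_mul I c φ j h hgc, mul_comm h, ih _ (psi_mem' I c φ j n hg) _ hh]
    ring

lemma D_aeval (f : Fin r → A) (hφ : ∀ x : ↥(I ^ c), (x : A) = ∑ j, f j * φ j x) (n : ℕ) :
    ∀ g ∈ I ^ (n * c), MvPolynomial.aeval f (D I c φ n g) = g := by
  induction n with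
  | zero =>
    intro g _
    simp [D_zero]
  | succ n ih =>
    intro g hg
    rw [D_succ, map_sum]
    simp only [map_mul, MvPolynomial.aeval_X, ih _ (psi_mem' I c φ _ n hg)]
    conv_rhs => rw [psi_sum I c φ f hφ (le_c I c n hg)]
    exact Finset.sum_congr rfl (fun j _ => mul_comm _ _)

lemma uniq (Ψ : ℕ → A → MvPolynomial (Fin r) A)
    (h1 : ∀ n : ℕ, ∀ g ∈ I ^ (n * c), ∀ h ∈ I ^ (n * c), Ψ n (g + h) = Ψ n g + Ψ n h)
    (h4 : ∀ n m : ℕ, ∀ g ∈ I ^ (n * c), ∀ h ∈ I ^ (m * c), Ψ (n + m) (g * h) = Ψ n g * Ψ m h)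
    (h5 : ∀ a : A, Ψ 0 a = MvPolynomial.C a)
    (h6 : ∀ (g : A) (hg : g ∈ I ^ c),
      Ψ 1 g = ∑ j, MvPolynomial.C (φ j ⟨g, hg⟩) * MvPolynomial.X j) :
    ∀ n : ℕ, ∀ g ∈ I ^ (n * c), Ψ n g = D I c φ n g := by
  intro n
  induction n with
  | zero =>
    intro g _
    rw [h5, D_zero]
  | succ n ih =>
    have key : ∀ g, g ∈ I ^ (n * c) * I ^ c → Ψ (n + 1) g = D I c φ (n + 1) g := by
      intro g hg'
      induction hg' using Submodule.mul_induction_on' with
      | mem_mul_mem y hy x hx =>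
        have hx1 : x ∈ I ^ (1 * c) := by rwa [one_mul]
        rw [h4 n 1 y hy x hx1, D_mul I c φ n 1 y hy x hx1, ih y hy, h6 x hx, D_one I c φ hx]
      | add a ha b hb iha ihb =>
        have ha' : a ∈ I ^ ((n + 1) * c) := by rw [hpow]; exact ha
        have hb' : b ∈ I ^ ((n + 1) * c) := by rw [hpow]; exact hb
        rw [h1 (n + 1) a ha' b hb', D_add I c φ (n + 1) a ha' b hb', iha, ihb]
    intro g hg
    exact key g (hpow I c n ▸ hg)

end

end Groth.Agent.H3.GrMap
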