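import Mathlib
import Groth.Agent.H3.GrMap

set_option autoImplicit false
universe u

open scoped TensorProduct

namespace Groth.Agent.H3.GrMapMod

open Groth.Agent.H3.GrMap

section General

lemma exists_map_on_span {B M P ι : Type*} [CommRing B] [AddCommGroup M] [Module B M]
    [AddCommGroup P] [Module B P] (Fam : ι → M) (val : ι → P)
    (hwd : ∀ l : ι →₀ B, Finsupp.linearCombination B Fam l = 0 →
      Finsupp.linearCombination B val l = 0)
    (S : Set M) (hS : S = Set.range Fam) :
    ∃ Ψ : ↥(Submodule.span B S) →ₗ[B] P,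
      ∀ (i : ι) (h : Fam i ∈ Submodule.span B S), Ψ ⟨Fam i, h⟩ = val i := by
  subst hS
  have hker : LinearMap.ker (Finsupp.linearCombination B Fam) ≤
      LinearMap.ker (Finsupp.linearCombination B val) := fun l hl => hwd l hl
  have hr : LinearMap.range (Finsupp.linearCombination B Fam) =
      Submodule.span B (Set.range Fam) := Finsupp.range_linearCombination _
  let e : ↥(Submodule.span B (Set.range Fam)) ≃ₗ[B]
      ↥(LinearMap.range (Finsupp.linearCombination B Fam)) := LinearEquiv.ofEq _ _ hr.symm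
  refine ⟨((LinearMap.ker (Finsupp.linearCombination B Fam)).liftQ
    (Finsupp.linearCombination B val) hker).comp
    (((Finsupp.linearCombination B Fam).quotKerEquivRange.symm.toLinearMap).comp
      e.toLinearMap), ?_⟩
  intro i h
  have h1 : Finsupp.linearCombination B Fam (Finsupp.single i 1) = Fam i := by
    simp [Finsupp.linearCombination_single]
  have h2 : e ⟨Fam i, h⟩ = ⟨Finsupp.linearCombination B Fam (Finsupp.single i 1),
      LinearMap.mem_range_self _ _⟩ := by
    apply Subtype.ext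
    simp [e, h1]
  simp only [LinearMap.comp_apply, LinearEquiv.coe_coe, h2,
    LinearMap.quotKerEquivRange_symm_apply_image]
  simp [Finsupp.linearCombination_single]

lemma ext_on_span {B M P : Type*} [CommRing B] [AddCommGroup M] [Module B M]
    [AddCommGroup P] [Module B P] (S : Set M) (F₁ F₂ : ↥(Submodule.span B S) →ₗ[B] P)
    (h : ∀ s (hs : s ∈ S), F₁ ⟨s, Submodule.subset_span hs⟩ = F₂ ⟨s, Submodule.subset_span hs⟩) :
    F₁ = F₂ := by
  apply LinearMap.ext
  rintro ⟨y, hy⟩
  induction hy using Submodule.span_induction with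
  | mem s hs => exact h s hs
  | zero =>
    change F₁ (0 : ↥(Submodule.span B S)) = F₂ 0
    rw [map_zero, map_zero]
  | add a b ha hb iha ihb =>
    change F₁ ((⟨a, ha⟩ : ↥(Submodule.span B S)) + ⟨b, hb⟩) = F₂ (⟨a, ha⟩ + ⟨b, hb⟩)
    rw [map_add, map_add, iha, ihb]
  | smul r a ha iha =>
    change F₁ (r • (⟨a, ha⟩ : ↥(Submodule.span B S))) = F₂ (r • ⟨a, ha⟩)
    rw [map_smul, map_smul, iha]

lemma aeval_map_alg {A B : Type*} [CommRing A] [CommRing B] [Algebra A B] {r : ℕ} (f : Fin r → A)
    (p : MvPolynomial (Fin r) A) :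
    MvPolynomial.aeval (fun j => algebraMap A B (f j)) (MvPolynomial.map (algebraMap A B) p)
      = algebraMap A B (MvPolynomial.aeval f p) := by
  induction p using MvPolynomial.induction_on with
  | C a => simp
  | add p q hp hq => simp only [map_add, hp, hq]
  | mul_X p j hp => simp only [map_mul, MvPolynomial.map_X, MvPolynomial.aeval_X, hp]

end General

section
variable {A : Type u} [CommRing A] {r : ℕ} (I : Ideal A) (c : ℕ)
  (φ : Fin r → (↥(I ^ c) →ₗ[A] A))
  (B : Type u) [CommRing B] [Algebra A B] (N : Type u) [AddCommGroup N] [Module B N]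

/-- elements of `N` killed by `I ^ c` -/
def torsC : Submodule B N where
  carrier := {z | ∀ h ∈ I ^ c, algebraMap A B h • z = 0}
  add_mem' := by
    intro a b ha hb h hh
    rw [smul_add, ha h hh, hb h hh, add_zero]
  zero_mem' := by
    intro h _
    exact smul_zero _
  smul_mem' := by
    intro b z hz h hh
    rw [smul_comm, hz h hh, smul_zero]

lemma mem_torsC (z : N) : z ∈ torsC I c B N ↔ ∀ h ∈ I ^ c, algebraMap A B h • z = 0 := Iff.rfl

lemma kill (t : N) (ht : t ∈ torsC I c B N) :
    ∀ r ∈ (I.map (algebraMap A B)) ^ c, r • t = 0 := by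
  have key : ∀ r ∈ Ideal.span ((algebraMap A B) '' ((I ^ c : Ideal A) : Set A)), r • t = 0 := by
    intro r hr'
    induction hr' using Submodule.span_induction with
    | mem y hy =>
      obtain ⟨h, hh, rfl⟩ := hy
      exact ht h hh
    | zero => exact zero_smul _ _
    | add a b _ _ iha ihb => rw [add_smul, iha, ihb, add_zero]
    | smul a b _ ihb => rw [smul_eq_mul, mul_smul, ihb, smul_zero]
  intro r hr
  rw [← Ideal.map_pow] at hr
  exact key r hr

lemma exists_good [IsNoetherianRing B] [Module.Finite B N] :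
    ∃ c' : ℕ, c ≤ c' ∧ (I.map (algebraMap A B)) ^ (c' - c) • (⊤ : Submodule B N) ⊓
      torsC I c B N = ⊥ := by
  obtain ⟨k, hk⟩ := Ideal.exists_pow_inf_eq_pow_smul (I.map (algebraMap A B)) (torsC I c B N)
  refine ⟨k + c + c, by omega, ?_⟩
  have hm : k + c + c - c = k + c := by omega
  rw [hm, hk (k + c) (by omega), Nat.add_sub_cancel_left, eq_bot_iff]
  refine Submodule.smul_le.mpr ?_
  intro r hr t ht
  rw [Submodule.mem_bot]
  exact kill I c B N t ht.2 r hr

variable {c}

/-- restriction of the `φ j` to a higher power -/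
noncomputable def restr {c' : ℕ} (hcc' : c ≤ c') : Fin r → (↥(I ^ c') →ₗ[A] A) :=
  fun j => (φ j).comp (Submodule.inclusion (Ideal.pow_le_pow_right hcc'))

lemma restr_apply {c' : ℕ} (hcc' : c ≤ c') (j : Fin r) (g : A) (hg : g ∈ I ^ c') :
    restr I φ hcc' j ⟨g, hg⟩ = φ j ⟨g, Ideal.pow_le_pow_right hcc' hg⟩ := rfl

variable {B N}

lemma lemmaZ {c' : ℕ} (hcc' : c ≤ c')
    (hgood : (I.map (algebraMap A B)) ^ (c' - c) • (⊤ : Submodule B N) ⊓ torsC I c B N = ⊥)
    (n : ℕ) {κ : Type u} (s : Finset κ) (g : κ → A) (x : κ → N)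
    (hg : ∀ i ∈ s, g i ∈ I ^ ((n + 1) * c'))
    (h0 : ∑ i ∈ s, algebraMap A B (g i) • x i = 0) (j : Fin r) :
    ∑ i ∈ s, algebraMap A B (psi I c' (restr I φ hcc') j (g i)) • x i = 0 := by
  have hgc' : ∀ i ∈ s, g i ∈ I ^ c' := fun i hi => le_c I c' n (hg i hi)
  have hgc : ∀ i ∈ s, g i ∈ I ^ c := fun i hi => Ideal.pow_le_pow_right hcc' (hgc' i hi)
  have hpsi : ∀ i ∈ s, psi I c' (restr I φ hcc') j (g i) = psi I c φ j (g i) := by
    intro i hi
    rw [psi_eq _ _ _ j (hgc' i hi), psi_eq _ _ _ j (hgc i hi)]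
    rfl
  rw [Finset.sum_congr rfl (fun i hi => by rw [hpsi i hi])]
  have hzT : (∑ i ∈ s, algebraMap A B (psi I c φ j (g i)) • x i) ∈ torsC I c B N := by
    rw [mem_torsC]
    intro h hh
    rw [Finset.smul_sum]
    have hterm : ∀ i ∈ s, algebraMap A B h • algebraMap A B (psi I c φ j (g i)) • x i
        = algebraMap A B (psi I c φ j h) • (algebraMap A B (g i) • x i) := by
      intro i hi
      rw [smul_smul, smul_smul, ← map_mul, ← map_mul]
      congr 2
      rw [← psi_mul I c φ j h (hgc i hi), mul_comm h (g i), psi_mul I c φ j (g i) hh, mul_comm]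
    rw [Finset.sum_congr rfl hterm, ← Finset.smul_sum, h0, smul_zero]
  have hzI : (∑ i ∈ s, algebraMap A B (psi I c φ j (g i)) • x i) ∈
      (I.map (algebraMap A B)) ^ (c' - c) • (⊤ : Submodule B N) := by
    refine Submodule.sum_mem _ (fun i hi => Submodule.smul_mem_smul ?_ Submodule.mem_top)
    rw [← Ideal.map_pow]
    refine Ideal.mem_map_of_mem _ ?_
    have hmem : g i ∈ I ^ (c' - c) * I ^ c := by
      rw [← pow_add, Nat.sub_add_cancel hcc']
      exact hgc' i hi
    exact psi_mem_gen I c φ j (I ^ (c' - c)) hmem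
  have hbot : (∑ i ∈ s, algebraMap A B (psi I c φ j (g i)) • x i) ∈ (⊥ : Submodule B N) := by
    rw [← hgood]
    exact Submodule.mem_inf.mpr ⟨hzI, hzT⟩
  exact (Submodule.mem_bot B).mp hbot

lemma core {c' : ℕ} (hcc' : c ≤ c')
    (hgood : (I.map (algebraMap A B)) ^ (c' - c) • (⊤ : Submodule B N) ⊓ torsC I c B N = ⊥)
    (n : ℕ) : ∀ {κ : Type u} (s : Finset κ) (g : κ → A) (x : κ → N),
    (∀ i ∈ s, g i ∈ I ^ (n * c')) → ∑ i ∈ s, algebraMap A B (g i) • x i = 0 →
    ∑ i ∈ s, MvPolynomial.map (algebraMap A B) (D I c' (restr I φ hcc') n (g i)) ⊗ₜ[B] x i = 0 := by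
  induction n with
  | zero =>
    intro κ s g x _ h0
    have hterm : ∀ i, MvPolynomial.map (algebraMap A B) (D I c' (restr I φ hcc') 0 (g i)) ⊗ₜ[B] x i
        = (1 : MvPolynomial (Fin r) B) ⊗ₜ[B] (algebraMap A B (g i) • x i) := by
      intro i
      rw [D_zero, MvPolynomial.map_C, ← MvPolynomial.algebraMap_eq,
        Algebra.algebraMap_eq_smul_one, TensorProduct.smul_tmul]
    simp only [hterm]
    rw [← TensorProduct.tmul_sum, h0, TensorProduct.tmul_zero]
  | succ n ih =>
    intro κ s g x hg h0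
    have hstep : ∀ j, ∑ i ∈ s, MvPolynomial.map (algebraMap A B)
        (D I c' (restr I φ hcc') n (psi I c' (restr I φ hcc') j (g i))) ⊗ₜ[B] x i = 0 :=
      fun j => ih s (fun i => psi I c' (restr I φ hcc') j (g i)) x
        (fun i hi => psi_mem' I c' (restr I φ hcc') j n (hg i hi))
        (lemmaZ I φ hcc' hgood n s g x hg h0 j)
    simp only [D_succ, map_sum, map_mul, MvPolynomial.map_X, TensorProduct.sum_tmul]
    rw [Finset.sum_comm]
    refine Finset.sum_eq_zero (fun j _ => ?_)
    have h := congrArg (LinearMap.rTensor N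
      (LinearMap.mulRight B (MvPolynomial.X j : MvPolynomial (Fin r) B))) (hstep j)
    simpa [map_sum] using h

end

end Groth.Agent.H3.GrMapMod
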