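import Mathlib

/-!
Helper: graded algebras generated by finitely many homogeneous elements of positive degree.
-/

set_option autoImplicit false
universe u

namespace Groth.Agent.H3.GradedGen

open scoped BigOperators

variable {R A : Type u} [CommRing R] [CommRing A] [Algebra R A]
variable {s : ℕ} (f : Fin s → A) (deg : Fin s → ℕ)

/-- monomial in the generators -/
def mon (m : Fin s → ℕ) : A := ∏ i, f i ^ m i

/-- weighted degree -/
def wdeg (m : Fin s → ℕ) : ℕ := ∑ i, m i * deg i

lemma mon_zero : mon f (0 : Fin s → ℕ) = 1 := by simp [mon]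

lemma mon_add (m m' : Fin s → ℕ) : mon f (m + m') = mon f m * mon f m' := by
  simp [mon, pow_add, Finset.prod_mul_distrib]

lemma wdeg_add (m m' : Fin s → ℕ) : wdeg deg (m + m') = wdeg deg m + wdeg deg m' := by
  simp [wdeg, add_mul, Finset.sum_add_distrib]

lemma mon_single (i : Fin s) (k : ℕ) : mon f (Pi.single i k) = f i ^ k := by
  classical
  unfold mon
  rw [Finset.prod_eq_single i]
  · simp
  · intro j _ hj; simp [Pi.single_eq_of_ne hj]
  · intro h; exact absurd (Finset.mem_univ i) h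

lemma wdeg_single (i : Fin s) (k : ℕ) : wdeg deg (Pi.single i k) = k * deg i := by
  classical
  unfold wdeg
  rw [Finset.sum_eq_single i]
  · simp
  · intro j _ hj; simp [Pi.single_eq_of_ne hj]
  · intro h; exact absurd (Finset.mem_univ i) h

variable (𝒜 : ℕ → Submodule R A) [GradedAlgebra 𝒜]

lemma mon_mem (hf : ∀ i, f i ∈ 𝒜 (deg i)) (m : Fin s → ℕ) : mon f m ∈ 𝒜 (wdeg deg m) := by
  have := SetLike.prod_pow_mem_graded 𝒜 deg f m (F := Finset.univ) (fun k _ => hf k)
  simpa [mon, wdeg] using this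

lemma closure_le_range_mon : (Submonoid.closure (Set.range f) : Set A) ⊆ Set.range (mon f) := by
  intro x hx
  induction hx using Submonoid.closure_induction with
  | mem x hx =>
    obtain ⟨i, rfl⟩ := hx
    exact ⟨Pi.single i 1, by rw [mon_single, pow_one]⟩
  | one => exact ⟨0, mon_zero f⟩
  | mul x y _ _ hx hy =>
    obtain ⟨m, rfl⟩ := hx
    obtain ⟨m', rfl⟩ := hy
    exact ⟨m + m', mon_add f m m'⟩

/-- the span of the monomials of weighted degree `N` -/
def S (R : Type u) {A : Type u} [CommRing R] [CommRing A] [Algebra R A] {s : ℕ} (f : Fin s → A)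
    (deg : Fin s → ℕ) (N : ℕ) : Submodule R A :=
  Submodule.span R {x | ∃ m : Fin s → ℕ, wdeg deg m = N ∧ mon f m = x}

lemma proj_mem_S (hf : ∀ i, f i ∈ 𝒜 (deg i)) (hgen : Algebra.adjoin R (Set.range f) = ⊤)
    (x : A) (N : ℕ) : GradedAlgebra.proj 𝒜 N x ∈ S R f deg N := by
  have hx : x ∈ Submodule.span R (Set.range (mon f)) := by
    have h1 : x ∈ Subalgebra.toSubmodule (Algebra.adjoin R (Set.range f)) := by
      rw [hgen]; trivial
    rw [Algebra.adjoin_eq_span] at h1
    exact Submodule.span_mono (closure_le_range_mon f) h1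
  induction hx using Submodule.span_induction with
  | mem x hx =>
    obtain ⟨m, rfl⟩ := hx
    rw [GradedAlgebra.proj_apply]
    by_cases h : wdeg deg m = N
    · rw [DirectSum.decompose_of_mem_same 𝒜 (h ▸ mon_mem f deg 𝒜 hf m)]
      exact Submodule.subset_span ⟨m, h, rfl⟩
    · rw [DirectSum.decompose_of_mem_ne 𝒜 (mon_mem f deg 𝒜 hf m) h]
      exact Submodule.zero_mem _
  | zero => rw [map_zero]; exact Submodule.zero_mem _
  | add x y _ _ hx hy => rw [map_add]; exact Submodule.add_mem _ hx hy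
  | smul r x _ hx => rw [map_smul]; exact Submodule.smul_mem _ r hx

lemma le_S (hf : ∀ i, f i ∈ 𝒜 (deg i)) (hgen : Algebra.adjoin R (Set.range f) = ⊤) (N : ℕ) :
    𝒜 N ≤ S R f deg N := by
  intro x hx
  have := proj_mem_S f deg 𝒜 hf hgen x N
  rwa [GradedAlgebra.proj_apply, DirectSum.decompose_of_mem_same 𝒜 hx] at this

lemma S_le (hf : ∀ i, f i ∈ 𝒜 (deg i)) (N : ℕ) : S R f deg N ≤ 𝒜 N := by
  refine Submodule.span_le.mpr ?_
  rintro x ⟨m, rfl, rfl⟩
  exact mon_mem f deg 𝒜 hf m

lemma lcm_pos (hdeg : ∀ i, 0 < deg i) : 0 < Finset.univ.lcm deg := by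
  apply Nat.pos_of_ne_zero
  rw [Ne, Finset.lcm_eq_zero_iff]
  rintro ⟨j, _, hj⟩
  exact (hdeg j).ne' hj

/-- `B_{n+l} = B_n B_l` for `n ≥ (s-1)(l-1)`. -/
theorem grade_add_lcm (hdeg : ∀ i, 0 < deg i) (hf : ∀ i, f i ∈ 𝒜 (deg i))
    (hgen : Algebra.adjoin R (Set.range f) = ⊤) (n : ℕ)
    (hn : (s - 1) * (Finset.univ.lcm deg - 1) ≤ n) :
    𝒜 (n + Finset.univ.lcm deg) = 𝒜 n * 𝒜 (Finset.univ.lcm deg) := by
  classical
  set l := Finset.univ.lcm deg with hl
  have hlpos : 0 < l := lcm_pos deg hdeg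
  apply le_antisymm
  · refine (le_S f deg 𝒜 hf hgen _).trans (Submodule.span_le.mpr ?_)
    rintro x ⟨m, hm, rfl⟩
    -- pigeonhole
    have hex : ∃ i, l ≤ m i * deg i := by
      by_contra hcon
      push Not at hcon
      have h1 : wdeg deg m ≤ ∑ _i : Fin s, (l - 1) :=
        Finset.sum_le_sum fun i _ => Nat.le_sub_one_of_lt (hcon i)
      rw [Finset.sum_const, Finset.card_univ, Fintype.card_fin, smul_eq_mul, hm] at h1
      rcases Nat.eq_zero_or_pos s with hs | hs
      · subst hs; omega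
      · have h2 : s * (l - 1) = (s - 1) * (l - 1) + (l - 1) := by
          conv_lhs => rw [show s = (s - 1) + 1 by omega]
          rw [add_mul, one_mul]
        omega
    obtain ⟨i, hi⟩ := hex
    obtain ⟨k, hk⟩ : deg i ∣ l := Finset.dvd_lcm (Finset.mem_univ i)
    have hkm : k ≤ m i := by
      rw [hk, mul_comm] at hi
      exact Nat.le_of_mul_le_mul_right hi (hdeg i)
    have hmsplit : m = (m - Pi.single i k) + Pi.single i k := by
      funext j
      by_cases hj : j = i
      · subst hj; simp; omega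
      · simp [Pi.single_eq_of_ne hj]
    have hw : wdeg deg (m - Pi.single i k) = n := by
      have := wdeg_add deg (m - Pi.single i k) (Pi.single i k)
      rw [← hmsplit, hm, wdeg_single] at this
      have hkl : k * deg i = l := by rw [hk, mul_comm]
      omega
    rw [hmsplit, mon_add, mon_single]
    refine Submodule.mul_mem_mul ?_ ?_
    · exact hw ▸ mon_mem f deg 𝒜 hf _
    · have := SetLike.pow_mem_graded (A := 𝒜) k (hf i)
      rw [smul_eq_mul, mul_comm, ← hk] at this
      exact this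
  · refine Submodule.mul_le.mpr fun a ha b hb => ?_
    exact SetLike.mul_mem_graded ha hb

/-- `B_0` is the image of `R`. -/
theorem grade_zero_eq_one (hdeg : ∀ i, 0 < deg i) (hf : ∀ i, f i ∈ 𝒜 (deg i))
    (hgen : Algebra.adjoin R (Set.range f) = ⊤) : 𝒜 0 = 1 := by
  apply le_antisymm
  · refine (le_S f deg 𝒜 hf hgen _).trans (Submodule.span_le.mpr ?_)
    rintro x ⟨m, hm, rfl⟩
    have hm0 : m = 0 := by
      funext i
      have : m i * deg i = 0 := by
        have := Finset.sum_eq_zero_iff.mp hm i (Finset.mem_univ i)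
        exact this
      rcases Nat.mul_eq_zero.mp this with h | h
      · exact h
      · exact absurd h (hdeg i).ne'
    rw [hm0, mon_zero]
    exact Submodule.one_le.mp le_rfl
  · rw [Submodule.one_le]
    exact SetLike.one_mem_graded 𝒜

/-- `B_{N + a l} = B_N B_{a l}` for `N ≥ (s-1)(l-1)`. -/
theorem grade_add_mul_lcm (hdeg : ∀ i, 0 < deg i) (hf : ∀ i, f i ∈ 𝒜 (deg i))
    (hgen : Algebra.adjoin R (Set.range f) = ⊤) (N : ℕ)
    (hN : (s - 1) * (Finset.univ.lcm deg - 1) ≤ N) (a : ℕ) :
    𝒜 (N + a * Finset.univ.lcm deg) = 𝒜 N * 𝒜 (a * Finset.univ.lcm deg) := by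
  apply le_antisymm
  · have key : ∀ a : ℕ, 𝒜 (N + a * Finset.univ.lcm deg) ≤ 𝒜 N * (𝒜 (Finset.univ.lcm deg)) ^ a := by
      intro a
      induction a with
      | zero => simp
      | succ a ih =>
        have h1 : N + (a + 1) * Finset.univ.lcm deg
            = (N + a * Finset.univ.lcm deg) + Finset.univ.lcm deg := by ring
        rw [h1, grade_add_lcm f deg 𝒜 hdeg hf hgen _ (hN.trans (Nat.le_add_right _ _)),
          pow_succ, ← mul_assoc]
        exact mul_le_mul' ih le_rfl
    refine (key a).trans (mul_le_mul' le_rfl ?_)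
    have : ∀ a : ℕ, (𝒜 (Finset.univ.lcm deg)) ^ a ≤ 𝒜 (a * Finset.univ.lcm deg) := by
      intro a
      induction a with
      | zero =>
        rw [pow_zero, zero_mul, Submodule.one_le]
        exact SetLike.one_mem_graded 𝒜
      | succ a ih =>
        rw [pow_succ, add_mul, one_mul]
        refine (mul_le_mul' ih le_rfl).trans ?_
        exact Submodule.mul_le.mpr fun x hx y hy => SetLike.mul_mem_graded hx hy
    exact this a
  · exact Submodule.mul_le.mpr fun x hx y hy => SetLike.mul_mem_graded hx hy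

end Groth.Agent.H3.GradedGen
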