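import Mathlib

set_option autoImplicit false
universe u

namespace Groth.Agent.H3.JacLemma

/-- Lemma P: in a Noetherian domain in which a fixed nonzero element lies in every nonzero prime,
every nonzero prime is maximal. -/
lemma primes_maximal_of_mem (D : Type u) [CommRing D] [IsDomain D] [IsNoetherianRing D]
    (g : D) (hg0 : g ≠ 0) (P1 : ∀ Q : Ideal D, Q.IsPrime → Q ≠ ⊥ → g ∈ Q) :
    ∀ Q : Ideal D, Q ≠ ⊥ → Q.IsPrime → Q.IsMaximal := by
  classical
  have hTfin : ((Ideal.span {g}).minimalPrimes).Finite :=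
    Ideal.finite_minimalPrimes_of_isNoetherianRing D _
  have P3 : ∀ Q : Ideal D, Q.IsPrime → Q ≠ ⊥ →
      Q ∈ (Ideal.span {g}).minimalPrimes := by
    intro Q hQ hQ0
    haveI := hQ
    have hfQ : Ideal.span {g} ≤ Q :=
      (Ideal.span_singleton_le_iff_mem _).mpr (P1 Q hQ hQ0)
    obtain ⟨Q₀, hQ₀T, hQ₀Q⟩ := Ideal.exists_minimalPrimes_le hfQ
    by_contra hQT
    have hlt : Q₀ < Q := lt_of_le_of_ne hQ₀Q (fun h => hQT (h ▸ hQ₀T))
    have hnot : ¬ ((Q : Set D) ⊆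
        ⋃ i ∈ (↑hTfin.toFinset : Set (Ideal D)), ((fun I => I) i : Ideal D)) := by
      intro hsub
      rw [Ideal.subset_union_prime (f := fun I => I) Q₀ Q₀
        (fun i hi _ _ => (hTfin.mem_toFinset.mp hi).1.1)] at hsub
      obtain ⟨P, hP, hQP⟩ := hsub
      have hPT := hTfin.mem_toFinset.mp hP
      have hPQ₀ : P ≤ Q₀ := hPT.2 ⟨hQ₀T.1.1, hQ₀T.1.2⟩ (hlt.le.trans hQP)
      exact absurd (hQP.trans hPQ₀) (not_le_of_gt hlt)
    rw [Set.not_subset] at hnot
    obtain ⟨x, hxQ, hxU⟩ := hnot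
    have hxT : ∀ P ∈ (Ideal.span {g}).minimalPrimes, x ∉ P := by
      intro P hP hxP
      apply hxU
      simp only [Set.mem_iUnion]
      exact ⟨P, by simpa using hP, hxP⟩
    have hx0 : x ≠ 0 := by
      rintro rfl
      exact hxT Q₀ hQ₀T Q₀.zero_mem
    have hxQ' : Ideal.span {x} ≤ Q := (Ideal.span_singleton_le_iff_mem _).mpr hxQ
    obtain ⟨Q₁, hQ₁m, hQ₁Q⟩ := Ideal.exists_minimalPrimes_le hxQ'
    haveI hQ₁p : Q₁.IsPrime := hQ₁m.1.1
    have hxQ₁ : x ∈ Q₁ := hQ₁m.1.2 (Ideal.mem_span_singleton_self x)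
    have hQ₁0 : Q₁ ≠ ⊥ := by
      intro h
      rw [h] at hxQ₁
      exact hx0 (by simpa using hxQ₁)
    have hht : Q₁.height ≤ 1 :=
      Ideal.height_le_one_of_isPrincipal_of_mem_minimalPrimes _ Q₁ hQ₁m
    have hfQ₁ : Ideal.span {g} ≤ Q₁ :=
      (Ideal.span_singleton_le_iff_mem _).mpr (P1 Q₁ hQ₁p hQ₁0)
    obtain ⟨P, hPT, hPQ₁⟩ := Ideal.exists_minimalPrimes_le hfQ₁
    haveI hPp : P.IsPrime := hPT.1.1
    have hP0 : P ≠ ⊥ := by
      intro h
      have hfP : g ∈ P := hPT.1.2 (Ideal.mem_span_singleton_self _)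
      rw [h] at hfP
      exact hg0 (by simpa using hfP)
    have hPeq : P = Q₁ := by
      by_contra hne
      have hlt' : P < Q₁ := lt_of_le_of_ne hPQ₁ hne
      have h1 := Ideal.height_add_one_le_of_lt_of_isPrime hlt'
      have h2 : P.height + 1 ≤ 1 := h1.trans hht
      have hPtop : P.height ≠ ⊤ := ne_top_of_le_ne_top ENat.one_ne_top (le_self_add.trans h2)
      have h3 : P.height = 0 := Order.lt_one_iff.mp ((ENat.add_one_le_iff hPtop).mp h2)
      exact hP0 (Ideal.height_eq_zero_iff_eq_bot.mp h3)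
    exact hxT P hPT (hPeq ▸ hxQ₁)
  intro Q hQ0 hQ
  obtain ⟨M, hM, hQM⟩ := Ideal.exists_le_maximal Q hQ.ne_top
  have hM0 : M ≠ ⊥ := fun h => hQ0 (le_bot_iff.mp (h ▸ hQM))
  have hMT := P3 M hM.isPrime hM0
  have hQT := P3 Q hQ hQ0
  have hMQ : M ≤ Q := hMT.2 ⟨hQT.1.1, hQT.1.2⟩ hQM
  rw [le_antisymm hQM hMQ]
  exact hM

/-- Lemma Q: in a Noetherian ring, a prime `p` avoiding `h` is contained in a prime `q` avoiding `h`
such that every prime strictly containing `q` is maximal. -/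
lemma exists_prime_above (A : Type u) [CommRing A] [IsNoetherianRing A]
    (p : Ideal A) (hp : p.IsPrime) (h : A) (hh : h ∉ p) :
    ∃ q : Ideal A, q.IsPrime ∧ p ≤ q ∧ h ∉ q ∧
      ∀ q' : Ideal A, q'.IsPrime → q < q' → q'.IsMaximal := by
  classical
  let S : Set (Ideal A) := {q | q.IsPrime ∧ p ≤ q ∧ h ∉ q}
  obtain ⟨(q : Ideal A), ⟨hq, hpq, hhq⟩, hmax⟩ := set_has_maximal_iff_noetherian.mpr
    (inferInstance : IsNoetherian A A) S ⟨p, hp, le_rfl, hh⟩
  haveI := hq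
  refine ⟨q, hq, hpq, hhq, ?_⟩
  have hfq : ∀ q' : Ideal A, q'.IsPrime → q < q' → h ∈ q' := by
    intro q' hq' hlt
    by_contra hn
    exact hmax q' ⟨hq', hpq.trans hlt.le, hn⟩ hlt
  have hmk : Function.Surjective (Ideal.Quotient.mk q) := Ideal.Quotient.mk_surjective
  have hg0 : Ideal.Quotient.mk q h ≠ 0 := by
    intro h0
    exact hhq (Ideal.Quotient.eq_zero_iff_mem.mp h0)
  have P1 : ∀ Q : Ideal (A ⧸ q), Q.IsPrime → Q ≠ ⊥ → Ideal.Quotient.mk q h ∈ Q := by
    intro Q hQ hQ0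
    haveI := hQ
    have hq' : (Q.comap (Ideal.Quotient.mk q)).IsPrime := Ideal.comap_isPrime _ Q
    have hle : q ≤ Q.comap (Ideal.Quotient.mk q) := by
      intro x hx
      rw [Ideal.mem_comap, Ideal.Quotient.eq_zero_iff_mem.mpr hx]
      exact Q.zero_mem
    have hne : q ≠ Q.comap (Ideal.Quotient.mk q) := by
      intro heq
      apply hQ0
      rw [← Ideal.map_comap_of_surjective _ hmk Q, ← heq, Ideal.map_quotient_self]
    exact hfq _ hq' (lt_of_le_of_ne hle hne)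
  have P4 := primes_maximal_of_mem (A ⧸ q) (Ideal.Quotient.mk q h) hg0 P1
  intro q' hq' hlt
  haveI := hq'
  have hker : RingHom.ker (Ideal.Quotient.mk q) ≤ q' := by
    rw [Ideal.mk_ker]
    exact hlt.le
  have hprime : (q'.map (Ideal.Quotient.mk q)).IsPrime :=
    Ideal.map_isPrime_of_surjective hmk hker
  have hcm : (q'.map (Ideal.Quotient.mk q)).comap (Ideal.Quotient.mk q) = q' :=
    Ideal.comap_map_mk hlt.le
  have hne : q'.map (Ideal.Quotient.mk q) ≠ ⊥ := by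
    intro h0
    rw [h0] at hcm
    have : q' ≤ q := by
      intro x hx
      rw [← hcm, Ideal.mem_comap] at hx
      exact Ideal.Quotient.eq_zero_iff_mem.mp (by simpa using hx)
    exact absurd hlt (not_lt_of_ge this)
  haveI hmaxm : (q'.map (Ideal.Quotient.mk q)).IsMaximal := P4 _ hne hprime
  rw [← hcm]
  exact Ideal.comap_isMaximal_of_surjective _ hmk

end Groth.Agent.H3.JacLemma
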