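import Groth.Agent.H2.NumType3

set_option autoImplicit false

namespace Groth.Agent.H3
open Finset Groth.Agent.H2

/-- exclusion of nonnegative nonzero vectors with nonnegative rows on their support -/
theorem quad_excl {n k : ℕ} (T : Models.NumericalType n) (v : Fin k ↪ Fin n) (hk : k < n)
    (x : Fin k → ℤ) (hx0 : ∀ j, 0 ≤ x j) (hx : x ≠ 0)
    (hrow : ∀ i, 0 < x i → 0 ≤ ∑ j, T.a (v i) (v j) * x j) : False := by
  have h := quad_neg_emb T v hk x hx
  have h2 : 0 ≤ ∑ p, ∑ q, T.a (v p) (v q) * x p * x q := by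
    apply Finset.sum_nonneg
    intro p _
    have : ∑ q, T.a (v p) (v q) * x p * x q = x p * ∑ q, T.a (v p) (v q) * x q := by
      rw [Finset.mul_sum]; exact Finset.sum_congr rfl fun q _ => by ring
    rw [this]
    rcases (hx0 p).eq_or_lt with h0 | h0
    · rw [← h0, zero_mul]
    · exact mul_nonneg h0.le (hrow p h0)
  linarith

theorem row_ge {n k : ℕ} (T : Models.NumericalType n) (v : Fin k ↪ Fin n)
    (x : Fin k → ℤ) (hx : ∀ j, 0 ≤ x j) (i : Fin k) (N : Finset (Fin k)) (hiN : i ∉ N) :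
    T.a (v i) (v i) * x i + ∑ j ∈ N, T.a (v i) (v j) * x j ≤ ∑ j, T.a (v i) (v j) * x j := by
  classical
  rw [← Finset.add_sum_erase _ _ (Finset.mem_univ i)]
  have hsub : N ⊆ Finset.univ.erase i := by
    intro j hj
    refine Finset.mem_erase.mpr ⟨?_, Finset.mem_univ j⟩
    rintro rfl
    exact hiN hj
  have h1 : ∑ j ∈ N, T.a (v i) (v j) * x j ≤
      ∑ j ∈ Finset.univ.erase i, T.a (v i) (v j) * x j := by
    apply Finset.sum_le_sum_of_subset_of_nonneg hsub
    intro j hj _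
    have hne : v i ≠ v j := fun h => (Finset.ne_of_mem_erase hj) (v.injective h).symm
    exact mul_nonneg (T.offDiag_nonneg _ _ hne) (hx j)
  linarith

/-- A chain of `(-2)`-indices in a numerical type, on a proper subset of the indices. -/
structure Chain {n : ℕ} (T : Models.NumericalType n) (t : ℕ) where
  v : Fin t ↪ Fin n
  lt : t < n
  m2 : ∀ j, T.IsMinusTwo (v j)
  adj : ∀ j j' : Fin t, j'.val = j.val + 1 → T.a (v j) (v j') ≠ 0

namespace Chain
variable {n : ℕ} {T : Models.NumericalType n} {t : ℕ} (C : Chain T t)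

def V (i : ℕ) : Fin n := if h : i < t then C.v ⟨i, h⟩ else ⟨0, T.pos⟩

theorem V_of_lt {i : ℕ} (h : i < t) : C.V i = C.v ⟨i, h⟩ := dif_pos h

def W (i : ℕ) : ℤ := T.w (C.V i)
def A (i : ℕ) : ℤ := T.a (C.V i) (C.V (i + 1))
def p (i : ℕ) : ℤ := C.A i / C.W i
def q (i : ℕ) : ℤ := C.A i / C.W (i + 1)

theorem W_pos (i : ℕ) : 0 < C.W i := T.w_pos _

theorem V_ne {i j : ℕ} (hi : i < t) (hj : j < t) (h : i ≠ j) : C.V i ≠ C.V j := by
  rw [C.V_of_lt hi, C.V_of_lt hj]
  intro e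
  exact h (by simpa using congrArg Fin.val (C.v.injective e))

theorem A_ne {i : ℕ} (h : i + 1 < t) : C.A i ≠ 0 := by
  unfold A
  rw [C.V_of_lt (by omega : i < t), C.V_of_lt h]
  exact C.adj _ _ rfl

theorem A_pos {i : ℕ} (h : i + 1 < t) : 0 < C.A i :=
  lt_of_le_of_ne (T.offDiag_nonneg _ _ (C.V_ne (by omega) h (by omega))) (C.A_ne h).symm

theorem A_eq_p (i : ℕ) : C.A i = C.W i * C.p i :=
  (Int.mul_ediv_cancel' (T.w_dvd _ _)).symm

theorem A_eq_q (i : ℕ) : C.A i = C.W (i + 1) * C.q i := by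
  refine (Int.mul_ediv_cancel' ?_).symm
  have := T.w_dvd (C.V (i + 1)) (C.V i)
  rwa [T.symm.apply] at this

theorem p_pos {i : ℕ} (h : i + 1 < t) : 1 ≤ C.p i :=
  pos_of_mul _ _ (C.W_pos i) (by rw [← C.A_eq_p]; exact C.A_pos h)

theorem q_pos {i : ℕ} (h : i + 1 < t) : 1 ≤ C.q i :=
  pos_of_mul _ _ (C.W_pos (i + 1)) (by rw [← C.A_eq_q]; exact C.A_pos h)

theorem diag {i : ℕ} (h : i < t) : T.a (C.V i) (C.V i) = -2 * C.W i := by
  unfold W
  rw [C.V_of_lt h]
  exact (C.m2 _).2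

theorem a_next {i : ℕ} (hi : i < t) (h2 : i + 1 < t) :
    T.a (C.v ⟨i, hi⟩) (C.v ⟨i + 1, h2⟩) = C.W i * C.p i := by
  rw [← C.A_eq_p]
  unfold A
  rw [C.V_of_lt hi, C.V_of_lt h2]

theorem a_prev {i : ℕ} (hi : i < t) (h1 : 0 < i) :
    T.a (C.v ⟨i, hi⟩) (C.v ⟨i - 1, by omega⟩) = C.W i * C.q (i - 1) := by
  have h := C.A_eq_q (i - 1)
  unfold A at h
  rw [show i - 1 + 1 = i by omega] at h
  rw [← h, C.V_of_lt (by omega : i - 1 < t), C.V_of_lt hi]
  exact T.symm.apply _ _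

/-- The basic exclusion principle for chains. -/
theorem excl (x : ℕ → ℤ) (hx0 : ∀ i, 0 ≤ x i) (hne : ∃ i, i < t ∧ 0 < x i)
    (hrow : ∀ i, i < t → 0 < x i →
      2 * x i ≤ (if 0 < i then C.q (i - 1) * x (i - 1) else 0) +
        (if i + 1 < t then C.p i * x (i + 1) else 0)) : False := by
  classical
  apply quad_excl T C.v C.lt (fun j => x j.val) (fun j => hx0 _)
  · obtain ⟨i, hi, hxi⟩ := hne
    intro h
    have := congrFun h ⟨i, hi⟩
    simp only [Pi.zero_apply] at this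
    omega
  · rintro ⟨i, hi⟩ hxi
    dsimp only at hxi
    have hr := hrow i hi hxi
    have hW := C.W_pos i
    have hd : T.a (C.v ⟨i, hi⟩) (C.v ⟨i, hi⟩) = -2 * C.W i := by
      have := C.diag hi; rwa [C.V_of_lt hi] at this
    by_cases h1 : 0 < i <;> by_cases h2 : i + 1 < t
    · have hge := row_ge T C.v (fun j => x j.val) (fun j => hx0 _) ⟨i, hi⟩
        {⟨i - 1, by omega⟩, ⟨i + 1, h2⟩}
        (by simp only [Finset.mem_insert, Finset.mem_singleton, Fin.ext_iff]; omega)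
      rw [Finset.sum_pair (by simp only [ne_eq, Fin.ext_iff]; omega)] at hge
      rw [hd, C.a_next hi h2, C.a_prev hi h1] at hge
      simp only [h1, h2, if_true] at hr
      have : 0 ≤ C.W i * (C.q (i - 1) * x (i - 1) + C.p i * x (i + 1) - 2 * x i) :=
        mul_nonneg hW.le (by linarith)
      dsimp only at hge ⊢
      nlinarith
    · have hge := row_ge T C.v (fun j => x j.val) (fun j => hx0 _) ⟨i, hi⟩
        {⟨i - 1, by omega⟩}
        (by simp only [Finset.mem_singleton, Fin.ext_iff]; omega)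
      rw [Finset.sum_singleton] at hge
      rw [hd, C.a_prev hi h1] at hge
      simp only [h1, h2, if_true, if_false, add_zero] at hr
      have : 0 ≤ C.W i * (C.q (i - 1) * x (i - 1) - 2 * x i) :=
        mul_nonneg hW.le (by linarith)
      dsimp only at hge ⊢
      nlinarith
    · have hge := row_ge T C.v (fun j => x j.val) (fun j => hx0 _) ⟨i, hi⟩
        {⟨i + 1, h2⟩}
        (by simp only [Finset.mem_singleton, Fin.ext_iff]; omega)
      rw [Finset.sum_singleton] at hge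
      rw [hd, C.a_next hi h2] at hge
      simp only [h1, h2, if_true, if_false, zero_add] at hr
      have : 0 ≤ C.W i * (C.p i * x (i + 1) - 2 * x i) :=
        mul_nonneg hW.le (by linarith)
      dsimp only at hge ⊢
      nlinarith
    · simp only [h1, h2, if_false, add_zero] at hr
      omega

/-- product of the two quotients of an edge -/
def P (i : ℕ) : ℤ := C.p i * C.q i

theorem P_pos {i : ℕ} (h : i + 1 < t) : 1 ≤ C.P i :=
  one_le_mul_int _ _ (C.p_pos h) (C.q_pos h)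

theorem P_add_le {i : ℕ} (h : i + 2 < t) : C.P i + C.P (i + 1) ≤ 3 := by
  by_contra hcon
  push Not at hcon
  have hp0 := C.p_pos (show i + 1 < t by omega)
  have hq1 := C.q_pos (show i + 1 + 1 < t by omega)
  let x : ℕ → ℤ := fun j =>
    if j = i then C.p i else if j = i + 1 then 2 else if j = i + 2 then C.q (i + 1) else 0
  have x0 : x i = C.p i := by simp [x]
  have x1 : x (i + 1) = 2 := by simp [x]
  have x2 : x (i + 2) = C.q (i + 1) := by simp [x]
  have xz : ∀ j, j ≠ i → j ≠ i + 1 → j ≠ i + 2 → x j = 0 := by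
    intro j h1 h2 h3; simp [x, h1, h2, h3]
  apply C.excl x
  · intro j
    simp only [x]
    split_ifs <;> linarith
  · exact ⟨i + 1, by omega, by rw [x1]; norm_num⟩
  · intro j hj hxj
    have hj' : i = j ∨ i + 1 = j ∨ i + 2 = j := by
      by_contra hc
      push Not at hc
      rw [xz j (Ne.symm hc.1) (Ne.symm hc.2.1) (Ne.symm hc.2.2)] at hxj
      exact lt_irrefl _ hxj
    rcases hj' with h | h | h <;> subst h
    · rw [x0, if_pos (by omega : i + 1 < t), x1]
      have : 0 ≤ (if 0 < i then C.q (i - 1) * x (i - 1) else 0) := by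
        split_ifs with h0
        · rw [xz (i - 1) (by omega) (by omega) (by omega), mul_zero]
        · exact le_refl _
      linarith
    · rw [x1, if_pos (by omega : 0 < i + 1), if_pos (by omega : i + 1 + 1 < t),
        show i + 1 - 1 = i by omega, x0, show i + 1 + 1 = i + 2 by omega, x2]
      unfold P at hcon
      nlinarith
    · rw [x2, if_pos (by omega : 0 < i + 2), show i + 2 - 1 = i + 1 by omega, x1]
      have : 0 ≤ (if i + 2 + 1 < t then C.p (i + 2) * x (i + 2 + 1) else 0) := by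
        split_ifs with h0
        · rw [xz (i + 2 + 1) (by omega) (by omega) (by omega), mul_zero]
        · exact le_refl _
      linarith

theorem P_le_two (ht : 3 ≤ t) {i : ℕ} (h : i + 1 < t) : C.P i = 1 ∨ C.P i = 2 := by
  have h1 := C.P_pos h
  by_cases h2 : i + 2 < t
  · have := C.P_add_le h2
    have := C.P_pos (show i + 1 + 1 < t by omega)
    omega
  · have h3 : i - 1 + 2 < t := by omega
    have := C.P_add_le h3
    have := C.P_pos (show i - 1 + 1 < t by omega)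
    rw [show i - 1 + 1 = i by omega] at *
    omega

theorem pq_of_P_one {i : ℕ} (h : i + 1 < t) (hP : C.P i = 1) : C.p i = 1 ∧ C.q i = 1 :=
  one_of_mul _ _ (C.p_pos h) (C.q_pos h) (by unfold P at hP; omega)

theorem pq_of_P_two {i : ℕ} (h : i + 1 < t) (hP : C.P i = 2) :
    (C.p i = 2 ∧ C.q i = 1) ∨ (C.p i = 1 ∧ C.q i = 2) := by
  have hp := C.p_pos h
  have hq := C.q_pos h
  unfold P at hP
  have hp2 : C.p i ≤ 2 := by nlinarith
  have hq2 : C.q i ≤ 2 := by nlinarith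
  have h1 : C.p i = 1 ∨ C.p i = 2 := by omega
  have h2 : C.q i = 1 ∨ C.q i = 2 := by omega
  rcases h1 with h1 | h1 <;> rcases h2 with h2 | h2 <;> rw [h1, h2] at hP <;> simp_all

/-- two double edges separated by simple edges are excluded -/
theorem two_double {k l : ℕ} (hkl : k + 1 < l) (hl : l + 1 < t) (hk2 : C.P k = 2)
    (hl2 : C.P l = 2) (hs : ∀ j, k < j → j < l → C.P j = 1) : False := by
  have hpk := C.p_pos (show k + 1 < t by omega)
  have hql := C.q_pos hl
  have hsp : ∀ j, k < j → j < l → C.p j = 1 ∧ C.q j = 1 := fun j h1 h2 =>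
    C.pq_of_P_one (by omega) (hs j h1 h2)
  let x : ℕ → ℤ := fun j =>
    if j = k then C.p k else if k < j ∧ j ≤ l then 2 else if j = l + 1 then C.q l else 0
  have x0 : x k = C.p k := by simp [x]
  have x1 : ∀ j, k < j → j ≤ l → x j = 2 := by
    intro j h1 h2
    simp only [x]
    rw [if_neg (by omega), if_pos ⟨h1, h2⟩]
  have x2 : x (l + 1) = C.q l := by
    simp only [x]
    rw [if_neg (by omega), if_neg (by omega)]
    simp
  have xz : ∀ j, (j < k ∨ l + 1 < j) → x j = 0 := by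
    intro j h
    simp only [x]
    rw [if_neg (by omega), if_neg (by omega), if_neg (by omega)]
  apply C.excl x
  · intro j
    simp only [x]
    split_ifs <;> linarith
  · exact ⟨k + 1, by omega, by rw [x1 (k + 1) (by omega) (by omega)]; norm_num⟩
  · intro j hj hxj
    have hj' : k ≤ j ∧ j ≤ l + 1 := by
      by_contra hc
      rw [xz j (by omega)] at hxj
      exact lt_irrefl _ hxj
    by_cases c0 : j = k
    · subst c0
      rw [x0, if_pos (by omega : j + 1 < t), x1 (j + 1) (by omega) (by omega)]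
      have : 0 ≤ (if 0 < j then C.q (j - 1) * x (j - 1) else 0) := by
        split_ifs with h0
        · rw [xz (j - 1) (by omega), mul_zero]
        · exact le_refl _
      linarith
    by_cases c1 : j = k + 1
    · subst c1
      rw [x1 (k + 1) (by omega) (by omega), if_pos (by omega : 0 < k + 1),
        if_pos (by omega : k + 1 + 1 < t), show k + 1 - 1 = k by omega, x0,
        x1 (k + 1 + 1) (by omega) (by omega), (hsp (k + 1) (by omega) (by omega)).1]
      unfold P at hk2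
      nlinarith
    by_cases c2 : j = l + 1
    · subst c2
      rw [x2, if_pos (by omega : 0 < l + 1), show l + 1 - 1 = l by omega,
        x1 l (by omega) (by omega)]
      have : 0 ≤ (if l + 1 + 1 < t then C.p (l + 1) * x (l + 1 + 1) else 0) := by
        split_ifs with h0
        · rw [xz (l + 1 + 1) (by omega), mul_zero]
        · exact le_refl _
      linarith
    by_cases c3 : j = l
    · subst c3
      rw [x1 j (by omega) (by omega), if_pos (by omega : 0 < j), if_pos (by omega : j + 1 < t),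
        x1 (j - 1) (by omega) (by omega), x2, (hsp (j - 1) (by omega) (by omega)).2]
      unfold P at hl2
      nlinarith
    · rw [x1 j (by omega) (by omega), if_pos (by omega : 0 < j), if_pos (by omega : j + 1 < t),
        x1 (j - 1) (by omega) (by omega), x1 (j + 1) (by omega) (by omega),
        (hsp (j - 1) (by omega) (by omega)).2, (hsp j (by omega) (by omega)).1]
      norm_num

/-- at most one double edge -/
theorem double_unique (ht : 3 ≤ t) {k l : ℕ} (hkl : k < l) (hl : l + 1 < t) (hk2 : C.P k = 2)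
    (hl2 : C.P l = 2) : False := by
  classical
  have hex : ∃ l', k < l' ∧ l' + 1 < t ∧ C.P l' = 2 := ⟨l, hkl, hl, hl2⟩
  obtain ⟨h1, h2, h3⟩ := Nat.find_spec hex
  have hmin : ∀ j, k < j → j < Nat.find hex → C.P j = 1 := by
    intro j hj1 hj2
    have := Nat.find_min hex hj2
    rcases C.P_le_two ht (show j + 1 < t by omega) with h | h
    · exact h
    · exact absurd ⟨hj1, by omega, h⟩ this
  by_cases hc : Nat.find hex = k + 1
  · have := C.P_add_le (show k + 2 < t by omega)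
    rw [hc] at h3
    omega
  · exact C.two_double (by omega) h2 hk2 h3 hmin

/-- exclusion of an explicit vector supported on five consecutive positions -/
theorem excl5 {s : ℕ} (hs : s + 4 < t) (y0 y1 y2 y3 y4 : ℤ) (hy0 : 0 ≤ y0) (hy1 : 0 ≤ y1)
    (hy2 : 0 < y2) (hy3 : 0 ≤ y3) (hy4 : 0 ≤ y4)
    (r0 : 2 * y0 ≤ C.p s * y1) (r1 : 2 * y1 ≤ C.q s * y0 + C.p (s + 1) * y2)
    (r2 : 2 * y2 ≤ C.q (s + 1) * y1 + C.p (s + 2) * y3)
    (r3 : 2 * y3 ≤ C.q (s + 2) * y2 + C.p (s + 3) * y4) (r4 : 2 * y4 ≤ C.q (s + 3) * y3) :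
    False := by
  let x : ℕ → ℤ := fun j =>
    if j = s then y0 else if j = s + 1 then y1 else if j = s + 2 then y2 else
      if j = s + 3 then y3 else if j = s + 4 then y4 else 0
  have x0 : x s = y0 := by simp [x]
  have x1 : x (s + 1) = y1 := by simp [x]
  have x2 : x (s + 2) = y2 := by simp [x]
  have x3 : x (s + 3) = y3 := by simp [x]
  have x4 : x (s + 4) = y4 := by simp [x]
  have xz : ∀ j, (j < s ∨ s + 4 < j) → x j = 0 := by
    intro j h
    simp only [x]
    rw [if_neg (by omega), if_neg (by omega), if_neg (by omega), if_neg (by omega),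
      if_neg (by omega)]
  apply C.excl x
  · intro j
    simp only [x]
    split_ifs <;> linarith
  · exact ⟨s + 2, by omega, by rw [x2]; exact hy2⟩
  · intro j hj hxj
    have hj' : s = j ∨ s + 1 = j ∨ s + 2 = j ∨ s + 3 = j ∨ s + 4 = j := by
      by_contra hc
      push Not at hc
      rw [xz j (by omega)] at hxj
      exact lt_irrefl _ hxj
    rcases hj' with h | h | h | h | h <;> subst h
    · rw [x0, if_pos (by omega : s + 1 < t), x1]
      have : 0 ≤ (if 0 < s then C.q (s - 1) * x (s - 1) else 0) := by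
        split_ifs with h0
        · rw [xz (s - 1) (by omega), mul_zero]
        · exact le_refl _
      linarith
    · rw [x1, if_pos (by omega : 0 < s + 1), if_pos (by omega : s + 1 + 1 < t),
        show s + 1 - 1 = s by omega, x0, show s + 1 + 1 = s + 2 by omega, x2]
      exact r1
    · rw [x2, if_pos (by omega : 0 < s + 2), if_pos (by omega : s + 2 + 1 < t),
        show s + 2 - 1 = s + 1 by omega, x1, show s + 2 + 1 = s + 3 by omega, x3]
      exact r2
    · rw [x3, if_pos (by omega : 0 < s + 3), if_pos (by omega : s + 3 + 1 < t),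
        show s + 3 - 1 = s + 2 by omega, x2, show s + 3 + 1 = s + 4 by omega, x4]
      exact r3
    · rw [x4, if_pos (by omega : 0 < s + 4), show s + 4 - 1 = s + 3 by omega, x3]
      have : 0 ≤ (if s + 4 + 1 < t then C.p (s + 4) * x (s + 4 + 1) else 0) := by
        split_ifs with h0
        · rw [xz (s + 4 + 1) (by omega), mul_zero]
        · exact le_refl _
      linarith

theorem no_F1 {s : ℕ} (hs : s + 4 < t) (h0 : C.P s = 1) (h1 : C.P (s + 1) = 2)
    (h2 : C.P (s + 2) = 1) (h3 : C.P (s + 3) = 1) : False := by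
  obtain ⟨e0p, e0q⟩ := C.pq_of_P_one (by omega) h0
  obtain ⟨e2p, e2q⟩ := C.pq_of_P_one (by omega) h2
  obtain ⟨e3p, e3q⟩ := C.pq_of_P_one (by omega) h3
  have hp := C.p_pos (show s + 1 + 1 < t by omega)
  unfold P at h1
  apply C.excl5 hs (C.p (s + 1)) (2 * C.p (s + 1)) 3 2 1 (by linarith) (by linarith) (by norm_num)
    (by norm_num) (by norm_num)
  · rw [e0p]; linarith
  · rw [e0q]; linarith
  · rw [e2p]; nlinarith
  · rw [e2q, e3p]; norm_num
  · rw [e3q]; norm_num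

theorem no_F2 {s : ℕ} (hs : s + 4 < t) (h0 : C.P s = 1) (h1 : C.P (s + 1) = 1)
    (h2 : C.P (s + 2) = 2) (h3 : C.P (s + 3) = 1) : False := by
  obtain ⟨e0p, e0q⟩ := C.pq_of_P_one (by omega) h0
  obtain ⟨e1p, e1q⟩ := C.pq_of_P_one (by omega) h1
  obtain ⟨e3p, e3q⟩ := C.pq_of_P_one (by omega) h3
  have hq := C.q_pos (show s + 2 + 1 < t by omega)
  unfold P at h2
  apply C.excl5 hs 1 2 3 (2 * C.q (s + 2)) (C.q (s + 2)) (by norm_num) (by norm_num)
    (by norm_num) (by linarith) (by linarith)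
  · rw [e0p]; norm_num
  · rw [e0q, e1p]; norm_num
  · rw [e1q]; nlinarith
  · rw [e3p]; linarith
  · rw [e3q]; linarith

/-- for chains of length at least five a double edge sits at one of the two ends -/
theorem double_at_end (ht : 5 ≤ t) {k : ℕ} (hk : k + 1 < t) (hk2 : C.P k = 2) :
    k = 0 ∨ k + 2 = t := by
  by_contra hc
  push Not at hc
  have hone : ∀ j, j + 1 < t → j ≠ k → C.P j = 1 := by
    intro j hj hjk
    rcases C.P_le_two (by omega) hj with h | h
    · exact h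
    · exfalso
      rcases lt_or_gt_of_ne hjk with h' | h'
      · exact C.double_unique (by omega) h' hk h hk2
      · exact C.double_unique (by omega) h' hj hk2 h
  by_cases h3 : k + 3 < t
  · refine C.no_F1 (s := k - 1) (by omega) (hone _ (by omega) (by omega)) ?_
      (hone _ (by omega) (by omega)) (hone _ (by omega) (by omega))
    rw [show k - 1 + 1 = k by omega]; exact hk2
  · refine C.no_F2 (s := k - 2) (by omega) (hone _ (by omega) (by omega))
      (hone _ (by omega) (by omega)) ?_ (hone _ (by omega) (by omega))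
    rw [show k - 2 + 2 = k by omega]; exact hk2

theorem no_chord {j k : ℕ} (hjk : j + 1 < k) (hk : k < t) : T.a (C.V j) (C.V k) = 0 := by
  classical
  by_contra hne
  rw [C.V_of_lt (by omega : j < t), C.V_of_lt hk] at hne
  have hs : ∀ a b, T.a (C.v a) (C.v b) = T.a (C.v b) (C.v a) :=
    fun a b => (T.symm.apply _ _).symm
  have adj' : ∀ (a b : ℕ) (ha : a < t) (hb : b < t), (b = a + 1 ∨ a = b + 1) →
      T.a (C.v ⟨a, ha⟩) (C.v ⟨b, hb⟩) ≠ 0 := by
    intro a b ha hb h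
    rcases h with h | h
    · exact C.adj _ _ h
    · rw [hs]; exact C.adj _ _ h
  let x : Fin t → ℤ := fun i => if j ≤ i.val ∧ i.val ≤ k then 1 else 0
  have hx0 : ∀ i, 0 ≤ x i := by
    intro i; simp only [x]; split_ifs <;> norm_num
  have xv : ∀ (a : ℕ) (ha : a < t), j ≤ a → a ≤ k → x ⟨a, ha⟩ = 1 := by
    intro a ha h1 h2
    simp only [x]
    rw [if_pos ⟨h1, h2⟩]
  apply quad_excl T C.v C.lt x hx0
  · intro h
    have := congrFun h ⟨j, by omega⟩
    rw [xv j (by omega) (le_refl _) (by omega)] at this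
    simp at this
  · rintro ⟨i, hi⟩ hxi
    have hik : j ≤ i ∧ i ≤ k := by
      by_contra hc
      simp only [x] at hxi
      rw [if_neg hc] at hxi
      exact lt_irrefl _ hxi
    by_cases c1 : i = j
    · subst c1
      apply row_nonneg T C.v x hx0 _ (C.m2 _) {⟨i + 1, by omega⟩, ⟨k, hk⟩}
      · simp only [Finset.mem_insert, Finset.mem_singleton, Fin.ext_iff]; omega
      · intro b hb
        simp only [Finset.mem_insert, Finset.mem_singleton] at hb
        rcases hb with rfl | rfl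
        · exact adj' _ _ _ _ (Or.inl rfl)
        · exact hne
      · rw [Finset.sum_pair (by simp only [ne_eq, Fin.ext_iff]; omega),
          xv _ _ (le_refl _) (by omega), xv _ _ (by omega) (by omega),
          xv _ _ (by omega) (le_refl _)]
        norm_num
    by_cases c2 : i = k
    · subst c2
      apply row_nonneg T C.v x hx0 _ (C.m2 _) {⟨i - 1, by omega⟩, ⟨j, by omega⟩}
      · simp only [Finset.mem_insert, Finset.mem_singleton, Fin.ext_iff]; omega
      · intro b hb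
        simp only [Finset.mem_insert, Finset.mem_singleton] at hb
        rcases hb with rfl | rfl
        · exact adj' _ _ _ _ (Or.inr (by omega))
        · rw [hs]; exact hne
      · rw [Finset.sum_pair (by simp only [ne_eq, Fin.ext_iff]; omega),
          xv _ _ (by omega) (le_refl _), xv _ _ (by omega) (by omega),
          xv _ _ (le_refl _) (by omega)]
        norm_num
    · apply row_nonneg T C.v x hx0 _ (C.m2 _) {⟨i - 1, by omega⟩, ⟨i + 1, by omega⟩}
      · simp only [Finset.mem_insert, Finset.mem_singleton, Fin.ext_iff]; omega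
      · intro b hb
        simp only [Finset.mem_insert, Finset.mem_singleton] at hb
        rcases hb with rfl | rfl
        · exact adj' _ _ _ _ (Or.inr (by omega))
        · exact adj' _ _ _ _ (Or.inl rfl)
      · rw [Finset.sum_pair (by simp only [ne_eq, Fin.ext_iff]; omega),
          xv _ _ (by omega) (by omega), xv _ _ (by omega) (by omega),
          xv _ _ (by omega) (by omega)]
        norm_num

/-- multiplicities along the chain -/
def M (i : ℕ) : ℤ := T.m (C.V i)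

theorem m_ineq {i : ℕ} (hi : i < t) :
    (if 0 < i then C.q (i - 1) * C.M (i - 1) else 0) +
      (if i + 1 < t then C.p i * C.M (i + 1) else 0) ≤ 2 * C.M i := by
  classical
  have hW := C.W_pos i
  have hd : T.a (C.v ⟨i, hi⟩) (C.v ⟨i, hi⟩) = -2 * C.W i := by
    have := C.diag hi; rwa [C.V_of_lt hi] at this
  have hMi : C.M i = T.m (C.v ⟨i, hi⟩) := by unfold M; rw [C.V_of_lt hi]
  by_cases h1 : 0 < i <;> by_cases h2 : i + 1 < t
  · have r := row_le T (C.v ⟨i, hi⟩) {C.v ⟨i - 1, by omega⟩, C.v ⟨i + 1, h2⟩} (by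
      simp only [Finset.mem_insert, Finset.mem_singleton, C.v.apply_eq_iff_eq, Fin.ext_iff]
      omega)
    rw [Finset.sum_pair (by
      simp only [ne_eq, C.v.apply_eq_iff_eq, Fin.ext_iff]; omega), hd, C.a_next hi h2,
      C.a_prev hi h1] at r
    have e1 : C.M (i - 1) = T.m (C.v ⟨i - 1, by omega⟩) := by
      unfold M; rw [C.V_of_lt (by omega : i - 1 < t)]
    have e2 : C.M (i + 1) = T.m (C.v ⟨i + 1, h2⟩) := by unfold M; rw [C.V_of_lt h2]
    rw [if_pos h1, if_pos h2, hMi, e1, e2]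
    have : C.W i * (C.q (i - 1) * T.m (C.v ⟨i - 1, by omega⟩) +
        C.p i * T.m (C.v ⟨i + 1, h2⟩)) ≤ C.W i * (2 * T.m (C.v ⟨i, hi⟩)) := by linarith
    exact le_of_mul_le_mul_left this hW
  · have r := row_le T (C.v ⟨i, hi⟩) {C.v ⟨i - 1, by omega⟩} (by
      simp only [Finset.mem_singleton, C.v.apply_eq_iff_eq, Fin.ext_iff]
      omega)
    rw [Finset.sum_singleton, hd, C.a_prev hi h1] at r
    have e1 : C.M (i - 1) = T.m (C.v ⟨i - 1, by omega⟩) := by
      unfold M; rw [C.V_of_lt (by omega : i - 1 < t)]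
    rw [if_pos h1, if_neg h2, hMi, e1, add_zero]
    have : C.W i * (C.q (i - 1) * T.m (C.v ⟨i - 1, by omega⟩)) ≤
        C.W i * (2 * T.m (C.v ⟨i, hi⟩)) := by linarith
    exact le_of_mul_le_mul_left this hW
  · have r := row_le T (C.v ⟨i, hi⟩) {C.v ⟨i + 1, h2⟩} (by
      simp only [Finset.mem_singleton, C.v.apply_eq_iff_eq, Fin.ext_iff]
      omega)
    rw [Finset.sum_singleton, hd, C.a_next hi h2] at r
    have e2 : C.M (i + 1) = T.m (C.v ⟨i + 1, h2⟩) := by unfold M; rw [C.V_of_lt h2]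
    rw [if_neg h1, if_pos h2, hMi, e2, zero_add]
    have : C.W i * (C.p i * T.m (C.v ⟨i + 1, h2⟩)) ≤
        C.W i * (2 * T.m (C.v ⟨i, hi⟩)) := by linarith
    exact le_of_mul_le_mul_left this hW
  · rw [if_neg h1, if_neg h2, add_zero]
    have : 0 < C.M i := T.m_pos _
    linarith

theorem W_eq {i : ℕ} (hi : i < t) : C.W i = T.w (C.v ⟨i, hi⟩) := by
  unfold W; rw [C.V_of_lt hi]

theorem M_eq {i : ℕ} (hi : i < t) : C.M i = T.m (C.v ⟨i, hi⟩) := by
  unfold M; rw [C.V_of_lt hi]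

theorem A_eq {i : ℕ} (hi : i + 1 < t) :
    C.A i = T.a (C.v ⟨i, by omega⟩) (C.v ⟨i + 1, hi⟩) := by
  unfold A; rw [C.V_of_lt (by omega : i < t), C.V_of_lt hi]

theorem A_eq' (j j' : Fin t) (h : j'.val = j.val + 1) :
    T.a (C.v j) (C.v j') = C.A j.val := by
  rw [C.A_eq (by omega : j.val + 1 < t)]
  congr 2
  exact Fin.ext h

/-- the reversed chain -/
def rev : Chain T t where
  v := (Fin.revPerm : Equiv.Perm (Fin t)).toEmbedding.trans C.v
  lt := C.lt
  m2 := fun _ => C.m2 _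
  adj := fun j j' h => by
    show T.a (C.v (Fin.rev j)) (C.v (Fin.rev j')) ≠ 0
    rw [← T.symm.apply]
    apply C.adj
    rw [Fin.val_rev, Fin.val_rev]
    omega

theorem rev_v (j : Fin t) : C.rev.v j = C.v (Fin.rev j) := rfl

theorem rev_V {i : ℕ} (hi : i < t) : C.rev.V i = C.V (t - 1 - i) := by
  rw [C.rev.V_of_lt hi, C.V_of_lt (by omega : t - 1 - i < t), rev_v]
  congr 1
  apply Fin.ext
  rw [Fin.val_rev]
  simp only
  omega

theorem rev_W {i : ℕ} (hi : i < t) : C.rev.W i = C.W (t - 1 - i) := by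
  unfold W; rw [C.rev_V hi]

theorem rev_M {i : ℕ} (hi : i < t) : C.rev.M i = C.M (t - 1 - i) := by
  unfold M; rw [C.rev_V hi]

theorem rev_A {i : ℕ} (hi : i + 1 < t) : C.rev.A i = C.A (t - 2 - i) := by
  unfold A
  rw [C.rev_V (by omega : i < t), C.rev_V hi, ← T.symm.apply,
    show t - 2 - i + 1 = t - 1 - i by omega, show t - 1 - (i + 1) = t - 2 - i by omega]

theorem rev_p {i : ℕ} (hi : i + 1 < t) : C.rev.p i = C.q (t - 2 - i) := by
  unfold p q
  rw [C.rev_A hi, C.rev_W (by omega : i < t), show t - 2 - i + 1 = t - 1 - i by omega]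

theorem rev_q {i : ℕ} (hi : i + 1 < t) : C.rev.q i = C.p (t - 2 - i) := by
  unfold p q
  rw [C.rev_A hi, C.rev_W hi, show t - 1 - (i + 1) = t - 2 - i by omega]

theorem rev_P {i : ℕ} (hi : i + 1 < t) : C.rev.P i = C.P (t - 2 - i) := by
  unfold P
  rw [C.rev_p hi, C.rev_q hi, mul_comm]

theorem edge_eqs {i : ℕ} : C.A i = C.W i * C.p i ∧ C.A i = C.W (i + 1) * C.q i :=
  ⟨C.A_eq_p i, C.A_eq_q i⟩

/-- the classification of chains of four `(-2)`-indices, in normal orientation -/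
theorem final4 (D : Chain T 4) (h0 : D.P 0 = 1) (h1 : D.P 1 = 2 → D.p 1 = 2) :
    ∃ w : ℤ,
      (D.W 0 = w ∧ D.W 1 = w ∧ D.W 2 = w ∧ D.W 3 = w ∧ D.A 0 = w ∧ D.A 1 = w ∧ D.A 2 = w ∧
        D.M 1 ≤ 2 * D.M 0 ∧ D.M 0 + D.M 2 ≤ 2 * D.M 1 ∧ D.M 1 + D.M 3 ≤ 2 * D.M 2 ∧
        D.M 2 ≤ 2 * D.M 3) ∨
      (D.W 0 = w ∧ D.W 1 = w ∧ D.W 2 = w ∧ D.W 3 = 2 * w ∧ D.A 0 = w ∧ D.A 1 = w ∧
        D.A 2 = 2 * w ∧ D.M 1 ≤ 2 * D.M 0 ∧ D.M 0 + D.M 2 ≤ 2 * D.M 1 ∧
        D.M 1 + 2 * D.M 3 ≤ 2 * D.M 2 ∧ D.M 2 ≤ 2 * D.M 3) ∨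
      (D.W 0 = 2 * w ∧ D.W 1 = 2 * w ∧ D.W 2 = 2 * w ∧ D.W 3 = w ∧ D.A 0 = 2 * w ∧
        D.A 1 = 2 * w ∧ D.A 2 = 2 * w ∧ D.M 1 ≤ 2 * D.M 0 ∧ D.M 0 + D.M 2 ≤ 2 * D.M 1 ∧
        D.M 1 + D.M 3 ≤ 2 * D.M 2 ∧ D.M 2 ≤ D.M 3) ∨
      (D.W 0 = w ∧ D.W 1 = w ∧ D.W 2 = 2 * w ∧ D.W 3 = 2 * w ∧ D.A 0 = w ∧ D.A 1 = 2 * w ∧
        D.A 2 = 2 * w ∧ D.M 1 ≤ 2 * D.M 0 ∧ D.M 0 + 2 * D.M 2 ≤ 2 * D.M 1 ∧
        D.M 1 + D.M 3 ≤ 2 * D.M 2 ∧ D.M 2 ≤ 2 * D.M 3) := by
  obtain ⟨p0, q0⟩ := D.pq_of_P_one (by norm_num) h0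
  have m0 := D.m_ineq (i := 0) (by norm_num)
  have m1 := D.m_ineq (i := 1) (by norm_num)
  have m2 := D.m_ineq (i := 2) (by norm_num)
  have m3 := D.m_ineq (i := 3) (by norm_num)
  norm_num at m0 m1 m2 m3
  obtain ⟨a0, b0⟩ := D.edge_eqs (i := 0)
  obtain ⟨a1, b1⟩ := D.edge_eqs (i := 1)
  obtain ⟨a2, b2⟩ := D.edge_eqs (i := 2)
  norm_num at b0 b1 b2
  have hsum := D.P_add_le (i := 1) (by norm_num)
  norm_num at hsum
  rw [p0] at a0 m0
  rw [q0] at b0 m1
  rcases D.P_le_two (by norm_num) (show 1 + 1 < 4 by norm_num) with hP1 | hP1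
  · obtain ⟨p1, q1⟩ := D.pq_of_P_one (by norm_num) hP1
    rw [p1] at a1 m1
    rw [q1] at b1 m2
    rcases D.P_le_two (by norm_num) (show 2 + 1 < 4 by norm_num) with hP2 | hP2
    · obtain ⟨p2, q2⟩ := D.pq_of_P_one (by norm_num) hP2
      rw [p2] at a2 m2
      rw [q2] at b2 m3
      refine ⟨D.W 0, Or.inl ⟨?_, ?_, ?_, ?_, ?_, ?_, ?_, ?_, ?_, ?_, ?_⟩⟩ <;> linarith
    · rcases D.pq_of_P_two (by norm_num) hP2 with ⟨p2, q2⟩ | ⟨p2, q2⟩
      · rw [p2] at a2 m2
        rw [q2] at b2 m3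
        refine ⟨D.W 0, Or.inr (Or.inl ⟨?_, ?_, ?_, ?_, ?_, ?_, ?_, ?_, ?_, ?_, ?_⟩)⟩ <;> linarith
      · rw [p2] at a2 m2
        rw [q2] at b2 m3
        refine ⟨D.W 3, Or.inr (Or.inr (Or.inl ⟨?_, ?_, ?_, ?_, ?_, ?_, ?_, ?_, ?_, ?_, ?_⟩))⟩ <;>
          linarith
  · have p1 := h1 hP1
    have q1 : D.q 1 = 1 := by
      rcases D.pq_of_P_two (by norm_num) hP1 with ⟨_, q1⟩ | ⟨p1', _⟩
      · exact q1
      · rw [p1'] at p1; norm_num at p1
    have hP2 : D.P 2 = 1 := by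
      have := D.P_pos (show 2 + 1 < 4 by norm_num)
      omega
    obtain ⟨p2, q2⟩ := D.pq_of_P_one (by norm_num) hP2
    rw [p1] at a1 m1
    rw [q1] at b1 m2
    rw [p2] at a2 m2
    rw [q2] at b2 m3
    refine ⟨D.W 0, Or.inr (Or.inr (Or.inr ⟨?_, ?_, ?_, ?_, ?_, ?_, ?_, ?_, ?_, ?_, ?_⟩))⟩ <;>
      linarith

/-- the classification of chains of five `(-2)`-indices, in normal orientation -/
theorem final5 (D : Chain T 5) (h0 : D.P 0 = 1) :
    ∃ w : ℤ,
      (D.W 0 = w ∧ D.W 1 = w ∧ D.W 2 = w ∧ D.W 3 = w ∧ D.W 4 = w ∧ D.A 0 = w ∧ D.A 1 = w ∧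
        D.A 2 = w ∧ D.A 3 = w ∧ D.M 1 ≤ 2 * D.M 0 ∧ D.M 0 + D.M 2 ≤ 2 * D.M 1 ∧
        D.M 1 + D.M 3 ≤ 2 * D.M 2 ∧ D.M 2 + D.M 4 ≤ 2 * D.M 3 ∧ D.M 3 ≤ 2 * D.M 4) ∨
      (D.W 0 = w ∧ D.W 1 = w ∧ D.W 2 = w ∧ D.W 3 = w ∧ D.W 4 = 2 * w ∧ D.A 0 = w ∧ D.A 1 = w ∧
        D.A 2 = w ∧ D.A 3 = 2 * w ∧ D.M 1 ≤ 2 * D.M 0 ∧ D.M 0 + D.M 2 ≤ 2 * D.M 1 ∧
        D.M 1 + D.M 3 ≤ 2 * D.M 2 ∧ D.M 2 + 2 * D.M 4 ≤ 2 * D.M 3 ∧ D.M 3 ≤ 2 * D.M 4) ∨
      (D.W 0 = 2 * w ∧ D.W 1 = 2 * w ∧ D.W 2 = 2 * w ∧ D.W 3 = 2 * w ∧ D.W 4 = w ∧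
        D.A 0 = 2 * w ∧ D.A 1 = 2 * w ∧ D.A 2 = 2 * w ∧ D.A 3 = 2 * w ∧ D.M 1 ≤ 2 * D.M 0 ∧
        D.M 0 + D.M 2 ≤ 2 * D.M 1 ∧ D.M 1 + D.M 3 ≤ 2 * D.M 2 ∧ D.M 2 + D.M 4 ≤ 2 * D.M 3 ∧
        D.M 3 ≤ D.M 4) := by
  obtain ⟨p0, q0⟩ := D.pq_of_P_one (by norm_num) h0
  have hP1 : D.P 1 = 1 := by
    rcases D.P_le_two (by norm_num) (show 1 + 1 < 5 by norm_num) with h | h
    · exact h
    · have := D.double_at_end (by norm_num) (show 1 + 1 < 5 by norm_num) h
      omega
  have hP2 : D.P 2 = 1 := by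
    rcases D.P_le_two (by norm_num) (show 2 + 1 < 5 by norm_num) with h | h
    · exact h
    · have := D.double_at_end (by norm_num) (show 2 + 1 < 5 by norm_num) h
      omega
  obtain ⟨p1, q1⟩ := D.pq_of_P_one (by norm_num) hP1
  obtain ⟨p2, q2⟩ := D.pq_of_P_one (by norm_num) hP2
  have m0 := D.m_ineq (i := 0) (by norm_num)
  have m1 := D.m_ineq (i := 1) (by norm_num)
  have m2 := D.m_ineq (i := 2) (by norm_num)
  have m3 := D.m_ineq (i := 3) (by norm_num)
  have m4 := D.m_ineq (i := 4) (by norm_num)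
  norm_num at m0 m1 m2 m3 m4
  obtain ⟨a0, b0⟩ := D.edge_eqs (i := 0)
  obtain ⟨a1, b1⟩ := D.edge_eqs (i := 1)
  obtain ⟨a2, b2⟩ := D.edge_eqs (i := 2)
  obtain ⟨a3, b3⟩ := D.edge_eqs (i := 3)
  norm_num at b0 b1 b2 b3
  rw [p0] at a0 m0
  rw [q0] at b0 m1
  rw [p1] at a1 m1
  rw [q1] at b1 m2
  rw [p2] at a2 m2
  rw [q2] at b2 m3
  rcases D.P_le_two (by norm_num) (show 3 + 1 < 5 by norm_num) with hP3 | hP3
  · obtain ⟨p3, q3⟩ := D.pq_of_P_one (by norm_num) hP3
    rw [p3] at a3 m3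
    rw [q3] at b3 m4
    refine ⟨D.W 0, Or.inl ⟨?_, ?_, ?_, ?_, ?_, ?_, ?_, ?_, ?_, ?_, ?_, ?_, ?_, ?_⟩⟩ <;> linarith
  · rcases D.pq_of_P_two (by norm_num) hP3 with ⟨p3, q3⟩ | ⟨p3, q3⟩
    · rw [p3] at a3 m3
      rw [q3] at b3 m4
      refine ⟨D.W 0, Or.inr (Or.inl ⟨?_, ?_, ?_, ?_, ?_, ?_, ?_, ?_, ?_, ?_, ?_, ?_, ?_, ?_⟩)⟩ <;>
        linarith
    · rw [p3] at a3 m3
      rw [q3] at b3 m4
      refine ⟨D.W 4, Or.inr (Or.inr ⟨?_, ?_, ?_, ?_, ?_, ?_, ?_, ?_, ?_, ?_, ?_, ?_, ?_, ?_⟩)⟩ <;>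
        linarith

/-- the classification of long chains of `(-2)`-indices, in normal orientation -/
theorem finalLong (D : Chain T t) (ht : 5 ≤ t) (h0 : D.P 0 = 1) :
    ∃ w : ℤ,
      ((∀ j, j < t → D.W j = w) ∧ (∀ j, j + 1 < t → D.A j = w)) ∨
      ((∀ j, j + 1 < t → D.W j = w) ∧ D.W (t - 1) = 2 * w ∧ (∀ j, j + 2 < t → D.A j = w) ∧
        D.A (t - 2) = 2 * w) ∨
      ((∀ j, j + 1 < t → D.W j = 2 * w) ∧ D.W (t - 1) = w ∧ (∀ j, j + 1 < t → D.A j = 2 * w)) := by
  have hone : ∀ j, j + 2 < t → D.P j = 1 := by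
    intro j hj
    rcases D.P_le_two (by omega) (show j + 1 < t by omega) with h | h
    · exact h
    · have := D.double_at_end ht (show j + 1 < t by omega) h
      rcases this with rfl | h'
      · rw [h0] at h; norm_num at h
      · omega
  have hW : ∀ j, j + 1 < t → D.W j = D.W 0 := by
    intro j
    induction j with
    | zero => intro _; rfl
    | succ j ih =>
      intro hj
      obtain ⟨pj, qj⟩ := D.pq_of_P_one (by omega) (hone j (by omega))
      have e1 := D.A_eq_p j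
      have e2 := D.A_eq_q j
      rw [pj] at e1
      rw [qj] at e2
      have := ih (by omega)
      linarith
  have hA : ∀ j, j + 2 < t → D.A j = D.W 0 := by
    intro j hj
    obtain ⟨pj, qj⟩ := D.pq_of_P_one (by omega) (hone j hj)
    have e1 := D.A_eq_p j
    rw [pj, hW j (by omega)] at e1
    linarith
  have e1 := D.A_eq_p (t - 2)
  have e2 := D.A_eq_q (t - 2)
  rw [hW (t - 2) (by omega)] at e1
  rw [show t - 2 + 1 = t - 1 by omega] at e2
  rcases D.P_le_two (by omega) (show t - 2 + 1 < t by omega) with hP | hP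
  · obtain ⟨pl, ql⟩ := D.pq_of_P_one (by omega) hP
    rw [pl] at e1
    rw [ql] at e2
    refine ⟨D.W 0, Or.inl ⟨?_, ?_⟩⟩
    · intro j hj
      by_cases hj' : j + 1 < t
      · exact hW j hj'
      · rw [show j = t - 1 by omega]; linarith
    · intro j hj
      by_cases hj' : j + 2 < t
      · exact hA j hj'
      · rw [show j = t - 2 by omega]; linarith
  · rcases D.pq_of_P_two (by omega) hP with ⟨pl, ql⟩ | ⟨pl, ql⟩
    · rw [pl] at e1
      rw [ql] at e2
      refine ⟨D.W 0, Or.inr (Or.inl ⟨hW, by linarith, hA, by linarith⟩)⟩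
    · rw [pl] at e1
      rw [ql] at e2
      refine ⟨D.W (t - 1), Or.inr (Or.inr ⟨?_, rfl, ?_⟩)⟩
      · intro j hj
        rw [hW j hj]; linarith
      · intro j hj
        by_cases hj' : j + 2 < t
        · rw [hA j hj']; linarith
        · rw [show j = t - 2 by omega]; linarith

theorem W_A_const {s : ℕ} (hs : ∀ j, s ≤ j → j + 1 < t → C.P j = 1) :
    ∀ j, s ≤ j → j < t → C.W j = C.W s ∧ (j + 1 < t → C.A j = C.W s) := by
  have hW : ∀ j, s ≤ j → j < t → C.W j = C.W s := by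
    intro j hj
    induction j, hj using Nat.le_induction with
    | base => intro _; rfl
    | succ j hj ih =>
      intro hj'
      obtain ⟨pj, qj⟩ := C.pq_of_P_one (by omega) (hs j hj hj')
      have e1 := C.A_eq_p j
      have e2 := C.A_eq_q j
      rw [pj] at e1
      rw [qj] at e2
      have := ih (by omega)
      linarith
  intro j hj hjt
  refine ⟨hW j hj hjt, fun hj' => ?_⟩
  obtain ⟨pj, qj⟩ := C.pq_of_P_one (by omega) (hs j hj hj')
  have e1 := C.A_eq_p j
  rw [pj, hW j hj hjt] at e1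
  linarith

end Chain

end Groth.Agent.H3
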