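import Groth.Agent.H3.NumGenusOne
import Groth.Agent.H2.NumType3

set_option autoImplicit false

namespace Groth.Agent.H3.G4
open Groth.Agent.H3 Groth.Agent.H2

/-- the conclusion of the classification of genus one types on four indices -/
def Concl (T : Models.NumericalType 4) : Prop :=
  ∃ (σ : Equiv.Perm (Fin 4)) (m w : ℤ),
        ((T.m (σ 0) = m ∧ T.m (σ 1) = m ∧ T.m (σ 2) = m ∧ T.m (σ 3) = m ∧ T.w (σ 0) = w ∧ T.w (σ 1) = w ∧ T.w (σ 2) = w ∧ T.w (σ 3) = w ∧ T.a (σ 0) (σ 0) = -2 * w ∧ T.a (σ 0) (σ 1) = w ∧ T.a (σ 0) (σ 2) = 0 ∧ T.a (σ 0) (σ 3) = w ∧ T.a (σ 1) (σ 1) = -2 * w ∧ T.a (σ 1) (σ 2) = w ∧ T.a (σ 1) (σ 3) = 0 ∧ T.a (σ 2) (σ 2) = -2 * w ∧ T.a (σ 2) (σ 3) = w ∧ T.a (σ 3) (σ 3) = -2 * w) ∨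
        (T.m (σ 0) = 2 * m ∧ T.m (σ 1) = 2 * m ∧ T.m (σ 2) = 2 * m ∧ T.m (σ 3) = m ∧ T.w (σ 0) = w ∧ T.w (σ 1) = 2 * w ∧ T.w (σ 2) = 2 * w ∧ T.w (σ 3) = 4 * w ∧ T.a (σ 0) (σ 0) = -2 * w ∧ T.a (σ 0) (σ 1) = 2 * w ∧ T.a (σ 0) (σ 2) = 0 ∧ T.a (σ 0) (σ 3) = 0 ∧ T.a (σ 1) (σ 1) = -4 * w ∧ T.a (σ 1) (σ 2) = 2 * w ∧ T.a (σ 1) (σ 3) = 0 ∧ T.a (σ 2) (σ 2) = -4 * w ∧ T.a (σ 2) (σ 3) = 4 * w ∧ T.a (σ 3) (σ 3) = -8 * w) ∨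
        (T.m (σ 0) = m ∧ T.m (σ 1) = m ∧ T.m (σ 2) = m ∧ T.m (σ 3) = m ∧ T.w (σ 0) = w ∧ T.w (σ 1) = 2 * w ∧ T.w (σ 2) = 2 * w ∧ T.w (σ 3) = w ∧ T.a (σ 0) (σ 0) = -2 * w ∧ T.a (σ 0) (σ 1) = 2 * w ∧ T.a (σ 0) (σ 2) = 0 ∧ T.a (σ 0) (σ 3) = 0 ∧ T.a (σ 1) (σ 1) = -4 * w ∧ T.a (σ 1) (σ 2) = 2 * w ∧ T.a (σ 1) (σ 3) = 0 ∧ T.a (σ 2) (σ 2) = -4 * w ∧ T.a (σ 2) (σ 3) = 2 * w ∧ T.a (σ 3) (σ 3) = -2 * w) ∨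
        (T.m (σ 0) = m ∧ T.m (σ 1) = 2 * m ∧ T.m (σ 2) = 2 * m ∧ T.m (σ 3) = m ∧ T.w (σ 0) = 2 * w ∧ T.w (σ 1) = w ∧ T.w (σ 2) = w ∧ T.w (σ 3) = 2 * w ∧ T.a (σ 0) (σ 0) = -4 * w ∧ T.a (σ 0) (σ 1) = 2 * w ∧ T.a (σ 0) (σ 2) = 0 ∧ T.a (σ 0) (σ 3) = 0 ∧ T.a (σ 1) (σ 1) = -2 * w ∧ T.a (σ 1) (σ 2) = w ∧ T.a (σ 1) (σ 3) = 0 ∧ T.a (σ 2) (σ 2) = -2 * w ∧ T.a (σ 2) (σ 3) = 2 * w ∧ T.a (σ 3) (σ 3) = -4 * w) ∨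
        (T.m (σ 0) = 2 * m ∧ T.m (σ 1) = m ∧ T.m (σ 2) = m ∧ T.m (σ 3) = m ∧ T.w (σ 0) = w ∧ T.w (σ 1) = w ∧ T.w (σ 2) = w ∧ T.w (σ 3) = 2 * w ∧ T.a (σ 0) (σ 0) = -2 * w ∧ T.a (σ 0) (σ 1) = w ∧ T.a (σ 0) (σ 2) = w ∧ T.a (σ 0) (σ 3) = 2 * w ∧ T.a (σ 1) (σ 1) = -2 * w ∧ T.a (σ 1) (σ 2) = 0 ∧ T.a (σ 1) (σ 3) = 0 ∧ T.a (σ 2) (σ 2) = -2 * w ∧ T.a (σ 2) (σ 3) = 0 ∧ T.a (σ 3) (σ 3) = -4 * w) ∨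
        (T.m (σ 0) = 2 * m ∧ T.m (σ 1) = m ∧ T.m (σ 2) = m ∧ T.m (σ 3) = 2 * m ∧ T.w (σ 0) = 2 * w ∧ T.w (σ 1) = 2 * w ∧ T.w (σ 2) = 2 * w ∧ T.w (σ 3) = w ∧ T.a (σ 0) (σ 0) = -4 * w ∧ T.a (σ 0) (σ 1) = 2 * w ∧ T.a (σ 0) (σ 2) = 2 * w ∧ T.a (σ 0) (σ 3) = 2 * w ∧ T.a (σ 1) (σ 1) = -4 * w ∧ T.a (σ 1) (σ 2) = 0 ∧ T.a (σ 1) (σ 3) = 0 ∧ T.a (σ 2) (σ 2) = -4 * w ∧ T.a (σ 2) (σ 3) = 0 ∧ T.a (σ 3) (σ 3) = -2 * w))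

theorem hsymm (T : Models.NumericalType 4) : ∀ i j, T.a i j = T.a j i :=
  fun i j => (T.symm.apply i j).symm

theorem Z (T : Models.NumericalType 4) : ∀ i j, T.a i j = 0 → T.a j i = 0 :=
  fun i j h => by rw [hsymm]; exact h

theorem P (T : Models.NumericalType 4) : ∀ i j, i ≠ j → ¬ T.a i j = 0 → 0 < T.a i j :=
  fun i j hij h => lt_of_le_of_ne (T.offDiag_nonneg i j hij) (Ne.symm h)

theorem P' (T : Models.NumericalType 4) : ∀ i j, i ≠ j → ¬ T.a i j = 0 → 0 < T.a j i :=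
  fun i j hij h => by rw [hsymm]; exact P T i j hij h

theorem cpos : ∀ w c : ℤ, 0 < w → 0 < w * c → 1 ≤ c := by
  intro w c hw hwc
  by_contra hc
  push Not at hc
  have : c ≤ 0 := by omega
  nlinarith

theorem cancel : ∀ w x : ℤ, 0 < w → w * x = 0 → x = 0 := by
  intro w x hw h
  rcases mul_eq_zero.mp h with h | h
  · exact absurd h hw.ne'
  · exact h

theorem perm4 : ∀ (i j k l : Fin 4), i ≠ j → i ≠ k → i ≠ l → j ≠ k → j ≠ l → k ≠ l →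
    ∃ σ : Equiv.Perm (Fin 4), σ 0 = i ∧ σ 1 = j ∧ σ 2 = k ∧ σ 3 = l := by
  intro i j k l hij hik hil hjk hjl hkl
  have hinj : Function.Injective ![i, j, k, l] := by
    intro a b hab
    fin_cases a <;> fin_cases b <;> simp_all
  exact ⟨Equiv.ofBijective _ (Finite.injective_iff_bijective.mp hinj), rfl, rfl, rfl, rfl⟩

theorem rowijkl (T : Models.NumericalType 4) : ∀ (i j k l : Fin 4), i ≠ j → i ≠ k → i ≠ l → j ≠ k → j ≠ l → k ≠ l → ∀ x,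
    T.a x i * T.m i + T.a x j * T.m j + T.a x k * T.m k + T.a x l * T.m l = 0 := by
  intro i j k l hij hik hil hjk hjl hkl x
  have huniv : (Finset.univ : Finset (Fin 4)) = {i, j, k, l} := by
    ext y
    simp only [Finset.mem_univ, Finset.mem_insert, Finset.mem_singleton, true_iff,
      Fin.ext_iff, ne_eq] at *
    omega
  have := congrFun T.mulVec_m x
  simp only [Matrix.mulVec, dotProduct, Pi.zero_apply] at this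
  rw [huniv, Finset.sum_insert (by
    simp only [Finset.mem_insert, Finset.mem_singleton, not_or]; exact ⟨hij, hik, hil⟩),
    Finset.sum_insert (by
    simp only [Finset.mem_insert, Finset.mem_singleton, not_or]; exact ⟨hjk, hjl⟩),
    Finset.sum_pair hkl] at this
  linarith

theorem notri (T : Models.NumericalType 4) (h2 : ∀ i, T.IsMinusTwo i) : ∀ (i j k : Fin 4), i ≠ j → j ≠ k → i ≠ k → 0 < T.a i j → 0 < T.a j k → 0 < T.a i k →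
    False := by
  intro i j k hij hjk hik pij pjk pik
  have hf : Function.Injective ![i, j, k] := by
    intro a b hab
    fin_cases a <;> fin_cases b <;> simp_all
  let v : Fin 3 ↪ Fin 4 := ⟨![i, j, k], hf⟩
  have hv0 : v 0 = i := rfl
  have hv1 : v 1 = j := rfl
  have hv2 : v 2 = k := rfl
  apply affine_excl T v (by norm_num) (by norm_num) (fun _ => 1) (fun _ => by norm_num)
  intro a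
  fin_cases a
  · apply row_nonneg T v (fun _ => 1) (fun _ => by norm_num) _ (h2 _) {1, 2}
    · decide
    · intro b hb
      simp only [Finset.mem_insert, Finset.mem_singleton] at hb
      rcases hb with rfl | rfl
      · show T.a (v 0) (v 1) ≠ 0
        rw [hv0, hv1]; exact pij.ne'
      · show T.a (v 0) (v 2) ≠ 0
        rw [hv0, hv2]; exact pik.ne'
    · simp
  · apply row_nonneg T v (fun _ => 1) (fun _ => by norm_num) _ (h2 _) {0, 2}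
    · decide
    · intro b hb
      simp only [Finset.mem_insert, Finset.mem_singleton] at hb
      rcases hb with rfl | rfl
      · show T.a (v 1) (v 0) ≠ 0
        rw [hv0, hv1, hsymm T]; exact pij.ne'
      · show T.a (v 1) (v 2) ≠ 0
        rw [hv1, hv2]; exact pjk.ne'
    · simp
  · apply row_nonneg T v (fun _ => 1) (fun _ => by norm_num) _ (h2 _) {0, 1}
    · decide
    · intro b hb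
      simp only [Finset.mem_insert, Finset.mem_singleton] at hb
      rcases hb with rfl | rfl
      · show T.a (v 2) (v 0) ≠ 0
        rw [hv0, hv2, hsymm T]; exact pik.ne'
      · show T.a (v 2) (v 1) ≠ 0
        rw [hv1, hv2, hsymm T]; exact pjk.ne'
    · simp

theorem hcases6 : ∀ p1 q1 p2 q2 p3 q3 : ℤ, 1 ≤ p1 → 1 ≤ q1 → 1 ≤ p2 → 1 ≤ q2 → 1 ≤ p3 → 1 ≤ q3 →
    p1 * q1 < 4 → p3 * q3 < 4 → 4 * (p2 * q2) = (4 - p1 * q1) * (4 - p3 * q3) →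
    p2 = 1 ∧ q2 = 1 ∧ ((p1 = 2 ∧ q1 = 1) ∨ (p1 = 1 ∧ q1 = 2)) ∧
      ((p3 = 2 ∧ q3 = 1) ∨ (p3 = 1 ∧ q3 = 2)) := by
  intro p1 q1 p2 q2 p3 q3 h1 h2 h3 h4 h5 h6 hP1 hP3 hE
  have b1 : p1 ≤ 3 := by nlinarith
  have b2 : q1 ≤ 3 := by nlinarith
  have b5 : p3 ≤ 3 := by nlinarith
  have b6 : q3 ≤ 3 := by nlinarith
  have a1 : 1 ≤ p1 * q1 := by nlinarith
  have a3 : 1 ≤ p3 * q3 := by nlinarith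
  have hAB : (4 - p1 * q1) * (4 - p3 * q3) ≤ 9 := by nlinarith
  have hpq : p2 * q2 ≤ 2 := by omega
  have b3 : p2 ≤ 2 := by nlinarith
  have b4 : q2 ≤ 2 := by nlinarith
  interval_cases p1 <;> interval_cases q1 <;> interval_cases p3 <;> interval_cases q3 <;>
    interval_cases p2 <;> interval_cases q2 <;> omega

theorem pathL (T : Models.NumericalType 4) (h2 : ∀ i, T.IsMinusTwo i) : ∀ (i j k l : Fin 4), i ≠ j → i ≠ k → i ≠ l → j ≠ k → j ≠ l → k ≠ l →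
    0 < T.a i j → 0 < T.a j k → 0 < T.a k l → T.a i k = 0 → T.a i l = 0 → T.a j l = 0 →
    ∃ (σ : Equiv.Perm (Fin 4)) (m w : ℤ),
      ((T.m (σ 0) = m ∧ T.m (σ 1) = m ∧ T.m (σ 2) = m ∧ T.m (σ 3) = m ∧ T.w (σ 0) = w ∧ T.w (σ 1) = w ∧ T.w (σ 2) = w ∧ T.w (σ 3) = w ∧ T.a (σ 0) (σ 0) = -2 * w ∧ T.a (σ 0) (σ 1) = w ∧ T.a (σ 0) (σ 2) = 0 ∧ T.a (σ 0) (σ 3) = w ∧ T.a (σ 1) (σ 1) = -2 * w ∧ T.a (σ 1) (σ 2) = w ∧ T.a (σ 1) (σ 3) = 0 ∧ T.a (σ 2) (σ 2) = -2 * w ∧ T.a (σ 2) (σ 3) = w ∧ T.a (σ 3) (σ 3) = -2 * w) ∨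
      (T.m (σ 0) = 2 * m ∧ T.m (σ 1) = 2 * m ∧ T.m (σ 2) = 2 * m ∧ T.m (σ 3) = m ∧ T.w (σ 0) = w ∧ T.w (σ 1) = 2 * w ∧ T.w (σ 2) = 2 * w ∧ T.w (σ 3) = 4 * w ∧ T.a (σ 0) (σ 0) = -2 * w ∧ T.a (σ 0) (σ 1) = 2 * w ∧ T.a (σ 0) (σ 2) = 0 ∧ T.a (σ 0) (σ 3) = 0 ∧ T.a (σ 1) (σ 1) = -4 * w ∧ T.a (σ 1) (σ 2) = 2 * w ∧ T.a (σ 1) (σ 3) = 0 ∧ T.a (σ 2) (σ 2) = -4 * w ∧ T.a (σ 2) (σ 3) = 4 * w ∧ T.a (σ 3) (σ 3) = -8 * w) ∨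
      (T.m (σ 0) = m ∧ T.m (σ 1) = m ∧ T.m (σ 2) = m ∧ T.m (σ 3) = m ∧ T.w (σ 0) = w ∧ T.w (σ 1) = 2 * w ∧ T.w (σ 2) = 2 * w ∧ T.w (σ 3) = w ∧ T.a (σ 0) (σ 0) = -2 * w ∧ T.a (σ 0) (σ 1) = 2 * w ∧ T.a (σ 0) (σ 2) = 0 ∧ T.a (σ 0) (σ 3) = 0 ∧ T.a (σ 1) (σ 1) = -4 * w ∧ T.a (σ 1) (σ 2) = 2 * w ∧ T.a (σ 1) (σ 3) = 0 ∧ T.a (σ 2) (σ 2) = -4 * w ∧ T.a (σ 2) (σ 3) = 2 * w ∧ T.a (σ 3) (σ 3) = -2 * w) ∨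
      (T.m (σ 0) = m ∧ T.m (σ 1) = 2 * m ∧ T.m (σ 2) = 2 * m ∧ T.m (σ 3) = m ∧ T.w (σ 0) = 2 * w ∧ T.w (σ 1) = w ∧ T.w (σ 2) = w ∧ T.w (σ 3) = 2 * w ∧ T.a (σ 0) (σ 0) = -4 * w ∧ T.a (σ 0) (σ 1) = 2 * w ∧ T.a (σ 0) (σ 2) = 0 ∧ T.a (σ 0) (σ 3) = 0 ∧ T.a (σ 1) (σ 1) = -2 * w ∧ T.a (σ 1) (σ 2) = w ∧ T.a (σ 1) (σ 3) = 0 ∧ T.a (σ 2) (σ 2) = -2 * w ∧ T.a (σ 2) (σ 3) = 2 * w ∧ T.a (σ 3) (σ 3) = -4 * w) ∨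
      (T.m (σ 0) = 2 * m ∧ T.m (σ 1) = m ∧ T.m (σ 2) = m ∧ T.m (σ 3) = m ∧ T.w (σ 0) = w ∧ T.w (σ 1) = w ∧ T.w (σ 2) = w ∧ T.w (σ 3) = 2 * w ∧ T.a (σ 0) (σ 0) = -2 * w ∧ T.a (σ 0) (σ 1) = w ∧ T.a (σ 0) (σ 2) = w ∧ T.a (σ 0) (σ 3) = 2 * w ∧ T.a (σ 1) (σ 1) = -2 * w ∧ T.a (σ 1) (σ 2) = 0 ∧ T.a (σ 1) (σ 3) = 0 ∧ T.a (σ 2) (σ 2) = -2 * w ∧ T.a (σ 2) (σ 3) = 0 ∧ T.a (σ 3) (σ 3) = -4 * w) ∨
      (T.m (σ 0) = 2 * m ∧ T.m (σ 1) = m ∧ T.m (σ 2) = m ∧ T.m (σ 3) = 2 * m ∧ T.w (σ 0) = 2 * w ∧ T.w (σ 1) = 2 * w ∧ T.w (σ 2) = 2 * w ∧ T.w (σ 3) = w ∧ T.a (σ 0) (σ 0) = -4 * w ∧ T.a (σ 0) (σ 1) = 2 * w ∧ T.a (σ 0) (σ 2) = 2 * w ∧ T.a (σ 0) (σ 3) = 2 * w ∧ T.a (σ 1) (σ 1) = -4 * w ∧ T.a (σ 1) (σ 2) = 0 ∧ T.a (σ 1) (σ 3) = 0 ∧ T.a (σ 2) (σ 2) = -4 * w ∧ T.a (σ 2) (σ 3) = 0 ∧ T.a (σ 3) (σ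 3) = -2 * w)) := by
  intro i j k l hij hik hil hjk hjl hkl pij pjk pkl zik zil zjl
  have hwi := T.w_pos i
  have hwj := T.w_pos j
  have hwk := T.w_pos k
  have hwl := T.w_pos l
  have hmi := T.m_pos i
  have hmj := T.m_pos j
  have hmk := T.m_pos k
  have hml := T.m_pos l
  obtain ⟨p1, hp1⟩ := T.w_dvd i j
  obtain ⟨q1, hq1⟩ := T.w_dvd j i
  obtain ⟨p2, hp2⟩ := T.w_dvd j k
  obtain ⟨q2, hq2⟩ := T.w_dvd k j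
  obtain ⟨p3, hp3⟩ := T.w_dvd k l
  obtain ⟨q3, hq3⟩ := T.w_dvd l k
  have sji : T.a j i = T.a i j := hsymm T j i
  have skj : T.a k j = T.a j k := hsymm T k j
  have slk : T.a l k = T.a k l := hsymm T l k
  have ski : T.a k i = 0 := Z T _ _ zik
  have sli : T.a l i = 0 := Z T _ _ zil
  have slj : T.a l j = 0 := Z T _ _ zjl
  rw [sji] at hq1
  rw [skj] at hq2
  rw [slk] at hq3
  have di := (h2 i).2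
  have dj := (h2 j).2
  have dk := (h2 k).2
  have dl := (h2 l).2
  have ri := rowijkl T i j k l hij hik hil hjk hjl hkl i
  have rj := rowijkl T i j k l hij hik hil hjk hjl hkl j
  have rk := rowijkl T i j k l hij hik hil hjk hjl hkl k
  have rl := rowijkl T i j k l hij hik hil hjk hjl hkl l
  rw [di, zik, zil, hp1] at ri
  rw [sji, dj, zjl, hq1, hp2] at rj
  rw [ski, skj, dk, hq2, hp3] at rk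
  rw [sli, slj, slk, dl, hq3] at rl
  have ei : p1 * T.m j = 2 * T.m i := by
    have := cancel (T.w i) (p1 * T.m j - 2 * T.m i) hwi (by linarith)
    linarith
  have ej : q1 * T.m i + p2 * T.m k = 2 * T.m j := by
    have := cancel (T.w j) (q1 * T.m i + p2 * T.m k - 2 * T.m j) hwj (by linarith)
    linarith
  have ek : q2 * T.m j + p3 * T.m l = 2 * T.m k := by
    have := cancel (T.w k) (q2 * T.m j + p3 * T.m l - 2 * T.m k) hwk (by linarith)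
    linarith
  have el : q3 * T.m k = 2 * T.m l := by
    have := cancel (T.w l) (q3 * T.m k - 2 * T.m l) hwl (by linarith)
    linarith
  have k1 : 1 ≤ p1 := cpos _ _ hwi (hp1 ▸ pij)
  have k2 : 1 ≤ q1 := cpos _ _ hwj (hq1 ▸ pij)
  have k3 : 1 ≤ p2 := cpos _ _ hwj (hp2 ▸ pjk)
  have k4 : 1 ≤ q2 := cpos _ _ hwk (hq2 ▸ pjk)
  have k5 : 1 ≤ p3 := cpos _ _ hwk (hp3 ▸ pkl)
  have k6 : 1 ≤ q3 := cpos _ _ hwl (hq3 ▸ pkl)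
  have f1 : 2 * p2 * T.m k = (4 - p1 * q1) * T.m j := by
    linear_combination 2 * ej + q1 * ei
  have f2 : 2 * q2 * T.m j = (4 - p3 * q3) * T.m k := by
    linear_combination 2 * ek + p3 * el
  have hP1 : p1 * q1 < 4 := by
    by_contra hc
    push Not at hc
    have h1 : 0 < 2 * p2 * T.m k := by positivity
    have h2' : (4 - p1 * q1) * T.m j ≤ 0 := mul_nonpos_of_nonpos_of_nonneg (by linarith) hmj.le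
    linarith
  have hP3 : p3 * q3 < 4 := by
    by_contra hc
    push Not at hc
    have h1 : 0 < 2 * q2 * T.m j := by positivity
    have h2' : (4 - p3 * q3) * T.m k ≤ 0 := mul_nonpos_of_nonpos_of_nonneg (by linarith) hmk.le
    linarith
  have hE : 4 * (p2 * q2) = (4 - p1 * q1) * (4 - p3 * q3) := by
    have h : (4 * (p2 * q2) - (4 - p1 * q1) * (4 - p3 * q3)) * (T.m j * T.m k) = 0 := by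
      linear_combination (2 * q2 * T.m j) * f1 + ((4 - p1 * q1) * T.m j) * f2
    rcases mul_eq_zero.mp h with h | h
    · linarith
    · exact absurd h (mul_pos hmj hmk).ne'
  obtain ⟨rfl, rfl, c1, c3⟩ := hcases6 p1 q1 p2 q2 p3 q3 k1 k2 k3 k4 k5 k6 hP1 hP3 hE
  obtain ⟨σ, s0, s1, s2, s3⟩ := perm4 i j k l hij hik hil hjk hjl hkl
  obtain ⟨τ, t0, t1, t2, t3⟩ := perm4 l k j i hkl.symm hjl.symm hil.symm hjk.symm hik.symm hij.symm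
  rcases c1 with ⟨rfl, rfl⟩ | ⟨rfl, rfl⟩ <;> rcases c3 with ⟨rfl, rfl⟩ | ⟨rfl, rfl⟩
  · refine ⟨σ, T.m l, T.w i, Or.inr (Or.inl ?_)⟩
    rw [s0, s1, s2, s3]
    refine ⟨?_, ?_, ?_, ?_, ?_, ?_, ?_, ?_, ?_, ?_, ?_, ?_, ?_, ?_, ?_, ?_, ?_, ?_⟩ <;> linarith
  · refine ⟨σ, T.m l, T.w i, Or.inr (Or.inr (Or.inl ?_))⟩
    rw [s0, s1, s2, s3]
    refine ⟨?_, ?_, ?_, ?_, ?_, ?_, ?_, ?_, ?_, ?_, ?_, ?_, ?_, ?_, ?_, ?_, ?_, ?_⟩ <;> linarith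
  · refine ⟨σ, T.m i, T.w j, Or.inr (Or.inr (Or.inr (Or.inl ?_)))⟩
    rw [s0, s1, s2, s3]
    refine ⟨?_, ?_, ?_, ?_, ?_, ?_, ?_, ?_, ?_, ?_, ?_, ?_, ?_, ?_, ?_, ?_, ?_, ?_⟩ <;> linarith
  · refine ⟨τ, T.m i, T.w l, Or.inr (Or.inl ?_)⟩
    rw [t0, t1, t2, t3]
    refine ⟨?_, ?_, ?_, ?_, ?_, ?_, ?_, ?_, ?_, ?_, ?_, ?_, ?_, ?_, ?_, ?_, ?_, ?_⟩ <;> linarith

theorem hcases3 : ∀ p1 q1 p2 q2 p3 q3 : ℤ, 1 ≤ p1 → 1 ≤ q1 → 1 ≤ p2 → 1 ≤ q2 → 1 ≤ p3 → 1 ≤ q3 →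
    p1 * q1 + p2 * q2 + p3 * q3 = 4 →
    (p1 = 1 ∧ q1 = 1 ∧ p2 = 1 ∧ q2 = 1 ∧ ((p3 = 2 ∧ q3 = 1) ∨ (p3 = 1 ∧ q3 = 2))) ∨
    (p1 = 1 ∧ q1 = 1 ∧ p3 = 1 ∧ q3 = 1 ∧ ((p2 = 2 ∧ q2 = 1) ∨ (p2 = 1 ∧ q2 = 2))) ∨
    (p2 = 1 ∧ q2 = 1 ∧ p3 = 1 ∧ q3 = 1 ∧ ((p1 = 2 ∧ q1 = 1) ∨ (p1 = 1 ∧ q1 = 2))) := by
  intro p1 q1 p2 q2 p3 q3 h1 h2 h3 h4 h5 h6 hE
  have b1 : p1 ≤ 2 := by nlinarith
  have b2 : q1 ≤ 2 := by nlinarith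
  have b3 : p2 ≤ 2 := by nlinarith
  have b4 : q2 ≤ 2 := by nlinarith
  have b5 : p3 ≤ 2 := by nlinarith
  have b6 : q3 ≤ 2 := by nlinarith
  interval_cases p1 <;> interval_cases q1 <;> interval_cases p2 <;> interval_cases q2 <;>
    interval_cases p3 <;> interval_cases q3 <;> omega

theorem starCore (T : Models.NumericalType 4) (h2 : ∀ i, T.IsMinusTwo i) : ∀ (c i j k : Fin 4), c ≠ i → c ≠ j → c ≠ k → i ≠ j → i ≠ k → j ≠ k →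
    T.a i j = 0 → T.a i k = 0 → T.a j k = 0 →
    T.a c i = T.w c ∧ T.a c i = T.w i ∧ T.a c j = T.w c ∧ T.a c j = T.w j ∧
    T.m c = 2 * T.m i ∧ T.m c = 2 * T.m j →
    ((T.a c k = T.w c * 2 ∧ T.a c k = T.w k ∧ T.m c = 2 * T.m k) ∨
      (T.a c k = T.w c ∧ T.a c k = T.w k * 2 ∧ T.m c = T.m k)) →
    ∃ (σ : Equiv.Perm (Fin 4)) (m w : ℤ),
      ((T.m (σ 0) = m ∧ T.m (σ 1) = m ∧ T.m (σ 2) = m ∧ T.m (σ 3) = m ∧ T.w (σ 0) = w ∧ T.w (σ 1) = w ∧ T.w (σ 2) = w ∧ T.w (σ 3) = w ∧ T.a (σ 0) (σ 0) = -2 * w ∧ T.a (σ 0) (σ 1) = w ∧ T.a (σ 0) (σ 2) = 0 ∧ T.a (σ 0) (σ 3) = w ∧ T.a (σ 1) (σ 1) = -2 * w ∧ T.a (σ 1) (σ 2) = w ∧ T.a (σ 1) (σ 3) = 0 ∧ T.a (σ 2) (σ 2) = -2 * w ∧ T.a (σ 2) (σ 3) = w ∧ T.a (σ 3) (σ 3) = -2 * w) ∨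
      (T.m (σ 0) = 2 * m ∧ T.m (σ 1) = 2 * m ∧ T.m (σ 2) = 2 * m ∧ T.m (σ 3) = m ∧ T.w (σ 0) = w ∧ T.w (σ 1) = 2 * w ∧ T.w (σ 2) = 2 * w ∧ T.w (σ 3) = 4 * w ∧ T.a (σ 0) (σ 0) = -2 * w ∧ T.a (σ 0) (σ 1) = 2 * w ∧ T.a (σ 0) (σ 2) = 0 ∧ T.a (σ 0) (σ 3) = 0 ∧ T.a (σ 1) (σ 1) = -4 * w ∧ T.a (σ 1) (σ 2) = 2 * w ∧ T.a (σ 1) (σ 3) = 0 ∧ T.a (σ 2) (σ 2) = -4 * w ∧ T.a (σ 2) (σ 3) = 4 * w ∧ T.a (σ 3) (σ 3) = -8 * w) ∨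
      (T.m (σ 0) = m ∧ T.m (σ 1) = m ∧ T.m (σ 2) = m ∧ T.m (σ 3) = m ∧ T.w (σ 0) = w ∧ T.w (σ 1) = 2 * w ∧ T.w (σ 2) = 2 * w ∧ T.w (σ 3) = w ∧ T.a (σ 0) (σ 0) = -2 * w ∧ T.a (σ 0) (σ 1) = 2 * w ∧ T.a (σ 0) (σ 2) = 0 ∧ T.a (σ 0) (σ 3) = 0 ∧ T.a (σ 1) (σ 1) = -4 * w ∧ T.a (σ 1) (σ 2) = 2 * w ∧ T.a (σ 1) (σ 3) = 0 ∧ T.a (σ 2) (σ 2) = -4 * w ∧ T.a (σ 2) (σ 3) = 2 * w ∧ T.a (σ 3) (σ 3) = -2 * w) ∨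
      (T.m (σ 0) = m ∧ T.m (σ 1) = 2 * m ∧ T.m (σ 2) = 2 * m ∧ T.m (σ 3) = m ∧ T.w (σ 0) = 2 * w ∧ T.w (σ 1) = w ∧ T.w (σ 2) = w ∧ T.w (σ 3) = 2 * w ∧ T.a (σ 0) (σ 0) = -4 * w ∧ T.a (σ 0) (σ 1) = 2 * w ∧ T.a (σ 0) (σ 2) = 0 ∧ T.a (σ 0) (σ 3) = 0 ∧ T.a (σ 1) (σ 1) = -2 * w ∧ T.a (σ 1) (σ 2) = w ∧ T.a (σ 1) (σ 3) = 0 ∧ T.a (σ 2) (σ 2) = -2 * w ∧ T.a (σ 2) (σ 3) = 2 * w ∧ T.a (σ 3) (σ 3) = -4 * w) ∨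
      (T.m (σ 0) = 2 * m ∧ T.m (σ 1) = m ∧ T.m (σ 2) = m ∧ T.m (σ 3) = m ∧ T.w (σ 0) = w ∧ T.w (σ 1) = w ∧ T.w (σ 2) = w ∧ T.w (σ 3) = 2 * w ∧ T.a (σ 0) (σ 0) = -2 * w ∧ T.a (σ 0) (σ 1) = w ∧ T.a (σ 0) (σ 2) = w ∧ T.a (σ 0) (σ 3) = 2 * w ∧ T.a (σ 1) (σ 1) = -2 * w ∧ T.a (σ 1) (σ 2) = 0 ∧ T.a (σ 1) (σ 3) = 0 ∧ T.a (σ 2) (σ 2) = -2 * w ∧ T.a (σ 2) (σ 3) = 0 ∧ T.a (σ 3) (σ 3) = -4 * w) ∨
      (T.m (σ 0) = 2 * m ∧ T.m (σ 1) = m ∧ T.m (σ 2) = m ∧ T.m (σ 3) = 2 * m ∧ T.w (σ 0) = 2 * w ∧ T.w (σ 1) = 2 * w ∧ T.w (σ 2) = 2 * w ∧ T.w (σ 3) = w ∧ T.a (σ 0) (σ 0) = -4 * w ∧ T.a (σ 0) (σ 1) = 2 * w ∧ T.a (σ 0) (σ 2) = 2 * w ∧ T.a (σ 0) (σ 3) = 2 * w ∧ T.a (σ 1) (σ 1) = -4 * w ∧ T.a (σ 1) (σ 2) = 0 ∧ T.a (σ 1) (σ 3) = 0 ∧ T.a (σ 2) (σ 2) = -4 * w ∧ T.a (σ 2) (σ 3) = 0 ∧ T.a (σ 3) (σ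 3) = -2 * w)) := by
  intro c i j k hci hcj hck hij hik hjk zij zik zjk ⟨a1, a2, a3, a4, a5, a6⟩ hk
  obtain ⟨σ, s0, s1, s2, s3⟩ := perm4 c i j k hci hcj hck hij hik hjk
  have dc := (h2 c).2
  have di := (h2 i).2
  have dj := (h2 j).2
  have dk := (h2 k).2
  rcases hk with ⟨b1, b2, b3⟩ | ⟨b1, b2, b3⟩
  · refine ⟨σ, T.m i, T.w c, Or.inr (Or.inr (Or.inr (Or.inr (Or.inl ?_))))⟩
    rw [s0, s1, s2, s3]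
    refine ⟨?_, ?_, ?_, ?_, ?_, ?_, ?_, ?_, ?_, ?_, ?_, ?_, ?_, ?_, ?_, ?_, ?_, ?_⟩ <;> linarith
  · refine ⟨σ, T.m i, T.w k, Or.inr (Or.inr (Or.inr (Or.inr (Or.inr ?_))))⟩
    rw [s0, s1, s2, s3]
    refine ⟨?_, ?_, ?_, ?_, ?_, ?_, ?_, ?_, ?_, ?_, ?_, ?_, ?_, ?_, ?_, ?_, ?_, ?_⟩ <;> linarith

theorem starL (T : Models.NumericalType 4) (h2 : ∀ i, T.IsMinusTwo i) : ∀ (c i j k : Fin 4), c ≠ i → c ≠ j → c ≠ k → i ≠ j → i ≠ k → j ≠ k →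
    0 < T.a c i → 0 < T.a c j → 0 < T.a c k → T.a i j = 0 → T.a i k = 0 → T.a j k = 0 →
    ∃ (σ : Equiv.Perm (Fin 4)) (m w : ℤ),
      ((T.m (σ 0) = m ∧ T.m (σ 1) = m ∧ T.m (σ 2) = m ∧ T.m (σ 3) = m ∧ T.w (σ 0) = w ∧ T.w (σ 1) = w ∧ T.w (σ 2) = w ∧ T.w (σ 3) = w ∧ T.a (σ 0) (σ 0) = -2 * w ∧ T.a (σ 0) (σ 1) = w ∧ T.a (σ 0) (σ 2) = 0 ∧ T.a (σ 0) (σ 3) = w ∧ T.a (σ 1) (σ 1) = -2 * w ∧ T.a (σ 1) (σ 2) = w ∧ T.a (σ 1) (σ 3) = 0 ∧ T.a (σ 2) (σ 2) = -2 * w ∧ T.a (σ 2) (σ 3) = w ∧ T.a (σ 3) (σ 3) = -2 * w) ∨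
      (T.m (σ 0) = 2 * m ∧ T.m (σ 1) = 2 * m ∧ T.m (σ 2) = 2 * m ∧ T.m (σ 3) = m ∧ T.w (σ 0) = w ∧ T.w (σ 1) = 2 * w ∧ T.w (σ 2) = 2 * w ∧ T.w (σ 3) = 4 * w ∧ T.a (σ 0) (σ 0) = -2 * w ∧ T.a (σ 0) (σ 1) = 2 * w ∧ T.a (σ 0) (σ 2) = 0 ∧ T.a (σ 0) (σ 3) = 0 ∧ T.a (σ 1) (σ 1) = -4 * w ∧ T.a (σ 1) (σ 2) = 2 * w ∧ T.a (σ 1) (σ 3) = 0 ∧ T.a (σ 2) (σ 2) = -4 * w ∧ T.a (σ 2) (σ 3) = 4 * w ∧ T.a (σ 3) (σ 3) = -8 * w) ∨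
      (T.m (σ 0) = m ∧ T.m (σ 1) = m ∧ T.m (σ 2) = m ∧ T.m (σ 3) = m ∧ T.w (σ 0) = w ∧ T.w (σ 1) = 2 * w ∧ T.w (σ 2) = 2 * w ∧ T.w (σ 3) = w ∧ T.a (σ 0) (σ 0) = -2 * w ∧ T.a (σ 0) (σ 1) = 2 * w ∧ T.a (σ 0) (σ 2) = 0 ∧ T.a (σ 0) (σ 3) = 0 ∧ T.a (σ 1) (σ 1) = -4 * w ∧ T.a (σ 1) (σ 2) = 2 * w ∧ T.a (σ 1) (σ 3) = 0 ∧ T.a (σ 2) (σ 2) = -4 * w ∧ T.a (σ 2) (σ 3) = 2 * w ∧ T.a (σ 3) (σ 3) = -2 * w) ∨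
      (T.m (σ 0) = m ∧ T.m (σ 1) = 2 * m ∧ T.m (σ 2) = 2 * m ∧ T.m (σ 3) = m ∧ T.w (σ 0) = 2 * w ∧ T.w (σ 1) = w ∧ T.w (σ 2) = w ∧ T.w (σ 3) = 2 * w ∧ T.a (σ 0) (σ 0) = -4 * w ∧ T.a (σ 0) (σ 1) = 2 * w ∧ T.a (σ 0) (σ 2) = 0 ∧ T.a (σ 0) (σ 3) = 0 ∧ T.a (σ 1) (σ 1) = -2 * w ∧ T.a (σ 1) (σ 2) = w ∧ T.a (σ 1) (σ 3) = 0 ∧ T.a (σ 2) (σ 2) = -2 * w ∧ T.a (σ 2) (σ 3) = 2 * w ∧ T.a (σ 3) (σ 3) = -4 * w) ∨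
      (T.m (σ 0) = 2 * m ∧ T.m (σ 1) = m ∧ T.m (σ 2) = m ∧ T.m (σ 3) = m ∧ T.w (σ 0) = w ∧ T.w (σ 1) = w ∧ T.w (σ 2) = w ∧ T.w (σ 3) = 2 * w ∧ T.a (σ 0) (σ 0) = -2 * w ∧ T.a (σ 0) (σ 1) = w ∧ T.a (σ 0) (σ 2) = w ∧ T.a (σ 0) (σ 3) = 2 * w ∧ T.a (σ 1) (σ 1) = -2 * w ∧ T.a (σ 1) (σ 2) = 0 ∧ T.a (σ 1) (σ 3) = 0 ∧ T.a (σ 2) (σ 2) = -2 * w ∧ T.a (σ 2) (σ 3) = 0 ∧ T.a (σ 3) (σ 3) = -4 * w) ∨
      (T.m (σ 0) = 2 * m ∧ T.m (σ 1) = m ∧ T.m (σ 2) = m ∧ T.m (σ 3) = 2 * m ∧ T.w (σ 0) = 2 * w ∧ T.w (σ 1) = 2 * w ∧ T.w (σ 2) = 2 * w ∧ T.w (σ 3) = w ∧ T.a (σ 0) (σ 0) = -4 * w ∧ T.a (σ 0) (σ 1) = 2 * w ∧ T.a (σ 0) (σ 2) = 2 * w ∧ T.a (σ 0) (σ 3) = 2 * w ∧ T.a (σ 1) (σ 1) = -4 * w ∧ T.a (σ 1) (σ 2) = 0 ∧ T.a (σ 1) (σ 3) = 0 ∧ T.a (σ 2) (σ 2) = -4 * w ∧ T.a (σ 2) (σ 3) = 0 ∧ T.a (σ 3) (σ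 3) = -2 * w)) := by
  intro c i j k hci hcj hck hij hik hjk pci pcj pck zij zik zjk
  have hwc := T.w_pos c
  have hwi := T.w_pos i
  have hwj := T.w_pos j
  have hwk := T.w_pos k
  have hmc := T.m_pos c
  obtain ⟨p1, hp1⟩ := T.w_dvd c i
  obtain ⟨q1, hq1⟩ := T.w_dvd i c
  obtain ⟨p2, hp2⟩ := T.w_dvd c j
  obtain ⟨q2, hq2⟩ := T.w_dvd j c
  obtain ⟨p3, hp3⟩ := T.w_dvd c k
  obtain ⟨q3, hq3⟩ := T.w_dvd k c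
  have sic : T.a i c = T.a c i := hsymm T i c
  have sjc : T.a j c = T.a c j := hsymm T j c
  have skc : T.a k c = T.a c k := hsymm T k c
  have sji : T.a j i = 0 := Z T _ _ zij
  have ski : T.a k i = 0 := Z T _ _ zik
  have skj : T.a k j = 0 := Z T _ _ zjk
  rw [sic] at hq1
  rw [sjc] at hq2
  rw [skc] at hq3
  have dc := (h2 c).2
  have di := (h2 i).2
  have dj := (h2 j).2
  have dk := (h2 k).2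
  have rc := rowijkl T c i j k hci hcj hck hij hik hjk c
  have ri := rowijkl T c i j k hci hcj hck hij hik hjk i
  have rj := rowijkl T c i j k hci hcj hck hij hik hjk j
  have rk := rowijkl T c i j k hci hcj hck hij hik hjk k
  rw [dc, hp1, hp2, hp3] at rc
  rw [sic, di, zij, zik, hq1] at ri
  rw [sjc, sji, dj, zjk, hq2] at rj
  rw [skc, ski, skj, dk, hq3] at rk
  have ec : p1 * T.m i + p2 * T.m j + p3 * T.m k = 2 * T.m c := by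
    have := cancel (T.w c) (p1 * T.m i + p2 * T.m j + p3 * T.m k - 2 * T.m c) hwc (by linarith)
    linarith
  have ei : q1 * T.m c = 2 * T.m i := by
    have := cancel (T.w i) (q1 * T.m c - 2 * T.m i) hwi (by linarith)
    linarith
  have ej : q2 * T.m c = 2 * T.m j := by
    have := cancel (T.w j) (q2 * T.m c - 2 * T.m j) hwj (by linarith)
    linarith
  have ek : q3 * T.m c = 2 * T.m k := by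
    have := cancel (T.w k) (q3 * T.m c - 2 * T.m k) hwk (by linarith)
    linarith
  have k1 : 1 ≤ p1 := cpos _ _ hwc (hp1 ▸ pci)
  have k2 : 1 ≤ q1 := cpos _ _ hwi (hq1 ▸ pci)
  have k3 : 1 ≤ p2 := cpos _ _ hwc (hp2 ▸ pcj)
  have k4 : 1 ≤ q2 := cpos _ _ hwj (hq2 ▸ pcj)
  have k5 : 1 ≤ p3 := cpos _ _ hwc (hp3 ▸ pck)
  have k6 : 1 ≤ q3 := cpos _ _ hwk (hq3 ▸ pck)
  have hE : p1 * q1 + p2 * q2 + p3 * q3 = 4 := by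
    have h : (p1 * q1 + p2 * q2 + p3 * q3 - 4) * T.m c = 0 := by
      linear_combination p1 * ei + p2 * ej + p3 * ek + 2 * ec
    rcases mul_eq_zero.mp h with h | h
    · linarith
    · exact absurd h hmc.ne'
  rcases hcases3 p1 q1 p2 q2 p3 q3 k1 k2 k3 k4 k5 k6 hE with
    ⟨rfl, rfl, rfl, rfl, hd⟩ | ⟨rfl, rfl, rfl, rfl, hd⟩ | ⟨rfl, rfl, rfl, rfl, hd⟩
  · refine starCore T h2 c i j k hci hcj hck hij hik hjk zij zik zjk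
      ⟨by linarith, by linarith, by linarith, by linarith, by linarith, by linarith⟩ ?_
    rcases hd with ⟨rfl, rfl⟩ | ⟨rfl, rfl⟩
    · exact Or.inl ⟨by linarith, by linarith, by linarith⟩
    · exact Or.inr ⟨by linarith, by linarith, by linarith⟩
  · refine starCore T h2 c i k j hci hck hcj hik hij hjk.symm zik zij (Z T _ _ zjk)
      ⟨by linarith, by linarith, by linarith, by linarith, by linarith, by linarith⟩ ?_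
    rcases hd with ⟨rfl, rfl⟩ | ⟨rfl, rfl⟩
    · exact Or.inl ⟨by linarith, by linarith, by linarith⟩
    · exact Or.inr ⟨by linarith, by linarith, by linarith⟩
  · refine starCore T h2 c j k i hcj hck hci hjk hij.symm hik.symm zjk (Z T _ _ zij) (Z T _ _ zik)
      ⟨by linarith, by linarith, by linarith, by linarith, by linarith, by linarith⟩ ?_
    rcases hd with ⟨rfl, rfl⟩ | ⟨rfl, rfl⟩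
    · exact Or.inl ⟨by linarith, by linarith, by linarith⟩
    · exact Or.inr ⟨by linarith, by linarith, by linarith⟩

theorem cycleL (T : Models.NumericalType 4) (h2 : ∀ i, T.IsMinusTwo i) : ∀ (i j k l : Fin 4), i ≠ j → i ≠ k → i ≠ l → j ≠ k → j ≠ l → k ≠ l →
    0 < T.a i j → 0 < T.a j k → 0 < T.a k l → 0 < T.a l i → T.a i k = 0 → T.a j l = 0 →
    ∃ (σ : Equiv.Perm (Fin 4)) (m w : ℤ),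
      ((T.m (σ 0) = m ∧ T.m (σ 1) = m ∧ T.m (σ 2) = m ∧ T.m (σ 3) = m ∧ T.w (σ 0) = w ∧ T.w (σ 1) = w ∧ T.w (σ 2) = w ∧ T.w (σ 3) = w ∧ T.a (σ 0) (σ 0) = -2 * w ∧ T.a (σ 0) (σ 1) = w ∧ T.a (σ 0) (σ 2) = 0 ∧ T.a (σ 0) (σ 3) = w ∧ T.a (σ 1) (σ 1) = -2 * w ∧ T.a (σ 1) (σ 2) = w ∧ T.a (σ 1) (σ 3) = 0 ∧ T.a (σ 2) (σ 2) = -2 * w ∧ T.a (σ 2) (σ 3) = w ∧ T.a (σ 3) (σ 3) = -2 * w) ∨
      (T.m (σ 0) = 2 * m ∧ T.m (σ 1) = 2 * m ∧ T.m (σ 2) = 2 * m ∧ T.m (σ 3) = m ∧ T.w (σ 0) = w ∧ T.w (σ 1) = 2 * w ∧ T.w (σ 2) = 2 * w ∧ T.w (σ 3) = 4 * w ∧ T.a (σ 0) (σ 0) = -2 * w ∧ T.a (σ 0) (σ 1) = 2 * w ∧ T.a (σ 0) (σ 2) = 0 ∧ T.a (σ 0) (σ 3) = 0 ∧ T.a (σ 1) (σ 1) = -4 * w ∧ T.a (σ 1) (σ 2) = 2 * w ∧ T.a (σ 1) (σ 3) = 0 ∧ T.a (σ 2) (σ 2) = -4 * w ∧ T.a (σ 2) (σ 3) = 4 * w ∧ T.a (σ 3) (σ 3) =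 -8 * w) ∨
      (T.m (σ 0) = m ∧ T.m (σ 1) = m ∧ T.m (σ 2) = m ∧ T.m (σ 3) = m ∧ T.w (σ 0) = w ∧ T.w (σ 1) = 2 * w ∧ T.w (σ 2) = 2 * w ∧ T.w (σ 3) = w ∧ T.a (σ 0) (σ 0) = -2 * w ∧ T.a (σ 0) (σ 1) = 2 * w ∧ T.a (σ 0) (σ 2) = 0 ∧ T.a (σ 0) (σ 3) = 0 ∧ T.a (σ 1) (σ 1) = -4 * w ∧ T.a (σ 1) (σ 2) = 2 * w ∧ T.a (σ 1) (σ 3) = 0 ∧ T.a (σ 2) (σ 2) = -4 * w ∧ T.a (σ 2) (σ 3) = 2 * w ∧ T.a (σ 3) (σ 3) = -2 * w) ∨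
      (T.m (σ 0) = m ∧ T.m (σ 1) = 2 * m ∧ T.m (σ 2) = 2 * m ∧ T.m (σ 3) = m ∧ T.w (σ 0) = 2 * w ∧ T.w (σ 1) = w ∧ T.w (σ 2) = w ∧ T.w (σ 3) = 2 * w ∧ T.a (σ 0) (σ 0) = -4 * w ∧ T.a (σ 0) (σ 1) = 2 * w ∧ T.a (σ 0) (σ 2) = 0 ∧ T.a (σ 0) (σ 3) = 0 ∧ T.a (σ 1) (σ 1) = -2 * w ∧ T.a (σ 1) (σ 2) = w ∧ T.a (σ 1) (σ 3) = 0 ∧ T.a (σ 2) (σ 2) = -2 * w ∧ T.a (σ 2) (σ 3) = 2 * w ∧ T.a (σ 3) (σ 3) = -4 * w) ∨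
      (T.m (σ 0) = 2 * m ∧ T.m (σ 1) = m ∧ T.m (σ 2) = m ∧ T.m (σ 3) = m ∧ T.w (σ 0) = w ∧ T.w (σ 1) = w ∧ T.w (σ 2) = w ∧ T.w (σ 3) = 2 * w ∧ T.a (σ 0) (σ 0) = -2 * w ∧ T.a (σ 0) (σ 1) = w ∧ T.a (σ 0) (σ 2) = w ∧ T.a (σ 0) (σ 3) = 2 * w ∧ T.a (σ 1) (σ 1) = -2 * w ∧ T.a (σ 1) (σ 2) = 0 ∧ T.a (σ 1) (σ 3) = 0 ∧ T.a (σ 2) (σ 2) = -2 * w ∧ T.a (σ 2) (σ 3) = 0 ∧ T.a (σ 3) (σ 3) = -4 * w) ∨
      (T.m (σ 0) = 2 * m ∧ T.m (σ 1) = m ∧ T.m (σ 2) = m ∧ T.m (σ 3) = 2 * m ∧ T.w (σ 0) = 2 * w ∧ T.w (σ 1) = 2 * w ∧ T.w (σ 2) = 2 * w ∧ T.w (σ 3) = w ∧ T.a (σ 0) (σ 0) = -4 * w ∧ T.a (σ 0) (σ 1) = 2 * w ∧ T.a (σ 0) (σ 2) = 2 * w ∧ T.a (σ 0) (σ 3) = 2 * w ∧ T.a (σ 1) (σ 1) = -4 * w ∧ T.a (σ 1) (σ 2) = 0 ∧ T.a (σ 1) (σ 3) = 0 ∧ T.a (σ 2) (σ 2) = -4 * w ∧ T.a (σ 2) (σ 3) = 0 ∧ T.a (σ 3) (σ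 3) = -2 * w)) := by
  intro i j k l hij hik hil hjk hjl hkl pij pjk pkl pli zik zjl
  have hwi := T.w_pos i
  have hwj := T.w_pos j
  have hwk := T.w_pos k
  have hwl := T.w_pos l
  have hmi := T.m_pos i
  have hmj := T.m_pos j
  have hmk := T.m_pos k
  have hml := T.m_pos l
  obtain ⟨cij, eij⟩ := T.w_dvd i j
  obtain ⟨cji, eji⟩ := T.w_dvd j i
  obtain ⟨cjk, ejk⟩ := T.w_dvd j k
  obtain ⟨ckj, ekj⟩ := T.w_dvd k j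
  obtain ⟨ckl, ekl⟩ := T.w_dvd k l
  obtain ⟨clk, elk⟩ := T.w_dvd l k
  obtain ⟨cli, eli⟩ := T.w_dvd l i
  obtain ⟨cil, eil⟩ := T.w_dvd i l
  have sji : T.a j i = T.a i j := hsymm T j i
  have skj : T.a k j = T.a j k := hsymm T k j
  have slk : T.a l k = T.a k l := hsymm T l k
  have sil : T.a i l = T.a l i := hsymm T i l
  have ski : T.a k i = 0 := Z T _ _ zik
  have slj : T.a l j = 0 := Z T _ _ zjl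
  rw [sji] at eji
  rw [skj] at ekj
  rw [slk] at elk
  rw [sil] at eil
  have di := (h2 i).2
  have dj := (h2 j).2
  have dk := (h2 k).2
  have dl := (h2 l).2
  have ri := rowijkl T i j k l hij hik hil hjk hjl hkl i
  have rj := rowijkl T i j k l hij hik hil hjk hjl hkl j
  have rk := rowijkl T i j k l hij hik hil hjk hjl hkl k
  have rl := rowijkl T i j k l hij hik hil hjk hjl hkl l
  rw [di, zik, sil, eij, eil] at ri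
  rw [sji, dj, zjl, eji, ejk] at rj
  rw [ski, skj, dk, ekj, ekl] at rk
  rw [slj, slk, dl, eli, elk] at rl
  have fi : cij * T.m j + cil * T.m l = 2 * T.m i := by
    have := cancel (T.w i) (cij * T.m j + cil * T.m l - 2 * T.m i) hwi (by linarith)
    linarith
  have fj : cji * T.m i + cjk * T.m k = 2 * T.m j := by
    have := cancel (T.w j) (cji * T.m i + cjk * T.m k - 2 * T.m j) hwj (by linarith)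
    linarith
  have fk : ckj * T.m j + ckl * T.m l = 2 * T.m k := by
    have := cancel (T.w k) (ckj * T.m j + ckl * T.m l - 2 * T.m k) hwk (by linarith)
    linarith
  have fl : cli * T.m i + clk * T.m k = 2 * T.m l := by
    have := cancel (T.w l) (cli * T.m i + clk * T.m k - 2 * T.m l) hwl (by linarith)
    linarith
  have k1 : 1 ≤ cij := cpos _ _ hwi (eij ▸ pij)
  have k2 : 1 ≤ cji := cpos _ _ hwj (eji ▸ pij)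
  have k3 : 1 ≤ cjk := cpos _ _ hwj (ejk ▸ pjk)
  have k4 : 1 ≤ ckj := cpos _ _ hwk (ekj ▸ pjk)
  have k5 : 1 ≤ ckl := cpos _ _ hwk (ekl ▸ pkl)
  have k6 : 1 ≤ clk := cpos _ _ hwl (elk ▸ pkl)
  have k7 : 1 ≤ cli := cpos _ _ hwl (eli ▸ pli)
  have k8 : 1 ≤ cil := cpos _ _ hwi (eil ▸ pli)
  have hsum : (cji + cli - 2) * T.m i + (cij + ckj - 2) * T.m j + (cjk + clk - 2) * T.m k +
      (cil + ckl - 2) * T.m l = 0 := by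
    linear_combination fi + fj + fk + fl
  have t0 : 0 ≤ (cji + cli - 2) * T.m i := mul_nonneg (by linarith) hmi.le
  have t1 : 0 ≤ (cij + ckj - 2) * T.m j := mul_nonneg (by linarith) hmj.le
  have t2 : 0 ≤ (cjk + clk - 2) * T.m k := mul_nonneg (by linarith) hmk.le
  have t3 : 0 ≤ (cil + ckl - 2) * T.m l := mul_nonneg (by linarith) hml.le
  have z0 : cji + cli - 2 = 0 := by
    have : (cji + cli - 2) * T.m i = 0 := by linarith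
    rcases mul_eq_zero.mp this with h | h
    · exact h
    · exact absurd h hmi.ne'
  have z1 : cij + ckj - 2 = 0 := by
    have : (cij + ckj - 2) * T.m j = 0 := by linarith
    rcases mul_eq_zero.mp this with h | h
    · exact h
    · exact absurd h hmj.ne'
  have z2 : cjk + clk - 2 = 0 := by
    have : (cjk + clk - 2) * T.m k = 0 := by linarith
    rcases mul_eq_zero.mp this with h | h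
    · exact h
    · exact absurd h hmk.ne'
  have z3 : cil + ckl - 2 = 0 := by
    have : (cil + ckl - 2) * T.m l = 0 := by linarith
    rcases mul_eq_zero.mp this with h | h
    · exact h
    · exact absurd h hml.ne'
  have v1 : cij = 1 := by omega
  have v2 : cji = 1 := by omega
  have v3 : cjk = 1 := by omega
  have v4 : ckj = 1 := by omega
  have v5 : ckl = 1 := by omega
  have v6 : clk = 1 := by omega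
  have v7 : cli = 1 := by omega
  have v8 : cil = 1 := by omega
  subst v1 v2 v3 v4 v5 v6 v7 v8
  obtain ⟨σ, s0, s1, s2, s3⟩ := perm4 i j k l hij hik hil hjk hjl hkl
  refine ⟨σ, T.m i, T.w i, Or.inl ?_⟩
  rw [s0, s1, s2, s3]
  refine ⟨?_, ?_, ?_, ?_, ?_, ?_, ?_, ?_, ?_, ?_, ?_, ?_, ?_, ?_, ?_, ?_, ?_, ?_⟩ <;> linarith

end Groth.Agent.H3.G4
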