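import Groth.Agent.H3.NumG4
import Groth.Agent.H3.NumChain

set_option autoImplicit false

namespace Groth.Agent.H3.G5
open Groth.Agent.H3 Groth.Agent.H2 Groth.Agent.H3.G4

theorem hsymm (T : Models.NumericalType 5) : ∀ i j, T.a i j = T.a j i :=
  fun i j => (T.symm.apply i j).symm

theorem Z (T : Models.NumericalType 5) : ∀ i j, T.a i j = 0 → T.a j i = 0 :=
  fun i j h => by rw [hsymm]; exact h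

theorem P (T : Models.NumericalType 5) : ∀ i j, i ≠ j → ¬ T.a i j = 0 → 0 < T.a i j :=
  fun i j hij h => lt_of_le_of_ne (T.offDiag_nonneg i j hij) (Ne.symm h)

theorem P' (T : Models.NumericalType 5) : ∀ i j, i ≠ j → ¬ T.a i j = 0 → 0 < T.a j i :=
  fun i j hij h => by rw [hsymm]; exact P T i j hij h

theorem perm5 : ∀ (i j k l o : Fin 5), i ≠ j → i ≠ k → i ≠ l → i ≠ o → j ≠ k → j ≠ l → j ≠ o →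
    k ≠ l → k ≠ o → l ≠ o →
    ∃ σ : Equiv.Perm (Fin 5), σ 0 = i ∧ σ 1 = j ∧ σ 2 = k ∧ σ 3 = l ∧ σ 4 = o := by
  intro i j k l o hij hik hil hio hjk hjl hjo hkl hko hlo
  have hinj : Function.Injective ![i, j, k, l, o] := by
    intro a b hab
    fin_cases a <;> fin_cases b <;> simp_all
  exact ⟨Equiv.ofBijective _ (Finite.injective_iff_bijective.mp hinj), rfl, rfl, rfl, rfl, rfl⟩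

theorem row5 (T : Models.NumericalType 5) : ∀ (i j k l o : Fin 5), i ≠ j → i ≠ k → i ≠ l → i ≠ o →
    j ≠ k → j ≠ l → j ≠ o → k ≠ l → k ≠ o → l ≠ o → ∀ x,
    T.a x i * T.m i + T.a x j * T.m j + T.a x k * T.m k + T.a x l * T.m l + T.a x o * T.m o = 0 := by
  intro i j k l o hij hik hil hio hjk hjl hjo hkl hko hlo x
  have huniv : (Finset.univ : Finset (Fin 5)) = {i, j, k, l, o} := by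
    ext y
    simp only [Finset.mem_univ, Finset.mem_insert, Finset.mem_singleton, true_iff,
      Fin.ext_iff, ne_eq] at *
    omega
  have := congrFun T.mulVec_m x
  simp only [Matrix.mulVec, dotProduct, Pi.zero_apply] at this
  rw [huniv, Finset.sum_insert (by
    simp only [Finset.mem_insert, Finset.mem_singleton, not_or]; exact ⟨hij, hik, hil, hio⟩),
    Finset.sum_insert (by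
    simp only [Finset.mem_insert, Finset.mem_singleton, not_or]; exact ⟨hjk, hjl, hjo⟩),
    Finset.sum_insert (by
    simp only [Finset.mem_insert, Finset.mem_singleton, not_or]; exact ⟨hkl, hko⟩),
    Finset.sum_pair hlo] at this
  linarith

/-- a cycle of `(-2)`-indices on a proper subset of the indices is impossible -/
theorem nocycle {n : ℕ} (T : Models.NumericalType n) (h2 : ∀ i, T.IsMinusTwo i) (t : ℕ) (ht : 3 ≤ t)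
    (htn : t < n) (v : Fin t ↪ Fin n)
    (hadj : ∀ j j' : Fin t, j'.val = j.val + 1 → T.a (v j) (v j') ≠ 0)
    (hclose : T.a (v ⟨0, by omega⟩) (v ⟨t - 1, by omega⟩) ≠ 0) : False := by
  let C : Chain T t := { v := v, lt := htn, m2 := fun j => h2 _, adj := hadj }
  have := C.no_chord (j := 0) (k := t - 1) (by omega) (by omega)
  rw [C.V_of_lt (by omega), C.V_of_lt (by omega)] at this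
  exact hclose this

theorem notri (T : Models.NumericalType 5) (h2 : ∀ i, T.IsMinusTwo i) : ∀ (i j k : Fin 5),
    i ≠ j → j ≠ k → i ≠ k → 0 < T.a i j → 0 < T.a j k → 0 < T.a i k → False := by
  intro i j k hij hjk hik pij pjk pik
  have hf : Function.Injective ![i, j, k] := by
    intro a b hab
    fin_cases a <;> fin_cases b <;> simp_all
  refine nocycle T h2 3 (by norm_num) (by norm_num) ⟨![i, j, k], hf⟩ ?_ ?_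
  · intro a b hab
    have key : ∀ (x y : ℕ) (hx : x < 3) (hy : y < 3), y = x + 1 →
        T.a (![i, j, k] ⟨x, hx⟩) (![i, j, k] ⟨y, hy⟩) ≠ 0 := by
      intro x y hx hy hxy
      subst hxy
      have : x = 0 ∨ x = 1 := by omega
      rcases this with rfl | rfl
      · exact pij.ne'
      · exact pjk.ne'
    exact key a.val b.val a.isLt b.isLt hab
  · exact pik.ne'

theorem nocyc4 (T : Models.NumericalType 5) (h2 : ∀ i, T.IsMinusTwo i) : ∀ (i j k l : Fin 5),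
    i ≠ j → i ≠ k → i ≠ l → j ≠ k → j ≠ l → k ≠ l →
    0 < T.a i j → 0 < T.a j k → 0 < T.a k l → 0 < T.a l i → False := by
  intro i j k l hij hik hil hjk hjl hkl pij pjk pkl pli
  have hf : Function.Injective ![i, j, k, l] := by
    intro a b hab
    fin_cases a <;> fin_cases b <;> simp_all
  refine nocycle T h2 4 (by norm_num) (by norm_num) ⟨![i, j, k, l], hf⟩ ?_ ?_
  · intro a b hab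
    have key : ∀ (x y : ℕ) (hx : x < 4) (hy : y < 4), y = x + 1 →
        T.a (![i, j, k, l] ⟨x, hx⟩) (![i, j, k, l] ⟨y, hy⟩) ≠ 0 := by
      intro x y hx hy hxy
      subst hxy
      have : x = 0 ∨ x = 1 ∨ x = 2 := by omega
      rcases this with rfl | rfl | rfl
      · exact pij.ne'
      · exact pjk.ne'
      · exact pkl.ne'
    exact key a.val b.val a.isLt b.isLt hab
  · show T.a i l ≠ 0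
    rw [hsymm T i l]; exact pli.ne'

theorem prod1 (p q : ℤ) (hp : 1 ≤ p) (hq : 1 ≤ q) (h : p * q = 1) : p = 1 ∧ q = 1 := by
  have : p ≤ 1 := by nlinarith
  have : q ≤ 1 := by nlinarith
  constructor <;> omega

theorem prod2 (p q : ℤ) (hp : 1 ≤ p) (hq : 1 ≤ q) (h : p * q = 2) :
    (p = 2 ∧ q = 1) ∨ (p = 1 ∧ q = 2) := by
  have h1 : p ≤ 2 := by nlinarith
  have h2 : q ≤ 2 := by nlinarith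
  interval_cases p <;> interval_cases q <;> omega

theorem pathP (P1 P2 P3 P4 : ℤ) (h1 : 1 ≤ P1) (h2 : 1 ≤ P2) (h3 : 1 ≤ P3) (h4 : 1 ≤ P4)
    (b1 : P1 ≤ 3) (b4 : P4 ≤ 3) (hE : P2 * (4 - P4) + P3 * (4 - P1) = (4 - P1) * (4 - P4)) :
    (P1 = 2 ∧ P2 = 1 ∧ P3 = 1 ∧ P4 = 2) ∨ (P1 = 1 ∧ P2 = 1 ∧ P3 = 2 ∧ P4 = 1) ∨
      (P1 = 1 ∧ P2 = 2 ∧ P3 = 1 ∧ P4 = 1) := by
  interval_cases P1 <;> interval_cases P4 <;> omega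

theorem forkP (Pa Pb P1 P2 : ℤ) (ha : 1 ≤ Pa) (hb : 1 ≤ Pb) (h1 : 1 ≤ P1) (h2 : 1 ≤ P2)
    (b2 : P2 ≤ 3) (bab : Pa + Pb ≤ 3) (hE : 4 * P1 = (4 - P2) * (4 - Pa - Pb)) :
    Pa = 1 ∧ Pb = 1 ∧ P1 = 1 ∧ P2 = 2 := by
  have : Pa ≤ 2 := by omega
  have : Pb ≤ 2 := by omega
  interval_cases Pa <;> interval_cases Pb <;> interval_cases P2 <;> omega

theorem cycleL (T : Models.NumericalType 5) (h2 : ∀ i, T.IsMinusTwo i) :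
    ∀ (i j k l u : Fin 5), i ≠ j → i ≠ k → i ≠ l → i ≠ u → j ≠ k → j ≠ l → j ≠ u → k ≠ l → k ≠ u → l ≠ u →
    0 < T.a i j → 0 < T.a j k → 0 < T.a k l → 0 < T.a l u → 0 < T.a i u →
    T.a i k = 0 → T.a i l = 0 → T.a j l = 0 → T.a j u = 0 → T.a k u = 0 →
    ∃ (σ : Equiv.Perm (Fin 5)) (m w : ℤ),
          ((T.m (σ 0) = m ∧ T.m (σ 1) = m ∧ T.m (σ 2) = m ∧ T.m (σ 3) = m ∧ T.m (σ 4) = m ∧ T.w (σ 0) = w ∧ T.w (σ 1) = w ∧ T.w (σ 2) = w ∧ T.w (σ 3) = w ∧ T.w (σ 4) = w ∧ T.a (σ 0) (σ 0) = -2 * w ∧ T.a (σ 0) (σ 1) = w ∧ T.a (σ 0) (σ 2) = 0 ∧ T.a (σ 0) (σ 3) = 0 ∧ T.a (σ 0) (σ 4) = w ∧ T.a (σ 1) (σ 1) = -2 * w ∧ T.a (σ 1) (σ 2) = w ∧ T.a (σ 1) (σ 3) = 0 ∧ T.a (σ 1) (σ 4) = 0 ∧ T.a (σ 2) (σ 2) = -2 * w ∧ T.a (σ 2) (σ 3) = w ∧ T.a (σ 2) (σ 4) = 0 ∧ T.a (σ 3) (σ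 3) = -2 * w ∧ T.a (σ 3) (σ 4) = w ∧ T.a (σ 4) (σ 4) = -2 * w) ∨
          (T.m (σ 0) = m ∧ T.m (σ 1) = 2 * m ∧ T.m (σ 2) = 3 * m ∧ T.m (σ 3) = 2 * m ∧ T.m (σ 4) = m ∧ T.w (σ 0) = w ∧ T.w (σ 1) = w ∧ T.w (σ 2) = w ∧ T.w (σ 3) = 2 * w ∧ T.w (σ 4) = 2 * w ∧ T.a (σ 0) (σ 0) = -2 * w ∧ T.a (σ 0) (σ 1) = w ∧ T.a (σ 0) (σ 2) = 0 ∧ T.a (σ 0) (σ 3) = 0 ∧ T.a (σ 0) (σ 4) = 0 ∧ T.a (σ 1) (σ 1) = -2 * w ∧ T.a (σ 1) (σ 2) = w ∧ T.a (σ 1) (σ 3) = 0 ∧ T.a (σ 1) (σ 4) = 0 ∧ T.a (σ 2) (σ 2) = -2 * w ∧ T.a (σ 2) (σ 3) = 2 * w ∧ T.a (σ 2) (σ 4) = 0 ∧ T.a (σ 3) (σ 3) = -4 * w ∧ T.a (σ 3) (σ 4) = 2 * w ∧ T.a (σ 4) (σ 4) = -4 * w) ∨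
          (T.m (σ 0) = m ∧ T.m (σ 1) = 2 * m ∧ T.m (σ 2) = 3 * m ∧ T.m (σ 3) = 4 * m ∧ T.m (σ 4) = 2 * m ∧ T.w (σ 0) = 2 * w ∧ T.w (σ 1) = 2 * w ∧ T.w (σ 2) = 2 * w ∧ T.w (σ 3) = w ∧ T.w (σ 4) = w ∧ T.a (σ 0) (σ 0) = -4 * w ∧ T.a (σ 0) (σ 1) = 2 * w ∧ T.a (σ 0) (σ 2) = 0 ∧ T.a (σ 0) (σ 3) = 0 ∧ T.a (σ 0) (σ 4) = 0 ∧ T.a (σ 1) (σ 1) = -4 * w ∧ T.a (σ 1) (σ 2) = 2 * w ∧ T.a (σ 1) (σ 3) = 0 ∧ T.a (σ 1) (σ 4) = 0 ∧ T.a (σ 2) (σ 2) = -4 * w ∧ T.a (σ 2) (σ 3) = 2 * w ∧ T.a (σ 2) (σ 4) = 0 ∧ T.a (σ 3) (σ 3) = -2 * w ∧ T.a (σ 3) (σ 4) = w ∧ T.a (σ 4) (σ 4) = -2 * w) ∨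
          (T.m (σ 0) = 2 * m ∧ T.m (σ 1) = 2 * m ∧ T.m (σ 2) = 2 * m ∧ T.m (σ 3) = 2 * m ∧ T.m (σ 4) = m ∧ T.w (σ 0) = w ∧ T.w (σ 1) = 2 * w ∧ T.w (σ 2) = 2 * w ∧ T.w (σ 3) = 2 * w ∧ T.w (σ 4) = 4 * w ∧ T.a (σ 0) (σ 0) = -2 * w ∧ T.a (σ 0) (σ 1) = 2 * w ∧ T.a (σ 0) (σ 2) = 0 ∧ T.a (σ 0) (σ 3) = 0 ∧ T.a (σ 0) (σ 4) = 0 ∧ T.a (σ 1) (σ 1) = -4 * w ∧ T.a (σ 1) (σ 2) = 2 * w ∧ T.a (σ 1) (σ 3) = 0 ∧ T.a (σ 1) (σ 4) = 0 ∧ T.a (σ 2) (σ 2) = -4 * w ∧ T.a (σ 2) (σ 3) = 2 * w ∧ T.a (σ 2) (σ 4) = 0 ∧ T.a (σ 3) (σ 3) = -4 * w ∧ T.a (σ 3) (σ 4) = 4 * w ∧ T.a (σ 4) (σ 4) = -8 * w) ∨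
          (T.m (σ 0) = m ∧ T.m (σ 1) = m ∧ T.m (σ 2) = m ∧ T.m (σ 3) = m ∧ T.m (σ 4) = m ∧ T.w (σ 0) = w ∧ T.w (σ 1) = 2 * w ∧ T.w (σ 2) = 2 * w ∧ T.w (σ 3) = 2 * w ∧ T.w (σ 4) = w ∧ T.a (σ 0) (σ 0) = -2 * w ∧ T.a (σ 0) (σ 1) = 2 * w ∧ T.a (σ 0) (σ 2) = 0 ∧ T.a (σ 0) (σ 3) = 0 ∧ T.a (σ 0) (σ 4) = 0 ∧ T.a (σ 1) (σ 1) = -4 * w ∧ T.a (σ 1) (σ 2) = 2 * w ∧ T.a (σ 1) (σ 3) = 0 ∧ T.a (σ 1) (σ 4) = 0 ∧ T.a (σ 2) (σ 2) = -4 * w ∧ T.a (σ 2) (σ 3) = 2 * w ∧ T.a (σ 2) (σ 4) = 0 ∧ T.a (σ 3) (σ 3) = -4 * w ∧ T.a (σ 3) (σ 4) = 2 * w ∧ T.a (σ 4) (σ 4) = -2 * w) ∨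
          (T.m (σ 0) = m ∧ T.m (σ 1) = 2 * m ∧ T.m (σ 2) = 2 * m ∧ T.m (σ 3) = 2 * m ∧ T.m (σ 4) = m ∧ T.w (σ 0) = 2 * w ∧ T.w (σ 1) = w ∧ T.w (σ 2) = w ∧ T.w (σ 3) = w ∧ T.w (σ 4) = 2 * w ∧ T.a (σ 0) (σ 0) = -4 * w ∧ T.a (σ 0) (σ 1) = 2 * w ∧ T.a (σ 0) (σ 2) = 0 ∧ T.a (σ 0) (σ 3) = 0 ∧ T.a (σ 0) (σ 4) = 0 ∧ T.a (σ 1) (σ 1) = -2 * w ∧ T.a (σ 1) (σ 2) = w ∧ T.a (σ 1) (σ 3) = 0 ∧ T.a (σ 1) (σ 4) = 0 ∧ T.a (σ 2) (σ 2) = -2 * w ∧ T.a (σ 2) (σ 3) = w ∧ T.a (σ 2) (σ 4) = 0 ∧ T.a (σ 3) (σ 3) = -2 * w ∧ T.a (σ 3) (σ 4) = 2 * w ∧ T.a (σ 4) (σ 4) = -4 * w) ∨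
          (T.m (σ 0) = 2 * m ∧ T.m (σ 1) = m ∧ T.m (σ 2) = m ∧ T.m (σ 3) = m ∧ T.m (σ 4) = m ∧ T.w (σ 0) = w ∧ T.w (σ 1) = w ∧ T.w (σ 2) = w ∧ T.w (σ 3) = w ∧ T.w (σ 4) = w ∧ T.a (σ 0) (σ 0) = -2 * w ∧ T.a (σ 0) (σ 1) = w ∧ T.a (σ 0) (σ 2) = w ∧ T.a (σ 0) (σ 3) = w ∧ T.a (σ 0) (σ 4) = w ∧ T.a (σ 1) (σ 1) = -2 * w ∧ T.a (σ 1) (σ 2) = 0 ∧ T.a (σ 1) (σ 3) = 0 ∧ T.a (σ 1) (σ 4) = 0 ∧ T.a (σ 2) (σ 2) = -2 * w ∧ T.a (σ 2) (σ 3) = 0 ∧ T.a (σ 2) (σ 4) = 0 ∧ T.a (σ 3) (σ 3) = -2 * w ∧ T.a (σ 3) (σ 4) = 0 ∧ T.a (σ 4) (σ 4) = -2 * w) ∨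
          (T.m (σ 0) = m ∧ T.m (σ 1) = 2 * m ∧ T.m (σ 2) = 2 * m ∧ T.m (σ 3) = m ∧ T.m (σ 4) = m ∧ T.w (σ 0) = 2 * w ∧ T.w (σ 1) = w ∧ T.w (σ 2) = w ∧ T.w (σ 3) = w ∧ T.w (σ 4) = w ∧ T.a (σ 0) (σ 0) = -4 * w ∧ T.a (σ 0) (σ 1) = 2 * w ∧ T.a (σ 0) (σ 2) = 0 ∧ T.a (σ 0) (σ 3) = 0 ∧ T.a (σ 0) (σ 4) = 0 ∧ T.a (σ 1) (σ 1) = -2 * w ∧ T.a (σ 1) (σ 2) = w ∧ T.a (σ 1) (σ 3) = 0 ∧ T.a (σ 1) (σ 4) = 0 ∧ T.a (σ 2) (σ 2) = -2 * w ∧ T.a (σ 2) (σ 3) = w ∧ T.a (σ 2) (σ 4) = w ∧ T.a (σ 3) (σ 3) = -2 * w ∧ T.a (σ 3) (σ 4) = 0 ∧ T.a (σ 4) (σ 4) = -2 * w) ∨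
          (T.m (σ 0) = 2 * m ∧ T.m (σ 1) = 2 * m ∧ T.m (σ 2) = 2 * m ∧ T.m (σ 3) = m ∧ T.m (σ 4) = m ∧ T.w (σ 0) = w ∧ T.w (σ 1) = 2 * w ∧ T.w (σ 2) = 2 * w ∧ T.w (σ 3) = 2 * w ∧ T.w (σ 4) = 2 * w ∧ T.a (σ 0) (σ 0) = -2 * w ∧ T.a (σ 0) (σ 1) = 2 * w ∧ T.a (σ 0) (σ 2) = 0 ∧ T.a (σ 0) (σ 3) = 0 ∧ T.a (σ 0) (σ 4) = 0 ∧ T.a (σ 1) (σ 1) = -4 * w ∧ T.a (σ 1) (σ 2) = 2 * w ∧ T.a (σ 1) (σ 3) = 0 ∧ T.a (σ 1) (σ 4) = 0 ∧ T.a (σ 2) (σ 2) = -4 * w ∧ T.a (σ 2) (σ 3) = 2 * w ∧ T.a (σ 2) (σ 4) = 2 * w ∧ T.a (σ 3) (σ 3) = -4 * w ∧ T.a (σ 3) (σ 4) = 0 ∧ T.a (σ 4) (σ 4) = -4 * w)) := by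
  intro i j k l u hij hik hil hiu hjk hjl hju hkl hku hlu pij pjk pkl plu piu zik zil zjl zju zku
  have hwi := T.w_pos i
  have hmi := T.m_pos i
  have di := (h2 i).2
  have hwj := T.w_pos j
  have hmj := T.m_pos j
  have dj := (h2 j).2
  have hwk := T.w_pos k
  have hmk := T.m_pos k
  have dk := (h2 k).2
  have hwl := T.w_pos l
  have hml := T.m_pos l
  have dl := (h2 l).2
  have hwu := T.w_pos u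
  have hmu := T.m_pos u
  have du := (h2 u).2
  obtain ⟨p1, hp1⟩ := T.w_dvd i j
  obtain ⟨q1, hq1⟩ := T.w_dvd j i
  have sji : T.a j i = T.a i j := hsymm T j i
  rw [sji] at hq1
  obtain ⟨p2, hp2⟩ := T.w_dvd j k
  obtain ⟨q2, hq2⟩ := T.w_dvd k j
  have skj : T.a k j = T.a j k := hsymm T k j
  rw [skj] at hq2
  obtain ⟨p3, hp3⟩ := T.w_dvd k l
  obtain ⟨q3, hq3⟩ := T.w_dvd l k
  have slk : T.a l k = T.a k l := hsymm T l k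
  rw [slk] at hq3
  obtain ⟨p4, hp4⟩ := T.w_dvd l u
  obtain ⟨q4, hq4⟩ := T.w_dvd u l
  have sul : T.a u l = T.a l u := hsymm T u l
  rw [sul] at hq4
  obtain ⟨p5, hp5⟩ := T.w_dvd i u
  obtain ⟨q5, hq5⟩ := T.w_dvd u i
  have sui : T.a u i = T.a i u := hsymm T u i
  rw [sui] at hq5
  have zki : T.a k i = 0 := Z T _ _ zik
  have zli : T.a l i = 0 := Z T _ _ zil
  have zlj : T.a l j = 0 := Z T _ _ zjl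
  have zuj : T.a u j = 0 := Z T _ _ zju
  have zuk : T.a u k = 0 := Z T _ _ zku
  have ri := row5 T i j k l u hij hik hil hiu hjk hjl hju hkl hku hlu i
  rw [di, hp1, zik, zil, hp5] at ri
  have rj := row5 T i j k l u hij hik hil hiu hjk hjl hju hkl hku hlu j
  rw [sji, hq1, dj, hp2, zjl, zju] at rj
  have rk := row5 T i j k l u hij hik hil hiu hjk hjl hju hkl hku hlu k
  rw [zki, skj, hq2, dk, hp3, zku] at rk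
  have rl := row5 T i j k l u hij hik hil hiu hjk hjl hju hkl hku hlu l
  rw [zli, zlj, slk, hq3, dl, hp4] at rl
  have ru := row5 T i j k l u hij hik hil hiu hjk hjl hju hkl hku hlu u
  rw [sui, hq5, zuj, zuk, sul, hq4, du] at ru
  have ei : p1 * T.m j + p5 * T.m u = 2 * T.m i := by
    have := cancel (T.w i) (p1 * T.m j + p5 * T.m u - 2 * T.m i) hwi (by linarith)
    linarith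
  have ej : q1 * T.m i + p2 * T.m k = 2 * T.m j := by
    have := cancel (T.w j) (q1 * T.m i + p2 * T.m k - 2 * T.m j) hwj (by linarith)
    linarith
  have ek : q2 * T.m j + p3 * T.m l = 2 * T.m k := by
    have := cancel (T.w k) (q2 * T.m j + p3 * T.m l - 2 * T.m k) hwk (by linarith)
    linarith
  have el : q3 * T.m k + p4 * T.m u = 2 * T.m l := by
    have := cancel (T.w l) (q3 * T.m k + p4 * T.m u - 2 * T.m l) hwl (by linarith)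
    linarith
  have eu : q5 * T.m i + q4 * T.m l = 2 * T.m u := by
    have := cancel (T.w u) (q5 * T.m i + q4 * T.m l - 2 * T.m u) hwu (by linarith)
    linarith
  have kp1 : 1 ≤ p1 := cpos _ _ hwi (hp1 ▸ pij)
  have kq1 : 1 ≤ q1 := cpos _ _ hwj (hq1 ▸ pij)
  have kp2 : 1 ≤ p2 := cpos _ _ hwj (hp2 ▸ pjk)
  have kq2 : 1 ≤ q2 := cpos _ _ hwk (hq2 ▸ pjk)
  have kp3 : 1 ≤ p3 := cpos _ _ hwk (hp3 ▸ pkl)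
  have kq3 : 1 ≤ q3 := cpos _ _ hwl (hq3 ▸ pkl)
  have kp4 : 1 ≤ p4 := cpos _ _ hwl (hp4 ▸ plu)
  have kq4 : 1 ≤ q4 := cpos _ _ hwu (hq4 ▸ plu)
  have kp5 : 1 ≤ p5 := cpos _ _ hwi (hp5 ▸ piu)
  have kq5 : 1 ≤ q5 := cpos _ _ hwu (hq5 ▸ piu)
  clear ri rj rk rl ru
  have hsum : (q1 + q5 - 2) * T.m i + (p1 + q2 - 2) * T.m j + (p2 + q3 - 2) * T.m k + (p3 + q4 - 2) * T.m l + (p4 + p5 - 2) * T.m u = 0 := by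
    linear_combination ei + ej + ek + el + eu
  have ti : 0 ≤ (q1 + q5 - 2) * T.m i := mul_nonneg (by linarith) hmi.le
  have tj : 0 ≤ (p1 + q2 - 2) * T.m j := mul_nonneg (by linarith) hmj.le
  have tk : 0 ≤ (p2 + q3 - 2) * T.m k := mul_nonneg (by linarith) hmk.le
  have tl : 0 ≤ (p3 + q4 - 2) * T.m l := mul_nonneg (by linarith) hml.le
  have tu : 0 ≤ (p4 + p5 - 2) * T.m u := mul_nonneg (by linarith) hmu.le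
  have ui : q1 + q5 - 2 = 0 := by
    have : (q1 + q5 - 2) * T.m i = 0 := by linarith
    rcases mul_eq_zero.mp this with h | h
    · exact h
    · exact absurd h hmi.ne'
  have uj : p1 + q2 - 2 = 0 := by
    have : (p1 + q2 - 2) * T.m j = 0 := by linarith
    rcases mul_eq_zero.mp this with h | h
    · exact h
    · exact absurd h hmj.ne'
  have uk : p2 + q3 - 2 = 0 := by
    have : (p2 + q3 - 2) * T.m k = 0 := by linarith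
    rcases mul_eq_zero.mp this with h | h
    · exact h
    · exact absurd h hmk.ne'
  have ul : p3 + q4 - 2 = 0 := by
    have : (p3 + q4 - 2) * T.m l = 0 := by linarith
    rcases mul_eq_zero.mp this with h | h
    · exact h
    · exact absurd h hml.ne'
  have uu : p4 + p5 - 2 = 0 := by
    have : (p4 + p5 - 2) * T.m u = 0 := by linarith
    rcases mul_eq_zero.mp this with h | h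
    · exact h
    · exact absurd h hmu.ne'
  have vp1 : p1 = 1 := by omega
  have vq1 : q1 = 1 := by omega
  have vp2 : p2 = 1 := by omega
  have vq2 : q2 = 1 := by omega
  have vp3 : p3 = 1 := by omega
  have vq3 : q3 = 1 := by omega
  have vp4 : p4 = 1 := by omega
  have vq4 : q4 = 1 := by omega
  have vp5 : p5 = 1 := by omega
  have vq5 : q5 = 1 := by omega
  subst vp1 vq1 vp2 vq2 vp3 vq3 vp4 vq4 vp5 vq5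
  obtain ⟨σ, s0, s1, s2, s3, s4⟩ := perm5 i j k l u hij hik hil hiu hjk hjl hju hkl hku hlu
  refine ⟨σ, T.m i, T.w i, Or.inl ?_⟩
  rw [s0, s1, s2, s3, s4]
  refine ⟨?_, ?_, ?_, ?_, ?_, ?_, ?_, ?_, ?_, ?_, ?_, ?_, ?_, ?_, ?_, ?_, ?_, ?_, ?_, ?_, ?_, ?_, ?_, ?_, ?_⟩ <;> linarith

theorem starL (T : Models.NumericalType 5) (h2 : ∀ i, T.IsMinusTwo i) :
    ∀ (c i j k l : Fin 5), c ≠ i → c ≠ j → c ≠ k → c ≠ l → i ≠ j → i ≠ k → i ≠ l → j ≠ k → j ≠ l → k ≠ l →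
    0 < T.a c i → 0 < T.a c j → 0 < T.a c k → 0 < T.a c l →
    T.a i j = 0 → T.a i k = 0 → T.a i l = 0 → T.a j k = 0 → T.a j l = 0 → T.a k l = 0 →
    ∃ (σ : Equiv.Perm (Fin 5)) (m w : ℤ),
          ((T.m (σ 0) = m ∧ T.m (σ 1) = m ∧ T.m (σ 2) = m ∧ T.m (σ 3) = m ∧ T.m (σ 4) = m ∧ T.w (σ 0) = w ∧ T.w (σ 1) = w ∧ T.w (σ 2) = w ∧ T.w (σ 3) = w ∧ T.w (σ 4) = w ∧ T.a (σ 0) (σ 0) = -2 * w ∧ T.a (σ 0) (σ 1) = w ∧ T.a (σ 0) (σ 2) = 0 ∧ T.a (σ 0) (σ 3) = 0 ∧ T.a (σ 0) (σ 4) = w ∧ T.a (σ 1) (σ 1) = -2 * w ∧ T.a (σ 1) (σ 2) = w ∧ T.a (σ 1) (σ 3) = 0 ∧ T.a (σ 1) (σ 4) = 0 ∧ T.a (σ 2) (σ 2) = -2 * w ∧ T.a (σ 2) (σ 3) = w ∧ T.a (σ 2) (σ 4) = 0 ∧ T.a (σ 3) (σ 3) = -2 * w ∧ T.a (σ 3) (σ 4) = w ∧ T.a (σ 4) (σ 4) = -2 * w) ∨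
          (T.m (σ 0) = m ∧ T.m (σ 1) = 2 * m ∧ T.m (σ 2) = 3 * m ∧ T.m (σ 3) = 2 * m ∧ T.m (σ 4) = m ∧ T.w (σ 0) = w ∧ T.w (σ 1) = w ∧ T.w (σ 2) = w ∧ T.w (σ 3) = 2 * w ∧ T.w (σ 4) = 2 * w ∧ T.a (σ 0) (σ 0) = -2 * w ∧ T.a (σ 0) (σ 1) = w ∧ T.a (σ 0) (σ 2) = 0 ∧ T.a (σ 0) (σ 3) = 0 ∧ T.a (σ 0) (σ 4) = 0 ∧ T.a (σ 1) (σ 1) = -2 * w ∧ T.a (σ 1) (σ 2) = w ∧ T.a (σ 1) (σ 3) = 0 ∧ T.a (σ 1) (σ 4) = 0 ∧ T.a (σ 2) (σ 2) = -2 * w ∧ T.a (σ 2) (σ 3) = 2 * w ∧ T.a (σ 2) (σ 4) = 0 ∧ T.a (σ 3) (σ 3) = -4 * w ∧ T.a (σ 3) (σ 4) = 2 * w ∧ T.a (σ 4) (σ 4) = -4 * w) ∨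
          (T.m (σ 0) = m ∧ T.m (σ 1) = 2 * m ∧ T.m (σ 2) = 3 * m ∧ T.m (σ 3) = 4 * m ∧ T.m (σ 4) = 2 * m ∧ T.w (σ 0) = 2 * w ∧ T.w (σ 1) = 2 * w ∧ T.w (σ 2) = 2 * w ∧ T.w (σ 3) = w ∧ T.w (σ 4) = w ∧ T.a (σ 0) (σ 0) = -4 * w ∧ T.a (σ 0) (σ 1) = 2 * w ∧ T.a (σ 0) (σ 2) = 0 ∧ T.a (σ 0) (σ 3) = 0 ∧ T.a (σ 0) (σ 4) = 0 ∧ T.a (σ 1) (σ 1) = -4 * w ∧ T.a (σ 1) (σ 2) = 2 * w ∧ T.a (σ 1) (σ 3) = 0 ∧ T.a (σ 1) (σ 4) = 0 ∧ T.a (σ 2) (σ 2) = -4 * w ∧ T.a (σ 2) (σ 3) = 2 * w ∧ T.a (σ 2) (σ 4) = 0 ∧ T.a (σ 3) (σ 3) = -2 * w ∧ T.a (σ 3) (σ 4) = w ∧ T.a (σ 4) (σ 4) = -2 * w) ∨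
          (T.m (σ 0) = 2 * m ∧ T.m (σ 1) = 2 * m ∧ T.m (σ 2) = 2 * m ∧ T.m (σ 3) = 2 * m ∧ T.m (σ 4) = m ∧ T.w (σ 0) = w ∧ T.w (σ 1) = 2 * w ∧ T.w (σ 2) = 2 * w ∧ T.w (σ 3) = 2 * w ∧ T.w (σ 4) = 4 * w ∧ T.a (σ 0) (σ 0) = -2 * w ∧ T.a (σ 0) (σ 1) = 2 * w ∧ T.a (σ 0) (σ 2) = 0 ∧ T.a (σ 0) (σ 3) = 0 ∧ T.a (σ 0) (σ 4) = 0 ∧ T.a (σ 1) (σ 1) = -4 * w ∧ T.a (σ 1) (σ 2) = 2 * w ∧ T.a (σ 1) (σ 3) = 0 ∧ T.a (σ 1) (σ 4) = 0 ∧ T.a (σ 2) (σ 2) = -4 * w ∧ T.a (σ 2) (σ 3) = 2 * w ∧ T.a (σ 2) (σ 4) = 0 ∧ T.a (σ 3) (σ 3) = -4 * w ∧ T.a (σ 3) (σ 4) = 4 * w ∧ T.a (σ 4) (σ 4) = -8 * w) ∨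
          (T.m (σ 0) = m ∧ T.m (σ 1) = m ∧ T.m (σ 2) = m ∧ T.m (σ 3) = m ∧ T.m (σ 4) = m ∧ T.w (σ 0) = w ∧ T.w (σ 1) = 2 * w ∧ T.w (σ 2) = 2 * w ∧ T.w (σ 3) = 2 * w ∧ T.w (σ 4) = w ∧ T.a (σ 0) (σ 0) = -2 * w ∧ T.a (σ 0) (σ 1) = 2 * w ∧ T.a (σ 0) (σ 2) = 0 ∧ T.a (σ 0) (σ 3) = 0 ∧ T.a (σ 0) (σ 4) = 0 ∧ T.a (σ 1) (σ 1) = -4 * w ∧ T.a (σ 1) (σ 2) = 2 * w ∧ T.a (σ 1) (σ 3) = 0 ∧ T.a (σ 1) (σ 4) = 0 ∧ T.a (σ 2) (σ 2) = -4 * w ∧ T.a (σ 2) (σ 3) = 2 * w ∧ T.a (σ 2) (σ 4) = 0 ∧ T.a (σ 3) (σ 3) = -4 * w ∧ T.a (σ 3) (σ 4) = 2 * w ∧ T.a (σ 4) (σ 4) = -2 * w) ∨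
          (T.m (σ 0) = m ∧ T.m (σ 1) = 2 * m ∧ T.m (σ 2) = 2 * m ∧ T.m (σ 3) = 2 * m ∧ T.m (σ 4) = m ∧ T.w (σ 0) = 2 * w ∧ T.w (σ 1) = w ∧ T.w (σ 2) = w ∧ T.w (σ 3) = w ∧ T.w (σ 4) = 2 * w ∧ T.a (σ 0) (σ 0) = -4 * w ∧ T.a (σ 0) (σ 1) = 2 * w ∧ T.a (σ 0) (σ 2) = 0 ∧ T.a (σ 0) (σ 3) = 0 ∧ T.a (σ 0) (σ 4) = 0 ∧ T.a (σ 1) (σ 1) = -2 * w ∧ T.a (σ 1) (σ 2) = w ∧ T.a (σ 1) (σ 3) = 0 ∧ T.a (σ 1) (σ 4) = 0 ∧ T.a (σ 2) (σ 2) = -2 * w ∧ T.a (σ 2) (σ 3) = w ∧ T.a (σ 2) (σ 4) = 0 ∧ T.a (σ 3) (σ 3) = -2 * w ∧ T.a (σ 3) (σ 4) = 2 * w ∧ T.a (σ 4) (σ 4) = -4 * w) ∨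
          (T.m (σ 0) = 2 * m ∧ T.m (σ 1) = m ∧ T.m (σ 2) = m ∧ T.m (σ 3) = m ∧ T.m (σ 4) = m ∧ T.w (σ 0) = w ∧ T.w (σ 1) = w ∧ T.w (σ 2) = w ∧ T.w (σ 3) = w ∧ T.w (σ 4) = w ∧ T.a (σ 0) (σ 0) = -2 * w ∧ T.a (σ 0) (σ 1) = w ∧ T.a (σ 0) (σ 2) = w ∧ T.a (σ 0) (σ 3) = w ∧ T.a (σ 0) (σ 4) = w ∧ T.a (σ 1) (σ 1) = -2 * w ∧ T.a (σ 1) (σ 2) = 0 ∧ T.a (σ 1) (σ 3) = 0 ∧ T.a (σ 1) (σ 4) = 0 ∧ T.a (σ 2) (σ 2) = -2 * w ∧ T.a (σ 2) (σ 3) = 0 ∧ T.a (σ 2) (σ 4) = 0 ∧ T.a (σ 3) (σ 3) = -2 * w ∧ T.a (σ 3) (σ 4) = 0 ∧ T.a (σ 4) (σ 4) = -2 * w) ∨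
          (T.m (σ 0) = m ∧ T.m (σ 1) = 2 * m ∧ T.m (σ 2) = 2 * m ∧ T.m (σ 3) = m ∧ T.m (σ 4) = m ∧ T.w (σ 0) = 2 * w ∧ T.w (σ 1) = w ∧ T.w (σ 2) = w ∧ T.w (σ 3) = w ∧ T.w (σ 4) = w ∧ T.a (σ 0) (σ 0) = -4 * w ∧ T.a (σ 0) (σ 1) = 2 * w ∧ T.a (σ 0) (σ 2) = 0 ∧ T.a (σ 0) (σ 3) = 0 ∧ T.a (σ 0) (σ 4) = 0 ∧ T.a (σ 1) (σ 1) = -2 * w ∧ T.a (σ 1) (σ 2) = w ∧ T.a (σ 1) (σ 3) = 0 ∧ T.a (σ 1) (σ 4) = 0 ∧ T.a (σ 2) (σ 2) = -2 * w ∧ T.a (σ 2) (σ 3) = w ∧ T.a (σ 2) (σ 4) = w ∧ T.a (σ 3) (σ 3) = -2 * w ∧ T.a (σ 3) (σ 4) = 0 ∧ T.a (σ 4) (σ 4) = -2 * w) ∨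
          (T.m (σ 0) = 2 * m ∧ T.m (σ 1) = 2 * m ∧ T.m (σ 2) = 2 * m ∧ T.m (σ 3) = m ∧ T.m (σ 4) = m ∧ T.w (σ 0) = w ∧ T.w (σ 1) = 2 * w ∧ T.w (σ 2) = 2 * w ∧ T.w (σ 3) = 2 * w ∧ T.w (σ 4) = 2 * w ∧ T.a (σ 0) (σ 0) = -2 * w ∧ T.a (σ 0) (σ 1) = 2 * w ∧ T.a (σ 0) (σ 2) = 0 ∧ T.a (σ 0) (σ 3) = 0 ∧ T.a (σ 0) (σ 4) = 0 ∧ T.a (σ 1) (σ 1) = -4 * w ∧ T.a (σ 1) (σ 2) = 2 * w ∧ T.a (σ 1) (σ 3) = 0 ∧ T.a (σ 1) (σ 4) = 0 ∧ T.a (σ 2) (σ 2) = -4 * w ∧ T.a (σ 2) (σ 3) = 2 * w ∧ T.a (σ 2) (σ 4) = 2 * w ∧ T.a (σ 3) (σ 3) = -4 * w ∧ T.a (σ 3) (σ 4) = 0 ∧ T.a (σ 4) (σ 4) = -4 * w)) := by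
  intro c i j k l hci hcj hck hcl hij hik hil hjk hjl hkl pci pcj pck pcl zij zik zil zjk zjl zkl
  have hwc := T.w_pos c
  have hmc := T.m_pos c
  have dc := (h2 c).2
  have hwi := T.w_pos i
  have hmi := T.m_pos i
  have di := (h2 i).2
  have hwj := T.w_pos j
  have hmj := T.m_pos j
  have dj := (h2 j).2
  have hwk := T.w_pos k
  have hmk := T.m_pos k
  have dk := (h2 k).2
  have hwl := T.w_pos l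
  have hml := T.m_pos l
  have dl := (h2 l).2
  obtain ⟨p1, hp1⟩ := T.w_dvd c i
  obtain ⟨q1, hq1⟩ := T.w_dvd i c
  have sic : T.a i c = T.a c i := hsymm T i c
  rw [sic] at hq1
  obtain ⟨p2, hp2⟩ := T.w_dvd c j
  obtain ⟨q2, hq2⟩ := T.w_dvd j c
  have sjc : T.a j c = T.a c j := hsymm T j c
  rw [sjc] at hq2
  obtain ⟨p3, hp3⟩ := T.w_dvd c k
  obtain ⟨q3, hq3⟩ := T.w_dvd k c
  have skc : T.a k c = T.a c k := hsymm T k c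
  rw [skc] at hq3
  obtain ⟨p4, hp4⟩ := T.w_dvd c l
  obtain ⟨q4, hq4⟩ := T.w_dvd l c
  have slc : T.a l c = T.a c l := hsymm T l c
  rw [slc] at hq4
  have zji : T.a j i = 0 := Z T _ _ zij
  have zki : T.a k i = 0 := Z T _ _ zik
  have zli : T.a l i = 0 := Z T _ _ zil
  have zkj : T.a k j = 0 := Z T _ _ zjk
  have zlj : T.a l j = 0 := Z T _ _ zjl
  have zlk : T.a l k = 0 := Z T _ _ zkl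
  have rc := row5 T c i j k l hci hcj hck hcl hij hik hil hjk hjl hkl c
  rw [dc, hp1, hp2, hp3, hp4] at rc
  have ri := row5 T c i j k l hci hcj hck hcl hij hik hil hjk hjl hkl i
  rw [sic, hq1, di, zij, zik, zil] at ri
  have rj := row5 T c i j k l hci hcj hck hcl hij hik hil hjk hjl hkl j
  rw [sjc, hq2, zji, dj, zjk, zjl] at rj
  have rk := row5 T c i j k l hci hcj hck hcl hij hik hil hjk hjl hkl k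
  rw [skc, hq3, zki, zkj, dk, zkl] at rk
  have rl := row5 T c i j k l hci hcj hck hcl hij hik hil hjk hjl hkl l
  rw [slc, hq4, zli, zlj, zlk, dl] at rl
  have ec : p1 * T.m i + p2 * T.m j + p3 * T.m k + p4 * T.m l = 2 * T.m c := by
    have := cancel (T.w c) (p1 * T.m i + p2 * T.m j + p3 * T.m k + p4 * T.m l - 2 * T.m c) hwc (by linarith)
    linarith
  have ei : q1 * T.m c = 2 * T.m i := by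
    have := cancel (T.w i) (q1 * T.m c - 2 * T.m i) hwi (by linarith)
    linarith
  have ej : q2 * T.m c = 2 * T.m j := by
    have := cancel (T.w j) (q2 * T.m c - 2 * T.m j) hwj (by linarith)
    linarith
  have ek : q3 * T.m c = 2 * T.m k := by
    have := cancel (T.w k) (q3 * T.m c - 2 * T.m k) hwk (by linarith)
    linarith
  have el : q4 * T.m c = 2 * T.m l := by
    have := cancel (T.w l) (q4 * T.m c - 2 * T.m l) hwl (by linarith)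
    linarith
  have kp1 : 1 ≤ p1 := cpos _ _ hwc (hp1 ▸ pci)
  have kq1 : 1 ≤ q1 := cpos _ _ hwi (hq1 ▸ pci)
  have kp2 : 1 ≤ p2 := cpos _ _ hwc (hp2 ▸ pcj)
  have kq2 : 1 ≤ q2 := cpos _ _ hwj (hq2 ▸ pcj)
  have kp3 : 1 ≤ p3 := cpos _ _ hwc (hp3 ▸ pck)
  have kq3 : 1 ≤ q3 := cpos _ _ hwk (hq3 ▸ pck)
  have kp4 : 1 ≤ p4 := cpos _ _ hwc (hp4 ▸ pcl)
  have kq4 : 1 ≤ q4 := cpos _ _ hwl (hq4 ▸ pcl)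
  clear rc ri rj rk rl
  have hE : p1 * q1 + p2 * q2 + p3 * q3 + p4 * q4 = 4 := by
    have h : (p1 * q1 + p2 * q2 + p3 * q3 + p4 * q4 - 4) * T.m c = 0 := by
      linear_combination p1 * ei + p2 * ej + p3 * ek + p4 * el + 2 * ec
    rcases mul_eq_zero.mp h with h | h
    · linarith
    · exact absurd h hmc.ne'
  have a1 : 1 ≤ p1 * q1 := by nlinarith
  have a2 : 1 ≤ p2 * q2 := by nlinarith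
  have a3 : 1 ≤ p3 * q3 := by nlinarith
  have a4 : 1 ≤ p4 * q4 := by nlinarith
  obtain ⟨vp1, vq1⟩ := prod1 p1 q1 kp1 kq1 (by omega)
  obtain ⟨vp2, vq2⟩ := prod1 p2 q2 kp2 kq2 (by omega)
  obtain ⟨vp3, vq3⟩ := prod1 p3 q3 kp3 kq3 (by omega)
  obtain ⟨vp4, vq4⟩ := prod1 p4 q4 kp4 kq4 (by omega)
  subst vp1 vq1 vp2 vq2 vp3 vq3 vp4 vq4
  obtain ⟨σ, s0, s1, s2, s3, s4⟩ := perm5 c i j k l hci hcj hck hcl hij hik hil hjk hjl hkl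
  refine ⟨σ, T.m i, T.w c, Or.inr (Or.inr (Or.inr (Or.inr (Or.inr (Or.inr (Or.inl ?_))))))⟩
  rw [s0, s1, s2, s3, s4]
  refine ⟨?_, ?_, ?_, ?_, ?_, ?_, ?_, ?_, ?_, ?_, ?_, ?_, ?_, ?_, ?_, ?_, ?_, ?_, ?_, ?_, ?_, ?_, ?_, ?_, ?_⟩ <;> linarith

theorem forkL (T : Models.NumericalType 5) (h2 : ∀ i, T.IsMinusTwo i) :
    ∀ (c a b d e : Fin 5), c ≠ a → c ≠ b → c ≠ d → c ≠ e → a ≠ b → a ≠ d → a ≠ e → b ≠ d → b ≠ e → d ≠ e →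
    0 < T.a c a → 0 < T.a c b → 0 < T.a c d → 0 < T.a d e →
    T.a c e = 0 → T.a a b = 0 → T.a a d = 0 → T.a a e = 0 → T.a b d = 0 → T.a b e = 0 →
    ∃ (σ : Equiv.Perm (Fin 5)) (m w : ℤ),
          ((T.m (σ 0) = m ∧ T.m (σ 1) = m ∧ T.m (σ 2) = m ∧ T.m (σ 3) = m ∧ T.m (σ 4) = m ∧ T.w (σ 0) = w ∧ T.w (σ 1) = w ∧ T.w (σ 2) = w ∧ T.w (σ 3) = w ∧ T.w (σ 4) = w ∧ T.a (σ 0) (σ 0) = -2 * w ∧ T.a (σ 0) (σ 1) = w ∧ T.a (σ 0) (σ 2) = 0 ∧ T.a (σ 0) (σ 3) = 0 ∧ T.a (σ 0) (σ 4) = w ∧ T.a (σ 1) (σ 1) = -2 * w ∧ T.a (σ 1) (σ 2) = w ∧ T.a (σ 1) (σ 3) = 0 ∧ T.a (σ 1) (σ 4) = 0 ∧ T.a (σ 2) (σ 2) = -2 * w ∧ T.a (σ 2) (σ 3) = w ∧ T.a (σ 2) (σ 4) = 0 ∧ T.a (σ 3) (σ 3) = -2 * w ∧ T.a (σ 3) (σ 4) = w ∧ T.a (σ 4) (σ 4) = -2 * w) ∨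
          (T.m (σ 0) = m ∧ T.m (σ 1) = 2 * m ∧ T.m (σ 2) = 3 * m ∧ T.m (σ 3) = 2 * m ∧ T.m (σ 4) = m ∧ T.w (σ 0) = w ∧ T.w (σ 1) = w ∧ T.w (σ 2) = w ∧ T.w (σ 3) = 2 * w ∧ T.w (σ 4) = 2 * w ∧ T.a (σ 0) (σ 0) = -2 * w ∧ T.a (σ 0) (σ 1) = w ∧ T.a (σ 0) (σ 2) = 0 ∧ T.a (σ 0) (σ 3) = 0 ∧ T.a (σ 0) (σ 4) = 0 ∧ T.a (σ 1) (σ 1) = -2 * w ∧ T.a (σ 1) (σ 2) = w ∧ T.a (σ 1) (σ 3) = 0 ∧ T.a (σ 1) (σ 4) = 0 ∧ T.a (σ 2) (σ 2) = -2 * w ∧ T.a (σ 2) (σ 3) = 2 * w ∧ T.a (σ 2) (σ 4) = 0 ∧ T.a (σ 3) (σ 3) = -4 * w ∧ T.a (σ 3) (σ 4) = 2 * w ∧ T.a (σ 4) (σ 4) = -4 * w) ∨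
          (T.m (σ 0) = m ∧ T.m (σ 1) = 2 * m ∧ T.m (σ 2) = 3 * m ∧ T.m (σ 3) = 4 * m ∧ T.m (σ 4) = 2 * m ∧ T.w (σ 0) = 2 * w ∧ T.w (σ 1) = 2 * w ∧ T.w (σ 2) = 2 * w ∧ T.w (σ 3) = w ∧ T.w (σ 4) = w ∧ T.a (σ 0) (σ 0) = -4 * w ∧ T.a (σ 0) (σ 1) = 2 * w ∧ T.a (σ 0) (σ 2) = 0 ∧ T.a (σ 0) (σ 3) = 0 ∧ T.a (σ 0) (σ 4) = 0 ∧ T.a (σ 1) (σ 1) = -4 * w ∧ T.a (σ 1) (σ 2) = 2 * w ∧ T.a (σ 1) (σ 3) = 0 ∧ T.a (σ 1) (σ 4) = 0 ∧ T.a (σ 2) (σ 2) = -4 * w ∧ T.a (σ 2) (σ 3) = 2 * w ∧ T.a (σ 2) (σ 4) = 0 ∧ T.a (σ 3) (σ 3) = -2 * w ∧ T.a (σ 3) (σ 4) = w ∧ T.a (σ 4) (σ 4) = -2 * w) ∨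
          (T.m (σ 0) = 2 * m ∧ T.m (σ 1) = 2 * m ∧ T.m (σ 2) = 2 * m ∧ T.m (σ 3) = 2 * m ∧ T.m (σ 4) = m ∧ T.w (σ 0) = w ∧ T.w (σ 1) = 2 * w ∧ T.w (σ 2) = 2 * w ∧ T.w (σ 3) = 2 * w ∧ T.w (σ 4) = 4 * w ∧ T.a (σ 0) (σ 0) = -2 * w ∧ T.a (σ 0) (σ 1) = 2 * w ∧ T.a (σ 0) (σ 2) = 0 ∧ T.a (σ 0) (σ 3) = 0 ∧ T.a (σ 0) (σ 4) = 0 ∧ T.a (σ 1) (σ 1) = -4 * w ∧ T.a (σ 1) (σ 2) = 2 * w ∧ T.a (σ 1) (σ 3) = 0 ∧ T.a (σ 1) (σ 4) = 0 ∧ T.a (σ 2) (σ 2) = -4 * w ∧ T.a (σ 2) (σ 3) = 2 * w ∧ T.a (σ 2) (σ 4) = 0 ∧ T.a (σ 3) (σ 3) = -4 * w ∧ T.a (σ 3) (σ 4) = 4 * w ∧ T.a (σ 4) (σ 4) = -8 * w) ∨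
          (T.m (σ 0) = m ∧ T.m (σ 1) = m ∧ T.m (σ 2) = m ∧ T.m (σ 3) = m ∧ T.m (σ 4) = m ∧ T.w (σ 0) = w ∧ T.w (σ 1) = 2 * w ∧ T.w (σ 2) = 2 * w ∧ T.w (σ 3) = 2 * w ∧ T.w (σ 4) = w ∧ T.a (σ 0) (σ 0) = -2 * w ∧ T.a (σ 0) (σ 1) = 2 * w ∧ T.a (σ 0) (σ 2) = 0 ∧ T.a (σ 0) (σ 3) = 0 ∧ T.a (σ 0) (σ 4) = 0 ∧ T.a (σ 1) (σ 1) = -4 * w ∧ T.a (σ 1) (σ 2) = 2 * w ∧ T.a (σ 1) (σ 3) = 0 ∧ T.a (σ 1) (σ 4) = 0 ∧ T.a (σ 2) (σ 2) = -4 * w ∧ T.a (σ 2) (σ 3) = 2 * w ∧ T.a (σ 2) (σ 4) = 0 ∧ T.a (σ 3) (σ 3) = -4 * w ∧ T.a (σ 3) (σ 4) = 2 * w ∧ T.a (σ 4) (σ 4) = -2 * w) ∨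
          (T.m (σ 0) = m ∧ T.m (σ 1) = 2 * m ∧ T.m (σ 2) = 2 * m ∧ T.m (σ 3) = 2 * m ∧ T.m (σ 4) = m ∧ T.w (σ 0) = 2 * w ∧ T.w (σ 1) = w ∧ T.w (σ 2) = w ∧ T.w (σ 3) = w ∧ T.w (σ 4) = 2 * w ∧ T.a (σ 0) (σ 0) = -4 * w ∧ T.a (σ 0) (σ 1) = 2 * w ∧ T.a (σ 0) (σ 2) = 0 ∧ T.a (σ 0) (σ 3) = 0 ∧ T.a (σ 0) (σ 4) = 0 ∧ T.a (σ 1) (σ 1) = -2 * w ∧ T.a (σ 1) (σ 2) = w ∧ T.a (σ 1) (σ 3) = 0 ∧ T.a (σ 1) (σ 4) = 0 ∧ T.a (σ 2) (σ 2) = -2 * w ∧ T.a (σ 2) (σ 3) = w ∧ T.a (σ 2) (σ 4) = 0 ∧ T.a (σ 3) (σ 3) = -2 * w ∧ T.a (σ 3) (σ 4) = 2 * w ∧ T.a (σ 4) (σ 4) = -4 * w) ∨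
          (T.m (σ 0) = 2 * m ∧ T.m (σ 1) = m ∧ T.m (σ 2) = m ∧ T.m (σ 3) = m ∧ T.m (σ 4) = m ∧ T.w (σ 0) = w ∧ T.w (σ 1) = w ∧ T.w (σ 2) = w ∧ T.w (σ 3) = w ∧ T.w (σ 4) = w ∧ T.a (σ 0) (σ 0) = -2 * w ∧ T.a (σ 0) (σ 1) = w ∧ T.a (σ 0) (σ 2) = w ∧ T.a (σ 0) (σ 3) = w ∧ T.a (σ 0) (σ 4) = w ∧ T.a (σ 1) (σ 1) = -2 * w ∧ T.a (σ 1) (σ 2) = 0 ∧ T.a (σ 1) (σ 3) = 0 ∧ T.a (σ 1) (σ 4) = 0 ∧ T.a (σ 2) (σ 2) = -2 * w ∧ T.a (σ 2) (σ 3) = 0 ∧ T.a (σ 2) (σ 4) = 0 ∧ T.a (σ 3) (σ 3) = -2 * w ∧ T.a (σ 3) (σ 4) = 0 ∧ T.a (σ 4) (σ 4) = -2 * w) ∨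
          (T.m (σ 0) = m ∧ T.m (σ 1) = 2 * m ∧ T.m (σ 2) = 2 * m ∧ T.m (σ 3) = m ∧ T.m (σ 4) = m ∧ T.w (σ 0) = 2 * w ∧ T.w (σ 1) = w ∧ T.w (σ 2) = w ∧ T.w (σ 3) = w ∧ T.w (σ 4) = w ∧ T.a (σ 0) (σ 0) = -4 * w ∧ T.a (σ 0) (σ 1) = 2 * w ∧ T.a (σ 0) (σ 2) = 0 ∧ T.a (σ 0) (σ 3) = 0 ∧ T.a (σ 0) (σ 4) = 0 ∧ T.a (σ 1) (σ 1) = -2 * w ∧ T.a (σ 1) (σ 2) = w ∧ T.a (σ 1) (σ 3) = 0 ∧ T.a (σ 1) (σ 4) = 0 ∧ T.a (σ 2) (σ 2) = -2 * w ∧ T.a (σ 2) (σ 3) = w ∧ T.a (σ 2) (σ 4) = w ∧ T.a (σ 3) (σ 3) = -2 * w ∧ T.a (σ 3) (σ 4) = 0 ∧ T.a (σ 4) (σ 4) = -2 * w) ∨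
          (T.m (σ 0) = 2 * m ∧ T.m (σ 1) = 2 * m ∧ T.m (σ 2) = 2 * m ∧ T.m (σ 3) = m ∧ T.m (σ 4) = m ∧ T.w (σ 0) = w ∧ T.w (σ 1) = 2 * w ∧ T.w (σ 2) = 2 * w ∧ T.w (σ 3) = 2 * w ∧ T.w (σ 4) = 2 * w ∧ T.a (σ 0) (σ 0) = -2 * w ∧ T.a (σ 0) (σ 1) = 2 * w ∧ T.a (σ 0) (σ 2) = 0 ∧ T.a (σ 0) (σ 3) = 0 ∧ T.a (σ 0) (σ 4) = 0 ∧ T.a (σ 1) (σ 1) = -4 * w ∧ T.a (σ 1) (σ 2) = 2 * w ∧ T.a (σ 1) (σ 3) = 0 ∧ T.a (σ 1) (σ 4) = 0 ∧ T.a (σ 2) (σ 2) = -4 * w ∧ T.a (σ 2) (σ 3) = 2 * w ∧ T.a (σ 2) (σ 4) = 2 * w ∧ T.a (σ 3) (σ 3) = -4 * w ∧ T.a (σ 3) (σ 4) = 0 ∧ T.a (σ 4) (σ 4) = -4 * w)) := by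
  intro c a b d e hca hcb hcd hce hab had hae hbd hbe hde pca pcb pcd pde zce zab zad zae zbd zbe
  have hwc := T.w_pos c
  have hmc := T.m_pos c
  have dc := (h2 c).2
  have hwa := T.w_pos a
  have hma := T.m_pos a
  have da := (h2 a).2
  have hwb := T.w_pos b
  have hmb := T.m_pos b
  have db := (h2 b).2
  have hwd := T.w_pos d
  have hmd := T.m_pos d
  have dd := (h2 d).2
  have hwe := T.w_pos e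
  have hme := T.m_pos e
  have de := (h2 e).2
  obtain ⟨p1, hp1⟩ := T.w_dvd c a
  obtain ⟨q1, hq1⟩ := T.w_dvd a c
  have sac : T.a a c = T.a c a := hsymm T a c
  rw [sac] at hq1
  obtain ⟨p2, hp2⟩ := T.w_dvd c b
  obtain ⟨q2, hq2⟩ := T.w_dvd b c
  have sbc : T.a b c = T.a c b := hsymm T b c
  rw [sbc] at hq2
  obtain ⟨p3, hp3⟩ := T.w_dvd c d
  obtain ⟨q3, hq3⟩ := T.w_dvd d c
  have sdc : T.a d c = T.a c d := hsymm T d c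
  rw [sdc] at hq3
  obtain ⟨p4, hp4⟩ := T.w_dvd d e
  obtain ⟨q4, hq4⟩ := T.w_dvd e d
  have sed : T.a e d = T.a d e := hsymm T e d
  rw [sed] at hq4
  have zec : T.a e c = 0 := Z T _ _ zce
  have zba : T.a b a = 0 := Z T _ _ zab
  have zda : T.a d a = 0 := Z T _ _ zad
  have zea : T.a e a = 0 := Z T _ _ zae
  have zdb : T.a d b = 0 := Z T _ _ zbd
  have zeb : T.a e b = 0 := Z T _ _ zbe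
  have rc := row5 T c a b d e hca hcb hcd hce hab had hae hbd hbe hde c
  rw [dc, hp1, hp2, hp3, zce] at rc
  have ra := row5 T c a b d e hca hcb hcd hce hab had hae hbd hbe hde a
  rw [sac, hq1, da, zab, zad, zae] at ra
  have rb := row5 T c a b d e hca hcb hcd hce hab had hae hbd hbe hde b
  rw [sbc, hq2, zba, db, zbd, zbe] at rb
  have rd := row5 T c a b d e hca hcb hcd hce hab had hae hbd hbe hde d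
  rw [sdc, hq3, zda, zdb, dd, hp4] at rd
  have re := row5 T c a b d e hca hcb hcd hce hab had hae hbd hbe hde e
  rw [zec, zea, zeb, sed, hq4, de] at re
  have ec : p1 * T.m a + p2 * T.m b + p3 * T.m d = 2 * T.m c := by
    have := cancel (T.w c) (p1 * T.m a + p2 * T.m b + p3 * T.m d - 2 * T.m c) hwc (by linarith)
    linarith
  have ea : q1 * T.m c = 2 * T.m a := by
    have := cancel (T.w a) (q1 * T.m c - 2 * T.m a) hwa (by linarith)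
    linarith
  have eb : q2 * T.m c = 2 * T.m b := by
    have := cancel (T.w b) (q2 * T.m c - 2 * T.m b) hwb (by linarith)
    linarith
  have ed : q3 * T.m c + p4 * T.m e = 2 * T.m d := by
    have := cancel (T.w d) (q3 * T.m c + p4 * T.m e - 2 * T.m d) hwd (by linarith)
    linarith
  have ee : q4 * T.m d = 2 * T.m e := by
    have := cancel (T.w e) (q4 * T.m d - 2 * T.m e) hwe (by linarith)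
    linarith
  have kp1 : 1 ≤ p1 := cpos _ _ hwc (hp1 ▸ pca)
  have kq1 : 1 ≤ q1 := cpos _ _ hwa (hq1 ▸ pca)
  have kp2 : 1 ≤ p2 := cpos _ _ hwc (hp2 ▸ pcb)
  have kq2 : 1 ≤ q2 := cpos _ _ hwb (hq2 ▸ pcb)
  have kp3 : 1 ≤ p3 := cpos _ _ hwc (hp3 ▸ pcd)
  have kq3 : 1 ≤ q3 := cpos _ _ hwd (hq3 ▸ pcd)
  have kp4 : 1 ≤ p4 := cpos _ _ hwd (hp4 ▸ pde)
  have kq4 : 1 ≤ q4 := cpos _ _ hwe (hq4 ▸ pde)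
  clear rc ra rb rd re
  have g1 : 2 * q3 * T.m c = (4 - p4 * q4) * T.m d := by
    linear_combination 2 * ed + p4 * ee
  have g2 : 2 * p3 * T.m d = (4 - p1 * q1 - p2 * q2) * T.m c := by
    linear_combination 2 * ec + p1 * ea + p2 * eb
  have b2 : p4 * q4 ≤ 3 := by
    by_contra hc
    push Not at hc
    have h1 : 0 < 2 * q3 * T.m c := by positivity
    have h2' : (4 - p4 * q4) * T.m d ≤ 0 := mul_nonpos_of_nonpos_of_nonneg (by linarith) hmd.le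
    linarith
  have bab : p1 * q1 + p2 * q2 ≤ 3 := by
    by_contra hc
    push Not at hc
    have h1 : 0 < 2 * p3 * T.m d := by positivity
    have h2' : (4 - p1 * q1 - p2 * q2) * T.m c ≤ 0 :=
      mul_nonpos_of_nonpos_of_nonneg (by linarith) hmc.le
    linarith
  have hE : 4 * (p3 * q3) = (4 - p4 * q4) * (4 - p1 * q1 - p2 * q2) := by
    have h : (4 * (p3 * q3) - (4 - p4 * q4) * (4 - p1 * q1 - p2 * q2)) * (T.m c * T.m d) = 0 := by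
      linear_combination (2 * p3 * T.m d) * g1 + ((4 - p4 * q4) * T.m d) * g2
    rcases mul_eq_zero.mp h with h | h
    · linarith
    · exact absurd h (mul_pos hmc hmd).ne'
  have a1 : 1 ≤ p1 * q1 := by nlinarith
  have a2 : 1 ≤ p2 * q2 := by nlinarith
  have a3 : 1 ≤ p3 * q3 := by nlinarith
  have a4 : 1 ≤ p4 * q4 := by nlinarith
  obtain ⟨P1, P2, P3, P4⟩ := forkP (p1 * q1) (p2 * q2) (p3 * q3) (p4 * q4) a1 a2 a3 a4 b2 bab hE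
  obtain ⟨vp1, vq1⟩ := prod1 p1 q1 kp1 kq1 P1
  obtain ⟨vp2, vq2⟩ := prod1 p2 q2 kp2 kq2 P2
  obtain ⟨vp3, vq3⟩ := prod1 p3 q3 kp3 kq3 P3
  subst vp1 vq1 vp2 vq2 vp3 vq3
  clear g1 g2 hE P1 P2 P3 a1 a2 a3 bab
  rcases prod2 p4 q4 kp4 kq4 P4 with ⟨rfl, rfl⟩ | ⟨rfl, rfl⟩
  ·
    obtain ⟨σ, s0, s1, s2, s3, s4⟩ := perm5 e d c a b hde.symm hce.symm hae.symm hbe.symm hcd.symm had.symm hbd.symm hca hcb hab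
    refine ⟨σ, T.m e, T.w d, Or.inr (Or.inr (Or.inr (Or.inr (Or.inr (Or.inr (Or.inr (Or.inl ?_)))))))⟩
    rw [s0, s1, s2, s3, s4]
    refine ⟨?_, ?_, ?_, ?_, ?_, ?_, ?_, ?_, ?_, ?_, ?_, ?_, ?_, ?_, ?_, ?_, ?_, ?_, ?_, ?_, ?_, ?_, ?_, ?_, ?_⟩ <;> linarith
  ·
    obtain ⟨σ, s0, s1, s2, s3, s4⟩ := perm5 e d c a b hde.symm hce.symm hae.symm hbe.symm hcd.symm had.symm hbd.symm hca hcb hab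
    refine ⟨σ, T.m a, T.w e, Or.inr (Or.inr (Or.inr (Or.inr (Or.inr (Or.inr (Or.inr (Or.inr (?_))))))))⟩
    rw [s0, s1, s2, s3, s4]
    refine ⟨?_, ?_, ?_, ?_, ?_, ?_, ?_, ?_, ?_, ?_, ?_, ?_, ?_, ?_, ?_, ?_, ?_, ?_, ?_, ?_, ?_, ?_, ?_, ?_, ?_⟩ <;> linarith

theorem pathL (T : Models.NumericalType 5) (h2 : ∀ i, T.IsMinusTwo i) :
    ∀ (i j k l u : Fin 5), i ≠ j → i ≠ k → i ≠ l → i ≠ u → j ≠ k → j ≠ l → j ≠ u → k ≠ l → k ≠ u → l ≠ u →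
    0 < T.a i j → 0 < T.a j k → 0 < T.a k l → 0 < T.a l u →
    T.a i k = 0 → T.a i l = 0 → T.a i u = 0 → T.a j l = 0 → T.a j u = 0 → T.a k u = 0 →
    ∃ (σ : Equiv.Perm (Fin 5)) (m w : ℤ),
          ((T.m (σ 0) = m ∧ T.m (σ 1) = m ∧ T.m (σ 2) = m ∧ T.m (σ 3) = m ∧ T.m (σ 4) = m ∧ T.w (σ 0) = w ∧ T.w (σ 1) = w ∧ T.w (σ 2) = w ∧ T.w (σ 3) = w ∧ T.w (σ 4) = w ∧ T.a (σ 0) (σ 0) = -2 * w ∧ T.a (σ 0) (σ 1) = w ∧ T.a (σ 0) (σ 2) = 0 ∧ T.a (σ 0) (σ 3) = 0 ∧ T.a (σ 0) (σ 4) = w ∧ T.a (σ 1) (σ 1) = -2 * w ∧ T.a (σ 1) (σ 2) = w ∧ T.a (σ 1) (σ 3) = 0 ∧ T.a (σ 1) (σ 4) = 0 ∧ T.a (σ 2) (σ 2) = -2 * w ∧ T.a (σ 2) (σ 3) = w ∧ T.a (σ 2) (σ 4) = 0 ∧ T.a (σ 3) (σ 3) = -2 * w ∧ T.a (σ 3) (σ 4) = w ∧ T.a (σ 4) (σ 4) = -2 * w) ∨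
          (T.m (σ 0) = m ∧ T.m (σ 1) = 2 * m ∧ T.m (σ 2) = 3 * m ∧ T.m (σ 3) = 2 * m ∧ T.m (σ 4) = m ∧ T.w (σ 0) = w ∧ T.w (σ 1) = w ∧ T.w (σ 2) = w ∧ T.w (σ 3) = 2 * w ∧ T.w (σ 4) = 2 * w ∧ T.a (σ 0) (σ 0) = -2 * w ∧ T.a (σ 0) (σ 1) = w ∧ T.a (σ 0) (σ 2) = 0 ∧ T.a (σ 0) (σ 3) = 0 ∧ T.a (σ 0) (σ 4) = 0 ∧ T.a (σ 1) (σ 1) = -2 * w ∧ T.a (σ 1) (σ 2) = w ∧ T.a (σ 1) (σ 3) = 0 ∧ T.a (σ 1) (σ 4) = 0 ∧ T.a (σ 2) (σ 2) = -2 * w ∧ T.a (σ 2) (σ 3) = 2 * w ∧ T.a (σ 2) (σ 4) = 0 ∧ T.a (σ 3) (σ 3) = -4 * w ∧ T.a (σ 3) (σ 4) = 2 * w ∧ T.a (σ 4) (σ 4) = -4 * w) ∨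
          (T.m (σ 0) = m ∧ T.m (σ 1) = 2 * m ∧ T.m (σ 2) = 3 * m ∧ T.m (σ 3) = 4 * m ∧ T.m (σ 4) = 2 * m ∧ T.w (σ 0) = 2 * w ∧ T.w (σ 1) = 2 * w ∧ T.w (σ 2) = 2 * w ∧ T.w (σ 3) = w ∧ T.w (σ 4) = w ∧ T.a (σ 0) (σ 0) = -4 * w ∧ T.a (σ 0) (σ 1) = 2 * w ∧ T.a (σ 0) (σ 2) = 0 ∧ T.a (σ 0) (σ 3) = 0 ∧ T.a (σ 0) (σ 4) = 0 ∧ T.a (σ 1) (σ 1) = -4 * w ∧ T.a (σ 1) (σ 2) = 2 * w ∧ T.a (σ 1) (σ 3) = 0 ∧ T.a (σ 1) (σ 4) = 0 ∧ T.a (σ 2) (σ 2) = -4 * w ∧ T.a (σ 2) (σ 3) = 2 * w ∧ T.a (σ 2) (σ 4) = 0 ∧ T.a (σ 3) (σ 3) = -2 * w ∧ T.a (σ 3) (σ 4) = w ∧ T.a (σ 4) (σ 4) = -2 * w) ∨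
          (T.m (σ 0) = 2 * m ∧ T.m (σ 1) = 2 * m ∧ T.m (σ 2) = 2 * m ∧ T.m (σ 3) = 2 * m ∧ T.m (σ 4) = m ∧ T.w (σ 0) = w ∧ T.w (σ 1) = 2 * w ∧ T.w (σ 2) = 2 * w ∧ T.w (σ 3) = 2 * w ∧ T.w (σ 4) = 4 * w ∧ T.a (σ 0) (σ 0) = -2 * w ∧ T.a (σ 0) (σ 1) = 2 * w ∧ T.a (σ 0) (σ 2) = 0 ∧ T.a (σ 0) (σ 3) = 0 ∧ T.a (σ 0) (σ 4) = 0 ∧ T.a (σ 1) (σ 1) = -4 * w ∧ T.a (σ 1) (σ 2) = 2 * w ∧ T.a (σ 1) (σ 3) = 0 ∧ T.a (σ 1) (σ 4) = 0 ∧ T.a (σ 2) (σ 2) = -4 * w ∧ T.a (σ 2) (σ 3) = 2 * w ∧ T.a (σ 2) (σ 4) = 0 ∧ T.a (σ 3) (σ 3) = -4 * w ∧ T.a (σ 3) (σ 4) = 4 * w ∧ T.a (σ 4) (σ 4) = -8 * w) ∨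
          (T.m (σ 0) = m ∧ T.m (σ 1) = m ∧ T.m (σ 2) = m ∧ T.m (σ 3) = m ∧ T.m (σ 4) = m ∧ T.w (σ 0) = w ∧ T.w (σ 1) = 2 * w ∧ T.w (σ 2) = 2 * w ∧ T.w (σ 3) = 2 * w ∧ T.w (σ 4) = w ∧ T.a (σ 0) (σ 0) = -2 * w ∧ T.a (σ 0) (σ 1) = 2 * w ∧ T.a (σ 0) (σ 2) = 0 ∧ T.a (σ 0) (σ 3) = 0 ∧ T.a (σ 0) (σ 4) = 0 ∧ T.a (σ 1) (σ 1) = -4 * w ∧ T.a (σ 1) (σ 2) = 2 * w ∧ T.a (σ 1) (σ 3) = 0 ∧ T.a (σ 1) (σ 4) = 0 ∧ T.a (σ 2) (σ 2) = -4 * w ∧ T.a (σ 2) (σ 3) = 2 * w ∧ T.a (σ 2) (σ 4) = 0 ∧ T.a (σ 3) (σ 3) = -4 * w ∧ T.a (σ 3) (σ 4) = 2 * w ∧ T.a (σ 4) (σ 4) = -2 * w) ∨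
          (T.m (σ 0) = m ∧ T.m (σ 1) = 2 * m ∧ T.m (σ 2) = 2 * m ∧ T.m (σ 3) = 2 * m ∧ T.m (σ 4) = m ∧ T.w (σ 0) = 2 * w ∧ T.w (σ 1) = w ∧ T.w (σ 2) = w ∧ T.w (σ 3) = w ∧ T.w (σ 4) = 2 * w ∧ T.a (σ 0) (σ 0) = -4 * w ∧ T.a (σ 0) (σ 1) = 2 * w ∧ T.a (σ 0) (σ 2) = 0 ∧ T.a (σ 0) (σ 3) = 0 ∧ T.a (σ 0) (σ 4) = 0 ∧ T.a (σ 1) (σ 1) = -2 * w ∧ T.a (σ 1) (σ 2) = w ∧ T.a (σ 1) (σ 3) = 0 ∧ T.a (σ 1) (σ 4) = 0 ∧ T.a (σ 2) (σ 2) = -2 * w ∧ T.a (σ 2) (σ 3) = w ∧ T.a (σ 2) (σ 4) = 0 ∧ T.a (σ 3) (σ 3) = -2 * w ∧ T.a (σ 3) (σ 4) = 2 * w ∧ T.a (σ 4) (σ 4) = -4 * w) ∨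
          (T.m (σ 0) = 2 * m ∧ T.m (σ 1) = m ∧ T.m (σ 2) = m ∧ T.m (σ 3) = m ∧ T.m (σ 4) = m ∧ T.w (σ 0) = w ∧ T.w (σ 1) = w ∧ T.w (σ 2) = w ∧ T.w (σ 3) = w ∧ T.w (σ 4) = w ∧ T.a (σ 0) (σ 0) = -2 * w ∧ T.a (σ 0) (σ 1) = w ∧ T.a (σ 0) (σ 2) = w ∧ T.a (σ 0) (σ 3) = w ∧ T.a (σ 0) (σ 4) = w ∧ T.a (σ 1) (σ 1) = -2 * w ∧ T.a (σ 1) (σ 2) = 0 ∧ T.a (σ 1) (σ 3) = 0 ∧ T.a (σ 1) (σ 4) = 0 ∧ T.a (σ 2) (σ 2) = -2 * w ∧ T.a (σ 2) (σ 3) = 0 ∧ T.a (σ 2) (σ 4) = 0 ∧ T.a (σ 3) (σ 3) = -2 * w ∧ T.a (σ 3) (σ 4) = 0 ∧ T.a (σ 4) (σ 4) = -2 * w) ∨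
          (T.m (σ 0) = m ∧ T.m (σ 1) = 2 * m ∧ T.m (σ 2) = 2 * m ∧ T.m (σ 3) = m ∧ T.m (σ 4) = m ∧ T.w (σ 0) = 2 * w ∧ T.w (σ 1) = w ∧ T.w (σ 2) = w ∧ T.w (σ 3) = w ∧ T.w (σ 4) = w ∧ T.a (σ 0) (σ 0) = -4 * w ∧ T.a (σ 0) (σ 1) = 2 * w ∧ T.a (σ 0) (σ 2) = 0 ∧ T.a (σ 0) (σ 3) = 0 ∧ T.a (σ 0) (σ 4) = 0 ∧ T.a (σ 1) (σ 1) = -2 * w ∧ T.a (σ 1) (σ 2) = w ∧ T.a (σ 1) (σ 3) = 0 ∧ T.a (σ 1) (σ 4) = 0 ∧ T.a (σ 2) (σ 2) = -2 * w ∧ T.a (σ 2) (σ 3) = w ∧ T.a (σ 2) (σ 4) = w ∧ T.a (σ 3) (σ 3) = -2 * w ∧ T.a (σ 3) (σ 4) = 0 ∧ T.a (σ 4) (σ 4) = -2 * w) ∨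
          (T.m (σ 0) = 2 * m ∧ T.m (σ 1) = 2 * m ∧ T.m (σ 2) = 2 * m ∧ T.m (σ 3) = m ∧ T.m (σ 4) = m ∧ T.w (σ 0) = w ∧ T.w (σ 1) = 2 * w ∧ T.w (σ 2) = 2 * w ∧ T.w (σ 3) = 2 * w ∧ T.w (σ 4) = 2 * w ∧ T.a (σ 0) (σ 0) = -2 * w ∧ T.a (σ 0) (σ 1) = 2 * w ∧ T.a (σ 0) (σ 2) = 0 ∧ T.a (σ 0) (σ 3) = 0 ∧ T.a (σ 0) (σ 4) = 0 ∧ T.a (σ 1) (σ 1) = -4 * w ∧ T.a (σ 1) (σ 2) = 2 * w ∧ T.a (σ 1) (σ 3) = 0 ∧ T.a (σ 1) (σ 4) = 0 ∧ T.a (σ 2) (σ 2) = -4 * w ∧ T.a (σ 2) (σ 3) = 2 * w ∧ T.a (σ 2) (σ 4) = 2 * w ∧ T.a (σ 3) (σ 3) = -4 * w ∧ T.a (σ 3) (σ 4) = 0 ∧ T.a (σ 4) (σ 4) = -4 * w)) := by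
  intro i j k l u hij hik hil hiu hjk hjl hju hkl hku hlu pij pjk pkl plu zik zil ziu zjl zju zku
  have hwi := T.w_pos i
  have hmi := T.m_pos i
  have di := (h2 i).2
  have hwj := T.w_pos j
  have hmj := T.m_pos j
  have dj := (h2 j).2
  have hwk := T.w_pos k
  have hmk := T.m_pos k
  have dk := (h2 k).2
  have hwl := T.w_pos l
  have hml := T.m_pos l
  have dl := (h2 l).2
  have hwu := T.w_pos u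
  have hmu := T.m_pos u
  have du := (h2 u).2
  obtain ⟨p1, hp1⟩ := T.w_dvd i j
  obtain ⟨q1, hq1⟩ := T.w_dvd j i
  have sji : T.a j i = T.a i j := hsymm T j i
  rw [sji] at hq1
  obtain ⟨p2, hp2⟩ := T.w_dvd j k
  obtain ⟨q2, hq2⟩ := T.w_dvd k j
  have skj : T.a k j = T.a j k := hsymm T k j
  rw [skj] at hq2
  obtain ⟨p3, hp3⟩ := T.w_dvd k l
  obtain ⟨q3, hq3⟩ := T.w_dvd l k
  have slk : T.a l k = T.a k l := hsymm T l k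
  rw [slk] at hq3
  obtain ⟨p4, hp4⟩ := T.w_dvd l u
  obtain ⟨q4, hq4⟩ := T.w_dvd u l
  have sul : T.a u l = T.a l u := hsymm T u l
  rw [sul] at hq4
  have zki : T.a k i = 0 := Z T _ _ zik
  have zli : T.a l i = 0 := Z T _ _ zil
  have zui : T.a u i = 0 := Z T _ _ ziu
  have zlj : T.a l j = 0 := Z T _ _ zjl
  have zuj : T.a u j = 0 := Z T _ _ zju
  have zuk : T.a u k = 0 := Z T _ _ zku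
  have ri := row5 T i j k l u hij hik hil hiu hjk hjl hju hkl hku hlu i
  rw [di, hp1, zik, zil, ziu] at ri
  have rj := row5 T i j k l u hij hik hil hiu hjk hjl hju hkl hku hlu j
  rw [sji, hq1, dj, hp2, zjl, zju] at rj
  have rk := row5 T i j k l u hij hik hil hiu hjk hjl hju hkl hku hlu k
  rw [zki, skj, hq2, dk, hp3, zku] at rk
  have rl := row5 T i j k l u hij hik hil hiu hjk hjl hju hkl hku hlu l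
  rw [zli, zlj, slk, hq3, dl, hp4] at rl
  have ru := row5 T i j k l u hij hik hil hiu hjk hjl hju hkl hku hlu u
  rw [zui, zuj, zuk, sul, hq4, du] at ru
  have ei : p1 * T.m j = 2 * T.m i := by
    have := cancel (T.w i) (p1 * T.m j - 2 * T.m i) hwi (by linarith)
    linarith
  have ej : q1 * T.m i + p2 * T.m k = 2 * T.m j := by
    have := cancel (T.w j) (q1 * T.m i + p2 * T.m k - 2 * T.m j) hwj (by linarith)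
    linarith
  have ek : q2 * T.m j + p3 * T.m l = 2 * T.m k := by
    have := cancel (T.w k) (q2 * T.m j + p3 * T.m l - 2 * T.m k) hwk (by linarith)
    linarith
  have el : q3 * T.m k + p4 * T.m u = 2 * T.m l := by
    have := cancel (T.w l) (q3 * T.m k + p4 * T.m u - 2 * T.m l) hwl (by linarith)
    linarith
  have eu : q4 * T.m l = 2 * T.m u := by
    have := cancel (T.w u) (q4 * T.m l - 2 * T.m u) hwu (by linarith)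
    linarith
  have kp1 : 1 ≤ p1 := cpos _ _ hwi (hp1 ▸ pij)
  have kq1 : 1 ≤ q1 := cpos _ _ hwj (hq1 ▸ pij)
  have kp2 : 1 ≤ p2 := cpos _ _ hwj (hp2 ▸ pjk)
  have kq2 : 1 ≤ q2 := cpos _ _ hwk (hq2 ▸ pjk)
  have kp3 : 1 ≤ p3 := cpos _ _ hwk (hp3 ▸ pkl)
  have kq3 : 1 ≤ q3 := cpos _ _ hwl (hq3 ▸ pkl)
  have kp4 : 1 ≤ p4 := cpos _ _ hwl (hp4 ▸ plu)
  have kq4 : 1 ≤ q4 := cpos _ _ hwu (hq4 ▸ plu)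
  clear ri rj rk rl ru
  have f1 : 2 * p2 * T.m k = (4 - p1 * q1) * T.m j := by
    linear_combination 2 * ej + q1 * ei
  have f4 : 2 * q3 * T.m k = (4 - p4 * q4) * T.m l := by
    linear_combination 2 * el + p4 * eu
  have b1 : p1 * q1 ≤ 3 := by
    by_contra hc
    push Not at hc
    have h1 : 0 < 2 * p2 * T.m k := by positivity
    have h2' : (4 - p1 * q1) * T.m j ≤ 0 := mul_nonpos_of_nonpos_of_nonneg (by linarith) hmj.le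
    linarith
  have b4 : p4 * q4 ≤ 3 := by
    by_contra hc
    push Not at hc
    have h1 : 0 < 2 * q3 * T.m k := by positivity
    have h2' : (4 - p4 * q4) * T.m l ≤ 0 := mul_nonpos_of_nonpos_of_nonneg (by linarith) hml.le
    linarith
  have hE : (p2 * q2) * (4 - p4 * q4) + (p3 * q3) * (4 - p1 * q1) =
      (4 - p1 * q1) * (4 - p4 * q4) := by
    have h : 2 * ((p2 * q2) * (4 - p4 * q4) + (p3 * q3) * (4 - p1 * q1) -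
        (4 - p1 * q1) * (4 - p4 * q4)) * T.m k = 0 := by
      linear_combination ((4 - p1 * q1) * (4 - p4 * q4)) * ek + ((4 - p4 * q4) * q2) * f1 +
        ((4 - p1 * q1) * p3) * f4
    rcases mul_eq_zero.mp h with h | h
    · linarith
    · exact absurd h hmk.ne'
  have a1 : 1 ≤ p1 * q1 := by nlinarith
  have a2 : 1 ≤ p2 * q2 := by nlinarith
  have a3 : 1 ≤ p3 * q3 := by nlinarith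
  have a4 : 1 ≤ p4 * q4 := by nlinarith
  have hP := pathP (p1 * q1) (p2 * q2) (p3 * q3) (p4 * q4) a1 a2 a3 a4 b1 b4 hE
  clear f1 f4 hE a1 a2 a3 a4 b1 b4
  rcases hP with ⟨P1, P2, P3, P4⟩ | ⟨P1, P2, P3, P4⟩ | ⟨P1, P2, P3, P4⟩
  · obtain ⟨vp2, vq2⟩ := prod1 p2 q2 kp2 kq2 P2
    obtain ⟨vp3, vq3⟩ := prod1 p3 q3 kp3 kq3 P3
    subst vp2 vq2 vp3 vq3
    rcases prod2 p1 q1 kp1 kq1 P1 with ⟨rfl, rfl⟩ | ⟨rfl, rfl⟩ <;>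
      rcases prod2 p4 q4 kp4 kq4 P4 with ⟨rfl, rfl⟩ | ⟨rfl, rfl⟩
    ·
      obtain ⟨σ, s0, s1, s2, s3, s4⟩ := perm5 i j k l u hij hik hil hiu hjk hjl hju hkl hku hlu
      refine ⟨σ, T.m u, T.w i, Or.inr (Or.inr (Or.inr (Or.inl ?_)))⟩
      rw [s0, s1, s2, s3, s4]
      refine ⟨?_, ?_, ?_, ?_, ?_, ?_, ?_, ?_, ?_, ?_, ?_, ?_, ?_, ?_, ?_, ?_, ?_, ?_, ?_, ?_, ?_, ?_, ?_, ?_, ?_⟩ <;> linarith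
    ·
      obtain ⟨σ, s0, s1, s2, s3, s4⟩ := perm5 i j k l u hij hik hil hiu hjk hjl hju hkl hku hlu
      refine ⟨σ, T.m i, T.w i, Or.inr (Or.inr (Or.inr (Or.inr (Or.inl ?_))))⟩
      rw [s0, s1, s2, s3, s4]
      refine ⟨?_, ?_, ?_, ?_, ?_, ?_, ?_, ?_, ?_, ?_, ?_, ?_, ?_, ?_, ?_, ?_, ?_, ?_, ?_, ?_, ?_, ?_, ?_, ?_, ?_⟩ <;> linarith
    ·
      obtain ⟨σ, s0, s1, s2, s3, s4⟩ := perm5 i j k l u hij hik hil hiu hjk hjl hju hkl hku hlu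
      refine ⟨σ, T.m i, T.w j, Or.inr (Or.inr (Or.inr (Or.inr (Or.inr (Or.inl ?_)))))⟩
      rw [s0, s1, s2, s3, s4]
      refine ⟨?_, ?_, ?_, ?_, ?_, ?_, ?_, ?_, ?_, ?_, ?_, ?_, ?_, ?_, ?_, ?_, ?_, ?_, ?_, ?_, ?_, ?_, ?_, ?_, ?_⟩ <;> linarith
    ·
      obtain ⟨σ, s0, s1, s2, s3, s4⟩ := perm5 u l k j i hlu.symm hku.symm hju.symm hiu.symm hkl.symm hjl.symm hil.symm hjk.symm hik.symm hij.symm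
      refine ⟨σ, T.m i, T.w u, Or.inr (Or.inr (Or.inr (Or.inl ?_)))⟩
      rw [s0, s1, s2, s3, s4]
      refine ⟨?_, ?_, ?_, ?_, ?_, ?_, ?_, ?_, ?_, ?_, ?_, ?_, ?_, ?_, ?_, ?_, ?_, ?_, ?_, ?_, ?_, ?_, ?_, ?_, ?_⟩ <;> linarith
  · obtain ⟨vp1, vq1⟩ := prod1 p1 q1 kp1 kq1 P1
    obtain ⟨vp2, vq2⟩ := prod1 p2 q2 kp2 kq2 P2
    obtain ⟨vp4, vq4⟩ := prod1 p4 q4 kp4 kq4 P4
    subst vp1 vq1 vp2 vq2 vp4 vq4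
    rcases prod2 p3 q3 kp3 kq3 P3 with ⟨rfl, rfl⟩ | ⟨rfl, rfl⟩
    ·
      obtain ⟨σ, s0, s1, s2, s3, s4⟩ := perm5 i j k l u hij hik hil hiu hjk hjl hju hkl hku hlu
      refine ⟨σ, T.m i, T.w i, Or.inr (Or.inl ?_)⟩
      rw [s0, s1, s2, s3, s4]
      refine ⟨?_, ?_, ?_, ?_, ?_, ?_, ?_, ?_, ?_, ?_, ?_, ?_, ?_, ?_, ?_, ?_, ?_, ?_, ?_, ?_, ?_, ?_, ?_, ?_, ?_⟩ <;> linarith
    ·
      obtain ⟨σ, s0, s1, s2, s3, s4⟩ := perm5 i j k l u hij hik hil hiu hjk hjl hju hkl hku hlu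
      refine ⟨σ, T.m i, T.w l, Or.inr (Or.inr (Or.inl ?_))⟩
      rw [s0, s1, s2, s3, s4]
      refine ⟨?_, ?_, ?_, ?_, ?_, ?_, ?_, ?_, ?_, ?_, ?_, ?_, ?_, ?_, ?_, ?_, ?_, ?_, ?_, ?_, ?_, ?_, ?_, ?_, ?_⟩ <;> linarith
  · obtain ⟨vp1, vq1⟩ := prod1 p1 q1 kp1 kq1 P1
    obtain ⟨vp3, vq3⟩ := prod1 p3 q3 kp3 kq3 P3
    obtain ⟨vp4, vq4⟩ := prod1 p4 q4 kp4 kq4 P4
    subst vp1 vq1 vp3 vq3 vp4 vq4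
    rcases prod2 p2 q2 kp2 kq2 P2 with ⟨rfl, rfl⟩ | ⟨rfl, rfl⟩
    ·
      obtain ⟨σ, s0, s1, s2, s3, s4⟩ := perm5 u l k j i hlu.symm hku.symm hju.symm hiu.symm hkl.symm hjl.symm hil.symm hjk.symm hik.symm hij.symm
      refine ⟨σ, T.m u, T.w i, Or.inr (Or.inr (Or.inl ?_))⟩
      rw [s0, s1, s2, s3, s4]
      refine ⟨?_, ?_, ?_, ?_, ?_, ?_, ?_, ?_, ?_, ?_, ?_, ?_, ?_, ?_, ?_, ?_, ?_, ?_, ?_, ?_, ?_, ?_, ?_, ?_, ?_⟩ <;> linarith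
    ·
      obtain ⟨σ, s0, s1, s2, s3, s4⟩ := perm5 u l k j i hlu.symm hku.symm hju.symm hiu.symm hkl.symm hjl.symm hil.symm hjk.symm hik.symm hij.symm
      refine ⟨σ, T.m u, T.w u, Or.inr (Or.inl ?_)⟩
      rw [s0, s1, s2, s3, s4]
      refine ⟨?_, ?_, ?_, ?_, ?_, ?_, ?_, ?_, ?_, ?_, ?_, ?_, ?_, ?_, ?_, ?_, ?_, ?_, ?_, ?_, ?_, ?_, ?_, ?_, ?_⟩ <;> linarith

end Groth.Agent.H3.G5
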