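import Groth.Agent.H15.Models
import Groth.Agent.S7317

set_option autoImplicit false

namespace Groth.Agent.H3
open Finset

/-- in a minimal numerical type of genus one with more than one index, every index is a
`(-2)`-index -/
theorem all_minusTwo {n : ℕ} (T : Models.NumericalType n) (hmin : T.IsMinimal) (hn : 1 < n)
    (hg : T.genus = 1) : ∀ i, T.IsMinusTwo i := by
  intro i
  apply Groth.Agent.S7317.result T hn i
  have h := Groth.Agent.H15.ModelsAux.two_mul_genus T
  rw [hg] at h
  have hnn := fun i => Groth.Agent.H15.ModelsAux.term_nonneg_of_isMinimal T hmin hn i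
  have hz : ∑ i, T.m i * (2 * T.w i * (T.g i - 1) - T.a i i) = 0 := by linarith
  exact (Finset.sum_eq_zero_iff_of_nonneg (fun i _ => hnn i)).mp hz i (Finset.mem_univ i)

theorem pos_of_mul_pos' (a b : ℤ) (ha : 0 < a) (hab : 0 < b * a) : 1 ≤ b := by
  by_contra hb
  push Not at hb
  have : b ≤ 0 := by omega
  nlinarith

end Groth.Agent.H3
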