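import Groth.Agent.H3.NumChain
import Groth.Agent.H3.NumGenusOne
import Groth.Agent.S7346

set_option autoImplicit false

namespace Groth.Agent.H3.Gen
open Groth.Agent.H3 Groth.Agent.H2

variable {n : ℕ} (T : Models.NumericalType n)

theorem hsymm (i j : Fin n) : T.a i j = T.a j i := (T.symm.apply i j).symm

theorem nsymm {i j : Fin n} (h : T.a i j ≠ 0) : T.a j i ≠ 0 := by
  rw [hsymm T j i]; exact h

theorem zsymm {i j : Fin n} (h : T.a i j = 0) : T.a j i = 0 := by
  rw [hsymm T j i]; exact h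

/-- number of edges between `a` and `b`, as seen from `a` -/
def pp (a b : Fin n) : ℤ := T.a a b / T.w a

theorem a_eq_pp (a b : Fin n) : T.a a b = T.w a * pp T a b := by
  unfold pp
  exact (Int.mul_ediv_cancel' (T.w_dvd a b)).symm

theorem pp_pos {a b : Fin n} (hab : a ≠ b) (h : T.a a b ≠ 0) : 1 ≤ pp T a b := by
  have hpos : 0 < T.a a b := lt_of_le_of_ne (T.offDiag_nonneg a b hab) (Ne.symm h)
  rw [a_eq_pp T a b] at hpos
  exact pos_of_mul_pos' (T.w a) (pp T a b) (T.w_pos a) (by rw [mul_comm]; exact hpos)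

theorem w_pp (a b : Fin n) : T.w a * pp T a b = T.w b * pp T b a := by
  rw [← a_eq_pp, ← a_eq_pp, hsymm]

theorem permOf (z : Fin n → Fin n) (hz : Function.Injective z) :
    ∃ σ : Equiv.Perm (Fin n), ∀ i, σ i = z i :=
  ⟨Equiv.ofBijective z (Finite.injective_iff_bijective.mp hz), fun _ => rfl⟩

/-- a chain from a list of indices (through an injective relabelling `y`) -/
def chainOfList (h2 : ∀ i, T.IsMinusTwo i) (y : Fin n → Fin n) (hy : Function.Injective y)
    (l : List (Fin n)) (hnd : l.Nodup) (hlen : l.length < n)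
    (hch : l.IsChain (fun a b => T.a (y a) (y b) ≠ 0)) : Chain T l.length where
  v := ⟨fun j => y (l.get j), fun a b hab => hnd.injective_get (hy hab)⟩
  lt := hlen
  m2 := fun j => h2 _
  adj := by
    rintro ⟨jv, hj⟩ ⟨jv', hj'⟩ h
    simp only at h
    subst h
    exact hch.getElem jv hj'

theorem chainOfList_V (h2 : ∀ i, T.IsMinusTwo i) (y : Fin n → Fin n) (hy : Function.Injective y)
    (l : List (Fin n)) (hnd : l.Nodup) (hlen : l.length < n)
    (hch : l.IsChain (fun a b => T.a (y a) (y b) ≠ 0)) (k : ℕ) (a : Fin n)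
    (ha : l[k]? = some a) : (chainOfList T h2 y hy l hnd hlen hch).V k = y a := by
  obtain ⟨hk, ea⟩ := List.getElem?_eq_some_iff.mp ha
  rw [Chain.V_of_lt _ hk]
  show y (l.get ⟨k, hk⟩) = y a
  rw [List.get_eq_getElem, ea]

theorem nocycList (h2 : ∀ i, T.IsMinusTwo i) (y : Fin n → Fin n) (hy : Function.Injective y)
    (l : List (Fin n)) (hnd : l.Nodup) (hlen : l.length < n) (h3 : 3 ≤ l.length)
    (hch : l.IsChain (fun a b => T.a (y a) (y b) ≠ 0)) (a b : Fin n)
    (ha : l[0]? = some a) (hb : l[l.length - 1]? = some b) : T.a (y a) (y b) = 0 := by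
  have h := (chainOfList T h2 y hy l hnd hlen hch).no_chord (j := 0) (k := l.length - 1)
    (by omega) (by omega)
  rw [chainOfList_V T h2 y hy l hnd hlen hch 0 a ha,
    chainOfList_V T h2 y hy l hnd hlen hch (l.length - 1) b hb] at h
  exact h

theorem edge_cases (h2 : ∀ i, T.IsMinusTwo i) (y : Fin n → Fin n) (hy : Function.Injective y)
    (l : List (Fin n)) (hnd : l.Nodup) (hlen : l.length < n) (h3 : 3 ≤ l.length)
    (hch : l.IsChain (fun a b => T.a (y a) (y b) ≠ 0)) (k : ℕ) (hk : k + 1 < l.length)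
    (a b : Fin n) (ha : l[k]? = some a) (hb : l[k + 1]? = some b) :
    (pp T (y a) (y b) = 1 ∧ pp T (y b) (y a) = 1) ∨
      (pp T (y a) (y b) = 2 ∧ pp T (y b) (y a) = 1) ∨
      (pp T (y a) (y b) = 1 ∧ pp T (y b) (y a) = 2) := by
  have hV1 := chainOfList_V T h2 y hy l hnd hlen hch k a ha
  have hV2 := chainOfList_V T h2 y hy l hnd hlen hch (k + 1) b hb
  have hp : (chainOfList T h2 y hy l hnd hlen hch).p k = pp T (y a) (y b) := by
    unfold Chain.p Chain.A Chain.W pp
    rw [hV1, hV2]
  have hq : (chainOfList T h2 y hy l hnd hlen hch).q k = pp T (y b) (y a) := by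
    unfold Chain.q Chain.A Chain.W pp
    rw [hV1, hV2, hsymm T (y a) (y b)]
  rw [← hp, ← hq]
  rcases (chainOfList T h2 y hy l hnd hlen hch).P_le_two h3 hk with h | h
  · exact Or.inl ((chainOfList T h2 y hy l hnd hlen hch).pq_of_P_one hk h)
  · exact Or.inr ((chainOfList T h2 y hy l hnd hlen hch).pq_of_P_two hk h)

theorem mid_edge_one (h2 : ∀ i, T.IsMinusTwo i) (y : Fin n → Fin n) (hy : Function.Injective y)
    (l : List (Fin n)) (hnd : l.Nodup) (hlen : l.length < n) (h5 : 5 ≤ l.length)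
    (hch : l.IsChain (fun a b => T.a (y a) (y b) ≠ 0)) (k : ℕ) (hk1 : 1 ≤ k)
    (hk : k + 2 < l.length)
    (a b : Fin n) (ha : l[k]? = some a) (hb : l[k + 1]? = some b) :
    pp T (y a) (y b) = 1 ∧ pp T (y b) (y a) = 1 := by
  have hV1 := chainOfList_V T h2 y hy l hnd hlen hch k a ha
  have hV2 := chainOfList_V T h2 y hy l hnd hlen hch (k + 1) b hb
  have hp : (chainOfList T h2 y hy l hnd hlen hch).p k = pp T (y a) (y b) := by
    unfold Chain.p Chain.A Chain.W pp
    rw [hV1, hV2]
  have hq : (chainOfList T h2 y hy l hnd hlen hch).q k = pp T (y b) (y a) := by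
    unfold Chain.q Chain.A Chain.W pp
    rw [hV1, hV2, hsymm T (y a) (y b)]
  rw [← hp, ← hq]
  rcases (chainOfList T h2 y hy l hnd hlen hch).P_le_two (by omega) (show k + 1 < l.length by omega)
    with h | h
  · exact (chainOfList T h2 y hy l hnd hlen hch).pq_of_P_one (by omega) h
  · exfalso
    have := (chainOfList T h2 y hy l hnd hlen hch).double_at_end h5 (show k + 1 < l.length by omega) h
    omega

theorem branch_one (h2 : ∀ i, T.IsMinusTwo i) (y : Fin n → Fin n) (hy : Function.Injective y)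
    (hn : 4 < n) (c a b d : Fin n) (hnd : [c, a, b, d].Nodup)
    (eca : T.a (y c) (y a) ≠ 0) (ecb : T.a (y c) (y b) ≠ 0) (ecd : T.a (y c) (y d) ≠ 0) :
    pp T (y c) (y a) = 1 ∧ pp T (y a) (y c) = 1 ∧ pp T (y c) (y b) = 1 ∧ pp T (y b) (y c) = 1 ∧
      pp T (y c) (y d) = 1 ∧ pp T (y d) (y c) = 1 := by
  let v : Fin 4 ↪ Fin n :=
    ⟨fun j => y ([c, a, b, d].get j), fun i j hij => hnd.injective_get (hy hij)⟩
  obtain ⟨w, hw, e1, e2, e3, -⟩ := Groth.Agent.S7346.result T hn v (fun j => h2 _) eca ecb ecd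
  have hw0 : T.w (y c) = w := hw 0
  have hw1 : T.w (y a) = w := hw 1
  have hw2 : T.w (y b) = w := hw 2
  have hw3 : T.w (y d) = w := hw 3
  have e1' : T.a (y c) (y a) = w := e1
  have e2' : T.a (y c) (y b) = w := e2
  have e3' : T.a (y c) (y d) = w := e3
  have key : ∀ u v' : Fin n, T.w u = w → T.a u v' = w → pp T u v' = 1 := by
    intro u v' hu hv
    unfold pp
    rw [hu, hv]
    exact Int.ediv_self (by rw [← hu]; exact (T.w_pos u).ne')
  exact ⟨key _ _ hw0 e1', key _ _ hw1 (by rw [hsymm]; exact e1'), key _ _ hw0 e2',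
    key _ _ hw2 (by rw [hsymm]; exact e2'), key _ _ hw0 e3', key _ _ hw3 (by rw [hsymm]; exact e3')⟩

/-- exclusion of proper sub-configurations carrying positive marks -/
theorem marks_excl (h2 : ∀ i, T.IsMinusTwo i) (y : Fin n → Fin n) (hy : Function.Injective y)
    (k : ℕ) (v : Fin k → Fin n) (hv : Function.Injective v) (hk : k < n) (hpos : 0 < k)
    (δ : Fin k → ℤ) (hδ : ∀ j, 0 < δ j)
    (N : Fin k → Finset (Fin k)) (hN1 : ∀ i, i ∉ N i)
    (hN2 : ∀ i, ∀ j ∈ N i, T.a (y (v i)) (y (v j)) ≠ 0)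
    (hN3 : ∀ i, 2 * δ i ≤ ∑ j ∈ N i, δ j) : False :=
  affine_excl T ⟨fun j => y (v j), hy.comp hv⟩ hk hpos δ hδ
    (fun i => row_nonneg T _ δ (fun j => (hδ j).le) i (h2 _) (N i) (hN1 i) (hN2 i) (hN3 i))

theorem sum9 (g : Fin 9 → ℤ) :
    ∑ i, g i = g 0 + g 1 + g 2 + g 3 + g 4 + g 5 + g 6 + g 7 + g 8 := by
  rw [Fin.sum_univ_castSucc, Fin.sum_univ_eight]
  rfl

/-- enumeration of the indices along a spanning tree -/
theorem exists_growth : ∃ y : Fin n → Fin n, Function.Injective y ∧
    ∀ (k : ℕ) (hk : k < n), 0 < k →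
      ∃ (a : ℕ) (ha : a < k), T.a (y ⟨a, by omega⟩) (y ⟨k, hk⟩) ≠ 0 := by
  classical
  have key : ∀ k : ℕ, 1 ≤ k → k ≤ n → ∃ l : List (Fin n), l.length = k ∧ l.Nodup ∧
      ∀ (j : ℕ) (hj : j < l.length), 0 < j →
        ∃ (a : ℕ) (ha : a < j), T.a (l[a]'(by omega)) (l[j]'hj) ≠ 0 := by
    intro k hk1
    induction k, hk1 using Nat.le_induction with
    | base =>
      intro _
      refine ⟨[⟨0, T.pos⟩], rfl, List.nodup_singleton _, ?_⟩
      intro j hj hj0
      simp only [List.length_singleton] at hj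
      omega
    | succ k hk1 ih =>
      intro hkn
      obtain ⟨l, hlen, hnd, hgrow⟩ := ih (by omega)
      have hne : l.toFinset.Nonempty := by
        have hl : l ≠ [] := by
          intro h
          rw [h] at hlen
          simp at hlen
          omega
        obtain ⟨x, hx⟩ := List.exists_mem_of_ne_nil l hl
        exact ⟨x, List.mem_toFinset.mpr hx⟩
      have hnu : l.toFinset ≠ Finset.univ := by
        intro h
        have h1 := congrArg Finset.card h
        rw [List.toFinset_card_of_nodup hnd, Finset.card_univ, Fintype.card_fin] at h1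
        omega
      obtain ⟨i, hi, j, hj, hij⟩ := T.connected l.toFinset hne hnu
      rw [List.mem_toFinset] at hi hj
      obtain ⟨a, ha, rfl⟩ := List.getElem_of_mem hi
      refine ⟨l ++ [j], by simp [hlen], ?_, ?_⟩
      · rw [List.nodup_append]
        refine ⟨hnd, List.nodup_singleton j, ?_⟩
        intro x hx y' hy'
        rw [List.mem_singleton] at hy'
        subst hy'
        rintro rfl
        exact hj hx
      · intro j' hj' hj0
        rw [List.length_append, List.length_singleton] at hj'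
        by_cases hlt : j' < l.length
        · obtain ⟨a', ha', h⟩ := hgrow j' hlt hj0
          refine ⟨a', ha', ?_⟩
          rw [List.getElem_append_left (by omega), List.getElem_append_left hlt]
          exact h
        · have hj'eq : j' = l.length := by omega
          subst hj'eq
          refine ⟨a, ha, ?_⟩
          rw [List.getElem_append_left ha, List.getElem_append_right (le_refl _)]
          simpa using hij
  obtain ⟨l, hlen, hnd, hgrow⟩ := key n T.pos le_rfl
  refine ⟨fun i => l[i.val]'(by rw [hlen]; exact i.isLt), ?_, ?_⟩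
  · intro a b hab
    exact Fin.ext ((hnd.getElem_inj_iff).mp hab)
  · intro k hk hk0
    obtain ⟨a, ha, h⟩ := hgrow k (by omega) hk0
    exact ⟨a, ha, h⟩

end Groth.Agent.H3.Gen
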