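import Mathlib
import Groth.Agent.Lib.Helper26.CompleteFinite

set_option autoImplicit false

namespace Groth.Agent.H3.RigClosed

variable {B : Type*} [CommRing B] [IsDomain B] [IsNoetherianRing B]

lemma no_chain (a b c : Ideal B) [a.IsPrime] [b.IsPrime] [c.IsPrime] (hab : a < b) (hbc : b < c)
    (hc : c.height ≤ 1) : False := by
  have h1 : a.height < b.height := Ideal.height_strict_mono_of_isPrime_of_isPrime hab
  have h2 : b.height < c.height := Ideal.height_strict_mono_of_isPrime_of_isPrime hbc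
  have h3 : b.height < 1 := lt_of_lt_of_le h2 hc
  rw [Order.lt_one_iff] at h3
  rw [h3] at h1
  exact absurd h1 (not_lt.mpr zero_le)

theorem aux (J : Ideal B) [IsAdicComplete J B] (hJ0 : J ≠ ⊥)
    (hall : ∀ P : Ideal B, P.IsPrime → P ≠ ⊥ → J ≤ P) :
    ringKrullDim B = 1 ∧ (∀ m : Ideal B, m.IsMaximal → m = J.radical) := by
  classical
  have hjac : J ≤ Ideal.jacobson ⊥ := IsAdicComplete.le_jacobson_bot J
  obtain ⟨x, hxJ, hx0⟩ := Submodule.exists_mem_ne_zero_of_ne_bot hJ0
  have hmax_ne : ∀ m : Ideal B, m.IsMaximal → m ≠ ⊥ := by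
    intro m hm h0
    apply hx0
    have hxm : x ∈ m := (hjac.trans (sInf_le ⟨bot_le, hm⟩)) hxJ
    rw [h0] at hxm
    exact Ideal.mem_bot.mp hxm
  haveI hprinc : (Ideal.span {x}).IsPrincipal := ⟨⟨x, rfl⟩⟩
  set S := (Ideal.span {x}).minimalPrimes with hS
  have hSfin : S.Finite := Ideal.finite_minimalPrimes_of_isNoetherianRing B (Ideal.span {x})
  have hSprime : ∀ p ∈ S, p.IsPrime := fun p hp => hp.1.1
  have hSx : ∀ p ∈ S, x ∈ p := fun p hp => hp.1.2 (Ideal.subset_span rfl)
  have hSne : ∀ p ∈ S, p ≠ ⊥ := by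
    intro p hp h0
    have := hSx p hp
    rw [h0] at this
    exact hx0 (Ideal.mem_bot.mp this)
  have hSht : ∀ p ∈ S, p.height ≤ 1 := fun p hp =>
    Ideal.height_le_one_of_isPrincipal_of_mem_minimalPrimes _ p hp
  haveI hbotp : (⊥ : Ideal B).IsPrime := Ideal.isPrime_bot
  -- every nonzero prime is maximal
  have hdim1 : ∀ P : Ideal B, P ≠ ⊥ → P.IsPrime → P.IsMaximal := by
    intro P hP0 hPp
    by_contra hPm
    obtain ⟨m, hm, hPm'⟩ := Ideal.exists_le_maximal P hPp.ne_top
    have hPlt : P < m := lt_of_le_of_ne hPm' (fun h => hPm (h ▸ hm))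
    haveI hmp : m.IsPrime := hm.isPrime
    have hm0 : m ≠ ⊥ := hmax_ne m hm
    have hxm : x ∈ m := hall m hmp hm0 hxJ
    have hbot : (⊥ : Ideal B) < P := bot_lt_iff_ne_bot.mpr hP0
    have key := (Ideal.subset_union_prime (s := hSfin.toFinset) (f := fun p : Ideal B => p) (I := m)
      ⊥ ⊥ (fun p hp _ _ => hSprime p (hSfin.mem_toFinset.mp hp)))
    have hnot : ¬ ∃ p ∈ hSfin.toFinset, m ≤ p := by
      rintro ⟨p, hp, hmp'⟩
      have hpS := hSfin.mem_toFinset.mp hp
      haveI := hSprime p hpS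
      exact no_chain ⊥ P p hbot (lt_of_lt_of_le hPlt hmp') (hSht p hpS)
    rw [← key] at hnot
    obtain ⟨y, hym, hy⟩ := Set.not_subset.mp hnot
    have hyS : ∀ p ∈ S, y ∉ p := by
      intro p hp hyp
      exact hy (Set.mem_biUnion (show p ∈ (↑hSfin.toFinset : Set (Ideal B)) from
        Finset.mem_coe.mpr (hSfin.mem_toFinset.mpr hp)) hyp)
    obtain ⟨p0, hp0S, hp0m⟩ := Ideal.exists_minimalPrimes_le (I := Ideal.span {x}) (J := m)
      ((Ideal.span_singleton_le_iff_mem _).mpr hxm)
    have hy0 : y ≠ 0 := by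
      rintro rfl
      exact hyS p0 hp0S (Ideal.zero_mem _)
    obtain ⟨P', hP'min, hP'm⟩ := Ideal.exists_minimalPrimes_le (I := Ideal.span {y}) (J := m)
      ((Ideal.span_singleton_le_iff_mem _).mpr hym)
    haveI hP'p : P'.IsPrime := hP'min.1.1
    have hyP' : y ∈ P' := hP'min.1.2 (Ideal.subset_span rfl)
    have hP'0 : P' ≠ ⊥ := by
      intro h
      rw [h] at hyP'
      exact hy0 (Ideal.mem_bot.mp hyP')
    haveI : (Ideal.span {y}).IsPrincipal := ⟨⟨y, rfl⟩⟩
    have hP'ht : P'.height ≤ 1 :=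
      Ideal.height_le_one_of_isPrincipal_of_mem_minimalPrimes _ P' hP'min
    have hxP' : x ∈ P' := hall P' hP'p hP'0 hxJ
    obtain ⟨p1, hp1S, hp1P'⟩ := Ideal.exists_minimalPrimes_le (I := Ideal.span {x}) (J := P')
      ((Ideal.span_singleton_le_iff_mem _).mpr hxP')
    haveI := hSprime p1 hp1S
    have hp10 : (⊥ : Ideal B) < p1 := bot_lt_iff_ne_bot.mpr (hSne p1 hp1S)
    rcases hp1P'.eq_or_lt with h | h
    · exact hyS p1 hp1S (h ▸ hyP')
    · exact no_chain ⊥ p1 P' hp10 h hP'ht
  -- dimension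
  have hle : ringKrullDim B ≤ 1 := by
    have h1 : Ring.KrullDimLE 1 B := Ring.krullDimLE_one_iff_of_noZeroDivisors.mpr hdim1
    exact_mod_cast Ring.krullDimLE_iff.mp h1
  obtain ⟨m0, hm0⟩ := Ideal.exists_maximal B
  have hge : 1 ≤ ringKrullDim B := by
    haveI := hm0.isPrime
    have h1 : (⊥ : Ideal B).height < m0.height :=
      Ideal.height_strict_mono_of_isPrime_of_isPrime (bot_lt_iff_ne_bot.mpr (hmax_ne m0 hm0))
    have h2 : (1 : ℕ∞) ≤ m0.height :=
      Order.one_le_iff_ne_zero.mpr (lt_of_le_of_lt zero_le h1).ne'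
    have h3 := Ideal.height_le_ringKrullDim_of_ne_top hm0.ne_top
    calc (1 : WithBot ℕ∞) = ((1 : ℕ∞) : WithBot ℕ∞) := rfl
      _ ≤ (m0.height : WithBot ℕ∞) := WithBot.coe_le_coe.mpr h2
      _ ≤ ringKrullDim B := h3
  have hK : ∀ m : Ideal B, m.IsMaximal → J.radical ≤ m := fun m hm =>
    (Ideal.IsPrime.radical_le_iff hm.isPrime).mpr (hall m hm.isPrime (hmax_ne m hm))
  have hmemS : ∀ m : Ideal B, m.IsMaximal → m ∈ S := by
    intro m hm
    haveI := hm.isPrime
    have hxm : x ∈ m := hall m hm.isPrime (hmax_ne m hm) hxJ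
    obtain ⟨p, hpS, hpm⟩ := Ideal.exists_minimalPrimes_le (I := Ideal.span {x}) (J := m)
      ((Ideal.span_singleton_le_iff_mem _).mpr hxm)
    have hpmax := hdim1 p (hSne p hpS) (hSprime p hpS)
    rw [← hpmax.eq_of_le hm.ne_top hpm]
    exact hpS
  have hprod : ∀ (m1 : Ideal B) (a b : B), m1.IsMaximal → a ∈ m1 →
      (∀ p ∈ S, p ≠ m1 → b ∈ p) → a * b ∈ J.radical := by
    intro m1 a b hm1 ha hb
    rw [Ideal.radical_eq_sInf, Ideal.mem_sInf]
    rintro P ⟨hJP, hPp⟩
    have hP0 : P ≠ ⊥ := fun h => hJ0 (le_bot_iff.mp (h ▸ hJP))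
    have hPmax := hdim1 P hP0 hPp
    by_cases h : P = m1
    · rw [h]; exact Ideal.mul_mem_right _ _ ha
    · exact Ideal.mul_mem_left _ _ (hb P (hmemS P hPmax) h)
  have huniq : ∀ m1 m2 : Ideal B, m1.IsMaximal → m2.IsMaximal → m1 = m2 := by
    intro m1 m2 hm1 hm2
    by_contra hne
    obtain ⟨N, hN⟩ := Ideal.exists_radical_pow_le_of_fg J (IsNoetherian.noetherian _)
    haveI : IsAdicComplete J.radical B :=
      H26.isAdicComplete_of_le_of_pow_le B Ideal.le_radical N hN
    have hcop : m1 ⊔ ⨅ p ∈ (hSfin.toFinset.erase m1), p = ⊤ := by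
      apply Ideal.sup_iInf_eq_top
      intro p hp
      rw [Finset.mem_erase] at hp
      have hpS := hSfin.mem_toFinset.mp hp.2
      exact hm1.coprime_of_ne (hdim1 p (hSne p hpS) (hSprime p hpS)) (Ne.symm hp.1)
    obtain ⟨a, ha, b, hb, hab⟩ := Submodule.mem_sup.mp (hcop ▸ (Submodule.mem_top : (1 : B) ∈ ⊤))
    have hb' : ∀ p ∈ S, p ≠ m1 → b ∈ p := by
      intro p hp hne'
      have h1 := (Submodule.mem_iInf _).mp hb p
      exact (Submodule.mem_iInf _).mp h1 (Finset.mem_erase.mpr ⟨hne', hSfin.mem_toFinset.mpr hp⟩)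
    have habK : a * b ∈ J.radical := hprod m1 a b hm1 ha hb'
    have h1 : Polynomial.eval b (Polynomial.X * (Polynomial.X - Polynomial.C 1) : Polynomial B) ∈
        J.radical := by
      have : Polynomial.eval b (Polynomial.X * (Polynomial.X - Polynomial.C 1) : Polynomial B) =
          -(a * b) := by
        rw [Polynomial.eval_mul, Polynomial.eval_X, Polynomial.eval_sub, Polynomial.eval_X,
          Polynomial.eval_C]
        linear_combination b * hab
      rw [this]
      exact (Ideal.neg_mem_iff _).mpr habK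
    have h2 : IsUnit (Ideal.Quotient.mk J.radical (Polynomial.eval b (Polynomial.derivative
        (Polynomial.X * (Polynomial.X - Polynomial.C 1) : Polynomial B)))) := by
      have hd : Polynomial.eval b (Polynomial.derivative
          (Polynomial.X * (Polynomial.X - Polynomial.C 1) : Polynomial B)) = 2 * b - 1 := by
        rw [Polynomial.derivative_mul, Polynomial.derivative_X, Polynomial.derivative_sub,
          Polynomial.derivative_X, Polynomial.derivative_C, Polynomial.eval_add,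
          Polynomial.eval_mul, Polynomial.eval_mul, Polynomial.eval_one, Polynomial.eval_sub,
          Polynomial.eval_X, Polynomial.eval_C, Polynomial.eval_sub, Polynomial.eval_one,
          Polynomial.eval_zero]
        ring
      rw [hd]
      refine isUnit_iff_exists_inv.mpr ⟨Ideal.Quotient.mk J.radical (2 * b - 1), ?_⟩
      rw [← map_mul, ← map_one (Ideal.Quotient.mk J.radical), Ideal.Quotient.eq]
      have : (2 * b - 1) * (2 * b - 1) - 1 = -(4 * (a * b)) := by
        linear_combination (4 * b) * hab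
      rw [this]
      exact (Ideal.neg_mem_iff _).mpr (Ideal.mul_mem_left _ _ habK)
    obtain ⟨e, he, heb⟩ := HenselianRing.is_henselian (R := B) (I := J.radical)
      (Polynomial.X * (Polynomial.X - Polynomial.C 1))
      (Polynomial.monic_X.mul (Polynomial.monic_X_sub_C 1)) b h1 h2
    have he' : e * (e - 1) = 0 := by
      have h := he
      rw [Polynomial.IsRoot.def, Polynomial.eval_mul, Polynomial.eval_X, Polynomial.eval_sub,
        Polynomial.eval_X, Polynomial.eval_C] at h
      exact h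
    rcases mul_eq_zero.mp he' with h0 | h1'
    · subst h0
      have hbK : b ∈ J.radical := by
        have h := heb
        rw [zero_sub] at h
        exact (Ideal.neg_mem_iff _).mp h
      have hbm : b ∈ m1 := hK m1 hm1 hbK
      have : (1 : B) ∈ m1 := hab ▸ m1.add_mem ha hbm
      exact hm1.ne_top ((Ideal.eq_top_iff_one _).mpr this)
    · have he1 : e = 1 := sub_eq_zero.mp h1'
      subst he1
      have haK : a ∈ J.radical := by
        have : (1 : B) - b = a := by linear_combination -hab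
        rw [← this]
        exact heb
      have ham : a ∈ m2 := hK m2 hm2 haK
      have hbm : b ∈ m2 := hb' m2 (hmemS m2 hm2) (Ne.symm hne)
      have : (1 : B) ∈ m2 := hab ▸ m2.add_mem ham hbm
      exact hm2.ne_top ((Ideal.eq_top_iff_one _).mpr this)
  refine ⟨le_antisymm hle hge, fun m hm => le_antisymm ?_ (hK m hm)⟩
  rw [Ideal.radical_eq_sInf]
  apply le_sInf
  rintro P ⟨hJP, hPp⟩
  have hP0 : P ≠ ⊥ := fun h => hJ0 (le_bot_iff.mp (h ▸ hJP))
  rw [huniq m P hm (hdim1 P hP0 hPp)]

end Groth.Agent.H3.RigClosed
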