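import Mathlib
import Groth.Agent.H11.AdicPi
import Groth.Agent.H14Lib.KrullDim
import Groth.Agent.S8804

set_option autoImplicit false
universe u

namespace Groth.Agent.H3.RigClosed

/-- a separated module over a complete ring with `M/IM` finite is finite -/
theorem finite_of_quotient_finite {A : Type*} [CommRing A] (I : Ideal A) [IsPrecomplete I A]
    (M : Type*) [AddCommGroup M] [Module A M] [IsHausdorff I M]
    [Module.Finite A (M ⧸ (I • ⊤ : Submodule A M))] : Module.Finite A M := by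
  obtain ⟨n, f', hf'⟩ := Module.Finite.exists_fin' A (M ⧸ (I • ⊤ : Submodule A M))
  obtain ⟨f, hf⟩ := Module.projective_lifting_property (Submodule.mkQ (I • ⊤ : Submodule A M)) f'
    (Submodule.mkQ_surjective _)
  haveI := Groth.Agent.H11.isPrecomplete_pi A I n
  have hsurj : Function.Surjective f :=
    surjective_of_mkQ_comp_surjective (I := I) (by rw [hf]; exact hf')
  exact Module.Finite.of_surjective f hsurj

section

variable (A : Type u) [CommRing A] [IsNoetherianRing A] (I : Ideal A) [IsAdicComplete I A]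
  (B : Type u) [CommRing B] [Algebra A B] [IsNoetherianRing B]
  [IsAdicComplete (I.map (algebraMap A B)) B]

theorem finite_quotient_of_residue_finite
    (hft : Algebra.FiniteType A (B ⧸ (I.map (algebraMap A B)))) (q : PrimeSpectrum B)
    (hq : ¬ (I.map (algebraMap A B)) ≤ q.asIdeal ∧ ∀ y : PrimeSpectrum B, q ≤ y →
      ¬ (I.map (algebraMap A B)) ≤ y.asIdeal → y = q)
    (h1 : ∀ m : Ideal B, m.IsMaximal → q.asIdeal ≤ m → Module.Finite A (B ⧸ m)) :
    Module.Finite A (B ⧸ q.asIdeal) := by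
  classical
  obtain ⟨hdim, hmaxC, hcompC⟩ :=
    ((Groth.Agent.S8804.result B (I.map (algebraMap A B)) q).out 0 2).mp hq
  set JC := (I.map (algebraMap A B)).map (Ideal.Quotient.mk q.asIdeal) with hJC
  obtain ⟨𝔪, h𝔪⟩ := Ideal.exists_maximal (B ⧸ q.asIdeal)
  have h𝔪eq : 𝔪 = JC.radical := hmaxC 𝔪 h𝔪
  haveI : 𝔪.IsMaximal := h𝔪
  have hm : (𝔪.comap (Ideal.Quotient.mk q.asIdeal)).IsMaximal :=
    Ideal.comap_isMaximal_of_surjective _ Ideal.Quotient.mk_surjective
  have hqm : q.asIdeal ≤ 𝔪.comap (Ideal.Quotient.mk q.asIdeal) := by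
    intro z hz
    rw [Ideal.mem_comap, Ideal.Quotient.eq_zero_iff_mem.mpr hz]
    exact 𝔪.zero_mem
  haveI hfin1 : Module.Finite A (B ⧸ 𝔪.comap (Ideal.Quotient.mk q.asIdeal)) := h1 _ hm hqm
  let g : (B ⧸ 𝔪.comap (Ideal.Quotient.mk q.asIdeal)) →ₐ[A] ((B ⧸ q.asIdeal) ⧸ 𝔪) :=
    Ideal.quotientMapₐ 𝔪 (Ideal.Quotient.mkₐ A q.asIdeal) (fun x hx => hx)
  have hg : Function.Surjective g := by
    intro x
    obtain ⟨c, rfl⟩ := Ideal.Quotient.mk_surjective x
    obtain ⟨b, rfl⟩ := Ideal.Quotient.mk_surjective c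
    exact ⟨Ideal.Quotient.mk _ b, rfl⟩
  haveI hfin2 : Module.Finite A ((B ⧸ q.asIdeal) ⧸ 𝔪) :=
    Module.Finite.of_surjective g.toLinearMap hg
  obtain ⟨N, hN⟩ := Ideal.exists_radical_pow_le_of_fg JC (IsNoetherian.noetherian _)
  haveI hint : Algebra.IsIntegral A ((B ⧸ q.asIdeal) ⧸ JC) := by
    refine ⟨fun r => ?_⟩
    obtain ⟨c, rfl⟩ := Ideal.Quotient.mk_surjective r
    obtain ⟨P, hPm, hP⟩ := IsIntegral.of_finite A (Ideal.Quotient.mk 𝔪 c)
    have hP' : Polynomial.aeval c P ∈ 𝔪 := by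
      rw [← Ideal.Quotient.eq_zero_iff_mem]
      have h2 := Polynomial.aeval_algHom_apply (Ideal.Quotient.mkₐ A 𝔪) c P
      rw [← Polynomial.aeval_def] at hP
      exact h2.symm.trans hP
    rw [h𝔪eq] at hP'
    refine ⟨P ^ N, hPm.pow N, ?_⟩
    rw [← Polynomial.aeval_def, map_pow]
    have h2 := Polynomial.aeval_algHom_apply (Ideal.Quotient.mkₐ A JC) c P
    have h3 : Polynomial.aeval (Ideal.Quotient.mk JC c) P =
        Ideal.Quotient.mk JC (Polynomial.aeval c P) := h2
    rw [h3, ← map_pow, Ideal.Quotient.eq_zero_iff_mem]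
    exact hN (Ideal.pow_mem_pow hP' N)
  haveI hft2 : Algebra.FiniteType A ((B ⧸ q.asIdeal) ⧸ JC) := by
    let g2 : (B ⧸ (I.map (algebraMap A B))) →ₐ[A] ((B ⧸ q.asIdeal) ⧸ JC) :=
      Ideal.quotientMapₐ JC (Ideal.Quotient.mkₐ A q.asIdeal)
        (fun x hx => Ideal.mem_map_of_mem (Ideal.Quotient.mk q.asIdeal) hx)
    haveI := hft
    refine Algebra.FiniteType.of_surjective g2 ?_
    intro x
    obtain ⟨c, rfl⟩ := Ideal.Quotient.mk_surjective x
    obtain ⟨b, rfl⟩ := Ideal.Quotient.mk_surjective c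
    exact ⟨Ideal.Quotient.mk _ b, rfl⟩
  haveI hfin3 : Module.Finite A ((B ⧸ q.asIdeal) ⧸ JC) := Algebra.IsIntegral.finite
  have hJCne : JC ≠ ⊤ := fun h => h𝔪.ne_top (by rw [h𝔪eq, h, Ideal.radical_top])
  have hmapeq : I.map (algebraMap A (B ⧸ q.asIdeal)) = JC := by
    rw [hJC, Ideal.map_map]
    rfl
  haveI hH : IsHausdorff I (B ⧸ q.asIdeal) := by
    have h0 : IsHausdorff (I.map (algebraMap A (B ⧸ q.asIdeal))) (B ⧸ q.asIdeal) := by
      rw [hmapeq]
      exact IsHausdorff.of_isDomain JC hJCne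
    exact (IsHausdorff.map_algebraMap_iff (I := I) (M := B ⧸ q.asIdeal)
      (S := B ⧸ q.asIdeal)).mp h0
  have hsm : (I • ⊤ : Submodule A (B ⧸ q.asIdeal)) = JC.restrictScalars A := by
    rw [Ideal.smul_top_eq_map, hmapeq]
  haveI : Module.Finite A ((B ⧸ q.asIdeal) ⧸ (I • ⊤ : Submodule A (B ⧸ q.asIdeal))) := by
    rw [hsm]
    exact Module.Finite.equiv (Submodule.Quotient.restrictScalarsEquiv A JC).symm
  exact finite_of_quotient_finite I (B ⧸ q.asIdeal)

theorem rig_of_finite (q : PrimeSpectrum B)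
    (hq : ¬ (I.map (algebraMap A B)) ≤ q.asIdeal ∧ ∀ y : PrimeSpectrum B, q ≤ y →
      ¬ (I.map (algebraMap A B)) ≤ y.asIdeal → y = q)
    (h3 : Module.Finite A (B ⧸ q.asIdeal)) :
    (¬ I ≤ (PrimeSpectrum.comap (algebraMap A B) q).asIdeal ∧ ∀ y : PrimeSpectrum A,
      (PrimeSpectrum.comap (algebraMap A B) q) ≤ y → ¬ I ≤ y.asIdeal →
      y = (PrimeSpectrum.comap (algebraMap A B) q)) := by
  have hpI : ¬ I ≤ (PrimeSpectrum.comap (algebraMap A B) q).asIdeal :=
    fun h => hq.1 ((Ideal.map_mono h).trans Ideal.map_comap_le)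
  have key1 := (Groth.Agent.S8804.result B (I.map (algebraMap A B)) q).out 0 1
  have hdimB : ringKrullDim (B ⧸ q.asIdeal) = 1 := (key1.mp hq).1
  haveI : Module.Finite (A ⧸ q.asIdeal.comap (algebraMap A B)) (B ⧸ q.asIdeal) :=
    Module.Finite.of_restrictScalars_finite A _ _
  haveI : Algebra.IsIntegral (A ⧸ q.asIdeal.comap (algebraMap A B)) (B ⧸ q.asIdeal) :=
    Algebra.IsIntegral.of_finite _ _
  have hdimA : ringKrullDim (A ⧸ (PrimeSpectrum.comap (algebraMap A B) q).asIdeal) = 1 := by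
    rw [← hdimB]
    exact (Groth.Agent.H14Lib.ringKrullDim_eq_of_isIntegral_of_injective
      (A ⧸ q.asIdeal.comap (algebraMap A B)) (B ⧸ q.asIdeal)
      Ideal.algebraMap_quotient_injective).symm
  have key2 := (Groth.Agent.S8804.result A I (PrimeSpectrum.comap (algebraMap A B) q)).out 1 0
  exact key2.mp ⟨hdimA, hpI⟩

theorem residue_finite_of_rig
    (hft : Algebra.FiniteType A (B ⧸ (I.map (algebraMap A B)))) (q : PrimeSpectrum B)
    (h2 : ¬ I ≤ (PrimeSpectrum.comap (algebraMap A B) q).asIdeal ∧ ∀ y : PrimeSpectrum A,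
      (PrimeSpectrum.comap (algebraMap A B) q) ≤ y → ¬ I ≤ y.asIdeal →
      y = (PrimeSpectrum.comap (algebraMap A B) q)) :
    ∀ m : Ideal B, m.IsMaximal → q.asIdeal ≤ m → Module.Finite A (B ⧸ m) := by
  intro m hm hqm
  haveI := hm
  have hJm : I.map (algebraMap A B) ≤ m :=
    (IsAdicComplete.le_jacobson_bot (I.map (algebraMap A B))).trans (sInf_le ⟨bot_le, hm⟩)
  have hIn : I ≤ m.comap (algebraMap A B) := Ideal.map_le_iff_le_comap.mp hJm
  have hpn : (PrimeSpectrum.comap (algebraMap A B) q).asIdeal ≤ m.comap (algebraMap A B) :=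
    Ideal.comap_mono hqm
  obtain ⟨-, hmaxA, -⟩ :=
    ((Groth.Agent.S8804.result A I (PrimeSpectrum.comap (algebraMap A B) q)).out 0 2).mp h2
  set p := (PrimeSpectrum.comap (algebraMap A B) q).asIdeal with hp
  have hnmax : (m.comap (algebraMap A B)).IsMaximal := by
    haveI : (m.comap (algebraMap A B)).IsPrime := Ideal.comap_isPrime _ _
    have hsurj : Function.Surjective (Ideal.Quotient.mk p) := Ideal.Quotient.mk_surjective
    have hker : RingHom.ker (Ideal.Quotient.mk p) ≤ m.comap (algebraMap A B) := by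
      rw [Ideal.mk_ker]; exact hpn
    haveI hPp : ((m.comap (algebraMap A B)).map (Ideal.Quotient.mk p)).IsPrime :=
      Ideal.map_isPrime_of_surjective hsurj hker
    obtain ⟨M, hM⟩ := Ideal.exists_maximal (A ⧸ p)
    have hMle : M ≤ (m.comap (algebraMap A B)).map (Ideal.Quotient.mk p) := by
      rw [hmaxA M hM, Ideal.IsPrime.radical_le_iff hPp]
      exact Ideal.map_mono hIn
    have hMeq := hM.eq_of_le hPp.ne_top hMle
    haveI : ((m.comap (algebraMap A B)).map (Ideal.Quotient.mk p)).IsMaximal := hMeq ▸ hM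
    have hcm : ((m.comap (algebraMap A B)).map (Ideal.Quotient.mk p)).comap
        (Ideal.Quotient.mk p) = m.comap (algebraMap A B) := by
      rw [Ideal.comap_map_of_surjective _ hsurj, ← RingHom.ker_eq_comap_bot,
        sup_eq_left.mpr hker]
    exact hcm ▸ Ideal.comap_isMaximal_of_surjective _ hsurj
  letI : Field (A ⧸ m.comap (algebraMap A B)) := Ideal.Quotient.field _
  letI : Field (B ⧸ m) := Ideal.Quotient.field m
  haveI hftm : Algebra.FiniteType A (B ⧸ m) := by
    haveI := hft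
    refine Algebra.FiniteType.of_surjective
      (Ideal.quotientMapₐ m (AlgHom.id A B) (fun x hx => hJm hx)) ?_
    intro x
    obtain ⟨b, rfl⟩ := Ideal.Quotient.mk_surjective x
    exact ⟨Ideal.Quotient.mk _ b, rfl⟩
  haveI : IsScalarTower A (A ⧸ m.comap (algebraMap A B)) (B ⧸ m) :=
    IsScalarTower.of_algebraMap_eq (fun x => rfl)
  haveI : Algebra.FiniteType (A ⧸ m.comap (algebraMap A B)) (B ⧸ m) :=
    Algebra.FiniteType.of_restrictScalars_finiteType A _ _
  haveI : Module.Finite (A ⧸ m.comap (algebraMap A B)) (B ⧸ m) :=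
    finite_of_finite_type_of_isJacobsonRing (A ⧸ m.comap (algebraMap A B)) (B ⧸ m)
  exact Module.Finite.trans (A ⧸ m.comap (algebraMap A B)) (B ⧸ m)

theorem residue_finite_of_jacobson
    (hft : Algebra.FiniteType A (B ⧸ (I.map (algebraMap A B)))) (hJ : IsJacobsonRing (A ⧸ I)) :
    ∀ m : Ideal B, m.IsMaximal → Module.Finite A (B ⧸ m) := by
  intro m hm
  haveI := hm
  have hJm : I.map (algebraMap A B) ≤ m :=
    (IsAdicComplete.le_jacobson_bot (I.map (algebraMap A B))).trans (sInf_le ⟨bot_le, hm⟩)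
  have hIn : I ≤ m.comap (algebraMap A B) := Ideal.map_le_iff_le_comap.mp hJm
  letI : Field (B ⧸ m) := Ideal.Quotient.field m
  haveI hftm : Algebra.FiniteType A (B ⧸ m) := by
    haveI := hft
    refine Algebra.FiniteType.of_surjective
      (Ideal.quotientMapₐ m (AlgHom.id A B) (fun x hx => hJm hx)) ?_
    intro x
    obtain ⟨b, rfl⟩ := Ideal.Quotient.mk_surjective x
    exact ⟨Ideal.Quotient.mk _ b, rfl⟩
  haveI : IsScalarTower A (A ⧸ m.comap (algebraMap A B)) (B ⧸ m) :=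
    IsScalarTower.of_algebraMap_eq (fun x => rfl)
  haveI : Algebra.FiniteType (A ⧸ m.comap (algebraMap A B)) (B ⧸ m) :=
    Algebra.FiniteType.of_restrictScalars_finiteType A _ _
  haveI : IsJacobsonRing (A ⧸ m.comap (algebraMap A B)) :=
    isJacobsonRing_of_surjective ⟨Ideal.Quotient.factor hIn, Ideal.Quotient.factor_surjective hIn⟩
  haveI : Module.Finite (A ⧸ m.comap (algebraMap A B)) (B ⧸ m) :=
    finite_of_finite_type_of_isJacobsonRing (A ⧸ m.comap (algebraMap A B)) (B ⧸ m)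
  exact Module.Finite.trans (A ⧸ m.comap (algebraMap A B)) (B ⧸ m)

end

end Groth.Agent.H3.RigClosed
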