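import Mathlib
import Groth.Agent.S8804

set_option autoImplicit false
universe u

namespace Groth.Agent.H3.RigClosed

theorem comap_maximal_of_rig (A : Type u) [CommRing A] [IsNoetherianRing A] (I : Ideal A)
    [IsAdicComplete I A] (B : Type u) [CommRing B] [Algebra A B]
    [IsAdicComplete (I.map (algebraMap A B)) B] (p : PrimeSpectrum A)
    (h2 : ¬ I ≤ p.asIdeal ∧ ∀ y : PrimeSpectrum A, p ≤ y → ¬ I ≤ y.asIdeal → y = p)
    (m : Ideal B) (hm : m.IsMaximal) (hpn : p.asIdeal ≤ m.comap (algebraMap A B)) :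
    (m.comap (algebraMap A B)).IsMaximal := by
  haveI := hm
  have hJm : I.map (algebraMap A B) ≤ m :=
    (IsAdicComplete.le_jacobson_bot (I.map (algebraMap A B))).trans (sInf_le ⟨bot_le, hm⟩)
  have hIn : I ≤ m.comap (algebraMap A B) := Ideal.map_le_iff_le_comap.mp hJm
  have key := (Groth.Agent.S8804.result A I p).out 0 2
  obtain ⟨-, hmaxA, -⟩ := key.mp h2
  haveI : (m.comap (algebraMap A B)).IsPrime := Ideal.comap_isPrime _ _
  have hsurj : Function.Surjective (Ideal.Quotient.mk p.asIdeal) := Ideal.Quotient.mk_surjective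
  have hker : RingHom.ker (Ideal.Quotient.mk p.asIdeal) ≤ m.comap (algebraMap A B) := by
    rw [Ideal.mk_ker]; exact hpn
  haveI hPp : ((m.comap (algebraMap A B)).map (Ideal.Quotient.mk p.asIdeal)).IsPrime :=
    Ideal.map_isPrime_of_surjective hsurj hker
  obtain ⟨M, hM⟩ := Ideal.exists_maximal (A ⧸ p.asIdeal)
  have hMle : M ≤ (m.comap (algebraMap A B)).map (Ideal.Quotient.mk p.asIdeal) := by
    rw [hmaxA M hM, Ideal.IsPrime.radical_le_iff hPp]
    exact Ideal.map_mono hIn
  have hMeq := hM.eq_of_le hPp.ne_top hMle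
  haveI : ((m.comap (algebraMap A B)).map (Ideal.Quotient.mk p.asIdeal)).IsMaximal := hMeq ▸ hM
  have hcm : ((m.comap (algebraMap A B)).map (Ideal.Quotient.mk p.asIdeal)).comap
      (Ideal.Quotient.mk p.asIdeal) = m.comap (algebraMap A B) := by
    rw [Ideal.comap_map_of_surjective _ hsurj, ← RingHom.ker_eq_comap_bot, sup_eq_left.mpr hker]
  exact hcm ▸ Ideal.comap_isMaximal_of_surjective _ hsurj

end Groth.Agent.H3.RigClosed
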