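import Groth.Prelude.Def_Formal2

/-! Helper: vanishing of lim and lim¹ for towers of abelian groups. -/

set_option autoImplicit false
universe u

namespace Groth.Agent.H3.TowerLim

variable (G : ℕ → Type u) [∀ n, AddCommGroup (G n)] (t : ∀ n, G (n + 1) →+ G n)

/-- partial sums `aux d n = Σ_{k<d} t_n ⋯ t_{n+k-1} (y_{n+k})` -/
def aux (y : ∀ n, G n) : ℕ → ∀ n, G n
  | 0, _ => 0
  | d + 1, n => y n + t n (aux y d (n + 1))

/-- differences of consecutive partial sums -/
def delta (y : ∀ n, G n) (d : ℕ) (n : ℕ) : G n := aux G t y (d + 1) n - aux G t y d n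

lemma delta_succ (y : ∀ n, G n) (d n : ℕ) :
    delta G t y (d + 1) n = t n (delta G t y d (n + 1)) := by
  simp only [delta, aux, map_sub, map_add]
  abel

/-- "`G_j → G_i` is zero" in the form of the statement -/
def ZeroFrom (i j : ℕ) : Prop :=
  ∀ x : ∀ n, G n, (∀ n, i ≤ n → n < j → x n = t n (x (n + 1))) → x i = 0

lemma delta_eq_zero (y : ∀ n, G n) (i j : ℕ) (hij : i ≤ j) (h : ZeroFrom G t i j) (d : ℕ)
    (hd : j - i ≤ d) : delta G t y d i = 0 := by
  have := h (fun n => delta G t y (d + i - n) n) (by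
    intro n hin hnj
    have h1 : d + i - n = (d + i - (n + 1)) + 1 := by omega
    show delta G t y (d + i - n) n = t n (delta G t y (d + i - (n + 1)) (n + 1))
    rw [h1, delta_succ])
  simpa using this

lemma aux_stable (y : ∀ n, G n) (i j : ℕ) (hij : i ≤ j) (h : ZeroFrom G t i j) (d : ℕ)
    (hd : j - i ≤ d) : aux G t y d i = aux G t y (j - i) i := by
  induction d, hd using Nat.le_induction with
  | base => rfl
  | succ d hd ih =>
    have := delta_eq_zero G t y i j hij h d hd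
    rw [delta, sub_eq_zero] at this
    rw [this, ih]

theorem towerDiff_surjective (h : ∀ i : ℕ, ∃ j : ℕ, i ≤ j ∧ ZeroFrom G t i j) :
    Function.Surjective (Formal2.towerDiff G t) := by
  intro y
  choose J hJ hzero using h
  refine ⟨fun i => aux G t y (J i - i) i, ?_⟩
  funext i
  show aux G t y (J i - i) i - t i (aux G t y (J (i + 1) - (i + 1)) (i + 1)) = y i
  let d := max (J i - i) (J (i + 1) - (i + 1))
  have h1 : aux G t y (d + 1) i = aux G t y (J i - i) i :=
    aux_stable G t y i (J i) (hJ i) (hzero i) (d + 1) (by omega)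
  have h2 : aux G t y d (i + 1) = aux G t y (J (i + 1) - (i + 1)) (i + 1) :=
    aux_stable G t y (i + 1) (J (i + 1)) (hJ (i + 1)) (hzero (i + 1)) d (by omega)
  rw [← h1, ← h2]
  simp [aux]

theorem limZero_eq_bot (h : ∀ i : ℕ, ∃ j : ℕ, i ≤ j ∧ ZeroFrom G t i j) :
    Formal2.limZero G t = ⊥ := by
  rw [eq_bot_iff]
  intro x hx
  rw [AddSubgroup.mem_bot]
  have hx' : ∀ n, x n - t n (x (n + 1)) = 0 := fun n => congrFun hx n
  funext i
  obtain ⟨j, _, hz⟩ := h i
  exact hz x (fun n _ _ => sub_eq_zero.mp (hx' n))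


section ML

variable (T : ∀ {i k : ℕ}, i ≤ k → (G k →+ G i))
  (T_refl : ∀ (i : ℕ) (x : G i), T (le_refl i) x = x)
  (T_succ : ∀ (n : ℕ) (x : G (n + 1)), T (Nat.le_succ n) x = t n x)
  (T_comp : ∀ {i j k : ℕ} (h1 : i ≤ j) (h2 : j ≤ k) (x : G k), T h1 (T h2 x) = T (h1.trans h2) x)

/-- eventual image -/
def E (n : ℕ) : AddSubgroup (G n) := ⨅ (k : ℕ) (h : n ≤ k), (T h).range

lemma mem_E_iff (n : ℕ) (x : G n) : x ∈ E G T n ↔ ∀ (k : ℕ) (h : n ≤ k), ∃ y, T h y = x := by
  simp only [E, AddSubgroup.mem_iInf, AddMonoidHom.mem_range]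

include T_refl T_succ T_comp in
lemma t_mem_E (n : ℕ) (x : G (n + 1)) (hx : x ∈ E G T (n + 1)) : t n x ∈ E G T n := by
  rw [mem_E_iff] at hx ⊢
  intro k hk
  rcases Nat.eq_or_lt_of_le hk with rfl | hlt
  · exact ⟨t n x, T_refl _ _⟩
  · obtain ⟨y, hy⟩ := hx k hlt
    refine ⟨y, ?_⟩
    rw [← T_comp (Nat.le_succ n) hlt, hy, T_succ]

include T_refl T_succ T_comp in
theorem towerDiff_surjective_of_ML
    (hML : ∀ n : ℕ, ∃ (m : ℕ) (h : n ≤ m), ∀ (k : ℕ) (hk : n ≤ k) (x : G m), ∃ y, T hk y = T h x) :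
    Function.Surjective (Formal2.towerDiff G t) := by
  classical
  have hE : ∀ n, ∃ (m : ℕ) (h : n ≤ m), ∀ x : G m, T h x ∈ E G T n := by
    intro n
    obtain ⟨m, h, hm⟩ := hML n
    refine ⟨m, h, fun x => ?_⟩
    rw [mem_E_iff]
    intro k hk
    exact hm k hk x
  have htE := t_mem_E G t T T_refl T_succ T_comp
  -- surjectivity of `E (n+1) → E n`
  have hsurj : ∀ n (x : G n), x ∈ E G T n → ∃ y, y ∈ E G T (n + 1) ∧ t n y = x := by
    intro n x hx
    obtain ⟨m, h, hm⟩ := hE (n + 1)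
    obtain ⟨y, hy⟩ := (mem_E_iff G T n x).mp hx m ((Nat.le_succ n).trans h)
    refine ⟨T h y, hm y, ?_⟩
    rw [← T_succ, T_comp, hy]
  -- quotient tower
  let Q : ℕ → Type u := fun n => G n ⧸ E G T n
  let tq : ∀ n, Q (n + 1) →+ Q n := fun n =>
    QuotientAddGroup.map (E G T (n + 1)) (E G T n) (t n) (fun x hx => htE n x hx)
  have htq : ∀ n (x : G (n + 1)), tq n (QuotientAddGroup.mk x) = QuotientAddGroup.mk (t n x) :=
    fun n x => rfl
  have hQzero : ∀ i : ℕ, ∃ j : ℕ, i ≤ j ∧ ZeroFrom Q tq i j := by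
    intro i
    obtain ⟨j, hij, hj⟩ := hE i
    refine ⟨j, hij, fun x hx => ?_⟩
    obtain ⟨g, hg⟩ := QuotientAddGroup.mk_surjective (x j)
    have key : ∀ d : ℕ, ∀ n (hn : n ≤ j), i ≤ n → j - n = d →
        x n = QuotientAddGroup.mk (T hn g) := by
      intro d
      induction d with
      | zero =>
        intro n hn _ hd
        have : n = j := by omega
        subst this
        rw [T_refl, hg]
      | succ d ih =>
        intro n hn hin hd
        have hlt : n < j := by omega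
        rw [hx n hin hlt, ih (n + 1) hlt (by omega) (by omega), htq, ← T_succ, T_comp]
    rw [key (j - i) i hij le_rfl rfl]
    exact (QuotientAddGroup.eq_zero_iff _).mpr (hj g)
  intro y
  obtain ⟨xq, hxq⟩ := towerDiff_surjective Q tq hQzero (fun n => QuotientAddGroup.mk (y n))
  have hlift : ∀ n, ∃ g : G n, (QuotientAddGroup.mk g : Q n) = xq n := fun n =>
    QuotientAddGroup.mk_surjective (xq n)
  choose x hx using hlift
  let z : ∀ n, G n := fun n => y n - (x n - t n (x (n + 1)))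
  have hz : ∀ n, z n ∈ E G T n := by
    intro n
    rw [← QuotientAddGroup.eq_zero_iff]
    have := congrFun hxq n
    change xq n - tq n (xq (n + 1)) = QuotientAddGroup.mk (y n) at this
    rw [← hx n, ← hx (n + 1), htq] at this
    show (QuotientAddGroup.mk (y n - (x n - t n (x (n + 1)))) : Q n) = 0
    rw [QuotientAddGroup.mk_sub, QuotientAddGroup.mk_sub, ← this, sub_self]
  -- recursive construction of `w`
  let W : ∀ n, {g : G n // g ∈ E G T n} := fun n =>
    Nat.rec (motive := fun n => {g : G n // g ∈ E G T n}) ⟨0, zero_mem _⟩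
      (fun n wn => ⟨(hsurj n (wn.1 - z n) (sub_mem wn.2 (hz n))).choose,
        (hsurj n (wn.1 - z n) (sub_mem wn.2 (hz n))).choose_spec.1⟩) n
  have hW : ∀ n, t n (W (n + 1)).1 = (W n).1 - z n := fun n =>
    (hsurj n ((W n).1 - z n) (sub_mem (W n).2 (hz n))).choose_spec.2
  refine ⟨fun n => x n + (W n).1, ?_⟩
  funext n
  show x n + (W n).1 - t n (x (n + 1) + (W (n + 1)).1) = y n
  rw [map_add, hW n]
  simp only [z]
  abel

end ML

end Groth.Agent.H3.TowerLim
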