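import Mathlib

set_option autoImplicit false
universe u

namespace Groth.Agent.H3.TruncPoly

open MvPolynomial

section alg

variable (p : ℕ) (k : Type u) [Field k]

/-- the invariant: codimension of the span of the elements killed by the `j`-th Frobenius -/
noncomputable def dj (A : Type u) [CommRing A] [Algebra k A] (j : ℕ) : ℕ :=
  Module.finrank k (A ⧸ Submodule.span k {a : A | a ^ p ^ j = 0})

theorem dj_congr {A B : Type u} [CommRing A] [Algebra k A] [CommRing B] [Algebra k B]
    (φ : A ≃ₐ[k] B) (j : ℕ) : dj p k A j = dj p k B j := by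
  unfold dj
  refine LinearEquiv.finrank_eq (Submodule.Quotient.equiv _ _ φ.toLinearEquiv ?_)
  rw [Submodule.map_span]
  congr 1
  ext b
  constructor
  · rintro ⟨a, ha, rfl⟩
    have ha' : a ^ p ^ j = 0 := ha
    show (φ a) ^ p ^ j = 0
    rw [← map_pow, ha', map_zero]
  · intro hb
    have hb' : b ^ p ^ j = 0 := hb
    refine ⟨φ.symm b, ?_, φ.apply_symm_apply b⟩
    show (φ.symm b) ^ p ^ j = 0
    rw [← map_pow, hb', map_zero]

end alg

section trunc

variable (p : ℕ) [hp : Fact p.Prime] (k : Type u) [Field k] [CharP k p] {r : ℕ} (e : Fin r → ℕ)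

/-- the ideal `(X_i ^ (p ^ e_i))` -/
noncomputable abbrev Iid : Ideal (MvPolynomial (Fin r) k) :=
  Ideal.span (Set.range fun i : Fin r => (X i : MvPolynomial (Fin r) k) ^ p ^ e i)

theorem mem_Iid (f : MvPolynomial (Fin r) k) :
    f ∈ Iid p k e ↔ ∀ s ∈ f.support, ∃ i, p ^ e i ≤ s i := by
  have h1 : (Set.range fun i : Fin r => (X i : MvPolynomial (Fin r) k) ^ p ^ e i) =
      (fun s => monomial s (1 : k)) ''
        (Set.range fun i : Fin r => Finsupp.single i (p ^ e i)) := by
    rw [← Set.range_comp]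
    congr 1
    funext i
    simp [X_pow_eq_monomial]
  show f ∈ Ideal.span (Set.range fun i : Fin r => (X i : MvPolynomial (Fin r) k) ^ p ^ e i) ↔ _
  rw [h1, mem_ideal_span_monomial_image]
  refine forall₂_congr (fun s _ => ?_)
  constructor
  · rintro ⟨_, ⟨i, rfl⟩, hi⟩
    exact ⟨i, Finsupp.single_le_iff.mp hi⟩
  · rintro ⟨i, hi⟩
    exact ⟨_, ⟨i, rfl⟩, Finsupp.single_le_iff.mpr hi⟩

theorem pow_mem_Iid (j : ℕ) (f : MvPolynomial (Fin r) k) :
    f ^ p ^ j ∈ Iid p k e ↔ ∀ s ∈ f.support, ∃ i, p ^ e i ≤ p ^ j * s i := by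
  classical
  haveI : ExpChar k p := ExpChar.prime hp.out
  have hpj : p ^ j ≠ 0 := pow_ne_zero _ hp.out.ne_zero
  have hsupp : (f ^ p ^ j).support = f.support.image ((p ^ j) • ·) := by
    rw [← map_iterateFrobenius_expand p f j,
      support_map_of_injective _ (iterateFrobenius_inj k p j), support_expand f hpj]
  rw [mem_Iid, hsupp]
  simp only [Finset.forall_mem_image]
  refine forall₂_congr (fun s _ => ?_)
  simp only [Finsupp.smul_apply, smul_eq_mul]

/-- exponents of the monomials surviving the `j`-th Frobenius -/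
def TT (j : ℕ) : Type := {s : Fin r →₀ ℕ // ∀ i, p ^ j * s i < p ^ e i}

omit [CharP k p] in
theorem lt_iff (j ee m : ℕ) : p ^ j * m < p ^ ee ↔ m < p ^ (ee - j) := by
  have hp1 : 1 < p := hp.out.one_lt
  have hpos : 0 < p ^ j := pow_pos hp.out.pos j
  rcases le_or_gt j ee with h | h
  · have : p ^ ee = p ^ j * p ^ (ee - j) := by rw [← pow_add, Nat.add_sub_cancel' h]
    rw [this, Nat.mul_lt_mul_left hpos]
  · rw [Nat.sub_eq_zero_of_le h.le, pow_zero, Nat.lt_one_iff]
    constructor
    · intro hm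
      by_contra hne
      have h1 : 1 ≤ m := Nat.one_le_iff_ne_zero.mpr hne
      have h2 : p ^ ee < p ^ j := Nat.pow_lt_pow_right hp1 h
      have h3 : p ^ j ≤ p ^ j * m := Nat.le_mul_of_pos_right _ h1
      omega
    · rintro rfl
      simp [pow_pos hp.out.pos]

noncomputable def TTequiv (j : ℕ) : TT p e j ≃ ((i : Fin r) → Fin (p ^ (e i - j))) :=
  (Equiv.subtypeEquiv (p := fun s : Fin r →₀ ℕ => ∀ i, p ^ j * s i < p ^ e i)
      (q := fun g : Fin r → ℕ => ∀ i, p ^ j * g i < p ^ e i)
      Finsupp.equivFunOnFinite (fun s => Iff.rfl)).trans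
    ((Equiv.subtypePiEquivPi (β := fun _ : Fin r => ℕ)
        (p := fun i (m : ℕ) => p ^ j * m < p ^ e i)).trans
      (Equiv.piCongrRight fun i =>
        (Equiv.subtypeEquivRight (fun m => lt_iff p j (e i) m)).trans Fin.equivSubtype.symm))

/-- coefficients at the surviving monomials -/
noncomputable def rho (j : ℕ) : MvPolynomial (Fin r) k →ₗ[k] (TT p e j → k) :=
  LinearMap.pi (fun s => MvPolynomial.lcoeff k s.1)

theorem rho_eq_zero_iff (j : ℕ) (f : MvPolynomial (Fin r) k) :
    rho p k e j f = 0 ↔ f ^ p ^ j ∈ Iid p k e := by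
  rw [pow_mem_Iid]
  constructor
  · intro h s hs
    by_contra hcon
    push_neg at hcon
    have h0 : coeff s f = 0 := congrFun h ⟨s, hcon⟩
    exact (mem_support_iff.mp hs) h0
  · intro h
    funext ⟨s, hs⟩
    show coeff s f = 0
    by_contra hne
    obtain ⟨i, hi⟩ := h s (mem_support_iff.mpr hne)
    exact absurd (hs i) (not_lt.mpr hi)

noncomputable def Psi (j : ℕ) :
    (MvPolynomial (Fin r) k ⧸ Iid p k e) →ₗ[k] (TT p e j → k) :=
  (Submodule.liftQ ((Iid p k e).restrictScalars k) (rho p k e j) (fun f hf => by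
      rw [LinearMap.mem_ker, rho_eq_zero_iff]
      exact Ideal.pow_mem_of_mem _ hf _ (pow_pos hp.out.pos j))).comp
    (Submodule.Quotient.restrictScalarsEquiv k (Iid p k e)).symm.toLinearMap

theorem Psi_mk (j : ℕ) (f : MvPolynomial (Fin r) k) :
    Psi p k e j (Ideal.Quotient.mk _ f) = rho p k e j f := rfl

theorem ker_Psi (j : ℕ) : LinearMap.ker (Psi p k e j) =
    Submodule.span k {a : MvPolynomial (Fin r) k ⧸ Iid p k e | a ^ p ^ j = 0} := by
  apply le_antisymm
  · intro a ha
    obtain ⟨f, rfl⟩ := Ideal.Quotient.mk_surjective a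
    rw [LinearMap.mem_ker, Psi_mk, rho_eq_zero_iff] at ha
    apply Submodule.subset_span
    show (Ideal.Quotient.mk _ f) ^ p ^ j = 0
    rw [← map_pow, Ideal.Quotient.eq_zero_iff_mem]; exact ha
  · rw [Submodule.span_le]
    intro a ha
    obtain ⟨f, rfl⟩ := Ideal.Quotient.mk_surjective a
    have ha' : (Ideal.Quotient.mk (Iid p k e) f) ^ p ^ j = 0 := ha
    rw [← map_pow, Ideal.Quotient.eq_zero_iff_mem] at ha'
    show _ ∈ LinearMap.ker (Psi p k e j)
    rw [LinearMap.mem_ker, Psi_mk, rho_eq_zero_iff]; exact ha'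

theorem Psi_surjective (j : ℕ) : Function.Surjective (Psi p k e j) := by
  classical
  haveI : Finite (TT p e j) := Finite.of_equiv _ (TTequiv p e j).symm
  haveI := Fintype.ofFinite (TT p e j)
  intro t
  refine ⟨Ideal.Quotient.mk _ (∑ s : TT p e j, monomial s.1 (t s)), ?_⟩
  rw [Psi_mk]
  funext s'
  show coeff s'.1 (∑ s : TT p e j, monomial s.1 (t s)) = t s'
  rw [coeff_sum]
  simp only [coeff_monomial]
  rw [Finset.sum_eq_single s']
  · simp
  · intro b _ hb
    rw [if_neg]
    exact fun h => hb (Subtype.ext h)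
  · intro h; exact absurd (Finset.mem_univ _) h

theorem dj_trunc (j : ℕ) :
    dj p k (MvPolynomial (Fin r) k ⧸ Iid p k e) j = ∏ i, p ^ (e i - j) := by
  classical
  haveI : Finite (TT p e j) := Finite.of_equiv _ (TTequiv p e j).symm
  haveI := Fintype.ofFinite (TT p e j)
  unfold dj
  rw [← ker_Psi p k e j,
    LinearEquiv.finrank_eq ((Psi p k e j).quotKerEquivOfSurjective (Psi_surjective p k e j)),
    Module.finrank_fintype_fun_eq_card, ← Nat.card_eq_fintype_card,
    Nat.card_congr (TTequiv p e j), Nat.card_pi]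
  simp

end trunc

section comb

theorem exists_equiv_of_sums {r s : ℕ} (e : Fin r → ℕ) (f : Fin s → ℕ) (he : ∀ i, 1 ≤ e i)
    (hf : ∀ i, 1 ≤ f i) (h : ∀ j, ∑ i, (e i - j) = ∑ i, (f i - j)) :
    ∃ σ : Fin r ≃ Fin s, ∀ i, f (σ i) = e i := by
  classical
  have hG : ∀ (t : ℕ) (g : Fin t → ℕ) (j : ℕ), ∑ i, (g i - j) =
      ∑ i, (g i - (j + 1)) + (Finset.univ.filter (fun i => j < g i)).card := by
    intro t g j
    rw [Finset.card_filter, ← Finset.sum_add_distrib]
    refine Finset.sum_congr rfl (fun i _ => ?_)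
    split_ifs <;> omega
  have hgt : ∀ j, (Finset.univ.filter (fun i => j < e i)).card =
      (Finset.univ.filter (fun i => j < f i)).card := by
    intro j
    have h1 := hG r e j
    have h2 := hG s f j
    have h3 := h j
    have h4 := h (j + 1)
    omega
  have hsplit : ∀ (t : ℕ) (g : Fin t → ℕ) (w : ℕ), (Finset.univ.filter (fun i => w < g i)).card =
      (Finset.univ.filter (fun i => g i = w + 1)).card +
        (Finset.univ.filter (fun i => w + 1 < g i)).card := by
    intro t g w
    simp only [Finset.card_filter, ← Finset.sum_add_distrib]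
    refine Finset.sum_congr rfl (fun i _ => ?_)
    split_ifs <;> omega
  have hcard : ∀ v, (Finset.univ.filter (fun i => e i = v)).card =
      (Finset.univ.filter (fun i => f i = v)).card := by
    intro v
    rcases Nat.eq_zero_or_pos v with rfl | hv
    · have h1 : (Finset.univ.filter (fun i => e i = 0)) = ∅ :=
        Finset.filter_eq_empty_iff.mpr (fun i _ h0 => by have := he i; omega)
      have h2 : (Finset.univ.filter (fun i => f i = 0)) = ∅ :=
        Finset.filter_eq_empty_iff.mpr (fun i _ h0 => by have := hf i; omega)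
      rw [h1, h2, Finset.card_empty, Finset.card_empty]
    · obtain ⟨w, rfl⟩ : ∃ w, v = w + 1 := ⟨v - 1, by omega⟩
      have h1 := hsplit r e w
      have h2 := hsplit s f w
      have h3 := hgt w
      have h4 := hgt (w + 1)
      omega
  have hfib : ∀ v, Fintype.card {i // e i = v} = Fintype.card {i // f i = v} := by
    intro v
    rw [Fintype.card_subtype, Fintype.card_subtype]
    exact hcard v
  let eqv : ∀ v, {i // e i = v} ≃ {i // f i = v} := fun v => Fintype.equivOfCardEq (hfib v)
  let σ : Fin r ≃ Fin s := (Equiv.sigmaFiberEquiv e).symm.trans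
    ((Equiv.sigmaCongrRight eqv).trans (Equiv.sigmaFiberEquiv f))
  refine ⟨σ, fun i => ?_⟩
  exact (eqv (e i) ⟨i, rfl⟩).2

end comb

end Groth.Agent.H3.TruncPoly
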